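import Mathlib
import Cfsg.Agent.Lib.Helper9.A2S.Defs

set_option autoImplicit false

namespace Cfsg.Agent.Lib.Helper9.A2S

theorem sdecomp_iff_gdecomp {G : Type*} [Group G] (H : Subgroup G) : SDecomp H ↔ GDecomp ↥H := by
  constructor
  · rintro ⟨S₁, S₂, h1, h2, hle1, hle2, hcomm, hinf, hsup⟩
    refine ⟨S₁.subgroupOf H, S₂.subgroupOf H, ?_, ?_, ?_, ?_, ?_⟩
    · intro h
      apply h1
      rw [Subgroup.subgroupOf_eq_bot, disjoint_iff] at h
      exact (inf_eq_left.mpr hle1).symm.trans h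
    · intro h
      apply h2
      rw [Subgroup.subgroupOf_eq_bot, disjoint_iff] at h
      exact (inf_eq_left.mpr hle2).symm.trans h
    · intro a ha b hb
      apply Subtype.ext
      exact hcomm a.1 (Subgroup.mem_subgroupOf.mp ha) b.1 (Subgroup.mem_subgroupOf.mp hb)
    · rw [eq_bot_iff]
      intro x hx
      rw [Subgroup.mem_inf, Subgroup.mem_subgroupOf, Subgroup.mem_subgroupOf] at hx
      have : (x : G) ∈ S₁ ⊓ S₂ := Subgroup.mem_inf.mpr hx
      rw [hinf, Subgroup.mem_bot] at this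
      rw [Subgroup.mem_bot]
      exact Subtype.ext this
    · rw [← Subgroup.subgroupOf_sup hle1 hle2, hsup]
      exact Subgroup.subgroupOf_self H
  · rintro ⟨A, B, hA, hB, hcomm, hinf, hsup⟩
    refine ⟨A.map H.subtype, B.map H.subtype, ?_, ?_, ?_, ?_, ?_, ?_, ?_⟩
    · intro h
      exact hA ((Subgroup.map_eq_bot_iff_of_injective A H.subtype_injective).mp h)
    · intro h
      exact hB ((Subgroup.map_eq_bot_iff_of_injective B H.subtype_injective).mp h)
    · exact Subgroup.map_subtype_le A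
    · exact Subgroup.map_subtype_le B
    · rintro _ ⟨a, ha, rfl⟩ _ ⟨b, hb, rfl⟩
      have := hcomm a ha b hb
      simpa using congrArg Subtype.val this
    · rw [← Subgroup.map_inf_eq A B H.subtype H.subtype_injective, hinf, Subgroup.map_bot]
    · rw [← Subgroup.map_sup, hsup, ← MonoidHom.range_eq_map, Subgroup.range_subtype]

theorem h1_gdecomp_of_equiv {X : Type*} {Y : Type*} [Group X] [Group Y] (f : X ≃* Y)
    (h : GDecomp X) : GDecomp Y := by
  obtain ⟨A, B, hA, hB, hcomm, hinf, hsup⟩ := h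
  refine ⟨A.map f.toMonoidHom, B.map f.toMonoidHom, ?_, ?_, ?_, ?_, ?_⟩
  · intro h
    exact hA ((Subgroup.map_eq_bot_iff_of_injective A f.injective).mp h)
  · intro h
    exact hB ((Subgroup.map_eq_bot_iff_of_injective B f.injective).mp h)
  · rintro _ ⟨a, ha, rfl⟩ _ ⟨b, hb, rfl⟩
    have := hcomm a ha b hb
    simpa using congrArg f this
  · rw [← Subgroup.map_inf_eq A B f.toMonoidHom f.injective, hinf, Subgroup.map_bot]
  · rw [← Subgroup.map_sup, hsup, ← MonoidHom.range_eq_map]
    exact MonoidHom.range_eq_top.mpr f.surjective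

theorem gdecomp_congr {G G' : Type*} [Group G] [Group G'] (e : G ≃* G') : GDecomp G ↔ GDecomp G' :=
  ⟨h1_gdecomp_of_equiv e, h1_gdecomp_of_equiv e.symm⟩

end Cfsg.Agent.Lib.Helper9.A2S
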