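import Mathlib
import Cfsg.Agent.Lib.Helper9.A2S.Defs

set_option autoImplicit false

namespace Cfsg.Agent.Lib.Helper9.A2S

theorem gdecomp_pi {J : Type*} [Fintype J] [DecidableEq J] (H : J → Type*) [∀ j, Group (H j)]
    (j j' : J) (hne : j ≠ j') (hj : Nontrivial (H j)) (hj' : Nontrivial (H j')) :
    GDecomp (∀ j, H j) := by
  obtain ⟨h, hh⟩ := exists_ne (1 : H j)
  obtain ⟨h', hh'⟩ := exists_ne (1 : H j')
  refine ⟨(MonoidHom.mulSingle H j).range, (Pi.evalMonoidHom H j).ker, ?_, ?_, ?_, ?_, ?_⟩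
  · intro hbot
    have hmem : Pi.mulSingle j h ∈ (MonoidHom.mulSingle H j).range := ⟨h, rfl⟩
    rw [hbot, Subgroup.mem_bot] at hmem
    exact hh (Pi.mulSingle_eq_one_iff.mp hmem)
  · intro hbot
    have hmem : Pi.mulSingle j' h' ∈ (Pi.evalMonoidHom H j).ker := by
      rw [MonoidHom.mem_ker]
      exact Pi.mulSingle_eq_of_ne hne h'
    rw [hbot, Subgroup.mem_bot] at hmem
    exact hh' (Pi.mulSingle_eq_one_iff.mp hmem)
  · rintro _ ⟨x, rfl⟩ b hb
    rw [MonoidHom.mem_ker] at hb
    funext i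
    by_cases hi : i = j
    · subst hi
      have hb' : b i = 1 := hb
      simp [hb']
    · have : (MonoidHom.mulSingle H j x) i = 1 := Pi.mulSingle_eq_of_ne hi x
      change (MonoidHom.mulSingle H j x) i * b i = b i * (MonoidHom.mulSingle H j x) i
      rw [this, one_mul, mul_one]
  · rw [eq_bot_iff]
    rintro f ⟨⟨x, rfl⟩, hf⟩
    have hf : (MonoidHom.mulSingle H j x) ∈ (Pi.evalMonoidHom H j).ker := hf
    rw [MonoidHom.mem_ker] at hf
    have hx : x = 1 := by
      have : (MonoidHom.mulSingle H j x) j = x := Pi.mulSingle_eq_same j x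
      rw [← this]
      exact hf
    rw [Subgroup.mem_bot, hx, map_one]
  · rw [eq_top_iff]
    intro f _
    have hf : f = MonoidHom.mulSingle H j (f j) * ((MonoidHom.mulSingle H j (f j))⁻¹ * f) := by
      rw [mul_inv_cancel_left]
    rw [hf]
    apply Subgroup.mul_mem
    · exact (le_sup_left : (MonoidHom.mulSingle H j).range ≤ _) ⟨f j, rfl⟩
    · apply (le_sup_right : (Pi.evalMonoidHom H j).ker ≤ _)
      rw [MonoidHom.mem_ker]
      have : (MonoidHom.mulSingle H j (f j)) j = f j := Pi.mulSingle_eq_same j (f j)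
      change ((MonoidHom.mulSingle H j (f j))⁻¹ * f) j = 1
      rw [Pi.mul_apply, Pi.inv_apply, this, inv_mul_cancel]

end Cfsg.Agent.Lib.Helper9.A2S
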