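import Mathlib
import Cfsg.Agent.Lib.Helper9.A2S.Defs

set_option autoImplicit false

namespace Cfsg.Agent.Lib.Helper9.A2S

theorem h1_mem_zpowers_invol {G : Type*} [Group G] {a : G} (ha : a * a = 1) {x : G}
    (hx : x ∈ Subgroup.zpowers a) : x = 1 ∨ x = a := by
  obtain ⟨k, rfl⟩ := Subgroup.mem_zpowers_iff.mp hx
  have h2 : a ^ (2 : ℤ) = 1 := by
    rw [zpow_two]; exact ha
  rcases Int.even_or_odd' k with ⟨m, rfl | rfl⟩
  · left
    rw [zpow_mul, h2, one_zpow]
  · right
    rw [zpow_add, zpow_mul, h2, one_zpow, one_mul, zpow_one]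

theorem gdecomp_of_card_four {G : Type*} [Group G] (h4 : Nat.card G = 4) (h2 : ∀ g : G, g * g = 1) :
    GDecomp G := by
  have hfin : Finite G := Nat.finite_of_card_ne_zero (by omega)
  have hcomm : ∀ x y : G, x * y = y * x := by
    intro x y
    have h := h2 (x * y)
    have hx := h2 x
    have hy := h2 y
    calc x * y = x * (x * y * (x * y)) * y := by rw [h, mul_one]
      _ = (x * x) * (y * x) * (y * y) := by group
      _ = y * x := by rw [hx, hy, one_mul, mul_one]
  have h1lt : 1 < Nat.card G := by omega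
  obtain ⟨a, ha⟩ : ∃ a : G, a ≠ 1 := by
    have : Nontrivial G := Finite.one_lt_card_iff_nontrivial.mp h1lt
    exact exists_ne 1
  have hcardA : Nat.card (Subgroup.zpowers a) = 2 := by
    rw [Nat.card_zpowers]
    have h : a ^ 2 = 1 := by rw [pow_two]; exact h2 a
    exact orderOf_eq_prime h ha
  obtain ⟨b, hb⟩ : ∃ b : G, b ∉ Subgroup.zpowers a := by
    by_contra hcon
    push Not at hcon
    have htop : Subgroup.zpowers a = ⊤ := by
      rw [eq_top_iff]; intro x _; exact hcon x
    rw [htop, Subgroup.card_top] at hcardA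
    omega
  have hb1 : b ≠ 1 := by
    intro h; apply hb; rw [h]; exact Subgroup.one_mem _
  have hba : b ≠ a := by
    intro h; apply hb; rw [h]; exact Subgroup.mem_zpowers a
  refine ⟨Subgroup.zpowers a, Subgroup.zpowers b, ?_, ?_, ?_, ?_, ?_⟩
  · intro h
    exact ha (Subgroup.zpowers_eq_bot.mp h)
  · intro h
    exact hb1 (Subgroup.zpowers_eq_bot.mp h)
  · intro x _ y _
    exact hcomm x y
  · rw [eq_bot_iff]
    intro x hx
    rw [Subgroup.mem_inf] at hx
    rw [Subgroup.mem_bot]
    rcases h1_mem_zpowers_invol (h2 a) hx.1 with h | h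
    · exact h
    · rcases h1_mem_zpowers_invol (h2 b) hx.2 with h' | h'
      · exact h'
      · exact absurd (h'.symm.trans h) hba
  · have hlt : Subgroup.zpowers a < Subgroup.zpowers a ⊔ Subgroup.zpowers b := by
      refine lt_of_le_of_ne le_sup_left ?_
      intro h
      apply hb
      rw [h]
      exact (le_sup_right : Subgroup.zpowers b ≤ _) (Subgroup.mem_zpowers b)
    have hcardlt : Nat.card (Subgroup.zpowers a) <
        Nat.card ↥(Subgroup.zpowers a ⊔ Subgroup.zpowers b) := by
      have := Set.ncard_lt_ncard (s := (Subgroup.zpowers a : Set G))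
        (t := ((Subgroup.zpowers a ⊔ Subgroup.zpowers b : Subgroup G) : Set G))
        (by exact_mod_cast hlt) (Set.toFinite _)
      rw [← Nat.card_coe_set_eq, ← Nat.card_coe_set_eq] at this
      exact this
    have hdvd : Nat.card ↥(Subgroup.zpowers a ⊔ Subgroup.zpowers b) ∣ 4 := by
      rw [← h4]; exact Subgroup.card_subgroup_dvd_card _
    have hle : Nat.card ↥(Subgroup.zpowers a ⊔ Subgroup.zpowers b) ≤ 4 := Nat.le_of_dvd (by norm_num) hdvd
    have h4' : Nat.card ↥(Subgroup.zpowers a ⊔ Subgroup.zpowers b) = 4 := by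
      rw [hcardA] at hcardlt
      interval_cases h : Nat.card ↥(Subgroup.zpowers a ⊔ Subgroup.zpowers b)
      · omega
      · rfl
    apply Subgroup.eq_top_of_card_eq
    rw [h4', h4]

end Cfsg.Agent.Lib.Helper9.A2S
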