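import Mathlib
import Cfsg.Agent.Lib.Helper19.AMO.Defs

set_option autoImplicit false
set_option linter.unusedVariables false
set_option linter.unusedSectionVars false

namespace Cfsg.Agent.Lib.Helper19.AMO

open Matrix Cfsg.Agent.Lib.Helper16.PG Cfsg.Agent.Lib.Helper16.AP Cfsg.Agent.Lib.Helper16.PU

universe u

section
variable {n : ℕ} {F : Type u} [Field F]

noncomputable def amoG2_y (g : GL (Fin n) F) (τ : RingAut F) : ℕ → GL (Fin n) F
  | 0 => 1
  | (k + 1) => g * mapGL n τ (amoG2_y g τ k)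

theorem amoG2_mapGL_mul (τ σ : RingAut F) (x : GL (Fin n) F) :
    mapGL n (τ * σ) x = mapGL n τ (mapGL n σ x) := by
  apply Units.ext
  rw [mapGL_val, mapGL_val, mapGL_val, Matrix.map_map]
  rfl

theorem amoG2_mapGL_one (x : GL (Fin n) F) : mapGL n (1 : RingAut F) x = x := by
  apply Units.ext
  rw [mapGL_val]
  ext i j
  rfl

theorem amoG2_fieldL_one :
    fieldL n (1 : RingAut F) = (1 : MulAut (ProjectiveSpecialLinearGroup (Fin n) F)) :=
  fieldL_refl

theorem amoG2_pow (g : GL (Fin n) F) (τ : RingAut F) (k : ℕ) :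
    (Phi n F g * fieldL n τ) ^ k = Phi n F (amoG2_y g τ k) * fieldL n (τ ^ k) := by
  induction k with
  | zero =>
    rw [pow_zero, pow_zero, amoG2_fieldL_one]
    show (1 : MulAut (ProjectiveSpecialLinearGroup (Fin n) F)) = Phi n F 1 * 1
    rw [map_one, mul_one]
  | succ k ih =>
    rw [pow_succ', ih]
    show Phi n F g * fieldL n τ * (Phi n F (amoG2_y g τ k) * fieldL n (τ ^ k)) =
      Phi n F (g * mapGL n τ (amoG2_y g τ k)) * fieldL n (τ ^ (k + 1))
    rw [mul_assoc, ← mul_assoc (fieldL n τ), fieldL_Phi, map_mul, pow_succ',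
      ← fieldLHom_apply (τ * τ ^ k), map_mul, fieldLHom_apply, fieldLHom_apply]
    simp only [mul_assoc]

theorem amoG2_shift (g : GL (Fin n) F) (τ : RingAut F) (k : ℕ) :
    amoG2_y g τ k * mapGL n (τ ^ k) g = g * mapGL n τ (amoG2_y g τ k) := by
  induction k with
  | zero =>
    rw [pow_zero, amoG2_mapGL_one]
    show (1 : GL (Fin n) F) * g = g * mapGL n τ 1
    rw [map_one, one_mul, mul_one]
  | succ k ih =>
    show g * mapGL n τ (amoG2_y g τ k) * mapGL n (τ ^ (k + 1)) g =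
      g * mapGL n τ (g * mapGL n τ (amoG2_y g τ k))
    rw [pow_succ', amoG2_mapGL_mul, mul_assoc, ← map_mul, ih]

theorem pow_field [Fintype F] (g : GL (Fin n) F) (τ : RingAut F) :
    ∃ y : GL (Fin n) F, (Phi n F g * fieldL n τ) ^ orderOf τ = Phi n F y ∧
      mapGL n τ y = g⁻¹ * y * g := by
  refine ⟨amoG2_y g τ (orderOf τ), ?_, ?_⟩
  · rw [amoG2_pow, pow_orderOf_eq_one, amoG2_fieldL_one, mul_one]
  · have h := amoG2_shift g τ (orderOf τ)
    rw [pow_orderOf_eq_one, amoG2_mapGL_one] at h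
    rw [mul_assoc, h, ← mul_assoc, inv_mul_cancel, one_mul]

end

end Cfsg.Agent.Lib.Helper19.AMO
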