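import Mathlib
import Cfsg.Agent.Lib.Helper19.AMO.Defs

set_option autoImplicit false
set_option linter.unusedVariables false
set_option linter.unusedSectionVars false

namespace Cfsg.Agent.Lib.Helper19.AMO

open Matrix Cfsg.Agent.Lib.Helper16.PG Cfsg.Agent.Lib.Helper16.AP Cfsg.Agent.Lib.Helper16.PU

universe u

section
variable {F : Type u} [Field F]

theorem amoM2O_pow (d : ℕ) (A : Matrix (Fin d) (Fin d) F) (j : ℕ) :
    (Matrix.fromBlocks A 0 0 (1 : Matrix Unit Unit F)) ^ j =
      Matrix.fromBlocks (A ^ j) 0 0 (1 : Matrix Unit Unit F) := by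
  induction j with
  | zero => simp [Matrix.fromBlocks_one]
  | succ k ih =>
    rw [pow_succ, ih, Matrix.fromBlocks_multiply, pow_succ]
    simp

theorem graph_bound_odd [Fintype F] (d m : ℕ) (hm : d + 1 = 2 * m)
    (A B : Matrix (Fin d) (Fin d) F) (hdet : A.det = 1) (hAB : A * B = 1)
    (hc : B.charpoly = A.charpoly) :
    ∃ j : ℕ, 0 < j ∧ (A ^ j = 1 ∨ A ^ j = -1) ∧
      (Fintype.card F - 1) * j ≤ Fintype.card F ^ (m + 1) := by
  classical
  have hAB' : (Matrix.fromBlocks A 0 0 (1 : Matrix Unit Unit F)) *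
      (Matrix.fromBlocks B 0 0 (1 : Matrix Unit Unit F)) = 1 := by
    rw [Matrix.fromBlocks_multiply]
    simp [hAB, Matrix.fromBlocks_one]
  have hc' : (Matrix.fromBlocks B 0 0 (1 : Matrix Unit Unit F)).charpoly =
      (Matrix.fromBlocks A 0 0 (1 : Matrix Unit Unit F)).charpoly := by
    rw [Matrix.charpoly_fromBlocks_zero₁₂, Matrix.charpoly_fromBlocks_zero₁₂, hc]
  have hdet' : (Matrix.fromBlocks A 0 0 (1 : Matrix Unit Unit F)).det = 1 := by
    rw [Matrix.det_fromBlocks_zero₂₁, hdet]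
    simp
  have hcard : Fintype.card (Fin d ⊕ Unit) = 2 * m := by
    simp [hm]
  have hinv : ∀ ν : AlgebraicClosure F, ν ≠ 0 →
      ((Matrix.fromBlocks A 0 0 (1 : Matrix Unit Unit F)).map
        (algebraMap F (AlgebraicClosure F))).charpoly.rootMultiplicity ν⁻¹ =
      ((Matrix.fromBlocks A 0 0 (1 : Matrix Unit Unit F)).map
        (algebraMap F (AlgebraicClosure F))).charpoly.rootMultiplicity ν := by
    intro ν hν
    have h := Cfsg.Agent.Lib.helper15.URegSemi.rootMultiplicity_inv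
      ((Matrix.fromBlocks A 0 0 (1 : Matrix Unit Unit F)).map (algebraMap F (AlgebraicClosure F)))
      ((Matrix.fromBlocks B 0 0 (1 : Matrix Unit Unit F)).map (algebraMap F (AlgebraicClosure F)))
      (by rw [← Matrix.map_mul, hAB', Matrix.map_one _ (map_zero _) (map_one _)]) ν hν
    rw [← h, Matrix.charpoly_map, Matrix.charpoly_map, hc']
  obtain ⟨j, hj, hA, hb⟩ := Cfsg.Agent.Lib.Helper1.MEO.matrix_bound m hcard
    (Matrix.fromBlocks A 0 0 (1 : Matrix Unit Unit F)) hdet' hinv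
  refine ⟨j, hj, ?_, hb⟩
  rw [amoM2O_pow] at hA
  rcases hA with hA | hA
  · left
    rw [← Matrix.fromBlocks_one] at hA
    exact (Matrix.fromBlocks_inj.mp hA).1
  · right
    rw [← Matrix.fromBlocks_one, Matrix.fromBlocks_neg] at hA
    exact (Matrix.fromBlocks_inj.mp hA).1

end

end Cfsg.Agent.Lib.Helper19.AMO
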