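import Mathlib
import Cfsg.Agent.Lib.Helper19.AMO.Defs

set_option autoImplicit false
set_option linter.unusedVariables false
set_option linter.unusedSectionVars false

namespace Cfsg.Agent.Lib.Helper19.AMO

open Matrix Cfsg.Agent.Lib.Helper16.PG Cfsg.Agent.Lib.Helper16.AP Cfsg.Agent.Lib.Helper16.PU

universe u

section
variable {F : Type u} [Field F] [Fintype F]

theorem mult_graph_field (p f0 q0 : ℕ) [Fact p.Prime] [CharP F p] (hq0 : q0 = p ^ f0)
    {ι : Type*} [Fintype ι] [DecidableEq ι] (τ : F ≃+* F) (hτ : ∀ x : F, τ x = x ^ q0)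
    (A B : Matrix ι ι F) (hAB : A * B = 1)
    (hc : (B.charpoly).map (τ : F →+* F) = A.charpoly)
    (ν : AlgebraicClosure F) (hν : ν ≠ 0) :
    (A.map (algebraMap F (AlgebraicClosure F))).charpoly.rootMultiplicity (ν ^ q0)⁻¹ =
      (A.map (algebraMap F (AlgebraicClosure F))).charpoly.rootMultiplicity ν := by
  classical
  have hch : CharP (AlgebraicClosure F) p :=
    charP_of_injective_algebraMap (algebraMap F (AlgebraicClosure F)).injective p
  have hΦa : ∀ x : AlgebraicClosure F, iterateFrobenius (AlgebraicClosure F) p f0 x = x ^ q0 :=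
    fun x => by rw [iterateFrobenius_def, hq0]
  have hcomp : (iterateFrobenius (AlgebraicClosure F) p f0).comp
      (algebraMap F (AlgebraicClosure F)) =
      (algebraMap F (AlgebraicClosure F)).comp (τ : F →+* F) := by
    ext x
    rw [RingHom.comp_apply, RingHom.comp_apply, hΦa, ← map_pow]
    congr 1
    exact (hτ x).symm
  have hchar : (A.map (algebraMap F (AlgebraicClosure F))).charpoly =
      ((B.map (algebraMap F (AlgebraicClosure F))).charpoly).map
        (iterateFrobenius (AlgebraicClosure F) p f0) := by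
    rw [Matrix.charpoly_map, Matrix.charpoly_map, Polynomial.map_map, hcomp,
      ← Polynomial.map_map, hc]
  have hinj : Function.Injective (iterateFrobenius (AlgebraicClosure F) p f0) :=
    (iterateFrobenius (AlgebraicClosure F) p f0).injective
  have h1 := Polynomial.eq_rootMultiplicity_map
    (p := (B.map (algebraMap F (AlgebraicClosure F))).charpoly) hinj ν⁻¹
  rw [← hchar, hΦa, inv_pow] at h1
  have h2 := Cfsg.Agent.Lib.helper15.URegSemi.rootMultiplicity_inv
    (A.map (algebraMap F (AlgebraicClosure F))) (B.map (algebraMap F (AlgebraicClosure F)))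
    (by rw [← Matrix.map_mul, hAB, Matrix.map_one _ (map_zero _) (map_one _)]) ν⁻¹
    (inv_ne_zero hν)
  rw [inv_inv] at h2
  rw [← h1, h2]

end

end Cfsg.Agent.Lib.Helper19.AMO
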