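import Mathlib
import Cfsg.Agent.Lib.Helper24.APF.Defs

set_option autoImplicit false

namespace Cfsg.Agent.Lib.Helper24.APF

open Equiv

theorem apfDIST_sum_lt (p : ℕ) (hp2 : 2 ≤ p) : ∀ (k : ℕ) (m : Multiset ℕ), m.Nodup →
    (∀ x ∈ m, ∃ j : ℕ, x = p ^ j) → (∀ x ∈ m, x < p ^ k) → m.sum < p ^ k := by
  intro k
  induction k with
  | zero =>
    intro m _ hm hlt
    have h0 : m = 0 := by
      apply Multiset.eq_zero_of_forall_notMem
      intro x hx
      obtain ⟨j, rfl⟩ := hm x hx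
      have h1 := hlt _ hx
      have h2 : 0 < p ^ j := Nat.pow_pos (by omega)
      rw [pow_zero] at h1
      omega
    rw [h0]
    simp
  | succ k ih =>
    intro m hnd hm hlt
    have hstep : ∀ x ∈ m, x ≠ p ^ k → x < p ^ k := by
      intro x hx hne
      obtain ⟨j, rfl⟩ := hm x hx
      have h1 := hlt _ hx
      have h2 : j < k + 1 := (Nat.pow_lt_pow_iff_right hp2).mp h1
      have h3 : j ≠ k := fun h => hne (by rw [h])
      exact Nat.pow_lt_pow_right hp2 (by omega)
    have hpk : 2 * p ^ k ≤ p ^ (k + 1) := by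
      rw [pow_succ, mul_comm]
      exact Nat.mul_le_mul_left _ hp2
    by_cases h : p ^ k ∈ m
    · have h1 : (m.erase (p ^ k)).sum < p ^ k := by
        apply ih _ (hnd.erase _)
        · intro x hx
          exact hm x (Multiset.mem_of_mem_erase hx)
        · intro x hx
          have hx' := (hnd.mem_erase_iff).mp hx
          exact hstep x hx'.2 hx'.1
      have h2 : m.sum = p ^ k + (m.erase (p ^ k)).sum := by
        conv_lhs => rw [← Multiset.cons_erase h]
        rw [Multiset.sum_cons]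
      omega
    · have h1 : m.sum < p ^ k := by
        apply ih _ hnd hm
        intro x hx
        exact hstep x hx (fun he => h (he ▸ hx))
      omega

theorem apfDIST_key (p : ℕ) (hp2 : 2 ≤ p) (l m : Multiset ℕ)
    (hm : ∀ x ∈ m, ∃ j : ℕ, x = p ^ j) (hmc : m.Nodup) (hsum : l.sum = m.sum)
    (r : ℕ) (hr : ∃ j : ℕ, r = p ^ j) (hrl : r ∈ l) (hmax : ∀ x ∈ m, x ≤ r) : r ∈ m := by
  by_contra hrm
  obtain ⟨k, rfl⟩ := hr
  have h1 : m.sum < p ^ k := by
    apply apfDIST_sum_lt p hp2 k m hmc hm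
    intro x hx
    have h2 := hmax x hx
    have h3 : x ≠ p ^ k := fun he => hrm (he ▸ hx)
    omega
  have h2 : p ^ k ≤ l.sum := Multiset.single_le_sum (fun _ _ => Nat.zero_le _) _ hrl
  omega

theorem max_eq_of_nodup (p : ℕ) (hp : p.Prime) (hp3 : 3 ≤ p) (n : ℕ) (hn : 5 ≤ n)
    (l m : Multiset ℕ)
    (hl : ∀ x ∈ l, ∃ j : ℕ, 1 ≤ j ∧ x = p ^ j) (hm : ∀ x ∈ m, ∃ j : ℕ, 1 ≤ j ∧ x = p ^ j)
    (hlc : ∀ i, l.count i ≤ 1) (hmc : ∀ i, m.count i ≤ 1)
    (hl1 : l.sum ≤ n) (hl2 : n ≤ l.sum + 1) (hm1 : m.sum ≤ n) (hm2 : n ≤ m.sum + 1) :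
    ∃ r : ℕ, r ∈ l ∧ r ∈ m ∧ 5 ≤ r ∧ (p = 3 → 9 ≤ r) := by
  have hp2 : 2 ≤ p := by omega
  have hlnd : l.Nodup := Multiset.nodup_iff_count_le_one.mpr hlc
  have hmnd : m.Nodup := Multiset.nodup_iff_count_le_one.mpr hmc
  have hl' : ∀ x ∈ l, ∃ j : ℕ, x = p ^ j := fun x hx => by
    obtain ⟨j, _, h⟩ := hl x hx
    exact ⟨j, h⟩
  have hm' : ∀ x ∈ m, ∃ j : ℕ, x = p ^ j := fun x hx => by
    obtain ⟨j, _, h⟩ := hm x hx
    exact ⟨j, h⟩
  have hdl : p ∣ l.sum := by
    apply Multiset.dvd_sum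
    intro x hx
    obtain ⟨j, hj, rfl⟩ := hl x hx
    exact dvd_pow_self p (by omega)
  have hdm : p ∣ m.sum := by
    apply Multiset.dvd_sum
    intro x hx
    obtain ⟨j, hj, rfl⟩ := hm x hx
    exact dvd_pow_self p (by omega)
  have hsum : l.sum = m.sum := by
    obtain ⟨a, ha⟩ := hdl
    obtain ⟨b, hb⟩ := hdm
    have hab : a = b := by
      by_contra hne
      rcases Nat.lt_or_gt_of_ne hne with h | h
      · have h1 : p * a + p ≤ p * b := by nlinarith
        omega
      · have h1 : p * b + p ≤ p * a := by nlinarith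
        omega
    rw [ha, hb, hab]
  have hne : (l + m).toFinset.Nonempty := by
    have h1 : l ≠ 0 := by
      intro h0
      rw [h0] at hl2
      simp at hl2
      omega
    obtain ⟨x, hx⟩ := Multiset.exists_mem_of_ne_zero h1
    exact ⟨x, by simp [hx]⟩
  have hrmem := Finset.max'_mem _ hne
  have hrmax : ∀ x ∈ (l + m).toFinset, x ≤ (l + m).toFinset.max' hne :=
    fun x hx => Finset.le_max' _ x hx
  set r := (l + m).toFinset.max' hne with hr
  have hrlm : r ∈ l ∨ r ∈ m := by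
    have := hrmem
    simpa using this
  have hmaxl : ∀ x ∈ l, x ≤ r := fun x hx => hrmax x (by simp [hx])
  have hmaxm : ∀ x ∈ m, x ≤ r := fun x hx => hrmax x (by simp [hx])
  have hboth : r ∈ l ∧ r ∈ m := by
    rcases hrlm with h | h
    · exact ⟨h, apfDIST_key p hp2 l m hm' hmnd hsum r (hl' r h) h hmaxm⟩
    · exact ⟨apfDIST_key p hp2 m l hl' hlnd hsum.symm r (hm' r h) h hmaxl, h⟩
  obtain ⟨j, hj1, hrj⟩ := hl r hboth.1
  have h9 : p = 3 → 9 ≤ r := by
    intro h3
    subst h3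
    by_contra hlt
    have hj : j = 1 := by
      by_contra hj2
      have : 3 ^ 2 ≤ 3 ^ j := Nat.pow_le_pow_right (by norm_num) (by omega)
      omega
    rw [hj, pow_one] at hrj
    have hall : ∀ x ∈ l, x = 3 := by
      intro x hx
      obtain ⟨i, hi1, rfl⟩ := hl x hx
      have h1 := hmaxl _ hx
      rw [hrj] at h1
      have hi : i = 1 := by
        by_contra hi2
        have : 3 ^ 2 ≤ 3 ^ i := Nat.pow_le_pow_right (by norm_num) (by omega)
        omega
      rw [hi, pow_one]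
    have h2 := Multiset.eq_replicate_of_mem hall
    have h3 := hlc 3
    rw [h2, Multiset.count_replicate_self] at h3
    have h4 : l.sum = Multiset.card l * 3 := by
      conv_lhs => rw [h2]
      rw [Multiset.sum_replicate, smul_eq_mul]
    omega
  refine ⟨r, hboth.1, hboth.2, ?_, h9⟩
  by_cases h3 : p = 3
  · have := h9 h3
    omega
  · have h5 : 5 ≤ p := by
      by_contra hlt
      have h4 : p = 4 := by omega
      rw [h4] at hp
      exact absurd hp (by norm_num)
    have : p ^ 1 ≤ p ^ j := Nat.pow_le_pow_right (by omega) hj1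
    rw [pow_one] at this
    omega

end Cfsg.Agent.Lib.Helper24.APF
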