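import Mathlib
import Cfsg.Agent.Lib.Helper24.APF.Defs

set_option autoImplicit false

namespace Cfsg.Agent.Lib.Helper24.APF

open Equiv

theorem apfGREEDY_dvd (p : ℕ) (hp2 : 2 ≤ p) (x y : ℕ) (hx : ∃ j : ℕ, x = p ^ j)
    (hy : ∃ j : ℕ, y = p ^ j) (h : x ≤ y) : x ∣ y := by
  obtain ⟨i, rfl⟩ := hx
  obtain ⟨j, rfl⟩ := hy
  exact pow_dvd_pow p ((Nat.pow_le_pow_iff_right hp2).mp h)

theorem apfGREEDY_list (p : ℕ) (hp2 : 2 ≤ p) (r : ℕ) : ∀ (L : List ℕ),
    L.Pairwise (fun a b => a ≥ b) → (∀ q ∈ L, ∃ j : ℕ, q = p ^ j) → (∀ q ∈ L, q ∣ r) →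
    ∀ c : ℕ, c ≤ r → (∀ q ∈ L, q ∣ c) →
      ∃ M : Multiset ℕ, M ≤ (L : Multiset ℕ) ∧ c + M.sum ≤ r ∧
        (c + M.sum = r ∨ M = (L : Multiset ℕ)) := by
  intro L
  induction L with
  | nil =>
    intro _ _ _ c hc _
    exact ⟨0, le_refl _, by simpa using hc, Or.inr rfl⟩
  | cons q L ih =>
    intro hs hpw hdr c hc hdc
    by_cases hcr : c = r
    · exact ⟨0, Multiset.zero_le _, by simpa using hc, Or.inl (by simpa using hcr)⟩
    · have hlt : c < r := lt_of_le_of_ne hc hcr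
      have hq1 : q ∣ r - c := Nat.dvd_sub (hdr q (List.mem_cons_self)) (hdc q (List.mem_cons_self))
      have hq2 : q ≤ r - c := Nat.le_of_dvd (by omega) hq1
      rw [List.pairwise_cons] at hs
      obtain ⟨M', hM', h1, h2⟩ := ih hs.2 (fun q' hq' => hpw q' (List.mem_cons_of_mem _ hq'))
        (fun q' hq' => hdr q' (List.mem_cons_of_mem _ hq')) (c + q) (by omega)
        (fun q' hq' => dvd_add (hdc q' (List.mem_cons_of_mem _ hq'))
          (apfGREEDY_dvd p hp2 q' q (hpw q' (List.mem_cons_of_mem _ hq'))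
            (hpw q (List.mem_cons_self)) (hs.1 q' hq')))
      refine ⟨q ::ₘ M', ?_, ?_, ?_⟩
      · rw [← Multiset.cons_coe]
        exact Multiset.cons_le_cons q hM'
      · rw [Multiset.sum_cons]
        omega
      · rcases h2 with h2 | h2
        · left
          rw [Multiset.sum_cons]
          omega
        · right
          rw [h2, Multiset.cons_coe]

theorem exists_sub_multiset (p : ℕ) (hp : p.Prime) (μ : Multiset ℕ)
    (hμ : ∀ x ∈ μ, ∃ j : ℕ, x = p ^ j) (s : ℕ) (hs : s ∈ μ) (hmax : ∀ x ∈ μ, x ≤ s)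
    (r : ℕ) (hr : ∃ j : ℕ, r = p ^ j) (hsr : s ≤ r) (F : ℕ) (hn : r ≤ μ.sum + F) :
    ∃ M : Multiset ℕ, s ::ₘ M ≤ μ ∧ s + M.sum ≤ r ∧ r ≤ s + M.sum + F := by
  have hp2 : 2 ≤ p := hp.two_le
  have hμe : s ::ₘ μ.erase s = μ := Multiset.cons_erase hs
  have hmem : ∀ q ∈ (μ.erase s).sort (fun a b => a ≥ b), q ∈ μ := by
    intro q hq
    have h1 : q ∈ ((μ.erase s).sort (fun a b => a ≥ b) : Multiset ℕ) := Multiset.mem_coe.mpr hq
    rw [Multiset.sort_eq] at h1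
    exact Multiset.mem_of_mem_erase h1
  obtain ⟨M, hM, h1, h2⟩ := apfGREEDY_list p hp2 r ((μ.erase s).sort (fun a b => a ≥ b))
    (Multiset.pairwise_sort _ _) (fun q hq => hμ q (hmem q hq))
    (fun q hq => apfGREEDY_dvd p hp2 q r (hμ q (hmem q hq)) hr
      (le_trans (hmax q (hmem q hq)) hsr))
    s hsr (fun q hq => apfGREEDY_dvd p hp2 q s (hμ q (hmem q hq)) (hμ s hs) (hmax q (hmem q hq)))
  rw [Multiset.sort_eq] at hM h2
  refine ⟨M, ?_, h1, ?_⟩
  · rw [← hμe]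
    exact Multiset.cons_le_cons s hM
  · rcases h2 with h2 | h2
    · omega
    · have h3 : μ.sum = s + M.sum := by
        rw [← hμe, Multiset.sum_cons, h2]
      omega

end Cfsg.Agent.Lib.Helper24.APF
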