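import Mathlib
import Cfsg.Agent.Lib.Helper24.APF.Defs

set_option autoImplicit false

namespace Cfsg.Agent.Lib.Helper24.APF

open Equiv

theorem apfLOCb1_left {β γ : Type*} [Fintype β] [DecidableEq β] [Fintype γ]
    [DecidableEq γ] (u : Perm β) :
    (Equiv.Perm.sumCongr u (1 : Perm γ)).cycleType = u.cycleType := by
  classical
  have h : Equiv.Perm.sumCongr u (1 : Perm γ) =
      u.extendDomain (Equiv.ofInjective (Sum.inl : β → β ⊕ γ) Sum.inl_injective) := by
    ext x
    rcases x with b | c
    · have h1 : (Sum.inl b : β ⊕ γ) =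
          ((Equiv.ofInjective (Sum.inl : β → β ⊕ γ) Sum.inl_injective) b : β ⊕ γ) := rfl
      rw [h1, Equiv.Perm.extendDomain_apply_image]
      rfl
    · rw [Equiv.Perm.extendDomain_apply_not_subtype]
      · rfl
      · rintro ⟨b, hb⟩
        exact Sum.inl_ne_inr hb
  rw [h, Equiv.Perm.cycleType_extendDomain]

theorem apfLOCb1_right {β γ : Type*} [Fintype β] [DecidableEq β] [Fintype γ]
    [DecidableEq γ] (v : Perm γ) :
    (Equiv.Perm.sumCongr (1 : Perm β) v).cycleType = v.cycleType := by
  classical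
  have h : Equiv.Perm.sumCongr (1 : Perm β) v =
      v.extendDomain (Equiv.ofInjective (Sum.inr : γ → β ⊕ γ) Sum.inr_injective) := by
    ext x
    rcases x with b | c
    · rw [Equiv.Perm.extendDomain_apply_not_subtype]
      · rfl
      · rintro ⟨c, hc⟩
        exact Sum.inr_ne_inl hc
    · have h1 : (Sum.inr c : β ⊕ γ) =
          ((Equiv.ofInjective (Sum.inr : γ → β ⊕ γ) Sum.inr_injective) c : β ⊕ γ) := rfl
      rw [h1, Equiv.Perm.extendDomain_apply_image]
      rfl
  rw [h, Equiv.Perm.cycleType_extendDomain]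

theorem cycleType_sumCongr {β γ : Type*} [Fintype β] [DecidableEq β] [Fintype γ]
    [DecidableEq γ] (u : Perm β) (v : Perm γ) :
    (Equiv.Perm.sumCongr u v).cycleType = u.cycleType + v.cycleType := by
  have h : Equiv.Perm.sumCongr u v =
      Equiv.Perm.sumCongr u (1 : Perm γ) * Equiv.Perm.sumCongr (1 : Perm β) v := by
    rw [Equiv.Perm.sumCongr_mul, mul_one, one_mul]
  have hd : Equiv.Perm.Disjoint (Equiv.Perm.sumCongr u (1 : Perm γ))
      (Equiv.Perm.sumCongr (1 : Perm β) v) := by
    intro x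
    rcases x with b | c
    · right
      rfl
    · left
      rfl
  rw [h, hd.cycleType_mul, apfLOCb1_left, apfLOCb1_right]

end Cfsg.Agent.Lib.Helper24.APF
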