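import Mathlib
import Cfsg.Agent.Lib.Helper27.ASC.Defs

set_option autoImplicit false
set_option linter.style.haveILetI false

namespace Cfsg.Agent.Lib.Helper27.ASC

open Cfsg Cfsg.Geo
open scoped MatrixGroups Matrix

variable {F : Type*} [Field F]

theorem ascesk_prim {r : ℕ} (hr : r.Prime) {ω : F} (hω1 : ω ≠ 1) (hωr : ω ^ r = 1) :
    IsPrimitiveRoot ω r := by
  haveI : Fact r.Prime := ⟨hr⟩
  have h := IsPrimitiveRoot.orderOf ω
  rwa [orderOf_eq_prime hωr hω1] at h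

theorem ascesk_eigen {r : ℕ} (hr : r.Prime) {X : Matrix (Fin r) (Fin r) F} {ω : F}
    (hω : IsPrimitiveRoot ω r) (xr : X ^ r = 1) :
    ∃ i0 : ℕ, ∃ v : Fin r → F, v ≠ 0 ∧ X *ᵥ v = (ω ^ i0) • v := by
  haveI : NeZero r := ⟨hr.pos.ne'⟩
  haveI : Nonempty (Fin r) := ⟨⟨0, hr.pos⟩⟩
  let f : Module.End F (Fin r → F) := Matrix.toLin' X
  have hf : f ^ r = 1 := by
    change (Matrix.toLin' X) ^ r = 1
    rw [← Matrix.toLin'_pow, xr, Matrix.toLin'_one]
    rfl
  have hdvd : minpoly F f ∣ (Polynomial.X ^ r - Polynomial.C 1) := by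
    apply minpoly.dvd F f
    simp [hf]
  have hsp := (Polynomial.X_pow_sub_one_splits hω).of_dvd (Polynomial.X_pow_sub_C_ne_zero hr.pos 1) hdvd
  have hint : IsIntegral F f := Algebra.IsIntegral.isIntegral f
  have hdeg : (minpoly F f).degree ≠ 0 := (minpoly.degree_pos hint).ne'
  obtain ⟨μ, hμ⟩ := hsp.exists_eval_eq_zero hdeg
  have hev : f.HasEigenvalue μ := Module.End.hasEigenvalue_of_isRoot hμ
  obtain ⟨v, hv⟩ := hev.exists_hasEigenvector
  have hμr : μ ^ r = 1 := by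
    obtain ⟨g, hg⟩ := hdvd
    have h1 := congrArg (Polynomial.eval μ) hg
    simp only [Polynomial.eval_sub, Polynomial.eval_pow, Polynomial.eval_X, Polynomial.eval_C,
      Polynomial.eval_mul, hμ, zero_mul] at h1
    exact sub_eq_zero.mp h1
  obtain ⟨i0, -, hi0⟩ := hω.eq_pow_of_pow_eq_one hμr
  refine ⟨i0, v, hv.2, ?_⟩
  rw [hi0]
  have := hv.apply_eq_smul
  simpa [f, Matrix.toLin'_apply] using this

theorem ascesk_comm_pow_right {n : Type*} [Fintype n] [DecidableEq n] {X Y : Matrix n n F} {ω : F}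
    (comm : X * Y = ω • (Y * X)) (j : ℕ) : X * Y ^ j = ω ^ j • (Y ^ j * X) := by
  induction j with
  | zero => simp
  | succ j ih =>
    rw [pow_succ, ← mul_assoc, ih, Matrix.smul_mul, mul_assoc, comm, Matrix.mul_smul, smul_smul,
      ← mul_assoc, pow_succ]

theorem ascesk_comm_pow_left {n : Type*} [Fintype n] [DecidableEq n] {X Y : Matrix n n F} {ω : F}
    (comm : X * Y = ω • (Y * X)) (i : ℕ) : X ^ i * Y = ω ^ i • (Y * X ^ i) := by
  induction i with
  | zero => simp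
  | succ i ih =>
    rw [pow_succ', mul_assoc, ih, Matrix.mul_smul, ← mul_assoc, comm, Matrix.smul_mul, smul_smul,
      mul_assoc, pow_succ', mul_comm ω]

theorem ascesk_comm_pow {n : Type*} [Fintype n] [DecidableEq n] {X Y : Matrix n n F} {ω : F}
    (comm : X * Y = ω • (Y * X)) (i j : ℕ) : X ^ i * Y ^ j = ω ^ (i * j) • (Y ^ j * X ^ i) := by
  have h := ascesk_comm_pow_right (ascesk_comm_pow_left comm i) j
  rw [h, ← pow_mul]

theorem ascesk_std {r : ℕ} (hr : r.Prime) {X Y : Matrix (Fin r) (Fin r) F} {ω : F}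
    (hω1 : ω ≠ 1) (hωr : ω ^ r = 1) (comm : X * Y = ω • (Y * X)) (xr : X ^ r = 1) (yr : Y ^ r = 1) :
    ∃ (P : Matrix (Fin r) (Fin r) F) (i0 : ℕ), IsUnit P ∧
      X * P = P * ((ω ^ i0) • Matrix.diagonal (fun i : Fin r => ω ^ (i : ℕ))) ∧
      Y * P = P * Matrix.of (fun j i : Fin r => if j = finRotate r i then (1 : F) else 0) := by
  have hω : IsPrimitiveRoot ω r := ascesk_prim hr hω1 hωr
  obtain ⟨i0, v₀, hv₀, hXv⟩ := ascesk_eigen hr hω xr
  obtain ⟨m, rfl⟩ : ∃ m, r = m + 1 := ⟨r - 1, by have := hr.pos; omega⟩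
  let P : Matrix (Fin (m + 1)) (Fin (m + 1)) F := Matrix.of (fun k i => (Y ^ (i : ℕ) *ᵥ v₀) k)
  have hcol : ∀ i, (fun k => P k i) = Y ^ (i : ℕ) *ᵥ v₀ := fun i => rfl
  have heig : ∀ i : ℕ, X *ᵥ (Y ^ i *ᵥ v₀) = (ω ^ i0 * ω ^ i) • (Y ^ i *ᵥ v₀) := by
    intro i
    rw [Matrix.mulVec_mulVec, ascesk_comm_pow_right comm i, Matrix.smul_mulVec, ← Matrix.mulVec_mulVec, hXv,
      Matrix.mulVec_smul, smul_smul, mul_comm]
  have hne : ∀ i : ℕ, Y ^ i *ᵥ v₀ ≠ 0 := by
    intro i h0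
    apply hv₀
    have h1 : Y ^ (i * m) * Y ^ i = 1 := by
      rw [← pow_add, show i * m + i = (m + 1) * i by ring, pow_mul, yr, one_pow]
    have h2 := congrArg (fun w => Y ^ (i * m) *ᵥ w) h0
    simp only [Matrix.mulVec_mulVec, h1, Matrix.one_mulVec, Matrix.mulVec_zero] at h2
    exact h2
  have hω0 : ω ^ i0 ≠ 0 := pow_ne_zero _ (hω.ne_zero (by omega))
  refine ⟨P, i0, ?_, ?_, ?_⟩
  · rw [← Matrix.linearIndependent_cols_iff_isUnit]
    apply Module.End.eigenvectors_linearIndependent' (Matrix.toLin' X)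
      (fun i : Fin (m + 1) => ω ^ i0 * ω ^ (i : ℕ))
    · intro i j hij
      have h1 : ω ^ (i : ℕ) = ω ^ (j : ℕ) := mul_left_cancel₀ hω0 hij
      exact Fin.ext (hω.pow_inj i.2 j.2 h1)
    · intro i
      refine ⟨?_, ?_⟩
      · rw [Module.End.mem_eigenspace_iff]
        change Matrix.toLin' X (Y ^ (i : ℕ) *ᵥ v₀) = _
        rw [Matrix.toLin'_apply]
        exact heig i
      · exact hne i
  · ext k i
    have h1 : (X * P) k i = (X *ᵥ (fun l => P l i)) k := by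
      simp [Matrix.mul_apply, Matrix.mulVec, dotProduct]
    rw [h1, hcol, heig, Matrix.mul_smul, Matrix.smul_apply, Matrix.mul_diagonal]
    simp [P, mul_comm, mul_assoc]
  · ext k i
    have h1 : (Y * P) k i = (Y *ᵥ (fun l => P l i)) k := by
      simp [Matrix.mul_apply, Matrix.mulVec, dotProduct]
    have h2 : (P * Matrix.of (fun j i : Fin (m + 1) => if j = finRotate (m + 1) i then (1 : F) else 0)) k i
        = P k (finRotate (m + 1) i) := by
      simp [Matrix.mul_apply]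
    rw [h1, h2, hcol, Matrix.mulVec_mulVec, ← pow_succ']
    change _ = (Y ^ ((finRotate (m + 1) i : Fin (m + 1)) : ℕ) *ᵥ v₀) k
    rw [coe_finRotate]
    split_ifs with hi
    · subst hi
      simp [yr]
    · rfl

theorem ascesk_key {r : ℕ} (hr : r.Prime) {X Y : Matrix (Fin r) (Fin r) F} {ω : F}
    (hω1 : ω ≠ 1) (hωr : ω ^ r = 1) (comm : X * Y = ω • (Y * X)) (xr : X ^ r = 1) (yr : Y ^ r = 1)
    (T : Matrix (Fin r) (Fin r) F) (hX : T * X = X * T) (hY : T * Y = Y * T) :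
    ∃ t : F, T = t • (1 : Matrix (Fin r) (Fin r) F) := by
  have hω : IsPrimitiveRoot ω r := ascesk_prim hr hω1 hωr
  obtain ⟨P, i0, hP, hXP, hYP⟩ := ascesk_std hr hω1 hωr comm xr yr
  obtain ⟨u, rfl⟩ := hP
  obtain ⟨m, rfl⟩ : ∃ m, r = m + 1 := ⟨r - 1, by have := hr.pos; omega⟩
  set D : Matrix (Fin (m + 1)) (Fin (m + 1)) F :=
    (ω ^ i0) • Matrix.diagonal (fun i : Fin (m + 1) => ω ^ (i : ℕ)) with hD
  set R : Matrix (Fin (m + 1)) (Fin (m + 1)) F :=
    Matrix.of (fun j i : Fin (m + 1) => if j = finRotate (m + 1) i then (1 : F) else 0) with hR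
  set Q : Matrix (Fin (m + 1)) (Fin (m + 1)) F := ((u⁻¹ : (Matrix (Fin (m + 1)) (Fin (m + 1)) F)ˣ) :
    Matrix (Fin (m + 1)) (Fin (m + 1)) F) with hQ
  have hQP : Q * (u : Matrix (Fin (m + 1)) (Fin (m + 1)) F) = 1 := by
    rw [hQ, ← Units.val_mul, inv_mul_cancel, Units.val_one]
  have hPQ : (u : Matrix (Fin (m + 1)) (Fin (m + 1)) F) * Q = 1 := by
    rw [hQ, ← Units.val_mul, mul_inv_cancel, Units.val_one]
  have hXe : X = (u : Matrix (Fin (m + 1)) (Fin (m + 1)) F) * D * Q := by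
    rw [← hXP, mul_assoc, hPQ, mul_one]
  have hYe : Y = (u : Matrix (Fin (m + 1)) (Fin (m + 1)) F) * R * Q := by
    rw [← hYP, mul_assoc, hPQ, mul_one]
  set T' : Matrix (Fin (m + 1)) (Fin (m + 1)) F := Q * T * (u : Matrix (Fin (m + 1)) (Fin (m + 1)) F) with hT'
  have hTe : T = (u : Matrix (Fin (m + 1)) (Fin (m + 1)) F) * T' * Q := by
    rw [hT']
    calc T = ((u : Matrix (Fin (m + 1)) (Fin (m + 1)) F) * Q) * T * ((u : Matrix (Fin (m + 1)) (Fin (m + 1)) F) * Q) := by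
          rw [hPQ, one_mul, mul_one]
      _ = _ := by simp only [mul_assoc]
  have hTD : T' * D = D * T' := by
    have h1 : T' * D = Q * (T * X) * (u : Matrix (Fin (m + 1)) (Fin (m + 1)) F) := by
      rw [hT', hXe]
      calc Q * T * ↑u * D = Q * T * ↑u * D * (Q * ↑u) := by rw [hQP, mul_one]
        _ = _ := by simp only [mul_assoc]
    have h2 : D * T' = Q * (X * T) * (u : Matrix (Fin (m + 1)) (Fin (m + 1)) F) := by
      rw [hT', hXe]
      calc D * (Q * T * ↑u) = (Q * ↑u) * D * (Q * T * ↑u) := by rw [hQP, one_mul]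
        _ = _ := by simp only [mul_assoc]
    rw [h1, h2, hX]
  have hTR : T' * R = R * T' := by
    have h1 : T' * R = Q * (T * Y) * (u : Matrix (Fin (m + 1)) (Fin (m + 1)) F) := by
      rw [hT', hYe]
      calc Q * T * ↑u * R = Q * T * ↑u * R * (Q * ↑u) := by rw [hQP, mul_one]
        _ = _ := by simp only [mul_assoc]
    have h2 : R * T' = Q * (Y * T) * (u : Matrix (Fin (m + 1)) (Fin (m + 1)) F) := by
      rw [hT', hYe]
      calc R * (Q * T * ↑u) = (Q * ↑u) * R * (Q * T * ↑u) := by rw [hQP, one_mul]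
        _ = _ := by simp only [mul_assoc]
    rw [h1, h2, hY]
  have hω0 : ω ^ i0 ≠ 0 := pow_ne_zero _ (hω.ne_zero (by omega))
  have hoff : ∀ a b : Fin (m + 1), a ≠ b → T' a b = 0 := by
    intro a b hab
    have h1 := congrFun (congrFun hTD a) b
    rw [hD, Matrix.mul_smul, Matrix.smul_mul, Matrix.smul_apply, Matrix.smul_apply, Matrix.mul_diagonal,
      Matrix.diagonal_mul] at h1
    have h2 : T' a b * ω ^ (b : ℕ) = ω ^ (a : ℕ) * T' a b := by
      have := mul_left_cancel₀ hω0 (by simpa [smul_eq_mul] using h1)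
      exact this
    have h3 : (ω ^ (b : ℕ) - ω ^ (a : ℕ)) * T' a b = 0 := by
      rw [sub_mul, mul_comm (ω ^ (b : ℕ)), h2, sub_self]
    rcases mul_eq_zero.mp h3 with h4 | h4
    · exact absurd (Fin.ext (hω.pow_inj b.2 a.2 (sub_eq_zero.mp h4))).symm hab
    · exact h4
  have hdiag : ∀ a : Fin (m + 1), T' (finRotate (m + 1) a) (finRotate (m + 1) a) = T' a a := by
    intro a
    have h1 := congrFun (congrFun hTR (finRotate (m + 1) a)) a
    have h2 : (T' * R) (finRotate (m + 1) a) a = T' (finRotate (m + 1) a) (finRotate (m + 1) a) := by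
      simp [hR, Matrix.mul_apply]
    have h3 : (R * T') (finRotate (m + 1) a) a = T' a a := by
      simp [hR, Matrix.mul_apply]
    rw [h2, h3] at h1
    exact h1
  have hall : ∀ a : Fin (m + 1), T' a a = T' 0 0 := by
    intro a
    induction a using Fin.induction with
    | zero => rfl
    | succ i ih =>
      have := hdiag i.castSucc
      rw [finRotate_apply] at this
      have e : i.castSucc + 1 = i.succ := by
        simp
      rw [e] at this
      rw [this, ih]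
  obtain ⟨t, hT'e⟩ : ∃ t : F, T' = t • (1 : Matrix (Fin (m + 1)) (Fin (m + 1)) F) := by
    refine ⟨T' 0 0, ?_⟩
    ext a b
    by_cases hab : a = b
    · subst hab
      simp [hall a]
    · simp [hoff a b hab, hab]
  refine ⟨t, ?_⟩
  rw [hTe, hT'e, Matrix.mul_smul, Matrix.smul_mul, mul_one, hPQ]

theorem ascesk_isUnit_of_pow {n : Type*} [Fintype n] [DecidableEq n] {X : Matrix n n F} {r : ℕ} (hr : 0 < r)
    (xr : X ^ r = 1) : IsUnit X :=
  IsUnit.of_pow_eq_one xr hr.ne'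

theorem ascesk_inj {r : ℕ} (hr : r.Prime) {X Y : Matrix (Fin r) (Fin r) F} {ω : F}
    (hω1 : ω ≠ 1) (hωr : ω ^ r = 1) (comm : X * Y = ω • (Y * X)) (xr : X ^ r = 1) (yr : Y ^ r = 1)
    {i j k i' j' k' : ℕ} (hi : i < r) (hj : j < r) (hk : k < r) (hi' : i' < r) (hj' : j' < r) (hk' : k' < r)
    (h : (ω ^ k) • (X ^ i * Y ^ j) = (ω ^ k') • (X ^ i' * Y ^ j')) : i = i' ∧ j = j' ∧ k = k' := by
  have hω : IsPrimitiveRoot ω r := ascesk_prim hr hω1 hωr
  have hω0 : ω ≠ 0 := hω.ne_zero hr.pos.ne'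
  haveI : Nonempty (Fin r) := ⟨⟨0, hr.pos⟩⟩
  have hXu : IsUnit X := ascesk_isUnit_of_pow hr.pos xr
  have hYu : IsUnit Y := ascesk_isUnit_of_pow hr.pos yr
  have hWu : ∀ (a b c : ℕ), IsUnit ((ω ^ c) • (X ^ a * Y ^ b)) := by
    intro a b c
    have h1 : IsUnit (X ^ a * Y ^ b) := (hXu.pow a).mul (hYu.pow b)
    have h2 : (ω ^ c) • (X ^ a * Y ^ b) = (ω ^ c • (1 : Matrix (Fin r) (Fin r) F)) * (X ^ a * Y ^ b) := by
      rw [Matrix.smul_mul, one_mul]
    rw [h2]
    refine IsUnit.mul ?_ h1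
    refine ⟨⟨ω ^ c • 1, (ω ^ c)⁻¹ • 1, ?_, ?_⟩, rfl⟩
    · rw [Matrix.smul_mul, Matrix.mul_smul, mul_one, smul_smul, mul_inv_cancel₀ (pow_ne_zero _ hω0), one_smul]
    · rw [Matrix.smul_mul, Matrix.mul_smul, mul_one, smul_smul, inv_mul_cancel₀ (pow_ne_zero _ hω0), one_smul]
  have hconjX : ∀ (a b c : ℕ), X * ((ω ^ c) • (X ^ a * Y ^ b)) = ω ^ b • (((ω ^ c) • (X ^ a * Y ^ b)) * X) := by
    intro a b c
    rw [Matrix.mul_smul, Matrix.smul_mul, smul_comm, ← mul_assoc, ← pow_succ', pow_succ, mul_assoc,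
      ascesk_comm_pow_right comm b, Matrix.mul_smul, mul_assoc]
  have hconjY : ∀ (a b c : ℕ), ((ω ^ c) • (X ^ a * Y ^ b)) * Y = ω ^ a • (Y * ((ω ^ c) • (X ^ a * Y ^ b))) := by
    intro a b c
    rw [Matrix.smul_mul, Matrix.mul_smul, smul_comm, mul_assoc, ← pow_succ, pow_succ', ← mul_assoc,
      ascesk_comm_pow_left comm a, Matrix.smul_mul, mul_assoc]
  have hj2 : j = j' := by
    have h1 := hconjX i j k
    have h2 := hconjX i' j' k'
    rw [h] at h1
    rw [h1] at h2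
    have h3 : (ω ^ j - ω ^ j') • (((ω ^ k') • (X ^ i' * Y ^ j')) * X) = 0 := by
      rw [sub_smul, h2, sub_self]
    have hu : IsUnit (((ω ^ k') • (X ^ i' * Y ^ j')) * X) := (hWu i' j' k').mul hXu
    rcases smul_eq_zero.mp h3 with h4 | h4
    · exact hω.pow_inj hj hj' (sub_eq_zero.mp h4)
    · exact absurd h4 hu.ne_zero
  have hi2 : i = i' := by
    have h1 := hconjY i j k
    have h2 := hconjY i' j' k'
    rw [h] at h1
    rw [h1] at h2
    have h3 : (ω ^ i - ω ^ i') • (Y * ((ω ^ k') • (X ^ i' * Y ^ j'))) = 0 := by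
      rw [sub_smul, h2, sub_self]
    have hu : IsUnit (Y * ((ω ^ k') • (X ^ i' * Y ^ j'))) := hYu.mul (hWu i' j' k')
    rcases smul_eq_zero.mp h3 with h4 | h4
    · exact hω.pow_inj hi hi' (sub_eq_zero.mp h4)
    · exact absurd h4 hu.ne_zero
  refine ⟨hi2, hj2, ?_⟩
  subst hi2 hj2
  have h3 : (ω ^ k - ω ^ k') • (X ^ i * Y ^ j) = 0 := by
    rw [sub_smul, h, sub_self]
  have hu : IsUnit (X ^ i * Y ^ j) := (hXu.pow i).mul (hYu.pow j)
  rcases smul_eq_zero.mp h3 with h4 | h4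
  · exact hω.pow_inj hk hk' (sub_eq_zero.mp h4)
  · exact absurd h4 hu.ne_zero

end Cfsg.Agent.Lib.Helper27.ASC
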