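import Mathlib
import Cfsg.Agent.Lib.Helper27.ASC.Defs
import Cfsg.Agent.Lib.Helper1.ASCESK

set_option autoImplicit false
set_option linter.unusedVariables false
set_option linter.style.haveILetI false

namespace Cfsg.Agent.Lib.Helper27.ASC

open Cfsg Cfsg.Geo
open scoped MatrixGroups Matrix

variable {n : ℕ} {F : Type*} [Field F] [Fintype F]

theorem asces0_xr {r : ℕ} {N : Subgroup (GL (Fin r) F)} {x y : GL (Fin r) F} {ω : F}
    (hd : HeisData r N x y ω) : (x : Matrix (Fin r) (Fin r) F) ^ r = 1 := by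
  rw [← Units.val_pow_eq_pow_val, hd.xr, Units.val_one]

theorem asces0_yr {r : ℕ} {N : Subgroup (GL (Fin r) F)} {x y : GL (Fin r) F} {ω : F}
    (hd : HeisData r N x y ω) : (y : Matrix (Fin r) (Fin r) F) ^ r = 1 := by
  rw [← Units.val_pow_eq_pow_val, hd.yr, Units.val_one]

theorem asces0_std {r : ℕ} (hr : r.Prime) {N : Subgroup (GL (Fin r) F)} {x y : GL (Fin r) F} {ω : F}
    (hd : HeisData r N x y ω) :
    ∃ (B : GL (Fin r) F) (i0 : ℕ),
      (B : Matrix (Fin r) (Fin r) F) * (x : Matrix (Fin r) (Fin r) F) * ((B⁻¹ : GL (Fin r) F) : Matrix (Fin r) (Fin r) F) =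
        (ω ^ i0) • Matrix.diagonal (fun i : Fin r => ω ^ (i : ℕ)) ∧
      (B : Matrix (Fin r) (Fin r) F) * (y : Matrix (Fin r) (Fin r) F) * ((B⁻¹ : GL (Fin r) F) : Matrix (Fin r) (Fin r) F) =
        Matrix.of (fun j i : Fin r => if j = finRotate r i then (1 : F) else 0) := by
  obtain ⟨P, i0, hP, hXP, hYP⟩ := ascesk_std hr hd.hω1 hd.hωr hd.comm (asces0_xr hd) (asces0_yr hd)
  obtain ⟨u, rfl⟩ := hP
  refine ⟨u⁻¹, i0, ?_, ?_⟩
  · rw [inv_inv, mul_assoc, hXP, ← mul_assoc, ← Units.val_mul, inv_mul_cancel, Units.val_one, one_mul]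
  · rw [inv_inv, mul_assoc, hYP, ← mul_assoc, ← Units.val_mul, inv_mul_cancel, Units.val_one, one_mul]

theorem heis_std {r : ℕ} (hr : r.Prime) {N : Subgroup (GL (Fin r) F)} {x y : GL (Fin r) F} {ω : F}
    (hd : HeisData r N x y ω) :
    ∃ (B : GL (Fin r) F) (c : F), c ^ r = 1 ∧
      (B : Matrix (Fin r) (Fin r) F) * (x : Matrix (Fin r) (Fin r) F) * ((B⁻¹ : GL (Fin r) F) : Matrix (Fin r) (Fin r) F) =
        c • Matrix.diagonal (fun i : Fin r => ω ^ (i : ℕ)) ∧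
      (B : Matrix (Fin r) (Fin r) F) * (y : Matrix (Fin r) (Fin r) F) * ((B⁻¹ : GL (Fin r) F) : Matrix (Fin r) (Fin r) F) =
        Matrix.of (fun j i : Fin r => if j = finRotate r i then (1 : F) else 0) := by
  obtain ⟨B, i0, h1, h2⟩ := asces0_std hr hd
  exact ⟨B, ω ^ i0, by rw [← pow_mul, mul_comm, pow_mul, hd.hωr, one_pow], h1, h2⟩

end Cfsg.Agent.Lib.Helper27.ASC
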