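import Mathlib
import Cfsg.Agent.Lib.Helper27.ASC.Defs
import Cfsg.Agent.Lib.Helper1.ASCESK

set_option autoImplicit false
set_option linter.style.haveILetI false

namespace Cfsg.Agent.Lib.Helper27.ASC

open Cfsg Cfsg.Geo
open scoped MatrixGroups Matrix

theorem ascesm_pow_comm_right {M : Type*} [Monoid M] {a b z : M} (h : b * a = z * (a * b))
    (hza : Commute z a) (n : ℕ) : b * a ^ n = z ^ n * (a ^ n * b) := by
  induction n with
  | zero => simp
  | succ n ih =>
    have hzan : Commute z (a ^ n) := hza.pow_right n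
    calc b * a ^ (n + 1) = (b * a ^ n) * a := by rw [pow_succ, mul_assoc]
      _ = z ^ n * (a ^ n * b) * a := by rw [ih]
      _ = z ^ n * (a ^ n * (b * a)) := by simp only [mul_assoc]
      _ = z ^ n * (a ^ n * (z * (a * b))) := by rw [h]
      _ = z ^ n * ((a ^ n * z) * (a * b)) := by simp only [mul_assoc]
      _ = z ^ n * ((z * a ^ n) * (a * b)) := by rw [hzan.eq]
      _ = (z ^ n * z) * ((a ^ n * a) * b) := by simp only [mul_assoc]
      _ = z ^ (n + 1) * (a ^ (n + 1) * b) := by rw [← pow_succ, ← pow_succ]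

theorem ascesm_pow_comm_left {M : Type*} [Monoid M] {a b z : M} (h : b * a = z * (a * b))
    (hzb : Commute z b) (n : ℕ) : b ^ n * a = z ^ n * (a * b ^ n) := by
  induction n with
  | zero => simp
  | succ n ih =>
    have hzbn : Commute z (b ^ n) := hzb.pow_right n
    have hznb : Commute (z ^ n) b := hzb.pow_left n
    calc b ^ (n + 1) * a = b * (b ^ n * a) := by rw [pow_succ', mul_assoc]
      _ = b * (z ^ n * (a * b ^ n)) := by rw [ih]
      _ = (b * z ^ n) * (a * b ^ n) := by simp only [mul_assoc]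
      _ = (z ^ n * b) * (a * b ^ n) := by rw [hznb.eq]
      _ = z ^ n * ((b * a) * b ^ n) := by simp only [mul_assoc]
      _ = z ^ n * ((z * (a * b)) * b ^ n) := by rw [h]
      _ = (z ^ n * z) * (a * (b * b ^ n)) := by simp only [mul_assoc]
      _ = z ^ (n + 1) * (a * b ^ (n + 1)) := by rw [← pow_succ, ← pow_succ']

theorem ascesm_mul_pow {M : Type*} [Monoid M] {a b z : M} (h : b * a = z * (a * b))
    (hza : Commute z a) (hzb : Commute z b) (n : ℕ) :
    (a * b) ^ n = z ^ (∑ i ∈ Finset.range n, i) * (a ^ n * b ^ n) := by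
  induction n with
  | zero => simp
  | succ n ih =>
    have h1 := ascesm_pow_comm_left h hzb n
    have hzan : Commute (z ^ n) (a ^ n) := (hza.pow_right n).pow_left n
    calc (a * b) ^ (n + 1) = (a * b) ^ n * (a * b) := pow_succ _ _
      _ = z ^ (∑ i ∈ Finset.range n, i) * (a ^ n * b ^ n) * (a * b) := by rw [ih]
      _ = z ^ (∑ i ∈ Finset.range n, i) * (a ^ n * ((b ^ n * a) * b)) := by simp only [mul_assoc]
      _ = z ^ (∑ i ∈ Finset.range n, i) * (a ^ n * ((z ^ n * (a * b ^ n)) * b)) := by rw [h1]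
      _ = z ^ (∑ i ∈ Finset.range n, i) * ((a ^ n * z ^ n) * (a * (b ^ n * b))) := by simp only [mul_assoc]
      _ = z ^ (∑ i ∈ Finset.range n, i) * ((z ^ n * a ^ n) * (a * (b ^ n * b))) := by rw [hzan.eq]
      _ = (z ^ (∑ i ∈ Finset.range n, i) * z ^ n) * ((a ^ n * a) * (b ^ n * b)) := by simp only [mul_assoc]
      _ = z ^ (∑ i ∈ Finset.range (n + 1), i) * (a ^ (n + 1) * b ^ (n + 1)) := by
        rw [← pow_add, ← pow_succ, ← pow_succ, Finset.sum_range_succ]

theorem ascesm_tri {r : ℕ} (hr : r.Prime) (hr2 : r ≠ 2) : r ∣ ∑ i ∈ Finset.range r, i := by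
  obtain ⟨m, hm⟩ := hr.odd_of_ne_two hr2
  refine ⟨m, ?_⟩
  have h := Finset.sum_range_id_mul_two r
  have h2 : r * (r - 1) = (r * m) * 2 := by
    rw [hm]
    have : 2 * m + 1 - 1 = 2 * m := by omega
    rw [this]
    ring
  rw [h2] at h
  exact Nat.eq_of_mul_eq_mul_right (by norm_num) h

theorem ascesm_mul_pow_prime {M : Type*} [Monoid M] {a b z : M} (h : b * a = z * (a * b))
    (hza : Commute z a) (hzb : Commute z b) {r : ℕ} (hr : r.Prime) (hr2 : r ≠ 2) (hz : z ^ r = 1) :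
    (a * b) ^ r = a ^ r * b ^ r := by
  obtain ⟨m, hm⟩ := ascesm_tri hr hr2
  rw [ascesm_mul_pow h hza hzb, hm, pow_mul, hz, one_pow, one_mul]

variable {F : Type*} [Field F]

theorem ascesm_scalar_central {r : ℕ} {s : GL (Fin r) F} (hs : s ∈ scalars (Fin r) F) (g : GL (Fin r) F) :
    s * g = g * s := by
  obtain ⟨c, hc⟩ := (mem_scalars_iff s).mp hs
  apply Units.ext
  rw [Units.val_mul, Units.val_mul, hc, Matrix.smul_mul, Matrix.mul_smul, one_mul, mul_one]

theorem ascesm_scalar_of_mat {r : ℕ} (hr : 0 < r) (g : GL (Fin r) F) (c : F)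
    (h : (g : Matrix (Fin r) (Fin r) F) = c • (1 : Matrix (Fin r) (Fin r) F)) : g ∈ scalars (Fin r) F := by
  haveI : Nonempty (Fin r) := ⟨⟨0, hr⟩⟩
  have hc : c ≠ 0 := by
    rintro rfl
    rw [zero_smul] at h
    have := g.isUnit
    rw [h] at this
    exact not_isUnit_zero this
  exact (mem_scalars_iff g).mpr ⟨Units.mk0 c hc, h⟩

theorem ascesm_scalar_SL {r : ℕ} {g : GL (Fin r) F} (hs : g ∈ scalars (Fin r) F)
    (hdet : g ∈ specialLinear (Fin r) F) :
    ∃ c : F, (g : Matrix (Fin r) (Fin r) F) = c • (1 : Matrix (Fin r) (Fin r) F) ∧ c ^ r = 1 := by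
  obtain ⟨c, hc⟩ := (mem_scalars_iff g).mp hs
  refine ⟨c, hc, ?_⟩
  have h1 : Matrix.GeneralLinearGroup.det g = 1 := hdet
  have h2 : (g : Matrix (Fin r) (Fin r) F).det = 1 := by
    have := congrArg Units.val h1
    simpa using this
  rw [hc, Matrix.det_smul, Matrix.det_one, mul_one, Fintype.card_fin] at h2
  exact h2

theorem ascesm_pow_eq {r : ℕ} (hr : r.Prime) {ω c : F} (hω1 : ω ≠ 1) (hωr : ω ^ r = 1) (hc : c ^ r = 1) :
    ∃ k < r, c = ω ^ k := by
  haveI : NeZero r := ⟨hr.pos.ne'⟩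
  obtain ⟨k, hk, h⟩ := (ascesk_prim hr hω1 hωr).eq_pow_of_pow_eq_one hc
  exact ⟨k, hk, h.symm⟩

end Cfsg.Agent.Lib.Helper27.ASC
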