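import Mathlib
import Cfsg.Agent.Lib.Helper27.ASC.Defs
import Cfsg.Agent.Lib.Helper1.ASCESK
import Cfsg.Agent.Lib.Helper1.ASCESM

set_option autoImplicit false
set_option linter.unusedVariables false
set_option linter.unusedSectionVars false
set_option linter.style.haveILetI false

namespace Cfsg.Agent.Lib.Helper27.ASC

open Cfsg Cfsg.Geo
open scoped MatrixGroups Matrix commutatorElement

variable {n : ℕ} {F : Type*} [Field F] [Fintype F]

theorem asces1_comm {r : ℕ} {H N : Subgroup (GL (Fin r) F)} (hHSL : H ≤ specialLinear (Fin r) F) (hNH : N ≤ H)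
    (hab : ⁅N, N⁆ ≤ scalars (Fin r) F) {a b : GL (Fin r) F} (ha : a ∈ N) (hb : b ∈ N) :
    ∃ (z : GL (Fin r) F) (c : F), z ∈ scalars (Fin r) F ∧ z ∈ N ∧ a * b = z * (b * a) ∧
      (z : Matrix (Fin r) (Fin r) F) = c • (1 : Matrix (Fin r) (Fin r) F) ∧ c ^ r = 1 ∧ z ^ r = 1 := by
  have hzS : ⁅a, b⁆ ∈ scalars (Fin r) F := hab (Subgroup.commutator_mem_commutator ha hb)
  have hzN : ⁅a, b⁆ ∈ N := by
    rw [commutatorElement_def]
    exact N.mul_mem (N.mul_mem (N.mul_mem ha hb) (N.inv_mem ha)) (N.inv_mem hb)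
  obtain ⟨c, hc, hcr⟩ := ascesm_scalar_SL hzS (hHSL (hNH hzN))
  refine ⟨⁅a, b⁆, c, hzS, hzN, ?_, hc, hcr, ?_⟩
  · rw [commutatorElement_def]; group
  · apply Units.ext
    rw [Units.val_pow_eq_pow_val, hc, smul_pow, one_pow, hcr, one_smul, Units.val_one]

theorem asces1_noncomm {r : ℕ} (hr : r.Prime) {N : Subgroup (GL (Fin r) F)} (hA : AbsIrr N)
    (hns : ¬ N ≤ scalars (Fin r) F) : ∃ x ∈ N, ∃ y ∈ N, x * y ≠ y * x := by
  by_contra hcon
  push Not at hcon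
  apply hns
  intro g hg
  obtain ⟨c, hc⟩ := hA.2 (g : Matrix (Fin r) (Fin r) F) (by
    rintro s ⟨h, hh, rfl⟩
    change (g : Matrix (Fin r) (Fin r) F) * (h : Matrix (Fin r) (Fin r) F) = (h : Matrix (Fin r) (Fin r) F) * (g : Matrix (Fin r) (Fin r) F)
    rw [← Units.val_mul, ← Units.val_mul, hcon g hg h hh])
  exact ascesm_scalar_of_mat hr.pos g c hc

theorem asces1_pow_scalar {r : ℕ} (hr : r.Prime) {H N : Subgroup (GL (Fin r) F)}
    (hHSL : H ≤ specialLinear (Fin r) F) (hNH : N ≤ H) (hA : AbsIrr N)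
    (hab : ⁅N, N⁆ ≤ scalars (Fin r) F) : ∀ g ∈ N, g ^ r ∈ scalars (Fin r) F := by
  intro g hg
  obtain ⟨c, hc⟩ := hA.2 ((g ^ r : GL (Fin r) F) : Matrix (Fin r) (Fin r) F) (by
    rintro s ⟨h, hh, rfl⟩
    obtain ⟨z, c, hzS, hzN, hcomm, hzm, hcr, hzr⟩ := asces1_comm hHSL hNH hab hh hg
    have h1 := ascesm_pow_comm_right hcomm (ascesm_scalar_central hzS g) r
    rw [hzr, one_mul] at h1
    change ((g ^ r : GL (Fin r) F) : Matrix (Fin r) (Fin r) F) * (h : Matrix (Fin r) (Fin r) F) =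
      (h : Matrix (Fin r) (Fin r) F) * ((g ^ r : GL (Fin r) F) : Matrix (Fin r) (Fin r) F)
    rw [← Units.val_mul, ← Units.val_mul, h1])
  exact ascesm_scalar_of_mat hr.pos _ c hc

theorem asces1_pow_one {r : ℕ} (hr : r.Prime) (hr2 : r ≠ 2) {H N : Subgroup (GL (Fin r) F)}
    (hHSL : H ≤ specialLinear (Fin r) F) (hD : AllNormalAbsIrr H) (hN : MinNonscalar N H)
    (hab : ⁅N, N⁆ ≤ scalars (Fin r) F) : ∀ g ∈ N, g ^ r = 1 := by
  have hNH : N ≤ H := hN.1.1
  have hA : AbsIrr N := (hD N hN.1).resolve_left hN.2.1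
  obtain ⟨x, hx, y, hy, hxy⟩ := asces1_noncomm hr hA hN.2.1
  have hmul : ∀ a b : N, ((a * b : N) : GL (Fin r) F) ^ r = (a : GL (Fin r) F) ^ r * (b : GL (Fin r) F) ^ r := by
    intro a b
    obtain ⟨z, c, hzS, hzN, hcomm, hzm, hcr, hzr⟩ := asces1_comm hHSL hNH hab b.2 a.2
    rw [Subgroup.coe_mul]
    exact ascesm_mul_pow_prime hcomm (ascesm_scalar_central hzS _) (ascesm_scalar_central hzS _) hr hr2 hzr
  let φ : N →* GL (Fin r) F :=
    { toFun := fun g => (g : GL (Fin r) F) ^ r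
      map_one' := by simp
      map_mul' := hmul }
  have hφ : ∀ g : N, φ g = (g : GL (Fin r) F) ^ r := fun g => rfl
  set Ω : Subgroup (GL (Fin r) F) := φ.ker.map N.subtype with hΩ
  have hΩmem : ∀ g : GL (Fin r) F, g ∈ Ω ↔ g ∈ N ∧ g ^ r = 1 := by
    intro g
    constructor
    · rintro ⟨g', hg', rfl⟩
      exact ⟨g'.2, (MonoidHom.mem_ker.mp hg' : φ g' = 1)⟩
    · rintro ⟨hg, hgr⟩
      exact ⟨⟨g, hg⟩, MonoidHom.mem_ker.mpr hgr, rfl⟩
  have hΩN : Ω ≤ N := fun g hg => ((hΩmem g).mp hg).1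
  have hΩnorm : NormalIn Ω H := by
    refine ⟨hΩN.trans hNH, fun h hh g hg => ?_⟩
    obtain ⟨hgN, hgr⟩ := (hΩmem g).mp hg
    rw [hΩmem]
    refine ⟨hN.1.2 h hh g hgN, ?_⟩
    rw [conj_pow, hgr, mul_one, mul_inv_cancel]
  rcases hN.2.2 Ω hΩnorm hΩN with hcase | hcase
  · exfalso
    have hps := asces1_pow_scalar hr hHSL hNH hA hab
    let φ' : N →* scalars (Fin r) F := φ.codRestrict (scalars (Fin r) F) (fun g => hps g g.2)
    haveI : IsCyclic (scalars (Fin r) F) := by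
      unfold scalars
      exact isCyclic_of_surjective _ (MonoidHom.rangeRestrict_surjective _)
    have hker : φ'.ker ≤ Subgroup.center N := by
      intro g hg
      rw [MonoidHom.mem_ker] at hg
      have h1 : (g : GL (Fin r) F) ^ r = 1 := by
        have := congrArg Subtype.val hg
        simpa [φ', hφ] using this
      have h2 : (g : GL (Fin r) F) ∈ scalars (Fin r) F := hcase ((hΩmem _).mpr ⟨g.2, h1⟩)
      rw [Subgroup.mem_center_iff]
      intro h
      apply Subtype.ext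
      rw [Subgroup.coe_mul, Subgroup.coe_mul]
      exact (ascesm_scalar_central h2 _).symm
    have hcm := (φ'.isMulCommutative_of_isCyclic_of_ker_le_center hker).is_comm.comm ⟨x, hx⟩ ⟨y, hy⟩
    exact hxy (congrArg Subtype.val hcm)
  · intro g hg
    have : g ∈ Ω := by rw [hcase]; exact hg
    exact ((hΩmem g).mp this).2

theorem asces1_det_one {r : ℕ} {g : GL (Fin r) F} (h : g ∈ specialLinear (Fin r) F) :
    (g : Matrix (Fin r) (Fin r) F).det = 1 := by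
  have h1 : Matrix.GeneralLinearGroup.det g = 1 := h
  have := congrArg Units.val h1
  simpa using this

theorem asces1_comm_mat {r : ℕ} (hr : r.Prime) {H N : Subgroup (GL (Fin r) F)} (hHSL : H ≤ specialLinear (Fin r) F)
    (hNH : N ≤ H) (hab : ⁅N, N⁆ ≤ scalars (Fin r) F) {ω : F} (hω1 : ω ≠ 1) (hωr : ω ^ r = 1)
    {a b : GL (Fin r) F} (ha : a ∈ N) (hb : b ∈ N) :
    ∃ k : ℕ, (a : Matrix (Fin r) (Fin r) F) * (b : Matrix (Fin r) (Fin r) F) =
      ω ^ k • ((b : Matrix (Fin r) (Fin r) F) * (a : Matrix (Fin r) (Fin r) F)) := by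
  obtain ⟨z, c, hzS, hzN, hcomm, hzm, hcr, hzr⟩ := asces1_comm hHSL hNH hab ha hb
  obtain ⟨k, -, hk⟩ := ascesm_pow_eq hr hω1 hωr hcr
  refine ⟨k, ?_⟩
  have h1 := congrArg (fun g : GL (Fin r) F => (g : Matrix (Fin r) (Fin r) F)) hcomm
  simp only [Units.val_mul, hzm, Matrix.smul_mul, one_mul] at h1
  rw [h1, hk]

theorem asces1_gen {r : ℕ} (hr : r.Prime) {H N : Subgroup (GL (Fin r) F)}
    (hHSL : H ≤ specialLinear (Fin r) F) (hNH : N ≤ H) (hab : ⁅N, N⁆ ≤ scalars (Fin r) F)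
    {x y : GL (Fin r) F} (hx : x ∈ N) (hy : y ∈ N) {ω : F} (hω1 : ω ≠ 1) (hωr : ω ^ r = 1)
    (comm : (x : Matrix (Fin r) (Fin r) F) * (y : Matrix (Fin r) (Fin r) F) =
      ω • ((y : Matrix (Fin r) (Fin r) F) * (x : Matrix (Fin r) (Fin r) F)))
    (xr : (x : Matrix (Fin r) (Fin r) F) ^ r = 1) (yr : (y : Matrix (Fin r) (Fin r) F) ^ r = 1) :
    ∀ g ∈ N, ∃ i j k : ℕ, (g : Matrix (Fin r) (Fin r) F) =
      (ω ^ k) • ((x : Matrix (Fin r) (Fin r) F) ^ i * (y : Matrix (Fin r) (Fin r) F) ^ j) := by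
  intro g hg
  obtain ⟨a, e1⟩ := asces1_comm_mat hr hHSL hNH hab hω1 hωr hx hg
  obtain ⟨b, e4⟩ := asces1_comm_mat hr hHSL hNH hab hω1 hωr hy hg
  set X : Matrix (Fin r) (Fin r) F := (x : Matrix (Fin r) (Fin r) F) with hX
  set Y : Matrix (Fin r) (Fin r) F := (y : Matrix (Fin r) (Fin r) F) with hY
  set G : Matrix (Fin r) (Fin r) F := (g : Matrix (Fin r) (Fin r) F) with hG
  set j : ℕ := (r - 1) * a with hj
  have e2 : X * Y ^ j = ω ^ j • (Y ^ j * X) := ascesk_comm_pow_right comm j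
  have e3 : X * X ^ b = X ^ b * X := by rw [← pow_succ', ← pow_succ]
  have e5 : X ^ b * Y = ω ^ b • (Y * X ^ b) := ascesk_comm_pow_left comm b
  have e6 : Y ^ j * Y = Y * Y ^ j := by rw [← pow_succ', ← pow_succ]
  have hpow1 : ω ^ a * ω ^ j = 1 := by
    rw [← pow_add, hj, show a + (r - 1) * a = r * a by
      have := hr.pos
      obtain ⟨m, rfl⟩ : ∃ m, r = m + 1 := ⟨r - 1, by omega⟩
      simp only [Nat.add_sub_cancel]; ring]
    rw [pow_mul, hωr, one_pow]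
  have hTX : (G * Y ^ j * X ^ b) * X = X * (G * Y ^ j * X ^ b) := by
    symm
    calc X * (G * Y ^ j * X ^ b) = (X * G) * Y ^ j * X ^ b := by simp only [mul_assoc]
      _ = (ω ^ a • (G * X)) * Y ^ j * X ^ b := by rw [e1]
      _ = ω ^ a • (G * (X * Y ^ j) * X ^ b) := by simp only [Matrix.smul_mul, mul_assoc]
      _ = ω ^ a • (G * (ω ^ j • (Y ^ j * X)) * X ^ b) := by rw [e2]
      _ = (ω ^ a * ω ^ j) • (G * Y ^ j * (X * X ^ b)) := by
        simp only [Matrix.smul_mul, Matrix.mul_smul, smul_smul, mul_assoc]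
      _ = (ω ^ a * ω ^ j) • (G * Y ^ j * (X ^ b * X)) := by rw [e3]
      _ = G * Y ^ j * X ^ b * X := by rw [hpow1, one_smul]; simp only [mul_assoc]
  have hTY : (G * Y ^ j * X ^ b) * Y = Y * (G * Y ^ j * X ^ b) := by
    calc (G * Y ^ j * X ^ b) * Y = G * Y ^ j * (X ^ b * Y) := by simp only [mul_assoc]
      _ = G * Y ^ j * (ω ^ b • (Y * X ^ b)) := by rw [e5]
      _ = ω ^ b • (G * (Y ^ j * Y) * X ^ b) := by simp only [Matrix.mul_smul, mul_assoc]
      _ = ω ^ b • (G * (Y * Y ^ j) * X ^ b) := by rw [e6]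
      _ = (ω ^ b • (G * Y)) * Y ^ j * X ^ b := by simp only [Matrix.smul_mul, mul_assoc]
      _ = (Y * G) * Y ^ j * X ^ b := by rw [e4]
      _ = Y * (G * Y ^ j * X ^ b) := by simp only [mul_assoc]
  obtain ⟨c, hc⟩ := ascesk_key hr hω1 hωr comm xr yr _ hTX hTY
  have hdet : c ^ r = 1 := by
    have h1 := congrArg Matrix.det hc
    rw [Matrix.det_mul, Matrix.det_mul, Matrix.det_pow, Matrix.det_pow, hG, hX, hY,
      asces1_det_one (hHSL (hNH hg)), asces1_det_one (hHSL (hNH hx)), asces1_det_one (hHSL (hNH hy)),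
      one_pow, one_pow, mul_one, mul_one, Matrix.det_smul, Matrix.det_one, mul_one, Fintype.card_fin] at h1
    exact h1.symm
  obtain ⟨k, -, hk⟩ := ascesm_pow_eq hr hω1 hωr hdet
  have hxx : X ^ b * X ^ ((r - 1) * b) = 1 := by
    rw [← pow_add, show b + (r - 1) * b = r * b by
      have := hr.pos
      obtain ⟨m, rfl⟩ : ∃ m, r = m + 1 := ⟨r - 1, by omega⟩
      simp only [Nat.add_sub_cancel]; ring]
    rw [pow_mul, xr, one_pow]
  have hyy : Y ^ j * Y ^ ((r - 1) * j) = 1 := by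
    rw [← pow_add, show j + (r - 1) * j = r * j by
      have := hr.pos
      obtain ⟨m, rfl⟩ : ∃ m, r = m + 1 := ⟨r - 1, by omega⟩
      simp only [Nat.add_sub_cancel]; ring]
    rw [pow_mul, yr, one_pow]
  refine ⟨(r - 1) * b, (r - 1) * j, k, ?_⟩
  calc G = G * (Y ^ j * (X ^ b * X ^ ((r - 1) * b)) * Y ^ ((r - 1) * j)) := by
        rw [hxx, mul_one, hyy, mul_one]
    _ = (G * Y ^ j * X ^ b) * (X ^ ((r - 1) * b) * Y ^ ((r - 1) * j)) := by simp only [mul_assoc]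
    _ = ω ^ k • (X ^ ((r - 1) * b) * Y ^ ((r - 1) * j)) := by
        rw [hc, Matrix.smul_mul, one_mul, hk]

theorem heis_exists {r : ℕ} (hr : r.Prime) (hr2 : r ≠ 2) {H N : Subgroup (GL (Fin r) F)}
    (hHSL : H ≤ specialLinear (Fin r) F) (hD : AllNormalAbsIrr H) (hN : MinNonscalar N H)
    (hab : ⁅N, N⁆ ≤ scalars (Fin r) F) :
    ∃ (x y : GL (Fin r) F) (ω : F), HeisData r N x y ω := by
  have hNH : N ≤ H := hN.1.1
  have hA : AbsIrr N := (hD N hN.1).resolve_left hN.2.1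
  obtain ⟨x, hx, y, hy, hxy⟩ := asces1_noncomm hr hA hN.2.1
  obtain ⟨z, ω, hzS, hzN, hcomm, hzm, hωr, hzr⟩ := asces1_comm hHSL hNH hab hx hy
  have hω1 : ω ≠ 1 := by
    rintro rfl
    apply hxy
    have hz1 : z = 1 := by
      apply Units.ext
      rw [hzm, one_smul, Units.val_one]
    rw [hcomm, hz1, one_mul]
  have comm : (x : Matrix (Fin r) (Fin r) F) * (y : Matrix (Fin r) (Fin r) F) =
      ω • ((y : Matrix (Fin r) (Fin r) F) * (x : Matrix (Fin r) (Fin r) F)) := by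
    have h1 := congrArg (fun g : GL (Fin r) F => (g : Matrix (Fin r) (Fin r) F)) hcomm
    simp only [Units.val_mul, hzm, Matrix.smul_mul, one_mul] at h1
    exact h1
  have hpow := asces1_pow_one hr hr2 hHSL hD hN hab
  have xr : (x : Matrix (Fin r) (Fin r) F) ^ r = 1 := by
    rw [← Units.val_pow_eq_pow_val, hpow x hx, Units.val_one]
  have yr : (y : Matrix (Fin r) (Fin r) F) ^ r = 1 := by
    rw [← Units.val_pow_eq_pow_val, hpow y hy, Units.val_one]
  exact ⟨x, y, ω, ⟨hx, hy, hω1, hωr, comm, hpow x hx, hpow y hy,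
    asces1_gen hr hHSL hNH hab hx hy hω1 hωr comm xr yr⟩⟩

end Cfsg.Agent.Lib.Helper27.ASC
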