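import Mathlib
import Cfsg.Agent.Lib.Helper27.ASC.Defs
import Cfsg.Agent.Lib.Helper1.ASCESK
import Cfsg.Agent.Lib.Helper1.ASCESM
import Cfsg.Agent.Lib.Helper1.ASCES0

set_option autoImplicit false
set_option linter.unusedVariables false
set_option linter.unusedSectionVars false
set_option linter.style.haveILetI false

namespace Cfsg.Agent.Lib.Helper27.ASC

open Cfsg Cfsg.Geo
open scoped MatrixGroups Matrix

variable {n : ℕ} {F : Type*} [Field F] [Fintype F]

theorem asces2_z {r : ℕ} {N : Subgroup (GL (Fin r) F)} {x y : GL (Fin r) F} {ω : F}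
    (hd : HeisData r N x y ω) :
    x * y * x⁻¹ * y⁻¹ ∈ N ∧
      ((x * y * x⁻¹ * y⁻¹ : GL (Fin r) F) : Matrix (Fin r) (Fin r) F) = ω • (1 : Matrix (Fin r) (Fin r) F) := by
  refine ⟨N.mul_mem (N.mul_mem (N.mul_mem hd.hx hd.hy) (N.inv_mem hd.hx)) (N.inv_mem hd.hy), ?_⟩
  have h1 : ((y : Matrix (Fin r) (Fin r) F)) * (((y⁻¹ : GL (Fin r) F)) : Matrix (Fin r) (Fin r) F) = 1 := by
    rw [← Units.val_mul, mul_inv_cancel, Units.val_one]
  have h2 : ((x : Matrix (Fin r) (Fin r) F)) * (((x⁻¹ : GL (Fin r) F)) : Matrix (Fin r) (Fin r) F) = 1 := by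
    rw [← Units.val_mul, mul_inv_cancel, Units.val_one]
  rw [Units.val_mul, Units.val_mul, Units.val_mul, hd.comm, Matrix.smul_mul, Matrix.smul_mul]
  congr 1
  calc (y : Matrix (Fin r) (Fin r) F) * (x : Matrix (Fin r) (Fin r) F) * ((x⁻¹ : GL (Fin r) F) : Matrix (Fin r) (Fin r) F) *
        ((y⁻¹ : GL (Fin r) F) : Matrix (Fin r) (Fin r) F)
      = (y : Matrix (Fin r) (Fin r) F) * ((x : Matrix (Fin r) (Fin r) F) * ((x⁻¹ : GL (Fin r) F) : Matrix (Fin r) (Fin r) F)) *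
        ((y⁻¹ : GL (Fin r) F) : Matrix (Fin r) (Fin r) F) := by simp only [mul_assoc]
    _ = 1 := by rw [h2, mul_one, h1]

theorem asces2_pow_r {r : ℕ} (hr : r.Prime) (hr2 : r ≠ 2) {N : Subgroup (GL (Fin r) F)} {x y : GL (Fin r) F} {ω : F}
    (hd : HeisData r N x y ω) : ∀ g ∈ N, g ^ r = 1 := by
  intro g hg
  obtain ⟨i, j, k, hgm⟩ := hd.gen g hg
  apply Units.ext
  rw [Units.val_pow_eq_pow_val, Units.val_one, hgm]
  have hc := ascesk_comm_pow hd.comm i j
  have hZ : (x : Matrix (Fin r) (Fin r) F) ^ i * (y : Matrix (Fin r) (Fin r) F) ^ j =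
      (ω ^ (i * j) • (1 : Matrix (Fin r) (Fin r) F)) *
        ((y : Matrix (Fin r) (Fin r) F) ^ j * (x : Matrix (Fin r) (Fin r) F) ^ i) := by
    rw [hc, Matrix.smul_mul, one_mul]
  have hcomm : ∀ A : Matrix (Fin r) (Fin r) F, Commute (ω ^ (i * j) • (1 : Matrix (Fin r) (Fin r) F)) A := by
    intro A
    change _ * _ = _ * _
    rw [Matrix.smul_mul, Matrix.mul_smul, one_mul, mul_one]
  have hzr : (ω ^ (i * j) • (1 : Matrix (Fin r) (Fin r) F)) ^ r = 1 := by
    rw [smul_pow, one_pow, ← pow_mul, mul_comm, pow_mul, hd.hωr, one_pow, one_smul]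
  have h1 := ascesm_mul_pow_prime hZ (hcomm _) (hcomm _) hr hr2 hzr
  have hx' : ((x : Matrix (Fin r) (Fin r) F) ^ i) ^ r = 1 := by
    rw [← pow_mul, mul_comm, pow_mul, asces0_xr hd, one_pow]
  have hy' : ((y : Matrix (Fin r) (Fin r) F) ^ j) ^ r = 1 := by
    rw [← pow_mul, mul_comm, pow_mul, asces0_yr hd, one_pow]
  rw [hc, smul_pow, smul_pow, h1, hx', hy', mul_one, smul_smul, ← pow_mul, ← pow_mul, ← pow_add]
  rw [show k * r + i * j * r = r * (k + i * j) by ring, pow_mul, hd.hωr, one_pow, one_smul]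

theorem asces2_x_ne_one {r : ℕ} (hr : 0 < r) {N : Subgroup (GL (Fin r) F)} {x y : GL (Fin r) F} {ω : F}
    (hd : HeisData r N x y ω) : x ≠ 1 := by
  rintro rfl
  have h := hd.comm
  rw [Units.val_one, one_mul, mul_one] at h
  have h2 : ((1 : F) - ω) • (y : Matrix (Fin r) (Fin r) F) = 0 := by
    rw [sub_smul, one_smul, ← h, sub_self]
  rcases smul_eq_zero.mp h2 with h3 | h3
  · exact hd.hω1 (sub_eq_zero.mp h3).symm
  · have hu := y.isUnit
    rw [h3] at hu
    haveI : Nonempty (Fin r) := ⟨⟨0, hr⟩⟩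
    exact not_isUnit_zero hu

theorem heis_group {r : ℕ} (hr : r.Prime) (hr2 : r ≠ 2) {N : Subgroup (GL (Fin r) F)} {x y : GL (Fin r) F} {ω : F}
    (hd : HeisData r N x y ω) :
    IsPGroup r N ∧ Monoid.exponent N = r ∧ Nat.card N = r ^ (1 + 2 * 1) ∧ Nat.card (Subgroup.center N) = r := by
  have hpow := asces2_pow_r hr hr2 hd
  have hpowN : ∀ g : N, g ^ r = 1 := fun g => Subtype.ext (by
    rw [Subgroup.coe_pow, Subgroup.coe_one]; exact hpow g g.2)
  obtain ⟨hzN, hzm⟩ := asces2_z hd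
  set z : GL (Fin r) F := x * y * x⁻¹ * y⁻¹ with hz
  have hzpow : ∀ k : ℕ, ((z ^ k : GL (Fin r) F) : Matrix (Fin r) (Fin r) F) = ω ^ k • (1 : Matrix (Fin r) (Fin r) F) := by
    intro k
    rw [Units.val_pow_eq_pow_val, hzm, smul_pow, one_pow]
  have hzs : z ∈ scalars (Fin r) F := ascesm_scalar_of_mat hr.pos z ω hzm
  have hXr := asces0_xr hd
  have hYr := asces0_yr hd
  refine ⟨?_, ?_, ?_, ?_⟩
  · intro g
    exact ⟨1, by rw [pow_one]; exact hpowN g⟩
  · have hdvd : Monoid.exponent N ∣ r := Monoid.exponent_dvd_of_forall_pow_eq_one hpowN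
    rcases (Nat.dvd_prime hr).mp hdvd with h1 | h1
    · exfalso
      rw [Monoid.exp_eq_one_iff] at h1
      have : (⟨x, hd.hx⟩ : N) = 1 := Subsingleton.elim _ _
      exact asces2_x_ne_one hr.pos hd (congrArg Subtype.val this)
    · exact h1
  · let Φ : Fin r × Fin r × Fin r → N := fun t =>
      ⟨z ^ (t.1 : ℕ) * x ^ (t.2.1 : ℕ) * y ^ (t.2.2 : ℕ),
        N.mul_mem (N.mul_mem (N.pow_mem hzN _) (N.pow_mem hd.hx _)) (N.pow_mem hd.hy _)⟩
    have hΦm : ∀ t, ((Φ t : GL (Fin r) F) : Matrix (Fin r) (Fin r) F) =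
        ω ^ (t.1 : ℕ) • ((x : Matrix (Fin r) (Fin r) F) ^ (t.2.1 : ℕ) * (y : Matrix (Fin r) (Fin r) F) ^ (t.2.2 : ℕ)) := by
      intro t
      change ((z ^ (t.1 : ℕ) * x ^ (t.2.1 : ℕ) * y ^ (t.2.2 : ℕ) : GL (Fin r) F) : Matrix (Fin r) (Fin r) F) = _
      rw [Units.val_mul, Units.val_mul, hzpow, Units.val_pow_eq_pow_val, Units.val_pow_eq_pow_val,
        Matrix.smul_mul, Matrix.smul_mul, one_mul]
    have hinj : Function.Injective Φ := by
      intro t t' htt
      have h1 := congrArg (fun g : N => ((g : GL (Fin r) F) : Matrix (Fin r) (Fin r) F)) htt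
      simp only [hΦm] at h1
      obtain ⟨e1, e2, e3⟩ := ascesk_inj hr hd.hω1 hd.hωr hd.comm hXr hYr t.2.1.2 t.2.2.2 t.1.2 t'.2.1.2 t'.2.2.2 t'.1.2 h1
      exact Prod.ext (Fin.ext e3) (Prod.ext (Fin.ext e1) (Fin.ext e2))
    have hsurj : Function.Surjective Φ := by
      intro g
      obtain ⟨i, j, k, hgm⟩ := hd.gen g g.2
      refine ⟨(⟨k % r, Nat.mod_lt _ hr.pos⟩, ⟨i % r, Nat.mod_lt _ hr.pos⟩, ⟨j % r, Nat.mod_lt _ hr.pos⟩), ?_⟩
      apply Subtype.ext
      apply Units.ext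
      rw [hΦm, hgm]
      simp only
      rw [← pow_eq_pow_mod k hd.hωr, ← pow_eq_pow_mod i hXr, ← pow_eq_pow_mod j hYr]
    have hcard := Nat.card_congr (Equiv.ofBijective Φ ⟨hinj, hsurj⟩)
    rw [← hcard, Nat.card_prod, Nat.card_prod, Nat.card_fin]
    ring
  · have hmap : (Subgroup.center N).map N.subtype = Subgroup.zpowers z := by
      ext g
      constructor
      · rintro ⟨c, hc, rfl⟩
        have hcx : c * ⟨x, hd.hx⟩ = ⟨x, hd.hx⟩ * c := (Subgroup.mem_center_iff.mp hc ⟨x, hd.hx⟩).symm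
        have hcy : c * ⟨y, hd.hy⟩ = ⟨y, hd.hy⟩ * c := (Subgroup.mem_center_iff.mp hc ⟨y, hd.hy⟩).symm
        have hcx' : ((c : GL (Fin r) F) : Matrix (Fin r) (Fin r) F) * (x : Matrix (Fin r) (Fin r) F) =
            (x : Matrix (Fin r) (Fin r) F) * ((c : GL (Fin r) F) : Matrix (Fin r) (Fin r) F) := by
          have := congrArg (fun g : N => ((g : GL (Fin r) F) : Matrix (Fin r) (Fin r) F)) hcx
          simpa using this
        have hcy' : ((c : GL (Fin r) F) : Matrix (Fin r) (Fin r) F) * (y : Matrix (Fin r) (Fin r) F) =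
            (y : Matrix (Fin r) (Fin r) F) * ((c : GL (Fin r) F) : Matrix (Fin r) (Fin r) F) := by
          have := congrArg (fun g : N => ((g : GL (Fin r) F) : Matrix (Fin r) (Fin r) F)) hcy
          simpa using this
        obtain ⟨t, ht⟩ := ascesk_key hr hd.hω1 hd.hωr hd.comm hXr hYr _ hcx' hcy'
        have htr : t ^ r = 1 := by
          have h1 := hpow c c.2
          have h2 := congrArg (fun g : GL (Fin r) F => (g : Matrix (Fin r) (Fin r) F)) h1
          simp only [Units.val_pow_eq_pow_val, Units.val_one, ht, smul_pow, one_pow] at h2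
          have h3 := congrFun (congrFun h2 ⟨0, hr.pos⟩) ⟨0, hr.pos⟩
          simpa using h3
        obtain ⟨k, -, hk⟩ := ascesm_pow_eq hr hd.hω1 hd.hωr htr
        refine ⟨(k : ℤ), ?_⟩
        apply Units.ext
        change ((z ^ (k : ℤ) : GL (Fin r) F) : Matrix (Fin r) (Fin r) F) = ((c : GL (Fin r) F) : Matrix (Fin r) (Fin r) F)
        rw [zpow_natCast, hzpow, ht, hk]
      · rintro ⟨k, rfl⟩
        have hk : z ^ k ∈ N := N.zpow_mem hzN k
        refine ⟨⟨z ^ k, hk⟩, Subgroup.mem_center_iff.mpr ?_, rfl⟩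
        intro g
        apply Subtype.ext
        change (g : GL (Fin r) F) * z ^ k = z ^ k * (g : GL (Fin r) F)
        exact (ascesm_scalar_central ((scalars (Fin r) F).zpow_mem hzs k) _).symm
    have h1 : Nat.card (Subgroup.center N) = Nat.card ((Subgroup.center N).map N.subtype) :=
      (Subgroup.card_map_of_injective N.subtype_injective).symm
    rw [h1, hmap, Nat.card_zpowers]
    haveI : Fact r.Prime := ⟨hr⟩
    apply orderOf_eq_prime
    · apply Units.ext
      rw [hzpow, hd.hωr, one_smul, Units.val_one]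
    · intro h
      have h2 := congrArg (fun g : GL (Fin r) F => (g : Matrix (Fin r) (Fin r) F)) h
      simp only [hzm, Units.val_one] at h2
      have h3 := congrFun (congrFun h2 ⟨0, hr.pos⟩) ⟨0, hr.pos⟩
      apply hd.hω1
      simpa using h3

end Cfsg.Agent.Lib.Helper27.ASC
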