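import Mathlib
import Cfsg.Agent.Lib.Helper27.ASC.Defs
import Cfsg.Agent.Lib.Helper1.ASCESK
import Cfsg.Agent.Lib.Helper1.ASCES0

set_option autoImplicit false
set_option linter.unusedVariables false
set_option linter.unusedSectionVars false
set_option linter.style.haveILetI false

namespace Cfsg.Agent.Lib.Helper27.ASC

open Cfsg Cfsg.Geo
open scoped MatrixGroups Matrix

variable {n : ℕ} {F : Type*} [Field F] [Fintype F]

theorem asces4_conj {r : ℕ} (hr : r.Prime) {N : Subgroup (GL (Fin r) F)} {x y : GL (Fin r) F} {ω : F}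
    (hd : HeisData r N x y ω) :
    ∃ (B : GL (Fin r) F) (i0 : ℕ), ∀ g ∈ N, ∃ i j k : ℕ,
      (B : Matrix (Fin r) (Fin r) F) * (g : Matrix (Fin r) (Fin r) F) * ((B⁻¹ : GL (Fin r) F) : Matrix (Fin r) (Fin r) F) =
        (ω ^ k) • (((ω ^ i0) • Matrix.diagonal (fun i : Fin r => ω ^ (i : ℕ))) ^ i *
          (Matrix.of (fun j i : Fin r => if j = finRotate r i then (1 : F) else 0)) ^ j) := by
  obtain ⟨B, i0, h1, h2⟩ := asces0_std hr hd
  refine ⟨B, i0, fun g hg => ?_⟩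
  obtain ⟨i, j, k, hg⟩ := hd.gen g hg
  refine ⟨i, j, k, ?_⟩
  rw [hg, Matrix.mul_smul, Matrix.smul_mul, ← h1, ← h2, Units.conj_pow, Units.conj_pow]
  congr 1
  have hBB : ((B⁻¹ : GL (Fin r) F) : Matrix (Fin r) (Fin r) F) * (B : Matrix (Fin r) (Fin r) F) = 1 := by
    rw [← Units.val_mul, inv_mul_cancel, Units.val_one]
  calc (B : Matrix (Fin r) (Fin r) F) * ((x : Matrix (Fin r) (Fin r) F) ^ i * (y : Matrix (Fin r) (Fin r) F) ^ j) *
        ((B⁻¹ : GL (Fin r) F) : Matrix (Fin r) (Fin r) F)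
      = (B : Matrix (Fin r) (Fin r) F) * (x : Matrix (Fin r) (Fin r) F) ^ i * 1 * (y : Matrix (Fin r) (Fin r) F) ^ j *
        ((B⁻¹ : GL (Fin r) F) : Matrix (Fin r) (Fin r) F) := by simp only [mul_one, mul_assoc]
    _ = _ := by rw [← hBB]; simp only [mul_assoc]

theorem asces4_entries (F₀ : Subfield F) {m : Type*} [Fintype m] [DecidableEq m] :
    (∀ i j, (1 : Matrix m m F) i j ∈ F₀) ∧
    (∀ A B : Matrix m m F, (∀ i j, A i j ∈ F₀) → (∀ i j, B i j ∈ F₀) → ∀ i j, (A * B) i j ∈ F₀) ∧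
    (∀ (c : F) (A : Matrix m m F), c ∈ F₀ → (∀ i j, A i j ∈ F₀) → ∀ i j, (c • A) i j ∈ F₀) := by
  refine ⟨fun i j => ?_, fun A B hA hB i j => ?_, fun c A hc hA i j => ?_⟩
  · by_cases h : i = j
    · subst h; simp [one_mem]
    · simp [h, zero_mem]
  · rw [Matrix.mul_apply]
    exact Subfield.sum_mem _ (fun l _ => mul_mem (hA i l) (hB l j))
  · rw [Matrix.smul_apply, smul_eq_mul]
    exact mul_mem hc (hA i j)

theorem asces4_entries_pow (F₀ : Subfield F) {m : Type*} [Fintype m] [DecidableEq m] (A : Matrix m m F)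
    (hA : ∀ i j, A i j ∈ F₀) (k : ℕ) : ∀ i j, (A ^ k) i j ∈ F₀ := by
  induction k with
  | zero => rw [pow_zero]; exact (asces4_entries F₀).1
  | succ k ih => rw [pow_succ]; exact (asces4_entries F₀).2.1 _ _ ih hA

theorem heis_realisable {r : ℕ} (hr : r.Prime) {N : Subgroup (GL (Fin r) F)} {x y : GL (Fin r) F} {ω : F}
    (hd : HeisData r N x y ω) (F₀ : Subfield F) (hω : ω ∈ F₀) : RealisableOver F₀ (matrixSet N) := by
  obtain ⟨B, i0, hB⟩ := asces4_conj hr hd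
  refine ⟨B, ?_⟩
  rintro s ⟨g, hg, rfl⟩
  obtain ⟨i, j, k, h⟩ := hB g hg
  change ∀ a b, ((B : Matrix (Fin r) (Fin r) F) * (g : Matrix (Fin r) (Fin r) F) *
    ((B⁻¹ : GL (Fin r) F) : Matrix (Fin r) (Fin r) F)) a b ∈ F₀
  rw [h]
  have hD : ∀ a b, ((ω ^ i0) • Matrix.diagonal (fun i : Fin r => ω ^ (i : ℕ))) a b ∈ F₀ := by
    apply (asces4_entries F₀).2.2 _ _ (pow_mem hω _)
    intro a b
    by_cases hab : a = b
    · subst hab; simp [pow_mem hω]
    · simp [hab, zero_mem]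
  have hR : ∀ a b, (Matrix.of (fun j i : Fin r => if j = finRotate r i then (1 : F) else 0)) a b ∈ F₀ := by
    intro a b
    simp only [Matrix.of_apply]
    split_ifs
    · exact one_mem _
    · exact zero_mem _
  exact (asces4_entries F₀).2.2 _ _ (pow_mem hω _)
    ((asces4_entries F₀).2.1 _ _ (asces4_entries_pow F₀ _ hD i) (asces4_entries_pow F₀ _ hR j))

end Cfsg.Agent.Lib.Helper27.ASC
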