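import Mathlib
import Cfsg.Agent.Lib.Helper27.ASC.Defs
import Cfsg.Agent.Lib.Helper1.ASCESK
import Cfsg.Agent.Lib.Helper1.ASCES0
import Cfsg.Agent.Lib.Helper1.ASCES4

set_option autoImplicit false
set_option linter.unusedVariables false
set_option linter.unusedSectionVars false
set_option linter.style.haveILetI false

namespace Cfsg.Agent.Lib.Helper27.ASC

open Cfsg Cfsg.Geo
open scoped MatrixGroups Matrix

variable {n : ℕ} {F : Type*} [Field F] [Fintype F]

theorem asces5_sigma (q₀ : ℕ) (hq : Fintype.card F = q₀ ^ 2) :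
    ∃ σ : F ≃+* F, (∀ a, σ a = a ^ q₀) ∧ σ ≠ RingEquiv.refl F ∧ ∀ a, σ (σ a) = a := by
  classical
  obtain ⟨p, hpc⟩ := CharP.exists F
  haveI := hpc
  obtain ⟨e, hp, hcard⟩ := FiniteField.card F p
  haveI : Fact p.Prime := ⟨hp⟩
  haveI : ExpChar F p := ExpChar.prime hp
  have hdvd : q₀ ∣ p ^ (e : ℕ) := by
    rw [← hcard, hq]
    exact Dvd.intro_left (q₀ ^ 1) (by ring)
  obtain ⟨k, -, hk⟩ := (Nat.dvd_prime_pow hp).mp hdvd
  have hσ : ∀ a, iterateFrobeniusEquiv F p k a = a ^ q₀ := by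
    intro a
    rw [iterateFrobeniusEquiv_def, hk]
  have hq2 : 2 ≤ q₀ := by
    have h1 : 1 < Fintype.card F := Fintype.one_lt_card
    rw [hq] at h1
    by_contra hlt
    have : q₀ ≤ 1 := by omega
    have : q₀ ^ 2 ≤ 1 := by
      calc q₀ ^ 2 ≤ 1 ^ 2 := Nat.pow_le_pow_left this 2
        _ = 1 := by norm_num
    omega
  refine ⟨iterateFrobeniusEquiv F p k, hσ, ?_, ?_⟩
  · intro hrefl
    have hall : ∀ a : F, a ^ q₀ = a := by
      intro a
      rw [← hσ a, hrefl]
      rfl
    have hne : (Polynomial.X ^ q₀ - Polynomial.X : Polynomial F) ≠ 0 :=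
      FiniteField.X_pow_card_sub_X_ne_zero F (by omega)
    have hdeg : (Polynomial.X ^ q₀ - Polynomial.X : Polynomial F).natDegree = q₀ :=
      FiniteField.X_pow_card_sub_X_natDegree_eq F (by omega)
    have hsub : (Finset.univ : Finset F) ⊆ (Polynomial.X ^ q₀ - Polynomial.X : Polynomial F).roots.toFinset := by
      intro a _
      rw [Multiset.mem_toFinset, Polynomial.mem_roots hne]
      simp [hall a]
    have h1 := Finset.card_le_card hsub
    have h2 := Multiset.toFinset_card_le (Polynomial.X ^ q₀ - Polynomial.X : Polynomial F).roots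
    have h3 := Polynomial.card_roots' (Polynomial.X ^ q₀ - Polynomial.X : Polynomial F)
    rw [Finset.card_univ, hq] at h1
    rw [hdeg] at h3
    have h4 : q₀ ^ 2 ≤ q₀ := h1.trans (h2.trans h3)
    nlinarith
  · intro a
    rw [hσ, hσ, ← pow_mul, ← sq, ← hq, FiniteField.pow_card]

def asces5_h (σ : F ≃+* F) {m : Type*} [Fintype m] (a b : m → F) : F := ∑ i, a i * σ (b i)

theorem asces5_h_diag (σ : F ≃+* F) {m : Type*} [Fintype m] [DecidableEq m] (d : m → F)
    (hd : ∀ l, d l * σ (d l) = 1) (a b : m → F) :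
    asces5_h σ (Matrix.diagonal d *ᵥ a) (Matrix.diagonal d *ᵥ b) = asces5_h σ a b := by
  unfold asces5_h
  refine Finset.sum_congr rfl (fun l _ => ?_)
  rw [Matrix.mulVec_diagonal, Matrix.mulVec_diagonal, map_mul]
  calc d l * a l * (σ (d l) * σ (b l)) = (d l * σ (d l)) * (a l * σ (b l)) := by ring
    _ = _ := by rw [hd, one_mul]

theorem asces5_h_perm (σ : F ≃+* F) {m : Type*} [Fintype m] [DecidableEq m] (π : Equiv.Perm m) (a b : m → F) :
    asces5_h σ ((Matrix.of (fun j i : m => if j = π i then (1 : F) else 0)) *ᵥ a)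
      ((Matrix.of (fun j i : m => if j = π i then (1 : F) else 0)) *ᵥ b) = asces5_h σ a b := by
  have h1 : ∀ c : m → F, (Matrix.of (fun j i : m => if j = π i then (1 : F) else 0)) *ᵥ c = fun j => c (π.symm j) := by
    intro c
    ext j
    simp only [Matrix.mulVec, dotProduct, Matrix.of_apply]
    rw [Finset.sum_eq_single (π.symm j)]
    · simp
    · intro i _ hi
      have : j ≠ π i := by
        intro h
        apply hi
        rw [h, Equiv.symm_apply_apply]
      simp [this]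
    · simp
  rw [h1, h1]
  unfold asces5_h
  exact Equiv.sum_comp π.symm (fun i => a i * σ (b i))

theorem heis_unitary {r : ℕ} (hr : r.Prime) {N : Subgroup (GL (Fin r) F)} {x y : GL (Fin r) F} {ω : F}
    (hd : HeisData r N x y ω) (q₀ : ℕ) (hq : Fintype.card F = q₀ ^ 2) (hω : ω ^ (q₀ + 1) = 1) :
    ∃ (σ : F ≃+* F) (f : (Fin r → F) → (Fin r → F) → F), IsUnitaryForm σ f ∧ FixesForm (matrixSet N) f := by
  obtain ⟨σ, hσ, hσne, hσinv⟩ := asces5_sigma (F := F) q₀ hq
  obtain ⟨B, i0, hB⟩ := asces4_conj hr hd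
  have hBB : ((B⁻¹ : GL (Fin r) F) : Matrix (Fin r) (Fin r) F) * (B : Matrix (Fin r) (Fin r) F) = 1 := by
    rw [← Units.val_mul, inv_mul_cancel, Units.val_one]
  have hBB' : (B : Matrix (Fin r) (Fin r) F) * ((B⁻¹ : GL (Fin r) F) : Matrix (Fin r) (Fin r) F) = 1 := by
    rw [← Units.val_mul, mul_inv_cancel, Units.val_one]
  refine ⟨σ, fun u v => asces5_h σ ((B : Matrix (Fin r) (Fin r) F) *ᵥ u) ((B : Matrix (Fin r) (Fin r) F) *ᵥ v), ?_, ?_⟩
  · refine ⟨hσne, hσinv, ?_, ?_, ?_, ?_⟩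
    · intro a b v
      simp only [asces5_h, Matrix.mulVec_add, Pi.add_apply, add_mul, Finset.sum_add_distrib]
    · intro c a v
      simp only [asces5_h, Matrix.mulVec_smul, Pi.smul_apply, smul_eq_mul, Finset.mul_sum, mul_assoc]
    · intro v w
      simp only [asces5_h, map_sum, map_mul, hσinv]
      exact Finset.sum_congr rfl (fun i _ => mul_comm _ _)
    · intro v hv
      have hBv : (B : Matrix (Fin r) (Fin r) F) *ᵥ v ≠ 0 := by
        intro h0
        apply hv
        have := congrArg (fun w => ((B⁻¹ : GL (Fin r) F) : Matrix (Fin r) (Fin r) F) *ᵥ w) h0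
        simpa [Matrix.mulVec_mulVec, hBB] using this
      obtain ⟨i, hi⟩ : ∃ i, ((B : Matrix (Fin r) (Fin r) F) *ᵥ v) i ≠ 0 := by
        by_contra hcon
        push Not at hcon
        exact hBv (funext hcon)
      have hx : (B : Matrix (Fin r) (Fin r) F) *ᵥ (((B⁻¹ : GL (Fin r) F) : Matrix (Fin r) (Fin r) F) *ᵥ (Pi.single i 1))
          = Pi.single i 1 := by
        rw [Matrix.mulVec_mulVec, hBB', Matrix.one_mulVec]
      refine ⟨⟨((B⁻¹ : GL (Fin r) F) : Matrix (Fin r) (Fin r) F) *ᵥ (Pi.single i 1), ?_⟩,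
        ⟨((B⁻¹ : GL (Fin r) F) : Matrix (Fin r) (Fin r) F) *ᵥ (Pi.single i 1), ?_⟩⟩
      · change asces5_h σ _ _ ≠ 0
        rw [hx]
        unfold asces5_h
        rw [Finset.sum_eq_single i]
        · simpa using hi
        · intro l _ hl
          simp [Pi.single_apply, hl]
        · simp
      · change asces5_h σ _ _ ≠ 0
        rw [hx]
        unfold asces5_h
        rw [Finset.sum_eq_single i]
        · simpa using hi
        · intro l _ hl
          simp [Pi.single_apply, hl]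
        · simp
  · rintro s ⟨g, hg, rfl⟩ u v
    obtain ⟨i, j, k, h⟩ := hB g hg
    have hconj : ∀ w : Fin r → F, (B : Matrix (Fin r) (Fin r) F) *ᵥ ((g : Matrix (Fin r) (Fin r) F) *ᵥ w) =
        ((B : Matrix (Fin r) (Fin r) F) * (g : Matrix (Fin r) (Fin r) F) *
          ((B⁻¹ : GL (Fin r) F) : Matrix (Fin r) (Fin r) F)) *ᵥ ((B : Matrix (Fin r) (Fin r) F) *ᵥ w) := by
      intro w
      rw [Matrix.mulVec_mulVec, Matrix.mulVec_mulVec, mul_assoc, mul_assoc, hBB, mul_one]
    change asces5_h σ ((B : Matrix (Fin r) (Fin r) F) *ᵥ ((g : Matrix (Fin r) (Fin r) F) *ᵥ u))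
      ((B : Matrix (Fin r) (Fin r) F) *ᵥ ((g : Matrix (Fin r) (Fin r) F) *ᵥ v)) = _
    rw [hconj, hconj, h]
    have hpowω : ∀ m : ℕ, ω ^ m * σ (ω ^ m) = 1 := by
      intro m
      rw [hσ, ← pow_succ', ← pow_mul, mul_comm, pow_mul, hω, one_pow]
    have hU : ∀ M : Matrix (Fin r) (Fin r) F,
        (∀ a b, asces5_h σ (M *ᵥ a) (M *ᵥ b) = asces5_h σ a b) → ∀ (t : ℕ) (a b : Fin r → F),
          asces5_h σ ((M ^ t) *ᵥ a) ((M ^ t) *ᵥ b) = asces5_h σ a b := by
      intro M hM t
      induction t with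
      | zero => intro a b; simp
      | succ t ih =>
        intro a b
        rw [pow_succ, ← Matrix.mulVec_mulVec, ← Matrix.mulVec_mulVec, ih, hM]
    have hDd : (ω ^ i0) • Matrix.diagonal (fun l : Fin r => ω ^ (l : ℕ)) =
        Matrix.diagonal (fun l : Fin r => ω ^ (i0 + (l : ℕ))) := by
      rw [← Matrix.diagonal_smul]
      congr 1
      ext l
      simp [pow_add]
    simp only [hDd, Matrix.smul_eq_diagonal_mul, ← Matrix.mulVec_mulVec]
    rw [asces5_h_diag σ _ (fun _ => hpowω k), hU _ (asces5_h_diag σ _ (fun l => hpowω _)) i,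
      hU _ (asces5_h_perm σ (finRotate r)) j]

end Cfsg.Agent.Lib.Helper27.ASC
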