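import Mathlib
import Cfsg.Prelude.Def_GeometricClasses
import Cfsg.Agent.Lib.Helper27.ASC.Defs
import Cfsg.Agent.Lib.helper8.ASCSCHURN

set_option autoImplicit false
set_option linter.unusedVariables false
set_option linter.unusedSectionVars false
set_option linter.style.haveILetI false

namespace Cfsg.Agent.Lib.Helper27.ASC

open Cfsg Cfsg.Geo
open scoped MatrixGroups Matrix

variable {n : ℕ} {F : Type*} [Field F] [Fintype F]

def asgZ (N : Subgroup (GL (Fin n) F)) : Subalgebra F (Matrix (Fin n) (Fin n) F) :=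
  centAlg N ⊓ Subalgebra.centralizer F (centAlg N : Set (Matrix (Fin n) (Fin n) F))

theorem asgclif_mem_Z {N : Subgroup (GL (Fin n) F)} {z : Matrix (Fin n) (Fin n) F} :
    z ∈ asgZ N ↔ z ∈ centAlg N ∧ ∀ c ∈ centAlg N, c * z = z * c := by
  unfold asgZ
  rw [Algebra.mem_inf, Subalgebra.mem_centralizer_iff]
  rfl

theorem asgclif_Z_comm {N : Subgroup (GL (Fin n) F)} {x y : Matrix (Fin n) (Fin n) F}
    (hx : x ∈ asgZ N) (hy : y ∈ asgZ N) : x * y = y * x :=
  (asgclif_mem_Z.mp hy).2 x (asgclif_mem_Z.mp hx).1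

theorem asgclif_conj_mem {H N : Subgroup (GL (Fin n) F)} (hN : NormalIn N H) (h : GL (Fin n) F)
    (hh : h ∈ H) (z : Matrix (Fin n) (Fin n) F) (hz : z ∈ asgZ N) :
    (h : Matrix (Fin n) (Fin n) F) * z * ((h⁻¹ : GL (Fin n) F) : Matrix (Fin n) (Fin n) F) ∈ asgZ N := by
  obtain ⟨hz1, hz2⟩ := asgclif_mem_Z.mp hz
  refine asgclif_mem_Z.mpr ⟨ascschurn_aux hN h hh z hz1, fun c hc => ?_⟩
  have hc' := ascschurn_aux hN h⁻¹ (H.inv_mem hh) c hc
  rw [inv_inv] at hc'
  have h1 := hz2 _ hc'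
  have e1 : (h : Matrix (Fin n) (Fin n) F) * ((h⁻¹ : GL (Fin n) F) : Matrix (Fin n) (Fin n) F) = 1 := by
    rw [← Units.val_mul, mul_inv_cancel, Units.val_one]
  calc c * ((h : Matrix (Fin n) (Fin n) F) * z * ((h⁻¹ : GL (Fin n) F) : Matrix (Fin n) (Fin n) F))
      = ((h : Matrix (Fin n) (Fin n) F) * ((h⁻¹ : GL (Fin n) F) : Matrix (Fin n) (Fin n) F)) * c *
          ((h : Matrix (Fin n) (Fin n) F) * z * ((h⁻¹ : GL (Fin n) F) : Matrix (Fin n) (Fin n) F)) := by
        rw [e1, one_mul]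
    _ = (h : Matrix (Fin n) (Fin n) F) * ((((h⁻¹ : GL (Fin n) F) : Matrix (Fin n) (Fin n) F) * c *
          (h : Matrix (Fin n) (Fin n) F)) * z) * ((h⁻¹ : GL (Fin n) F) : Matrix (Fin n) (Fin n) F) := by
        simp only [mul_assoc]
    _ = (h : Matrix (Fin n) (Fin n) F) * (z * (((h⁻¹ : GL (Fin n) F) : Matrix (Fin n) (Fin n) F) * c *
          (h : Matrix (Fin n) (Fin n) F))) * ((h⁻¹ : GL (Fin n) F) : Matrix (Fin n) (Fin n) F) := by
        rw [h1]
    _ = (h : Matrix (Fin n) (Fin n) F) * z * ((h⁻¹ : GL (Fin n) F) : Matrix (Fin n) (Fin n) F) *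
          (c * ((h : Matrix (Fin n) (Fin n) F) * ((h⁻¹ : GL (Fin n) F) : Matrix (Fin n) (Fin n) F))) := by
        simp only [mul_assoc]
    _ = _ := by rw [e1, mul_one]

theorem asgclif_normalizes_Z {H N : Subgroup (GL (Fin n) F)} (hN : NormalIn N H) :
    H ≤ subalgebraNormalizer (asgZ N) := by
  intro h hh k
  constructor
  · exact asgclif_conj_mem hN h hh k
  · intro hk
    have h2 := asgclif_conj_mem hN h⁻¹ (H.inv_mem hh) _ hk
    rw [inv_inv] at h2
    have e2 : ((h⁻¹ : GL (Fin n) F) : Matrix (Fin n) (Fin n) F) * (h : Matrix (Fin n) (Fin n) F) = 1 := by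
      rw [← Units.val_mul, inv_mul_cancel, Units.val_one]
    have e3 : ((h⁻¹ : GL (Fin n) F) : Matrix (Fin n) (Fin n) F) *
        ((h : Matrix (Fin n) (Fin n) F) * k * ((h⁻¹ : GL (Fin n) F) : Matrix (Fin n) (Fin n) F)) *
        (h : Matrix (Fin n) (Fin n) F) = k := by
      simp only [Matrix.mul_assoc]
      rw [e2, Matrix.mul_one, ← Matrix.mul_assoc, e2, Matrix.one_mul]
    rw [e3] at h2
    exact h2

theorem asgclif_common_ker {m : Type*} [Fintype m] [DecidableEq m] (S : Finset (Matrix m m F))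
    (hcomm : ∀ a ∈ S, ∀ b ∈ S, a * b = b * a) (hnil : ∀ a ∈ S, IsNilpotent a) :
    ∀ U : Submodule F (m → F), U ≠ ⊥ → (∀ a ∈ S, ∀ u ∈ U, a *ᵥ u ∈ U) →
      ∃ v ∈ U, v ≠ 0 ∧ ∀ a ∈ S, a *ᵥ v = 0 := by
  classical
  have hker : ∀ (b : Matrix m m F) (w : m → F), w ∈ LinearMap.ker (Matrix.toLin' b) ↔ b *ᵥ w = 0 := by
    intro b w
    rw [LinearMap.mem_ker, Matrix.toLin'_apply]
  induction S using Finset.induction_on with
  | empty =>
    intro U hU _
    obtain ⟨v, hv, hv0⟩ := (Submodule.ne_bot_iff U).mp hU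
    exact ⟨v, hv, hv0, fun a ha => absurd ha (Finset.notMem_empty a)⟩
  | insert a S ha ih =>
    intro U hU hinv
    have haS : a ∈ insert a S := Finset.mem_insert_self a S
    let U' : Submodule F (m → F) := U ⊓ LinearMap.ker (Matrix.toLin' a)
    have hU' : U' ≠ ⊥ := by
      obtain ⟨u, hu, hu0⟩ := (Submodule.ne_bot_iff U).mp hU
      obtain ⟨k, hk⟩ := hnil a haS
      have hex : ∃ j, (a ^ j) *ᵥ u = 0 := ⟨k, by rw [hk, Matrix.zero_mulVec]⟩
      have hj := Nat.find_spec hex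
      have hj0 : Nat.find hex ≠ 0 := by
        intro h0
        rw [h0, pow_zero, Matrix.one_mulVec] at hj
        exact hu0 hj
      obtain ⟨j, hjs⟩ := Nat.exists_eq_succ_of_ne_zero hj0
      have hjmin : ¬ (a ^ j) *ᵥ u = 0 := Nat.find_min hex (by omega)
      have hpowmem : ∀ i : ℕ, (a ^ i) *ᵥ u ∈ U := by
        intro i
        induction i with
        | zero => rw [pow_zero, Matrix.one_mulVec]; exact hu
        | succ i ihi =>
          rw [pow_succ', ← Matrix.mulVec_mulVec]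
          exact hinv a haS _ ihi
      rw [Submodule.ne_bot_iff]
      refine ⟨(a ^ j) *ᵥ u, ⟨hpowmem j, (hker _ _).mpr ?_⟩, hjmin⟩
      rw [Matrix.mulVec_mulVec, ← pow_succ']
      rw [hjs] at hj
      exact hj
    have hinv' : ∀ b ∈ S, ∀ u ∈ U', b *ᵥ u ∈ U' := by
      intro b hb u hu
      have hbS : b ∈ insert a S := Finset.mem_insert_of_mem hb
      have h2 : a *ᵥ u = 0 := (hker _ _).mp hu.2
      refine ⟨hinv b hbS u hu.1, (hker _ _).mpr ?_⟩
      rw [Matrix.mulVec_mulVec, hcomm a haS b hbS, ← Matrix.mulVec_mulVec, h2, Matrix.mulVec_zero]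
    obtain ⟨v, hv, hv0, hvS⟩ := ih (fun x hx y hy => hcomm x (Finset.mem_insert_of_mem hx) y
      (Finset.mem_insert_of_mem hy)) (fun x hx => hnil x (Finset.mem_insert_of_mem hx)) U' hU' hinv'
    refine ⟨v, hv.1, hv0, fun b hb => ?_⟩
    rcases Finset.mem_insert.mp hb with rfl | hb'
    · exact (hker _ _).mp hv.2
    · exact hvS b hb'

theorem asgclif_reduced (hn : 0 < n) {H N : Subgroup (GL (Fin n) F)} (hH : Irr H) (hN : NormalIn N H)
    (z : Matrix (Fin n) (Fin n) F) (hz : z ∈ asgZ N) (hnil : IsNilpotent z) : z = 0 := by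
  classical
  haveI : Nonempty (Fin n) := ⟨⟨0, hn⟩⟩
  let S : Finset (Matrix (Fin n) (Fin n) F) :=
    Finset.univ.filter (fun a => a ∈ asgZ N ∧ IsNilpotent a)
  have hSmem : ∀ a, a ∈ S ↔ a ∈ asgZ N ∧ IsNilpotent a := by
    intro a
    simp [S]
  let W : Submodule F (Fin n → F) := ⨅ a ∈ S, LinearMap.ker (Matrix.toLin' a)
  have hWmem : ∀ v, v ∈ W ↔ ∀ a ∈ S, a *ᵥ v = 0 := by
    intro v
    simp only [W, Submodule.mem_iInf, LinearMap.mem_ker, Matrix.toLin'_apply]
  have hWinv : ∀ s ∈ matrixSet H, W.map (Matrix.toLin' s) ≤ W := by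
    rintro _ ⟨h, hh, rfl⟩ _ ⟨v, hv, rfl⟩
    rw [SetLike.mem_coe, hWmem] at hv
    rw [hWmem]
    intro a ha
    obtain ⟨ha1, ha2⟩ := (hSmem a).mp ha
    have hconj := asgclif_conj_mem hN h⁻¹ (H.inv_mem hh) a ha1
    rw [inv_inv] at hconj
    have e1 : (h : Matrix (Fin n) (Fin n) F) * ((h⁻¹ : GL (Fin n) F) : Matrix (Fin n) (Fin n) F) = 1 := by
      rw [← Units.val_mul, mul_inv_cancel, Units.val_one]
    have e2 : ((h⁻¹ : GL (Fin n) F) : Matrix (Fin n) (Fin n) F) * (h : Matrix (Fin n) (Fin n) F) = 1 := by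
      rw [← Units.val_mul, inv_mul_cancel, Units.val_one]
    have hnil' : IsNilpotent (((h⁻¹ : GL (Fin n) F) : Matrix (Fin n) (Fin n) F) * a *
        (h : Matrix (Fin n) (Fin n) F)) := by
      obtain ⟨k, hk⟩ := ha2
      refine ⟨k, ?_⟩
      have hpow : ∀ j : ℕ, (((h⁻¹ : GL (Fin n) F) : Matrix (Fin n) (Fin n) F) * a *
          (h : Matrix (Fin n) (Fin n) F)) ^ j =
          ((h⁻¹ : GL (Fin n) F) : Matrix (Fin n) (Fin n) F) * a ^ j * (h : Matrix (Fin n) (Fin n) F) := by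
        intro j
        induction j with
        | zero => rw [pow_zero, pow_zero, mul_one, e2]
        | succ j ihj =>
          rw [pow_succ, ihj, pow_succ]
          calc ((h⁻¹ : GL (Fin n) F) : Matrix (Fin n) (Fin n) F) * a ^ j * (h : Matrix (Fin n) (Fin n) F) *
              (((h⁻¹ : GL (Fin n) F) : Matrix (Fin n) (Fin n) F) * a * (h : Matrix (Fin n) (Fin n) F))
              = ((h⁻¹ : GL (Fin n) F) : Matrix (Fin n) (Fin n) F) * a ^ j *
                ((h : Matrix (Fin n) (Fin n) F) * ((h⁻¹ : GL (Fin n) F) : Matrix (Fin n) (Fin n) F)) * a *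
                (h : Matrix (Fin n) (Fin n) F) := by simp only [mul_assoc]
            _ = _ := by rw [e1, mul_one]; simp only [mul_assoc]
      rw [hpow, hk, mul_zero, zero_mul]
    have h3 := hv _ ((hSmem _).mpr ⟨hconj, hnil'⟩)
    rw [Matrix.toLin'_apply, Matrix.mulVec_mulVec]
    have h4 : a * (h : Matrix (Fin n) (Fin n) F) = (h : Matrix (Fin n) (Fin n) F) *
        (((h⁻¹ : GL (Fin n) F) : Matrix (Fin n) (Fin n) F) * a * (h : Matrix (Fin n) (Fin n) F)) := by
      rw [← mul_assoc, ← mul_assoc, e1, one_mul]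
    rw [h4, ← Matrix.mulVec_mulVec, h3, Matrix.mulVec_zero]
  have hWne : W ≠ ⊥ := by
    obtain ⟨v, -, hv0, hv⟩ := asgclif_common_ker S
      (fun a ha b hb => asgclif_Z_comm ((hSmem a).mp ha).1 ((hSmem b).mp hb).1)
      (fun a ha => ((hSmem a).mp ha).2) ⊤ (by
        intro h
        have : (⊤ : Submodule F (Fin n → F)) ≠ ⊥ := top_ne_bot
        exact this h) (fun _ _ _ _ => Submodule.mem_top)
    rw [Submodule.ne_bot_iff]
    exact ⟨v, (hWmem v).mpr hv, hv0⟩
  have hWtop : W = ⊤ := (hH W hWinv).resolve_left hWne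
  have hzS : z ∈ S := (hSmem z).mpr ⟨hz, hnil⟩
  ext i j
  have h1 : (Pi.single j 1 : Fin n → F) ∈ W := by rw [hWtop]; exact Submodule.mem_top
  have h2 := (hWmem _).mp h1 z hzS
  have h3 := congrFun h2 i
  simpa using h3

end Cfsg.Agent.Lib.Helper27.ASC
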