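import Mathlib
import Cfsg.Prelude.Def_GeometricClasses
import Cfsg.Agent.Lib.Helper27.ASC.Defs
import Cfsg.Agent.Lib.Helper1.ASGCLIF1

set_option autoImplicit false
set_option linter.unusedVariables false
set_option linter.unusedSectionVars false
set_option linter.style.haveILetI false

namespace Cfsg.Agent.Lib.Helper27.ASC

open Cfsg Cfsg.Geo
open scoped MatrixGroups Matrix

variable {n : ℕ} {F : Type*} [Field F] [Fintype F]

theorem asgclif_idem_pow {M : Type*} [Monoid M] [Finite M] (x : M) :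
    ∃ m : ℕ, 0 < m ∧ x ^ m * x ^ m = x ^ m := by
  obtain ⟨i, j, hij, hpow⟩ := Finite.exists_ne_map_eq_of_infinite (fun k : ℕ => x ^ k)
  wlog hlt : i < j generalizing i j
  · exact this j i (Ne.symm hij) hpow.symm (lt_of_le_of_ne (not_lt.mp hlt) (Ne.symm hij))
  have hpow' : x ^ i = x ^ j := hpow
  obtain ⟨b, hb⟩ : ∃ b, j = i + b := ⟨j - i, by omega⟩
  have hb0 : 0 < b := by omega
  have hstep : ∀ k, i ≤ k → x ^ (k + b) = x ^ k := by
    intro k hk
    obtain ⟨c, rfl⟩ : ∃ c, k = i + c := ⟨k - i, by omega⟩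
    rw [show i + c + b = (i + b) + c by ring, pow_add, ← hb, ← hpow', ← pow_add]
  have hsteps : ∀ t k, i ≤ k → x ^ (k + t * b) = x ^ k := by
    intro t
    induction t with
    | zero => intro k _; simp
    | succ t ih =>
      intro k hk
      rw [show k + (t + 1) * b = (k + t * b) + b by ring, hstep _ (by omega), ih k hk]
  refine ⟨(i + 1) * b, Nat.mul_pos (by omega) hb0, ?_⟩
  rw [← pow_add]
  have hge : i ≤ (i + 1) * b := by
    calc i ≤ i + 1 := by omega
      _ = (i + 1) * 1 := by ring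
      _ ≤ (i + 1) * b := Nat.mul_le_mul_left _ hb0
  exact hsteps (i + 1) ((i + 1) * b) hge

theorem asgclif_field (hn : 0 < n) {H N : Subgroup (GL (Fin n) F)} (hH : Irr H) (hN : NormalIn N H)
    (hidem : ∀ e ∈ asgZ N, e * e = e → e = 0 ∨ e = 1) :
    IsFieldSubalgebra (Module.finrank F (asgZ N)) (asgZ N) := by
  classical
  refine ⟨fun x hx y hy => asgclif_Z_comm hx hy, fun x hx hx0 => ?_, rfl⟩
  obtain ⟨m, hm, hidm⟩ := asgclif_idem_pow x
  have hmem : x ^ m ∈ asgZ N := Subalgebra.pow_mem _ hx m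
  rcases hidem _ hmem hidm with h0 | h1
  · exact absurd (asgclif_reduced hn hH hN x hx ⟨m, h0⟩) hx0
  · obtain ⟨k, rfl⟩ : ∃ k, m = k + 1 := ⟨m - 1, by omega⟩
    exact ⟨x ^ k, Subalgebra.pow_mem _ hx k, by rw [← pow_succ', h1]⟩

end Cfsg.Agent.Lib.Helper27.ASC
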