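import Mathlib
import Cfsg.Prelude.Def_GeometricClasses
import Cfsg.Agent.Lib.Helper27.ASC.Defs
import Cfsg.Agent.Lib.Helper1.ASGCLIF2

set_option autoImplicit false
set_option linter.unusedVariables false
set_option linter.unusedSectionVars false
set_option linter.style.haveILetI false

namespace Cfsg.Agent.Lib.Helper27.ASC

open Cfsg Cfsg.Geo
open scoped MatrixGroups Matrix

variable {n : ℕ} {F : Type*} [Field F] [Fintype F]

def asgConj (h : GL (Fin n) F) (f : Matrix (Fin n) (Fin n) F) : Matrix (Fin n) (Fin n) F :=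
  (h : Matrix (Fin n) (Fin n) F) * f * ((h⁻¹ : GL (Fin n) F) : Matrix (Fin n) (Fin n) F)

theorem asgclif_conj_one (f : Matrix (Fin n) (Fin n) F) : asgConj (1 : GL (Fin n) F) f = f := by
  unfold asgConj
  simp

theorem asgclif_conj_mul (a b : GL (Fin n) F) (f : Matrix (Fin n) (Fin n) F) :
    asgConj (a * b) f = asgConj a (asgConj b f) := by
  unfold asgConj
  rw [mul_inv_rev, Units.val_mul, Units.val_mul]
  simp only [Matrix.mul_assoc]

theorem asgclif_conj_mmul (h : GL (Fin n) F) (f g : Matrix (Fin n) (Fin n) F) :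
    asgConj h (f * g) = asgConj h f * asgConj h g := by
  unfold asgConj
  have e2 : ((h⁻¹ : GL (Fin n) F) : Matrix (Fin n) (Fin n) F) * (h : Matrix (Fin n) (Fin n) F) = 1 := by
    rw [← Units.val_mul, inv_mul_cancel, Units.val_one]
  calc (h : Matrix (Fin n) (Fin n) F) * (f * g) * ((h⁻¹ : GL (Fin n) F) : Matrix (Fin n) (Fin n) F)
      = (h : Matrix (Fin n) (Fin n) F) * f * (1 * (g * ((h⁻¹ : GL (Fin n) F) : Matrix (Fin n) (Fin n) F))) := by
        rw [Matrix.one_mul]; simp only [Matrix.mul_assoc]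
    _ = _ := by rw [← e2]; simp only [Matrix.mul_assoc]

theorem asgclif_conj_zero (h : GL (Fin n) F) : asgConj h (0 : Matrix (Fin n) (Fin n) F) = 0 := by
  unfold asgConj
  simp

theorem asgclif_conj_inv_conj (h : GL (Fin n) F) (f : Matrix (Fin n) (Fin n) F) :
    asgConj h⁻¹ (asgConj h f) = f := by
  rw [← asgclif_conj_mul, inv_mul_cancel, asgclif_conj_one]

theorem asgclif_conj_conj_inv (h : GL (Fin n) F) (f : Matrix (Fin n) (Fin n) F) :
    asgConj h (asgConj h⁻¹ f) = f := by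
  rw [← asgclif_conj_mul, mul_inv_cancel, asgclif_conj_one]

theorem asgclif_range_conj (h : GL (Fin n) F) (f : Matrix (Fin n) (Fin n) F) :
    (LinearMap.range (Matrix.toLin' f)).map (Matrix.toLin' (h : Matrix (Fin n) (Fin n) F)) =
      LinearMap.range (Matrix.toLin' (asgConj h f)) := by
  unfold asgConj
  have e2 : ((h⁻¹ : GL (Fin n) F) : Matrix (Fin n) (Fin n) F) * (h : Matrix (Fin n) (Fin n) F) = 1 := by
    rw [← Units.val_mul, inv_mul_cancel, Units.val_one]
  have e1 : (h : Matrix (Fin n) (Fin n) F) * ((h⁻¹ : GL (Fin n) F) : Matrix (Fin n) (Fin n) F) = 1 := by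
    rw [← Units.val_mul, mul_inv_cancel, Units.val_one]
  ext v
  constructor
  · rintro ⟨_, ⟨w, rfl⟩, rfl⟩
    refine ⟨(h : Matrix (Fin n) (Fin n) F) *ᵥ w, ?_⟩
    simp only [Matrix.toLin'_apply, Matrix.mulVec_mulVec]
    rw [Matrix.mul_assoc, Matrix.mul_assoc, e2, Matrix.mul_one]
  · rintro ⟨w, rfl⟩
    refine ⟨f *ᵥ (((h⁻¹ : GL (Fin n) F) : Matrix (Fin n) (Fin n) F) *ᵥ w), ⟨_, by rw [Matrix.toLin'_apply]⟩, ?_⟩
    simp only [Matrix.toLin'_apply, Matrix.mulVec_mulVec, Matrix.mul_assoc]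

theorem asgclif_indep {t : ℕ} (E : Fin t → Matrix (Fin n) (Fin n) F)
    (hidem : ∀ i, E i * E i = E i) (horth : ∀ i j, i ≠ j → E i * E j = 0) :
    iSupIndep (fun i => LinearMap.range (Matrix.toLin' (E i))) := by
  rw [iSupIndep_def]
  intro i
  rw [Submodule.disjoint_def]
  intro x hx hx'
  have hle : (⨆ j, ⨆ (_ : j ≠ i), LinearMap.range (Matrix.toLin' (E j))) ≤
      LinearMap.ker (Matrix.toLin' (E i)) := by
    refine iSup₂_le fun j hj => ?_
    rintro _ ⟨w, rfl⟩
    rw [LinearMap.mem_ker, Matrix.toLin'_apply, Matrix.toLin'_apply, Matrix.mulVec_mulVec,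
      horth i j (Ne.symm hj), Matrix.zero_mulVec]
  have h1 := hle hx'
  obtain ⟨w, rfl⟩ := hx
  rw [LinearMap.mem_ker, Matrix.toLin'_apply, Matrix.toLin'_apply, Matrix.mulVec_mulVec, hidem] at h1
  rw [Matrix.toLin'_apply]
  exact h1

theorem asgclif_idem_top (e : Matrix (Fin n) (Fin n) F) (hid : e * e = e)
    (htop : LinearMap.range (Matrix.toLin' e) = ⊤) : e = 1 := by
  apply Matrix.toLin'.injective
  apply LinearMap.ext
  intro v
  have hv : v ∈ LinearMap.range (Matrix.toLin' e) := by rw [htop]; exact Submodule.mem_top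
  obtain ⟨w, rfl⟩ := hv
  rw [Matrix.toLin'_apply, Matrix.toLin'_apply, Matrix.mulVec_mulVec, hid, Matrix.toLin'_one,
    LinearMap.id_apply]

theorem asgclif_dec (hn : 0 < n) {H N : Subgroup (GL (Fin n) F)} (hH : Irr H) (hN : NormalIn N H)
    (e0 : Matrix (Fin n) (Fin n) F) (he0 : e0 ∈ asgZ N) (hid0 : e0 * e0 = e0) (h00 : e0 ≠ 0)
    (h01 : e0 ≠ 1) :
    ∃ (t m : ℕ) (D : Fin t → Submodule F (Fin n → F)), IsMDecomposition m D ∧
      H ≤ decompositionStabilizer D ∧
      ∀ i, ∀ g ∈ N, (D i).map (Matrix.toLin' (g : Matrix (Fin n) (Fin n) F)) ≤ D i := by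
  classical
  let P : Matrix (Fin n) (Fin n) F → Prop := fun f => f ∈ asgZ N ∧ f * f = f ∧ f ≠ 0
  have hPconj : ∀ h ∈ H, ∀ f, P f → P (asgConj h f) := by
    rintro h hh f ⟨hf1, hf2, hf3⟩
    refine ⟨asgclif_conj_mem hN h hh f hf1, by rw [← asgclif_conj_mmul, hf2], fun h0 => hf3 ?_⟩
    have := congrArg (asgConj h⁻¹) h0
    rwa [asgclif_conj_inv_conj, asgclif_conj_zero] at this
  obtain ⟨e, hPe, hmin⟩ := Set.exists_min_image {f | P f}
    (fun f => Module.finrank F (LinearMap.range (Matrix.toLin' f))) (Set.toFinite _) ⟨e0, he0, hid0, h00⟩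
  have hatom : ∀ f, P f → f * e = f → f = e := by
    rintro f hPf hfe
    have hPf' := hPf
    obtain ⟨hf1, hf2, hf3⟩ := hPf
    have hef : e * f = f := by rw [asgclif_Z_comm hPe.1 hf1, hfe]
    have hle : LinearMap.range (Matrix.toLin' f) ≤ LinearMap.range (Matrix.toLin' e) := by
      rintro _ ⟨w, rfl⟩
      refine ⟨f *ᵥ w, ?_⟩
      rw [Matrix.toLin'_apply, Matrix.toLin'_apply, Matrix.mulVec_mulVec, hef]
    have heq : LinearMap.range (Matrix.toLin' f) = LinearMap.range (Matrix.toLin' e) :=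
      Submodule.eq_of_le_of_finrank_le hle (hmin f hPf')
    rw [← hfe]
    apply Matrix.toLin'.injective
    apply LinearMap.ext
    intro v
    have hv : Matrix.toLin' e v ∈ LinearMap.range (Matrix.toLin' f) := by
      rw [heq]; exact ⟨v, rfl⟩
    obtain ⟨w, hw⟩ := hv
    rw [Matrix.toLin'_apply, Matrix.toLin'_apply] at hw
    rw [Matrix.toLin'_apply, Matrix.toLin'_apply, ← Matrix.mulVec_mulVec, ← hw, Matrix.mulVec_mulVec, hf2]
  have he1 : e ≠ 1 := by
    intro h1
    apply h01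
    have := hatom e0 ⟨he0, hid0, h00⟩ (by rw [h1, Matrix.mul_one])
    rw [this, h1]
  have hatomc : ∀ h ∈ H, ∀ f, P f → f * asgConj h e = f → f = asgConj h e := by
    intro h hh f hPf hfe
    have h1 := hPconj h⁻¹ (H.inv_mem hh) f hPf
    have h2 : asgConj h⁻¹ f * e = asgConj h⁻¹ f := by
      have := congrArg (asgConj h⁻¹) hfe
      rwa [asgclif_conj_mmul, asgclif_conj_inv_conj] at this
    have h3 := hatom _ h1 h2
    have := congrArg (asgConj h) h3
    rwa [asgclif_conj_conj_inv] at this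
  have horth0 : ∀ a ∈ H, ∀ b ∈ H, asgConj a e ≠ asgConj b e → asgConj a e * asgConj b e = 0 := by
    intro a ha b hb hne
    by_contra h0
    have hPa := hPconj a ha e hPe
    have hPb := hPconj b hb e hPe
    have hcomm := asgclif_Z_comm hPa.1 hPb.1
    have hPg : P (asgConj a e * asgConj b e) := by
      refine ⟨Subalgebra.mul_mem _ hPa.1 hPb.1, ?_, h0⟩
      calc asgConj a e * asgConj b e * (asgConj a e * asgConj b e)
          = asgConj a e * (asgConj b e * asgConj a e) * asgConj b e := by simp only [Matrix.mul_assoc]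
        _ = asgConj a e * (asgConj a e * asgConj b e) * asgConj b e := by rw [hcomm]
        _ = (asgConj a e * asgConj a e) * (asgConj b e * asgConj b e) := by simp only [Matrix.mul_assoc]
        _ = _ := by rw [hPa.2.1, hPb.2.1]
    have h1 : asgConj a e * asgConj b e = asgConj b e :=
      hatomc b hb _ hPg (by rw [Matrix.mul_assoc, hPb.2.1])
    have h2 : asgConj a e * asgConj b e = asgConj a e :=
      hatomc a ha _ hPg (by rw [hcomm, Matrix.mul_assoc, hPa.2.1])
    exact hne (h2.symm.trans h1)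
  let O : Finset (Matrix (Fin n) (Fin n) F) := Finset.univ.filter (fun f => ∃ h ∈ H, f = asgConj h e)
  have hOmem : ∀ f, f ∈ O ↔ ∃ h ∈ H, f = asgConj h e := by
    intro f
    simp [O]
  have hOconj : ∀ h ∈ H, ∀ f ∈ O, asgConj h f ∈ O := by
    intro h hh f hf
    obtain ⟨k, hk, rfl⟩ := (hOmem f).mp hf
    exact (hOmem _).mpr ⟨h * k, H.mul_mem hh hk, (asgclif_conj_mul h k e).symm⟩
  have heO : e ∈ O := (hOmem e).mpr ⟨1, H.one_mem, (asgclif_conj_one e).symm⟩
  have hmove : ∃ h ∈ H, asgConj h e ≠ e := by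
    by_contra hcon
    push Not at hcon
    have hinv : ∀ s ∈ matrixSet H, (LinearMap.range (Matrix.toLin' e)).map (Matrix.toLin' s) ≤
        LinearMap.range (Matrix.toLin' e) := by
      rintro _ ⟨h, hh, rfl⟩
      rw [asgclif_range_conj, hcon h hh]
    rcases hH _ hinv with hb | ht
    · apply hPe.2.2
      apply Matrix.toLin'.injective
      rw [map_zero]
      exact LinearMap.range_eq_bot.mp hb
    · exact he1 (asgclif_idem_top e hPe.2.1 ht)
  obtain ⟨h1, hh1, hne1⟩ := hmove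
  have hcard : 2 ≤ O.card :=
    Finset.one_lt_card.mpr ⟨e, heO, asgConj h1 e, hOconj h1 hh1 e heO, fun h => hne1 h.symm⟩
  let t := O.card
  let eqv : ↥O ≃ Fin t := O.equivFin
  let E : Fin t → Matrix (Fin n) (Fin n) F := fun i => ((eqv.symm i : ↥O) : Matrix (Fin n) (Fin n) F)
  have hEO : ∀ i, E i ∈ O := fun i => (eqv.symm i).2
  have hEex : ∀ i, ∃ k ∈ H, E i = asgConj k e := fun i => (hOmem _).mp (hEO i)
  have hEP : ∀ i, P (E i) := by
    intro i
    obtain ⟨k, hk, hE⟩ := hEex i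
    rw [hE]
    exact hPconj k hk e hPe
  have hEinj : Function.Injective E := by
    intro i j hij
    exact eqv.symm.injective (Subtype.ext hij)
  have horth : ∀ i j, i ≠ j → E i * E j = 0 := by
    intro i j hij
    obtain ⟨a, ha, hEa⟩ := hEex i
    obtain ⟨b, hb, hEb⟩ := hEex j
    have hne : E i ≠ E j := fun h => hij (hEinj h)
    rw [hEa, hEb] at hne ⊢
    exact horth0 a ha b hb hne
  let D : Fin t → Submodule F (Fin n → F) := fun i => LinearMap.range (Matrix.toLin' (E i))
  let c : ∀ h ∈ H, ↥O ≃ ↥O := fun h hh =>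
    { toFun := fun f => ⟨asgConj h f.1, hOconj h hh f.1 f.2⟩
      invFun := fun f => ⟨asgConj h⁻¹ f.1, hOconj h⁻¹ (H.inv_mem hh) f.1 f.2⟩
      left_inv := fun f => Subtype.ext (asgclif_conj_inv_conj h f.1)
      right_inv := fun f => Subtype.ext (asgclif_conj_conj_inv h f.1) }
  have hperm : ∀ h ∈ H, ∃ σ : Equiv.Perm (Fin t), ∀ i,
      (D i).map (Matrix.toLin' (h : Matrix (Fin n) (Fin n) F)) = D (σ i) := by
    intro h hh
    refine ⟨eqv.symm.trans ((c h hh).trans eqv), fun i => ?_⟩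
    have hE' : asgConj h (E i) = E ((eqv.symm.trans ((c h hh).trans eqv)) i) := by
      change asgConj h (E i) = ((eqv.symm (eqv ((c h hh) (eqv.symm i))) : ↥O) : Matrix (Fin n) (Fin n) F)
      rw [Equiv.symm_apply_apply]
      rfl
    change (LinearMap.range (Matrix.toLin' (E i))).map _ = LinearMap.range (Matrix.toLin' (E _))
    rw [asgclif_range_conj, hE']
  have hstab : H ≤ decompositionStabilizer D := fun h hh => hperm h hh
  have hindep : iSupIndep D := asgclif_indep E (fun i => (hEP i).2.1) horth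
  have htop : iSup D = ⊤ := by
    have hinv : ∀ s ∈ matrixSet H, (iSup D).map (Matrix.toLin' s) ≤ iSup D := by
      rintro _ ⟨h, hh, rfl⟩
      obtain ⟨σ, hσ⟩ := hperm h hh
      rw [Submodule.map_iSup]
      refine iSup_le fun i => ?_
      rw [hσ i]
      exact le_iSup D (σ i)
    rcases hH _ hinv with hb | ht
    · exfalso
      have i0 : Fin t := ⟨0, by omega⟩
      have h1 : D i0 ≤ ⊥ := hb ▸ le_iSup D i0
      have h2 : D i0 = ⊥ := le_bot_iff.mp h1
      apply (hEP i0).2.2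
      apply Matrix.toLin'.injective
      rw [map_zero]
      exact LinearMap.range_eq_bot.mp h2
    · exact ht
  have hfr : ∀ i, Module.finrank F (D i) = Module.finrank F (LinearMap.range (Matrix.toLin' e)) := by
    intro i
    obtain ⟨k, hk, hE⟩ := hEex i
    change Module.finrank F (LinearMap.range (Matrix.toLin' (E i))) = _
    rw [hE, ← asgclif_range_conj]
    have hinj : Function.Injective (Matrix.toLin' (k : Matrix (Fin n) (Fin n) F)) := by
      intro v w hvw
      have e2 : ((k⁻¹ : GL (Fin n) F) : Matrix (Fin n) (Fin n) F) * (k : Matrix (Fin n) (Fin n) F) = 1 := by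
        rw [← Units.val_mul, inv_mul_cancel, Units.val_one]
      rw [Matrix.toLin'_apply, Matrix.toLin'_apply] at hvw
      have := congrArg (fun x => ((k⁻¹ : GL (Fin n) F) : Matrix (Fin n) (Fin n) F) *ᵥ x) hvw
      simpa [Matrix.mulVec_mulVec, e2] using this
    exact (LinearEquiv.finrank_eq (Submodule.equivMapOfInjective _ hinj _)).symm
  have hmpos : 0 < Module.finrank F (LinearMap.range (Matrix.toLin' e)) := by
    rw [Nat.pos_iff_ne_zero, Ne, Submodule.finrank_eq_zero]
    intro hb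
    apply hPe.2.2
    apply Matrix.toLin'.injective
    rw [map_zero]
    exact LinearMap.range_eq_bot.mp hb
  refine ⟨t, Module.finrank F (LinearMap.range (Matrix.toLin' e)), D,
    ⟨hcard, hmpos, hfr, hindep, htop⟩, hstab, ?_⟩
  intro i g hg
  rintro _ ⟨_, ⟨w, rfl⟩, rfl⟩
  have hc : E i ∈ centAlg N := (asgclif_mem_Z.mp (hEP i).1).1
  rw [Subalgebra.mem_centralizer_iff] at hc
  have h2 := hc (g : Matrix (Fin n) (Fin n) F) ⟨g, hg, rfl⟩
  refine ⟨(g : Matrix (Fin n) (Fin n) F) *ᵥ w, ?_⟩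
  rw [Matrix.toLin'_apply, Matrix.toLin'_apply, Matrix.toLin'_apply, Matrix.mulVec_mulVec,
    Matrix.mulVec_mulVec, h2]

theorem asgclif_main (hn : 0 < n) {H N : Subgroup (GL (Fin n) F)} (hH : Irr H) (hN : NormalIn N H) :
    (∃ (t m : ℕ) (D : Fin t → Submodule F (Fin n → F)), IsMDecomposition m D ∧
      H ≤ decompositionStabilizer D ∧
      ∀ i, ∀ g ∈ N, (D i).map (Matrix.toLin' (g : Matrix (Fin n) (Fin n) F)) ≤ D i) ∨
    (∃ b : ℕ, IsFieldSubalgebra b (asgZ N) ∧ H ≤ subalgebraNormalizer (asgZ N)) := by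
  by_cases hidem : ∀ e ∈ asgZ N, e * e = e → e = 0 ∨ e = 1
  · exact Or.inr ⟨_, asgclif_field hn hH hN hidem, asgclif_normalizes_Z hN⟩
  · push Not at hidem
    obtain ⟨e0, he0, hid0, h00, h01⟩ := hidem
    exact Or.inl (asgclif_dec hn hH hN e0 he0 hid0 h00 h01)

end Cfsg.Agent.Lib.Helper27.ASC
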