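import Mathlib
import Cfsg.Prelude.Def_GeometricClasses
import Cfsg.Agent.Lib.Helper27.ASC.Defs
import Cfsg.Agent.Lib.Helper1.ASGCLIF3

set_option autoImplicit false
set_option linter.unusedVariables false
set_option linter.unusedSectionVars false
set_option linter.style.haveILetI false

namespace Cfsg.Agent.Lib.Helper27.ASC

open Cfsg Cfsg.Geo
open scoped MatrixGroups Matrix

variable {n : ℕ} {F : Type*} [Field F] [Fintype F]

theorem asgclif_isField {b : ℕ} (K : Subalgebra F (Matrix (Fin n) (Fin n) F))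
    (hK : IsFieldSubalgebra b K) (hb : 0 < b) : IsField K where
  exists_pair_ne := by
    have h1 : 0 < Module.finrank F K := by rw [hK.finrank_eq]; exact hb
    haveI : Nontrivial K := Module.nontrivial_of_finrank_pos (R := F) h1
    exact ⟨0, 1, zero_ne_one⟩
  mul_comm := fun x y => Subtype.ext (hK.comm x x.2 y y.2)
  mul_inv_cancel := by
    intro a ha
    obtain ⟨y, hy, h⟩ := hK.inv a a.2 (by intro h0; exact ha (Subtype.ext h0))
    exact ⟨⟨y, hy⟩, Subtype.ext h⟩

theorem asgclif_subfield_aux {b : ℕ} (K : Subalgebra F (Matrix (Fin n) (Fin n) F))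
    (hK : IsFieldSubalgebra b K) (hb : 0 < b) (d : ℕ) (hd : d ∣ b) :
    ∃ K' : Subalgebra F (Matrix (Fin n) (Fin n) F), IsFieldSubalgebra d K' ∧
      ∀ x, x ∈ K' ↔ x ∈ K ∧ x ^ (Fintype.card F ^ d) = x := by
  classical
  letI : Field K := (asgclif_isField K hK hb).toField
  haveI : Module.Finite F K := Module.finite_of_finrank_pos (by rw [hK.finrank_eq]; exact hb)
  haveI : Finite K := Module.finite_of_finite F
  have hd0 : 0 < d := Nat.pos_of_dvd_of_pos hd hb
  let σ : Gal(K/F) := FiniteField.frobeniusAlgEquivOfAlgebraic F K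
  have hσ : orderOf σ = b := by
    rw [FiniteField.orderOf_frobeniusAlgEquivOfAlgebraic, hK.finrank_eq]
  let L : IntermediateField F K := IntermediateField.fixedField (Subgroup.zpowers (σ ^ d))
  have hLmem : ∀ x : K, x ∈ L ↔ x ^ (Fintype.card F ^ d) = x := by
    intro x
    have h1 : (σ ^ d) x = x ^ (Fintype.card F ^ d) := by
      rw [AlgEquiv.coe_pow, FiniteField.coe_frobeniusAlgEquivOfAlgebraic_iterate]
    rw [IntermediateField.mem_fixedField_iff]
    constructor
    · intro h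
      rw [← h1]
      exact h _ (Subgroup.mem_zpowers _)
    · intro h f hf
      have hle : Subgroup.zpowers (σ ^ d) ≤ MulAction.stabilizer Gal(K/F) x := by
        rw [Subgroup.zpowers_le, MulAction.mem_stabilizer_iff, AlgEquiv.smul_def, h1, h]
      have := hle hf
      rwa [MulAction.mem_stabilizer_iff, AlgEquiv.smul_def] at this
  have hLK : Module.finrank L K = b / d := by
    rw [IntermediateField.finrank_fixedField_eq_card, Nat.card_zpowers, orderOf_pow, hσ,
      Nat.gcd_eq_right hd]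
  have hFL : Module.finrank F L = d := by
    have h1 := Module.finrank_mul_finrank F L K
    rw [hLK, hK.finrank_eq] at h1
    obtain ⟨c, rfl⟩ := hd
    rw [Nat.mul_div_cancel_left c hd0] at h1
    have hc0 : 0 < c := Nat.pos_of_mul_pos_left hb
    exact Nat.eq_of_mul_eq_mul_right hc0 h1
  let K' : Subalgebra F (Matrix (Fin n) (Fin n) F) := L.toSubalgebra.map K.val
  have hK'mem : ∀ x, x ∈ K' ↔ x ∈ K ∧ x ^ (Fintype.card F ^ d) = x := by
    intro x
    constructor
    · rintro ⟨l, hl, rfl⟩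
      have h1 := (hLmem l).mp hl
      refine ⟨l.2, ?_⟩
      have h2 := congrArg (fun y : K => (y : Matrix (Fin n) (Fin n) F)) h1
      simpa using h2
    · rintro ⟨hxK, hx⟩
      refine ⟨⟨x, hxK⟩, (hLmem _).mpr (Subtype.ext ?_), rfl⟩
      simpa using hx
  have hfr : Module.finrank F K' = d := by
    rw [← hFL]
    have hinj : Function.Injective K.val := Subtype.val_injective
    exact (LinearEquiv.finrank_eq (Subalgebra.equivMapOfInjective L.toSubalgebra K.val hinj).toLinearEquiv).symm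
  refine ⟨K', ⟨fun x hx y hy => hK.comm x ((hK'mem x).mp hx).1 y ((hK'mem y).mp hy).1, ?_, hfr⟩, hK'mem⟩
  rintro x ⟨l, hl, rfl⟩ hx0
  have hl0 : l ≠ 0 := by
    rintro rfl
    exact hx0 rfl
  refine ⟨((l⁻¹ : K) : Matrix (Fin n) (Fin n) F), ⟨l⁻¹, L.inv_mem hl, rfl⟩, ?_⟩
  have h1 : l * l⁻¹ = 1 := mul_inv_cancel₀ hl0
  have h2 := congrArg (fun y : K => (y : Matrix (Fin n) (Fin n) F)) h1
  simpa using h2

theorem asgclif_conj_pow (h : GL (Fin n) F) (f : Matrix (Fin n) (Fin n) F) (m : ℕ) :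
    asgConj h (f ^ m) = (asgConj h f) ^ m := by
  induction m with
  | zero =>
    rw [pow_zero, pow_zero]
    unfold asgConj
    rw [Matrix.mul_one, ← Units.val_mul, mul_inv_cancel, Units.val_one]
  | succ m ih => rw [pow_succ, pow_succ, asgclif_conj_mmul, ih]

theorem asgclif_subfield {b : ℕ} (K : Subalgebra F (Matrix (Fin n) (Fin n) F))
    (hK : IsFieldSubalgebra b K) (hb : 0 < b) (d : ℕ) (hd : d ∣ b) :
    ∃ K' : Subalgebra F (Matrix (Fin n) (Fin n) F), IsFieldSubalgebra d K' ∧ K' ≤ K ∧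
      subalgebraNormalizer K ≤ subalgebraNormalizer K' := by
  obtain ⟨K', hK', hmem⟩ := asgclif_subfield_aux K hK hb d hd
  refine ⟨K', hK', fun x hx => ((hmem x).mp hx).1, ?_⟩
  have key : ∀ g ∈ subalgebraNormalizer K, ∀ k ∈ K', asgConj g k ∈ K' := by
    intro g hg k hk
    obtain ⟨hk1, hk2⟩ := (hmem k).mp hk
    refine (hmem _).mpr ⟨(hg k).mp hk1, ?_⟩
    rw [← asgclif_conj_pow, hk2]
  intro g hg k
  constructor
  · exact key g hg k
  · intro h
    have h2 := key g⁻¹ ((subalgebraNormalizer K).inv_mem hg) _ h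
    change asgConj g⁻¹ (asgConj g k) ∈ K' at h2
    rwa [asgclif_conj_inv_conj] at h2

theorem asgclif_primesub {b : ℕ} (K : Subalgebra F (Matrix (Fin n) (Fin n) F))
    (hK : IsFieldSubalgebra b K) (hb : 2 ≤ b) :
    ∃ (r : ℕ) (K' : Subalgebra F (Matrix (Fin n) (Fin n) F)), r.Prime ∧ r ∣ b ∧
      IsFieldSubalgebra r K' ∧ K' ≤ K ∧ subalgebraNormalizer K ≤ subalgebraNormalizer K' := by
  obtain ⟨r, hr, hrb⟩ := Nat.exists_prime_and_dvd (show b ≠ 1 by omega)
  obtain ⟨K', h1, h2, h3⟩ := asgclif_subfield K hK (by omega) r hrb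
  exact ⟨r, K', hr, hrb, h1, h2, h3⟩

theorem asgclif_main' (hn : 0 < n) {H N : Subgroup (GL (Fin n) F)} (hH : Irr H) (hN : NormalIn N H) :
    (∃ (t m : ℕ) (D : Fin t → Submodule F (Fin n → F)), IsMDecomposition m D ∧
      H ≤ decompositionStabilizer D ∧
      ∀ i, ∀ g ∈ N, (D i).map (Matrix.toLin' (g : Matrix (Fin n) (Fin n) F)) ≤ D i) ∨
    (∃ (r : ℕ) (K : Subalgebra F (Matrix (Fin n) (Fin n) F)), r.Prime ∧ IsFieldSubalgebra r K ∧
      K ≤ asgZ N ∧ H ≤ subalgebraNormalizer K) ∨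
    (∀ z ∈ asgZ N, ∃ c : F, z = c • (1 : Matrix (Fin n) (Fin n) F)) := by
  rcases asgclif_main hn hH hN with h | ⟨b, hb, hnorm⟩
  · exact Or.inl h
  · right
    haveI : Nonempty (Fin n) := ⟨⟨0, hn⟩⟩
    by_cases hb2 : 2 ≤ b
    · left
      obtain ⟨r, K', hr, -, h1, h2, h3⟩ := asgclif_primesub (asgZ N) hb hb2
      exact ⟨r, K', hr, h1, h2, hnorm.trans h3⟩
    · right
      have hb1 : b = 1 := by
        have h0 : b ≠ 0 := by
          intro h0
          have hfr := hb.finrank_eq
          rw [h0] at hfr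
          haveI : Subsingleton (asgZ N) := Module.finrank_zero_iff.mp hfr
          have h01 : (0 : asgZ N) = 1 := Subsingleton.elim _ _
          have h2 := congrArg (fun y : asgZ N => (y : Matrix (Fin n) (Fin n) F)) h01
          simp at h2
        omega
      have hbot : asgZ N = ⊥ := Subalgebra.finrank_eq_one_iff.mp (hb1 ▸ hb.finrank_eq)
      intro z hz
      rw [hbot, Algebra.mem_bot] at hz
      obtain ⟨c, rfl⟩ := hz
      exact ⟨c, Algebra.algebraMap_eq_smul_one c⟩

end Cfsg.Agent.Lib.Helper27.ASC
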