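import Mathlib
import Cfsg.Prelude.Def_GeometricClasses
import Cfsg.Agent.Lib.Helper27.ASC.Defs
import Cfsg.Agent.Lib.Helper1.ASGCLIF4

set_option autoImplicit false
set_option linter.unusedVariables false
set_option linter.unusedSectionVars false
set_option linter.style.haveILetI false

namespace Cfsg.Agent.Lib.Helper27.ASC

open Cfsg Cfsg.Geo
open scoped MatrixGroups Matrix

variable {n : ℕ} {F : Type*} [Field F] [Fintype F]

theorem asgclif_conj_add (h : GL (Fin n) F) (f g : Matrix (Fin n) (Fin n) F) :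
    asgConj h (f + g) = asgConj h f + asgConj h g := by
  unfold asgConj
  rw [Matrix.mul_add, Matrix.add_mul]

theorem asgclif_conj_id (h : GL (Fin n) F) : asgConj h (1 : Matrix (Fin n) (Fin n) F) = 1 := by
  unfold asgConj
  rw [Matrix.mul_one, ← Units.val_mul, mul_inv_cancel, Units.val_one]

def asgAut {H N : Subgroup (GL (Fin n) F)} (hN : NormalIn N H) (h : GL (Fin n) F) (hh : h ∈ H) :
    ↥(centAlg N) →+* ↥(centAlg N) where
  toFun x := ⟨asgConj h x.1, ascschurn_aux hN h hh x.1 x.2⟩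
  map_one' := Subtype.ext (asgclif_conj_id h)
  map_mul' x y := Subtype.ext (asgclif_conj_mmul h x.1 y.1)
  map_zero' := Subtype.ext (asgclif_conj_zero h)
  map_add' x y := Subtype.ext (asgclif_conj_add h x.1 y.1)

theorem asgclif_aut_val {H N : Subgroup (GL (Fin n) F)} (hN : NormalIn N H) (h : GL (Fin n) F)
    (hh : h ∈ H) (x : ↥(centAlg N)) :
    ((asgAut hN h hh x : ↥(centAlg N)) : Matrix (Fin n) (Fin n) F) = asgConj h x.1 := rfl

theorem asgclif_jac_conj {H N : Subgroup (GL (Fin n) F)} (hN : NormalIn N H) (h : GL (Fin n) F)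
    (hh : h ∈ H) (j : ↥(centAlg N)) (hj : j ∈ Ring.jacobson ↥(centAlg N)) :
    asgAut hN h hh j ∈ Ring.jacobson ↥(centAlg N) := by
  haveI : RingHomSurjective (asgAut hN h hh) := ⟨fun y => by
    have hmem := ascschurn_aux hN h⁻¹ (H.inv_mem hh) y.1 y.2
    exact ⟨⟨asgConj h⁻¹ y.1, hmem⟩, Subtype.ext (asgclif_conj_conj_inv h y.1)⟩⟩
  exact Ring.le_comap_jacobson (asgAut hN h hh) hj

def asgIV (N : Subgroup (GL (Fin n) F)) (I : Ideal ↥(centAlg N)) : Submodule F (Fin n → F) :=
  Submodule.span F {x | ∃ j ∈ I, ∃ v : Fin n → F, x = (j : Matrix (Fin n) (Fin n) F) *ᵥ v}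

theorem asgclif_IV_mem {N : Subgroup (GL (Fin n) F)} (I : Ideal ↥(centAlg N)) (j : ↥(centAlg N))
    (hj : j ∈ I) (v : Fin n → F) : (j : Matrix (Fin n) (Fin n) F) *ᵥ v ∈ asgIV N I :=
  Submodule.subset_span ⟨j, hj, v, rfl⟩

theorem asgclif_IV_pow {N : Subgroup (GL (Fin n) F)} (J : Ideal ↥(centAlg N))
    (htop : asgIV N J = ⊤) (k : ℕ) : asgIV N (J ^ k) = ⊤ := by
  induction k with
  | zero =>
    rw [eq_top_iff]
    intro v _
    have h1 : (1 : ↥(centAlg N)) ∈ J ^ 0 := by
      rw [Submodule.pow_zero, Submodule.one_eq_span]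
      exact Submodule.mem_span_singleton_self 1
    have := asgclif_IV_mem (J ^ 0) 1 h1 v
    simpa using this
  | succ k ih =>
    rw [eq_top_iff, ← ih]
    unfold asgIV
    rw [Submodule.span_le]
    rintro _ ⟨a, ha, v, rfl⟩
    have hle : asgIV N J ≤ (asgIV N (J ^ (k + 1))).comap (Matrix.toLin' (a : Matrix (Fin n) (Fin n) F)) := by
      unfold asgIV
      rw [Submodule.span_le]
      rintro _ ⟨b, hb, u, rfl⟩
      rw [SetLike.mem_coe, Submodule.mem_comap, Matrix.toLin'_apply, Matrix.mulVec_mulVec]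
      have hab : a * b ∈ J ^ (k + 1) := by
        rw [Submodule.pow_succ]
        exact Submodule.mul_mem_mul ha hb
      exact asgclif_IV_mem (J ^ (k + 1)) (a * b) hab u
    have hv : v ∈ asgIV N J := by rw [htop]; exact Submodule.mem_top
    have := hle hv
    rwa [Submodule.mem_comap, Matrix.toLin'_apply] at this

theorem asgclif_jac_bot (hn : 0 < n) {H N : Subgroup (GL (Fin n) F)} (hH : Irr H) (hN : NormalIn N H) :
    Ring.jacobson ↥(centAlg N) = ⊥ := by
  classical
  haveI : Nonempty (Fin n) := ⟨⟨0, hn⟩⟩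
  haveI : IsArtinianRing ↥(centAlg N) := IsArtinianRing.of_finite F _
  have hinv : ∀ s ∈ matrixSet H, (asgIV N (Ring.jacobson ↥(centAlg N))).map (Matrix.toLin' s) ≤
      asgIV N (Ring.jacobson ↥(centAlg N)) := by
    rintro _ ⟨h, hh, rfl⟩
    rw [Submodule.map_le_iff_le_comap]
    unfold asgIV
    rw [Submodule.span_le]
    rintro _ ⟨j, hj, v, rfl⟩
    rw [SetLike.mem_coe, Submodule.mem_comap, Matrix.toLin'_apply, Matrix.mulVec_mulVec]
    have e2 : ((h⁻¹ : GL (Fin n) F) : Matrix (Fin n) (Fin n) F) * (h : Matrix (Fin n) (Fin n) F) = 1 := by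
      rw [← Units.val_mul, inv_mul_cancel, Units.val_one]
    have h1 : (h : Matrix (Fin n) (Fin n) F) * (j : Matrix (Fin n) (Fin n) F) =
        asgConj h j.1 * (h : Matrix (Fin n) (Fin n) F) := by
      unfold asgConj
      rw [Matrix.mul_assoc, e2, Matrix.mul_one]
    rw [h1, ← Matrix.mulVec_mulVec, ← asgclif_aut_val hN h hh j]
    exact asgclif_IV_mem _ _ (asgclif_jac_conj hN h hh j hj) _
  rcases hH _ hinv with hb | ht
  · rw [eq_bot_iff]
    intro j hj
    rw [Ideal.mem_bot]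
    apply Subtype.ext
    apply Matrix.toLin'.injective
    apply LinearMap.ext
    intro v
    have h1 := asgclif_IV_mem _ j hj v
    rw [hb, Submodule.mem_bot] at h1
    rw [Matrix.toLin'_apply, h1]
    simp
  · exfalso
    obtain ⟨k, hk⟩ := (IsSemiprimaryRing.isNilpotent : IsNilpotent (Ring.jacobson ↥(centAlg N)))
    have h1 := asgclif_IV_pow _ ht k
    rw [hk] at h1
    have h2 : asgIV N (0 : Ideal ↥(centAlg N)) = ⊥ := by
      unfold asgIV
      rw [Submodule.span_eq_bot]
      rintro _ ⟨j, hj, v, rfl⟩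
      have hj0 : j = 0 := by simpa using hj
      rw [hj0]
      simp
    rw [h2] at h1
    exact bot_ne_top h1

theorem asgclif_semisimple (hn : 0 < n) {H N : Subgroup (GL (Fin n) F)} (hH : Irr H) (hN : NormalIn N H) :
    IsSemisimpleRing ↥(centAlg N) := by
  haveI : IsArtinianRing ↥(centAlg N) := IsArtinianRing.of_finite F _
  exact IsArtinianRing.isSemisimpleRing_iff_jacobson.mpr (asgclif_jac_bot hn hH hN)

theorem asgclif_central_mem {N : Subgroup (GL (Fin n) F)} (z : ↥(centAlg N))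
    (hz : ∀ c : ↥(centAlg N), c * z = z * c) : (z : Matrix (Fin n) (Fin n) F) ∈ asgZ N :=
  asgclif_mem_Z.mpr ⟨z.2, fun c hc => congrArg Subtype.val (hz ⟨c, hc⟩)⟩

theorem asgclif_matrix (hn : 0 < n) {H N : Subgroup (GL (Fin n) F)} (hH : Irr H) (hN : NormalIn N H)
    (hZ : ∀ z ∈ asgZ N, ∃ c : F, z = c • (1 : Matrix (Fin n) (Fin n) F)) :
    ∃ k : ℕ, Nonempty (↥(centAlg N) ≃ₐ[F] Matrix (Fin k) (Fin k) F) := by
  classical
  haveI : Nonempty (Fin n) := ⟨⟨0, hn⟩⟩
  haveI := asgclif_semisimple hn hH hN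
  obtain ⟨m, D, d, hDiv, hAlg, hFin, hd, ⟨e⟩⟩ :=
    IsSemisimpleRing.exists_algEquiv_pi_matrix_divisionRing_finite F ↥(centAlg N)
  have hcent : ∀ z : ↥(centAlg N), (∀ c, c * z = z * c) → ∃ c : F, z = algebraMap F ↥(centAlg N) c := by
    intro z hz
    obtain ⟨c, hc⟩ := hZ _ (asgclif_central_mem z hz)
    refine ⟨c, Subtype.ext ?_⟩
    rw [hc]
    exact (Algebra.algebraMap_eq_smul_one c).symm
  have hnt : Nontrivial ↥(centAlg N) := by
    refine ⟨⟨0, 1, fun h01 => ?_⟩⟩
    have h2 := congrArg (fun y : ↥(centAlg N) => (y : Matrix (Fin n) (Fin n) F)) h01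
    simp at h2
  have hsub : ∀ i j : Fin m, i = j := by
    intro i j
    by_contra hij
    let p : ↥(centAlg N) := e.symm (Pi.single i 1)
    have hp : ∀ c, c * p = p * c := by
      intro c
      apply e.injective
      rw [map_mul, map_mul, AlgEquiv.apply_symm_apply]
      ext1 l
      by_cases hl : l = i
      · subst hl
        simp
      · simp [Pi.single_eq_of_ne hl]
    obtain ⟨c, hc⟩ := hcent p hp
    have h1 : (Pi.single i 1 : Π i, Matrix (Fin (d i)) (Fin (d i)) (D i)) =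
        algebraMap F (Π i, Matrix (Fin (d i)) (Fin (d i)) (D i)) c := by
      have := congrArg e hc
      rwa [AlgEquiv.apply_symm_apply, AlgEquiv.commutes] at this
    have hj := congrFun h1 j
    rw [Pi.single_eq_of_ne (Ne.symm hij), Pi.algebraMap_apply] at hj
    have hc0 : c = 0 := by
      have hinj := (algebraMap F (Matrix (Fin (d j)) (Fin (d j)) (D j))).injective
      apply hinj
      rw [← hj, map_zero]
    have hi := congrFun h1 i
    rw [Pi.single_eq_same, Pi.algebraMap_apply, hc0, map_zero] at hi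
    exact one_ne_zero hi
  have hne : Nonempty (Fin m) := by
    by_contra hem
    rw [not_nonempty_iff] at hem
    have : (0 : ↥(centAlg N)) = 1 := e.injective (Subsingleton.elim _ _)
    exact zero_ne_one this
  obtain ⟨i0⟩ := hne
  letI : Unique (Fin m) := ⟨⟨i0⟩, fun j => hsub j i0⟩
  let e1 : ↥(centAlg N) ≃ₐ[F] Matrix (Fin (d i0)) (Fin (d i0)) (D i0) :=
    e.trans (AlgEquiv.ofRingEquiv
      (f := RingEquiv.piUnique (fun i : Fin m => Matrix (Fin (d i)) (Fin (d i)) (D i))) (fun x => rfl))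
  haveI : Finite (D i0) := Module.finite_of_finite F
  have hsurj : Function.Surjective (algebraMap F (D i0)) := by
    intro x
    let s : Matrix (Fin (d i0)) (Fin (d i0)) (D i0) := Matrix.scalar (Fin (d i0)) x
    let z : ↥(centAlg N) := e1.symm s
    have hz : ∀ c, c * z = z * c := by
      intro c
      apply e1.injective
      rw [map_mul, map_mul, AlgEquiv.apply_symm_apply]
      exact ((Matrix.scalar_commute x (fun r' => mul_comm x r') (e1 c)).eq).symm
    obtain ⟨c, hc⟩ := hcent z hz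
    have h1 : s = algebraMap F (Matrix (Fin (d i0)) (Fin (d i0)) (D i0)) c := by
      have := congrArg e1 hc
      rwa [AlgEquiv.apply_symm_apply, AlgEquiv.commutes] at this
    refine ⟨c, ?_⟩
    have h00 := congrFun (congrFun h1 0) 0
    simp only [s, Matrix.scalar_apply, Matrix.diagonal_apply_eq, Matrix.algebraMap_matrix_apply, if_true] at h00
    exact h00.symm
  let f : F ≃ₐ[F] D i0 := AlgEquiv.ofBijective (Algebra.ofId F (D i0))
    ⟨(algebraMap F (D i0)).injective, hsurj⟩
  exact ⟨d i0, ⟨e1.trans (AlgEquiv.mapMatrix f.symm)⟩⟩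

theorem asgclif_ab_core (hn : 0 < n) {H N : Subgroup (GL (Fin n) F)} (hH : Irr H) (hN : NormalIn N H) :
    (∃ (t m : ℕ) (D : Fin t → Submodule F (Fin n → F)), IsMDecomposition m D ∧
      H ≤ decompositionStabilizer D ∧
      ∀ i, ∀ g ∈ N, (D i).map (Matrix.toLin' (g : Matrix (Fin n) (Fin n) F)) ≤ D i) ∨
    (∃ (r : ℕ) (K : Subalgebra F (Matrix (Fin n) (Fin n) F)), r.Prime ∧ IsFieldSubalgebra r K ∧
      K ≤ asgZ N ∧ H ≤ subalgebraNormalizer K) ∨
    (∃ k : ℕ, Nonempty (↥(centAlg N) ≃ₐ[F] Matrix (Fin k) (Fin k) F)) := by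
  rcases asgclif_main' hn hH hN with h | h | h
  · exact Or.inl h
  · exact Or.inr (Or.inl h)
  · exact Or.inr (Or.inr (asgclif_matrix hn hH hN h))

end Cfsg.Agent.Lib.Helper27.ASC
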