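import Mathlib
import Cfsg.Prelude.Def_GeometricClasses
import Cfsg.Agent.Lib.Helper27.ASC.Defs
import Cfsg.Agent.Lib.Helper19.ASG.Defs
import Cfsg.Agent.Lib.Helper1.ASGCLIF5

set_option autoImplicit false
set_option linter.unusedVariables false

namespace Cfsg.Agent.Lib.Helper19.ASG

open Cfsg Cfsg.Geo Cfsg.Agent.Lib.Helper27.ASC
open scoped MatrixGroups Matrix

variable {n : ℕ} {F : Type*} [Field F] [Fintype F]

theorem clifford_ab (hn : 0 < n) {H N : Subgroup (GL (Fin n) F)} (hH : Irr H) (hN : NormalIn N H) :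
    InClass H ∨ ∃ k : ℕ, Nonempty (centAlg N ≃ₐ[F] Matrix (Fin k) (Fin k) F) := by
  rcases asgclif_ab_core hn hH hN with ⟨t, m, D, hD, hle, -⟩ | ⟨r, K, hr, hK, -, hle⟩ | h
  · exact Or.inl (inClass_of_dec D hD hle)
  · exact Or.inl (inClass_of_field hr K hK hle)
  · exact Or.inr h

end Cfsg.Agent.Lib.Helper19.ASG
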