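import Mathlib
import Cfsg.Prelude.Def_GeometricClasses
import Cfsg.Agent.Lib.Helper27.ASC.Defs
import Cfsg.Agent.Lib.Helper19.ASG.Defs
import Cfsg.Agent.Lib.Helper20.ASGALG

set_option autoImplicit false
set_option linter.unusedVariables false
set_option linter.unusedSectionVars false
set_option linter.style.haveILetI false

namespace Cfsg.Agent.Lib.Helper19.ASG

open Cfsg Cfsg.Geo Cfsg.Agent.Lib.Helper27.ASC
open scoped MatrixGroups Matrix Kronecker

variable {n : ℕ} {F : Type*} [Field F]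

def asgcnormConj (A : Subalgebra F (Matrix (Fin n) (Fin n) F)) (g : GL (Fin n) F)
    (hg : g ∈ subalgebraNormalizer A) : A →ₐ[F] A where
  toFun x := ⟨(g : Matrix (Fin n) (Fin n) F) * x.1 * ((g⁻¹ : GL (Fin n) F) : Matrix (Fin n) (Fin n) F),
    (hg x.1).mp x.2⟩
  map_one' := by
    apply Subtype.ext
    change (g : Matrix (Fin n) (Fin n) F) * 1 * ((g⁻¹ : GL (Fin n) F) : Matrix (Fin n) (Fin n) F) = 1
    rw [Matrix.mul_one, ← Units.val_mul, mul_inv_cancel, Units.val_one]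
  map_mul' x y := by
    apply Subtype.ext
    have e2 : ((g⁻¹ : GL (Fin n) F) : Matrix (Fin n) (Fin n) F) * (g : Matrix (Fin n) (Fin n) F) = 1 := by
      rw [← Units.val_mul, inv_mul_cancel, Units.val_one]
    change (g : Matrix (Fin n) (Fin n) F) * (x.1 * y.1) * ((g⁻¹ : GL (Fin n) F) : Matrix (Fin n) (Fin n) F) =
      ((g : Matrix (Fin n) (Fin n) F) * x.1 * ((g⁻¹ : GL (Fin n) F) : Matrix (Fin n) (Fin n) F)) *
      ((g : Matrix (Fin n) (Fin n) F) * y.1 * ((g⁻¹ : GL (Fin n) F) : Matrix (Fin n) (Fin n) F))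
    calc (g : Matrix (Fin n) (Fin n) F) * (x.1 * y.1) * ((g⁻¹ : GL (Fin n) F) : Matrix (Fin n) (Fin n) F)
        = (g : Matrix (Fin n) (Fin n) F) * x.1 * (1 * (y.1 * ((g⁻¹ : GL (Fin n) F) : Matrix (Fin n) (Fin n) F))) := by
          rw [Matrix.one_mul]; simp only [Matrix.mul_assoc]
      _ = _ := by rw [← e2]; simp only [Matrix.mul_assoc]
  map_zero' := by
    apply Subtype.ext
    change (g : Matrix (Fin n) (Fin n) F) * 0 * ((g⁻¹ : GL (Fin n) F) : Matrix (Fin n) (Fin n) F) = 0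
    rw [Matrix.mul_zero, Matrix.zero_mul]
  map_add' x y := by
    apply Subtype.ext
    change (g : Matrix (Fin n) (Fin n) F) * (x.1 + y.1) * ((g⁻¹ : GL (Fin n) F) : Matrix (Fin n) (Fin n) F) =
      ((g : Matrix (Fin n) (Fin n) F) * x.1 * ((g⁻¹ : GL (Fin n) F) : Matrix (Fin n) (Fin n) F)) +
      ((g : Matrix (Fin n) (Fin n) F) * y.1 * ((g⁻¹ : GL (Fin n) F) : Matrix (Fin n) (Fin n) F))
    rw [Matrix.mul_add, Matrix.add_mul]
  commutes' c := by
    apply Subtype.ext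
    change (g : Matrix (Fin n) (Fin n) F) * (algebraMap F (Matrix (Fin n) (Fin n) F) c) *
      ((g⁻¹ : GL (Fin n) F) : Matrix (Fin n) (Fin n) F) = algebraMap F (Matrix (Fin n) (Fin n) F) c
    rw [Algebra.algebraMap_eq_smul_one, Matrix.mul_smul, Matrix.smul_mul, Matrix.mul_one, ← Units.val_mul,
      mul_inv_cancel, Units.val_one]

theorem asgcnorm_conj_val (A : Subalgebra F (Matrix (Fin n) (Fin n) F)) (g : GL (Fin n) F)
    (hg : g ∈ subalgebraNormalizer A) (x : A) :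
    ((asgcnormConj A g hg x : A) : Matrix (Fin n) (Fin n) F) =
      (g : Matrix (Fin n) (Fin n) F) * x.1 * ((g⁻¹ : GL (Fin n) F) : Matrix (Fin n) (Fin n) F) := rfl

theorem asgcnorm_core {k d : ℕ} (hk : 0 < k) (A : Subalgebra F (Matrix (Fin n) (Fin n) F))
    (φ : A ≃ₐ[F] Matrix (Fin k) (Fin k) F) (e : Fin n ≃ Fin k × Fin d) (P : GL (Fin n) F)
    (hstd : ∀ a : Matrix (Fin k) (Fin k) F, ((φ.symm a : A) : Matrix (Fin n) (Fin n) F) =
      (P : Matrix (Fin n) (Fin n) F) *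
        Matrix.reindexAlgEquiv F F e.symm (a ⊗ₖ (1 : Matrix (Fin d) (Fin d) F)) *
        ((P⁻¹ : GL (Fin n) F) : Matrix (Fin n) (Fin n) F))
    (g : GL (Fin n) F) (hg : g ∈ subalgebraNormalizer A) :
    ∃ (a : GL (Fin k) F) (b : GL (Fin d) F),
      (g : Matrix (Fin n) (Fin n) F) = (P : Matrix (Fin n) (Fin n) F) *
        Matrix.reindexAlgEquiv F F e.symm ((a : Matrix (Fin k) (Fin k) F) ⊗ₖ (b : Matrix (Fin d) (Fin d) F)) *
        ((P⁻¹ : GL (Fin n) F) : Matrix (Fin n) (Fin n) F) := by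
  classical
  have eP1 : (P : Matrix (Fin n) (Fin n) F) * ((P⁻¹ : GL (Fin n) F) : Matrix (Fin n) (Fin n) F) = 1 := by
    rw [← Units.val_mul, mul_inv_cancel, Units.val_one]
  have eP2 : ((P⁻¹ : GL (Fin n) F) : Matrix (Fin n) (Fin n) F) * (P : Matrix (Fin n) (Fin n) F) = 1 := by
    rw [← Units.val_mul, inv_mul_cancel, Units.val_one]
  have eg1 : (g : Matrix (Fin n) (Fin n) F) * ((g⁻¹ : GL (Fin n) F) : Matrix (Fin n) (Fin n) F) = 1 := by
    rw [← Units.val_mul, mul_inv_cancel, Units.val_one]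
  have eg2 : ((g⁻¹ : GL (Fin n) F) : Matrix (Fin n) (Fin n) F) * (g : Matrix (Fin n) (Fin n) F) = 1 := by
    rw [← Units.val_mul, inv_mul_cancel, Units.val_one]
  let R : Matrix (Fin k × Fin d) (Fin k × Fin d) F ≃ₐ[F] Matrix (Fin n) (Fin n) F :=
    Matrix.reindexAlgEquiv F F e.symm
  let ψ : Matrix (Fin k) (Fin k) F → Matrix (Fin n) (Fin n) F := fun a => ((φ.symm a : A) : Matrix (Fin n) (Fin n) F)
  have hψmul : ∀ a b, ψ (a * b) = ψ a * ψ b := by
    intro a b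
    change ((φ.symm (a * b) : A) : Matrix (Fin n) (Fin n) F) = _
    rw [map_mul]
    rfl
  have hψone : ψ 1 = 1 := by
    change ((φ.symm 1 : A) : Matrix (Fin n) (Fin n) F) = _
    rw [map_one]
    rfl
  let α : Matrix (Fin k) (Fin k) F →ₐ[F] Matrix (Fin k) (Fin k) F :=
    (φ : A →ₐ[F] Matrix (Fin k) (Fin k) F).comp ((asgcnormConj A g hg).comp (φ.symm : Matrix (Fin k) (Fin k) F →ₐ[F] A))
  obtain ⟨c, hc⟩ := Cfsg.Agent.Lib.Helper20.ASGALG.asgalg_aut_inner α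
  have hconj : ∀ a, (g : Matrix (Fin n) (Fin n) F) * ψ a * ((g⁻¹ : GL (Fin n) F) : Matrix (Fin n) (Fin n) F) =
      ψ ((c : Matrix (Fin k) (Fin k) F) * a * ((c⁻¹ : GL (Fin k) F) : Matrix (Fin k) (Fin k) F)) := by
    intro a
    have h1 := hc a
    change φ (asgcnormConj A g hg (φ.symm a)) = _ at h1
    have h2 := congrArg (fun x => ((φ.symm x : A) : Matrix (Fin n) (Fin n) F)) h1
    simp only [AlgEquiv.symm_apply_apply] at h2
    rw [asgcnorm_conj_val] at h2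
    exact h2
  have ec2 : ((c⁻¹ : GL (Fin k) F) : Matrix (Fin k) (Fin k) F) * (c : Matrix (Fin k) (Fin k) F) = 1 := by
    rw [← Units.val_mul, inv_mul_cancel, Units.val_one]
  have ec1 : (c : Matrix (Fin k) (Fin k) F) * ((c⁻¹ : GL (Fin k) F) : Matrix (Fin k) (Fin k) F) = 1 := by
    rw [← Units.val_mul, mul_inv_cancel, Units.val_one]
  let y : Matrix (Fin n) (Fin n) F := ψ ((c⁻¹ : GL (Fin k) F) : Matrix (Fin k) (Fin k) F) * (g : Matrix (Fin n) (Fin n) F)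
  have hgy : (g : Matrix (Fin n) (Fin n) F) = ψ (c : Matrix (Fin k) (Fin k) F) * y := by
    change _ = ψ _ * (ψ _ * _)
    rw [← Matrix.mul_assoc, ← hψmul, ec1, hψone, Matrix.one_mul]
  have hycomm : ∀ a, y * ψ a = ψ a * y := by
    intro a
    have h1 : (g : Matrix (Fin n) (Fin n) F) * ψ a =
        ψ ((c : Matrix (Fin k) (Fin k) F) * a * ((c⁻¹ : GL (Fin k) F) : Matrix (Fin k) (Fin k) F)) *
          (g : Matrix (Fin n) (Fin n) F) := by
      rw [← hconj a, Matrix.mul_assoc, eg2, Matrix.mul_one]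
    have h2 : ((c⁻¹ : GL (Fin k) F) : Matrix (Fin k) (Fin k) F) *
        ((c : Matrix (Fin k) (Fin k) F) * a * ((c⁻¹ : GL (Fin k) F) : Matrix (Fin k) (Fin k) F)) =
        a * ((c⁻¹ : GL (Fin k) F) : Matrix (Fin k) (Fin k) F) := by
      rw [← Matrix.mul_assoc, ← Matrix.mul_assoc, ec2, Matrix.one_mul]
    calc y * ψ a = ψ ((c⁻¹ : GL (Fin k) F) : Matrix (Fin k) (Fin k) F) * ((g : Matrix (Fin n) (Fin n) F) * ψ a) :=
          Matrix.mul_assoc _ _ _
      _ = (ψ ((c⁻¹ : GL (Fin k) F) : Matrix (Fin k) (Fin k) F) *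
            ψ ((c : Matrix (Fin k) (Fin k) F) * a * ((c⁻¹ : GL (Fin k) F) : Matrix (Fin k) (Fin k) F))) *
            (g : Matrix (Fin n) (Fin n) F) := by rw [h1]; exact (Matrix.mul_assoc _ _ _).symm
      _ = ψ (a * ((c⁻¹ : GL (Fin k) F) : Matrix (Fin k) (Fin k) F)) * (g : Matrix (Fin n) (Fin n) F) := by
          rw [← hψmul, h2]
      _ = ψ a * y := by rw [hψmul]; exact Matrix.mul_assoc _ _ _
  let X : Matrix (Fin k × Fin d) (Fin k × Fin d) F :=
    R.symm (((P⁻¹ : GL (Fin n) F) : Matrix (Fin n) (Fin n) F) * y * (P : Matrix (Fin n) (Fin n) F))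
  have hRX : R X = ((P⁻¹ : GL (Fin n) F) : Matrix (Fin n) (Fin n) F) * y * (P : Matrix (Fin n) (Fin n) F) :=
    AlgEquiv.apply_symm_apply R _
  have hψR : ∀ a, ψ a = (P : Matrix (Fin n) (Fin n) F) * R (a ⊗ₖ (1 : Matrix (Fin d) (Fin d) F)) *
      ((P⁻¹ : GL (Fin n) F) : Matrix (Fin n) (Fin n) F) := hstd
  have hRa : ∀ a, R (a ⊗ₖ (1 : Matrix (Fin d) (Fin d) F)) =
      ((P⁻¹ : GL (Fin n) F) : Matrix (Fin n) (Fin n) F) * ψ a * (P : Matrix (Fin n) (Fin n) F) := by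
    intro a
    rw [hψR a]
    simp only [Matrix.mul_assoc]
    rw [eP2, Matrix.mul_one, ← Matrix.mul_assoc, eP2, Matrix.one_mul]
  have hXcomm : ∀ a : Matrix (Fin k) (Fin k) F,
      (a ⊗ₖ (1 : Matrix (Fin d) (Fin d) F)) * X = X * (a ⊗ₖ (1 : Matrix (Fin d) (Fin d) F)) := by
    intro a
    apply R.injective
    rw [map_mul, map_mul, hRX, hRa a]
    calc ((P⁻¹ : GL (Fin n) F) : Matrix (Fin n) (Fin n) F) * ψ a * (P : Matrix (Fin n) (Fin n) F) *
          (((P⁻¹ : GL (Fin n) F) : Matrix (Fin n) (Fin n) F) * y * (P : Matrix (Fin n) (Fin n) F))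
        = ((P⁻¹ : GL (Fin n) F) : Matrix (Fin n) (Fin n) F) * ψ a *
            ((P : Matrix (Fin n) (Fin n) F) * ((P⁻¹ : GL (Fin n) F) : Matrix (Fin n) (Fin n) F)) * y *
            (P : Matrix (Fin n) (Fin n) F) := by simp only [Matrix.mul_assoc]
      _ = ((P⁻¹ : GL (Fin n) F) : Matrix (Fin n) (Fin n) F) * (ψ a * y) * (P : Matrix (Fin n) (Fin n) F) := by
          rw [eP1, Matrix.mul_one]; simp only [Matrix.mul_assoc]
      _ = ((P⁻¹ : GL (Fin n) F) : Matrix (Fin n) (Fin n) F) * (y * ψ a) * (P : Matrix (Fin n) (Fin n) F) := by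
          rw [hycomm a]
      _ = ((P⁻¹ : GL (Fin n) F) : Matrix (Fin n) (Fin n) F) * y *
            ((P : Matrix (Fin n) (Fin n) F) * ((P⁻¹ : GL (Fin n) F) : Matrix (Fin n) (Fin n) F)) * ψ a *
            (P : Matrix (Fin n) (Fin n) F) := by rw [eP1, Matrix.mul_one]; simp only [Matrix.mul_assoc]
      _ = _ := by simp only [Matrix.mul_assoc]
  obtain ⟨b, hb⟩ := Cfsg.Agent.Lib.Helper20.ASGALG.asgalg_centralizer_kronecker X hXcomm
  have hy : y = (P : Matrix (Fin n) (Fin n) F) * R ((1 : Matrix (Fin k) (Fin k) F) ⊗ₖ b) *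
      ((P⁻¹ : GL (Fin n) F) : Matrix (Fin n) (Fin n) F) := by
    rw [← hb, hRX]
    simp only [Matrix.mul_assoc]
    rw [eP1, Matrix.mul_one, ← Matrix.mul_assoc, eP1, Matrix.one_mul]
  have hg' : (g : Matrix (Fin n) (Fin n) F) = (P : Matrix (Fin n) (Fin n) F) *
      R ((c : Matrix (Fin k) (Fin k) F) ⊗ₖ b) * ((P⁻¹ : GL (Fin n) F) : Matrix (Fin n) (Fin n) F) := by
    rw [hgy, hy, hψR]
    calc (P : Matrix (Fin n) (Fin n) F) * R ((c : Matrix (Fin k) (Fin k) F) ⊗ₖ (1 : Matrix (Fin d) (Fin d) F)) *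
          ((P⁻¹ : GL (Fin n) F) : Matrix (Fin n) (Fin n) F) *
          ((P : Matrix (Fin n) (Fin n) F) * R ((1 : Matrix (Fin k) (Fin k) F) ⊗ₖ b) *
            ((P⁻¹ : GL (Fin n) F) : Matrix (Fin n) (Fin n) F))
        = (P : Matrix (Fin n) (Fin n) F) * R ((c : Matrix (Fin k) (Fin k) F) ⊗ₖ (1 : Matrix (Fin d) (Fin d) F)) *
          (((P⁻¹ : GL (Fin n) F) : Matrix (Fin n) (Fin n) F) * (P : Matrix (Fin n) (Fin n) F)) *
          R ((1 : Matrix (Fin k) (Fin k) F) ⊗ₖ b) *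
            ((P⁻¹ : GL (Fin n) F) : Matrix (Fin n) (Fin n) F) := by simp only [Matrix.mul_assoc]
      _ = (P : Matrix (Fin n) (Fin n) F) * (R ((c : Matrix (Fin k) (Fin k) F) ⊗ₖ (1 : Matrix (Fin d) (Fin d) F)) *
          R ((1 : Matrix (Fin k) (Fin k) F) ⊗ₖ b)) *
            ((P⁻¹ : GL (Fin n) F) : Matrix (Fin n) (Fin n) F) := by
          rw [eP2, Matrix.mul_one]; simp only [Matrix.mul_assoc]
      _ = _ := by
          rw [← map_mul, ← Matrix.mul_kronecker_mul, Matrix.mul_one, Matrix.one_mul]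
  have hdetg : IsUnit (g : Matrix (Fin n) (Fin n) F).det :=
    (Matrix.isUnit_iff_isUnit_det _).mp g.isUnit
  have hdetb : IsUnit b.det := by
    rw [hg', Matrix.det_mul, Matrix.det_mul] at hdetg
    have h1 : IsUnit (R ((c : Matrix (Fin k) (Fin k) F) ⊗ₖ b)).det :=
      isUnit_of_mul_isUnit_right (isUnit_of_mul_isUnit_left hdetg)
    have h2 : (R ((c : Matrix (Fin k) (Fin k) F) ⊗ₖ b)).det =
        ((c : Matrix (Fin k) (Fin k) F) ⊗ₖ b).det := Matrix.det_reindexAlgEquiv F F e.symm _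
    rw [h2, Matrix.det_kronecker, Fintype.card_fin, Fintype.card_fin] at h1
    have h3 : IsUnit (b.det ^ k) := isUnit_of_mul_isUnit_right h1
    exact (isUnit_pow_iff (by omega)).mp h3
  have hbu : IsUnit b := (Matrix.isUnit_iff_isUnit_det b).mpr hdetb
  refine ⟨c, hbu.unit, ?_⟩
  rw [hg']
  rfl

end Cfsg.Agent.Lib.Helper19.ASG
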