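import Mathlib
import Cfsg.Prelude.Def_GeometricClasses
import Cfsg.Agent.Lib.Helper27.ASC.Defs
import Cfsg.Agent.Lib.Helper19.ASG.Defs
import Cfsg.Agent.Lib.Helper20.ASGCMEM
import Cfsg.Agent.Lib.Helper1.ASGCNORMcore

set_option autoImplicit false
set_option linter.unusedVariables false

namespace Cfsg.Agent.Lib.Helper19.ASG

open Cfsg Cfsg.Geo Cfsg.Agent.Lib.Helper27.ASC
open scoped MatrixGroups Matrix Kronecker

variable {n : ℕ} {F : Type*} [Field F]

theorem normalizer_le_tensor {k d : ℕ} (hk : 0 < k) (A : Subalgebra F (Matrix (Fin n) (Fin n) F))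
    (φ : A ≃ₐ[F] Matrix (Fin k) (Fin k) F) (e : Fin n ≃ Fin k × Fin d) (P : GL (Fin n) F)
    (hstd : ∀ a : Matrix (Fin k) (Fin k) F, ((φ.symm a : A) : Matrix (Fin n) (Fin n) F) =
      (P : Matrix (Fin n) (Fin n) F) *
        Matrix.reindexAlgEquiv F F e.symm (a ⊗ₖ (1 : Matrix (Fin d) (Fin d) F)) *
        ((P⁻¹ : GL (Fin n) F) : Matrix (Fin n) (Fin n) F)) :
    subalgebraNormalizer A ≤ tensorProductSubgroup k d e P := by
  intro g hg
  exact (mem_tensorProductSubgroup_iff e P g).mpr (asgcnorm_core hk A φ e P hstd g hg)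

end Cfsg.Agent.Lib.Helper19.ASG
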