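import Mathlib
import Cfsg.Prelude.Def_GeometricClasses
import Cfsg.Agent.Lib.Helper27.ASC.Defs
import Cfsg.Agent.Lib.Helper19.ASG.Defs
import Cfsg.Agent.Lib.Helper9.ASGD2T.Defs

set_option autoImplicit false
set_option linter.unusedVariables false
set_option linter.style.haveILetI false

namespace Cfsg.Agent.Lib.Helper19.ASG

open Cfsg Cfsg.Geo Cfsg.Agent.Lib.Helper27.ASC
open scoped MatrixGroups Matrix

variable {n : ℕ} {F : Type*} [Field F]

theorem asgd2tcentstd_apply {m t : ℕ} (i : Fin t) (a : Matrix (Fin m) (Fin m) F) (x y : Fin t → Fin m) :
    ptMat (Pi.mulSingle i a) x y = if (∀ j, j ≠ i → x j = y j) then a (x i) (y i) else 0 := by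
  rw [ptMat_apply]
  split_ifs with hxy
  · rw [Finset.prod_eq_single i]
    · rw [Pi.mulSingle_eq_same]
    · intro j _ hj
      rw [Pi.mulSingle_eq_of_ne hj, hxy j hj, Matrix.one_apply_eq]
    · intro hi
      exact absurd (Finset.mem_univ i) hi
  · push Not at hxy
    obtain ⟨j, hj, hne⟩ := hxy
    apply Finset.prod_eq_zero (Finset.mem_univ j)
    rw [Pi.mulSingle_eq_of_ne hj, Matrix.one_apply_ne hne]

theorem asgd2tcentstd_mul_right {m t : ℕ} (X : Matrix (Fin t → Fin m) (Fin t → Fin m) F) (i : Fin t)
    (p q : Fin m) (x y : Fin t → Fin m) :
    (X * ptMat (Pi.mulSingle i (Matrix.single p q (1 : F)))) x y =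
      if y i = q then X x (Function.update y i p) else 0 := by
  classical
  rw [Matrix.mul_apply]
  split_ifs with hq
  · rw [Finset.sum_eq_single (Function.update y i p)]
    · rw [asgd2tcentstd_apply, if_pos (fun j hj => Function.update_of_ne hj _ _), Function.update_self,
        hq, Matrix.single_apply_same, mul_one]
    · intro z _ hz
      rw [asgd2tcentstd_apply]
      split_ifs with hzy
      · have hzi : z i ≠ p := by
          intro hzi
          apply hz
          funext j
          by_cases hj : j = i
          · subst hj
            rw [Function.update_self, hzi]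
          · rw [Function.update_of_ne hj, hzy j hj]
        rw [Matrix.single_apply_of_row_ne (Ne.symm hzi), mul_zero]
      · rw [mul_zero]
    · intro h
      exact absurd (Finset.mem_univ _) h
  · apply Finset.sum_eq_zero
    intro z _
    rw [asgd2tcentstd_apply]
    split_ifs with hzy
    · rw [Matrix.single_apply_of_col_ne _ _ (Ne.symm hq), mul_zero]
    · rw [mul_zero]

theorem asgd2tcentstd_mul_left {m t : ℕ} (X : Matrix (Fin t → Fin m) (Fin t → Fin m) F) (i : Fin t)
    (p q : Fin m) (x y : Fin t → Fin m) :
    (ptMat (Pi.mulSingle i (Matrix.single p q (1 : F))) * X) x y =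
      if x i = p then X (Function.update x i q) y else 0 := by
  classical
  rw [Matrix.mul_apply]
  split_ifs with hp
  · rw [Finset.sum_eq_single (Function.update x i q)]
    · rw [asgd2tcentstd_apply, if_pos (fun j hj => (Function.update_of_ne hj _ _).symm), Function.update_self,
        hp, Matrix.single_apply_same, one_mul]
    · intro z _ hz
      rw [asgd2tcentstd_apply]
      split_ifs with hxz
      · have hzi : z i ≠ q := by
          intro hzi
          apply hz
          funext j
          by_cases hj : j = i
          · subst hj
            rw [Function.update_self, hzi]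
          · rw [Function.update_of_ne hj, hxz j hj]
        rw [Matrix.single_apply_of_col_ne _ _ (Ne.symm hzi), zero_mul]
      · rw [zero_mul]
    · intro h
      exact absurd (Finset.mem_univ _) h
  · apply Finset.sum_eq_zero
    intro z _
    rw [asgd2tcentstd_apply]
    split_ifs with hxz
    · rw [Matrix.single_apply_of_row_ne (Ne.symm hp), zero_mul]
    · rw [zero_mul]

theorem ptMat_cent {m t : ℕ} (X : Matrix (Fin t → Fin m) (Fin t → Fin m) F)
    (h : ∀ (i : Fin t) (a : Matrix (Fin m) (Fin m) F),
      X * ptMat (Pi.mulSingle i a) = ptMat (Pi.mulSingle i a) * X) : ∃ c : F, X = c • 1 := by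
  classical
  have key : ∀ (i : Fin t) (p q : Fin m) (x y : Fin t → Fin m),
      (if y i = q then X x (Function.update y i p) else 0) =
        (if x i = p then X (Function.update x i q) y else 0) := by
    intro i p q x y
    rw [← asgd2tcentstd_mul_right, ← asgd2tcentstd_mul_left, h i]
  have hoff : ∀ x y : Fin t → Fin m, x ≠ y → X x y = 0 := by
    intro x y hxy
    obtain ⟨i, hi⟩ := Function.ne_iff.mp hxy
    have := key i (y i) (y i) x y
    rw [if_pos rfl, Function.update_eq_self, if_neg hi] at this
    exact this
  have hstep : ∀ (x : Fin t → Fin m) (i : Fin t) (q : Fin m),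
      X x x = X (Function.update x i q) (Function.update x i q) := by
    intro x i q
    have := key i (x i) q x (Function.update x i q)
    rw [if_pos (Function.update_self i q x), Function.update_idem, Function.update_eq_self, if_pos rfl] at this
    exact this
  have hdiag : ∀ x x' : Fin t → Fin m, X x x = X x' x' := by
    intro x x'
    have hs : ∀ s : Finset (Fin t), X x x = X (s.piecewise x' x) (s.piecewise x' x) := by
      intro s
      induction s using Finset.induction_on with
      | empty => rw [Finset.piecewise_empty]
      | insert j s hj ih =>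
        rw [Finset.piecewise_insert, ← hstep]
        exact ih
    have := hs Finset.univ
    rwa [Finset.piecewise_univ] at this
  by_cases hne : Nonempty (Fin t → Fin m)
  · obtain ⟨x0⟩ := hne
    refine ⟨X x0 x0, ?_⟩
    ext x y
    rw [Matrix.smul_apply, Matrix.one_apply]
    split_ifs with hxy
    · subst hxy
      rw [smul_eq_mul, mul_one]
      exact hdiag x x0
    · rw [smul_zero]
      exact hoff x y hxy
  · refine ⟨0, ?_⟩
    ext x y
    exact absurd ⟨x⟩ hne

end Cfsg.Agent.Lib.Helper19.ASG
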