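import Mathlib
import Cfsg.Prelude.Def_GeometricClasses
import Cfsg.Agent.Lib.Helper27.ASC.Defs
import Cfsg.Agent.Lib.Helper19.ASG.Defs
import Cfsg.Agent.Lib.Helper9.ASGD2T.Defs
import Cfsg.Agent.Lib.Helper1.ASGCLIF5

set_option autoImplicit false
set_option linter.unusedVariables false

namespace Cfsg.Agent.Lib.Helper19.ASG

open Cfsg Cfsg.Geo Cfsg.Agent.Lib.Helper27.ASC
open scoped MatrixGroups Matrix

variable {n : ℕ} {F : Type*} [Field F]

theorem cent_matrix_of_centre [Fintype F] (hn : 0 < n) {H N : Subgroup (GL (Fin n) F)} (hH : Irr H) (hN : NormalIn N H)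
    (hZ : ∀ z ∈ centAlg N, (∀ c ∈ centAlg N, z * c = c * z) → ∃ r : F, z = r • (1 : Matrix (Fin n) (Fin n) F)) :
    ∃ k : ℕ, Nonempty (centAlg N ≃ₐ[F] Matrix (Fin k) (Fin k) F) := by
  refine asgclif_matrix hn hH hN (fun z hz => ?_)
  obtain ⟨h1, h2⟩ := asgclif_mem_Z.mp hz
  exact hZ z h1 (fun c hc => (h2 c hc).symm)

end Cfsg.Agent.Lib.Helper19.ASG
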