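import Mathlib
import Cfsg.Prelude.Def_GeometricClasses
import Cfsg.Agent.Lib.Helper27.ASC.Defs
import Cfsg.Agent.Lib.Helper19.ASG.Defs
import Cfsg.Agent.Lib.Helper9.ASGD2T.Defs

set_option autoImplicit false
set_option linter.unusedVariables false
set_option linter.style.haveILetI false

namespace Cfsg.Agent.Lib.Helper19.ASG

open Cfsg Cfsg.Geo Cfsg.Agent.Lib.Helper27.ASC
open scoped MatrixGroups Matrix

variable {n : ℕ} {F : Type*} [Field F]

theorem asgd2tenum_map_map {G : Type*} [Group G] (K : Subgroup G) (h k : G) :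
    (K.map (MulAut.conj k).toMonoidHom).map (MulAut.conj h).toMonoidHom =
      K.map (MulAut.conj (h * k)).toMonoidHom := by
  rw [Subgroup.map_map]
  congr 1
  ext x
  simp [MulAut.conj_apply, mul_assoc]

theorem asgd2tenum_map_one {G : Type*} [Group G] (K : Subgroup G) :
    K.map (MulAut.conj (1 : G)).toMonoidHom = K := by
  ext x
  simp

theorem enum_conj {G : Type*} [Group G] [Finite G] (H M : Subgroup G) :
    ∃ (t : ℕ) (X : Fin t → Subgroup G) (g : Fin t → G), Function.Injective X ∧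
      (∀ i, g i ∈ H ∧ X i = M.map (MulAut.conj (g i)).toMonoidHom) ∧ (∃ i, X i = M) ∧
      ∀ h ∈ H, ∃ π : Equiv.Perm (Fin t), ∀ i, (X i).map (MulAut.conj h).toMonoidHom = X (π i) := by
  classical
  haveI : Fintype (Subgroup G) := Fintype.ofFinite _
  let O : Finset (Subgroup G) :=
    Finset.univ.filter (fun K => ∃ h ∈ H, K = M.map (MulAut.conj h).toMonoidHom)
  have hOmem : ∀ K, K ∈ O ↔ ∃ h ∈ H, K = M.map (MulAut.conj h).toMonoidHom := by
    intro K
    change K ∈ Finset.univ.filter (fun K => ∃ h ∈ H, K = M.map (MulAut.conj h).toMonoidHom) ↔ _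
    rw [Finset.mem_filter]
    exact ⟨fun h => h.2, fun h => ⟨Finset.mem_univ _, h⟩⟩
  have hOconj : ∀ h ∈ H, ∀ K ∈ O, K.map (MulAut.conj h).toMonoidHom ∈ O := by
    intro h hh K hK
    obtain ⟨k, hk, rfl⟩ := (hOmem K).mp hK
    exact (hOmem _).mpr ⟨h * k, H.mul_mem hh hk, asgd2tenum_map_map M h k⟩
  have hMO : M ∈ O := (hOmem M).mpr ⟨1, H.one_mem, (asgd2tenum_map_one M).symm⟩
  let t := O.card
  let eqv : ↥O ≃ Fin t := O.equivFin
  let X : Fin t → Subgroup G := fun i => ((eqv.symm i : ↥O) : Subgroup G)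
  have hXO : ∀ i, X i ∈ O := fun i => (eqv.symm i).2
  have hXex : ∀ i, ∃ k ∈ H, X i = M.map (MulAut.conj k).toMonoidHom := fun i => (hOmem _).mp (hXO i)
  choose g hg using hXex
  have hXinj : Function.Injective X := by
    intro i j hij
    exact eqv.symm.injective (Subtype.ext hij)
  let c : ∀ h ∈ H, ↥O ≃ ↥O := fun h hh =>
    { toFun := fun K => ⟨K.1.map (MulAut.conj h).toMonoidHom, hOconj h hh K.1 K.2⟩
      invFun := fun K => ⟨K.1.map (MulAut.conj h⁻¹).toMonoidHom, hOconj h⁻¹ (H.inv_mem hh) K.1 K.2⟩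
      left_inv := fun K => Subtype.ext (by
        change (K.1.map (MulAut.conj h).toMonoidHom).map (MulAut.conj h⁻¹).toMonoidHom = K.1
        rw [asgd2tenum_map_map, inv_mul_cancel, asgd2tenum_map_one])
      right_inv := fun K => Subtype.ext (by
        change (K.1.map (MulAut.conj h⁻¹).toMonoidHom).map (MulAut.conj h).toMonoidHom = K.1
        rw [asgd2tenum_map_map, mul_inv_cancel, asgd2tenum_map_one]) }
  refine ⟨t, X, g, hXinj, fun i => ⟨(hg i).1, (hg i).2⟩, ⟨eqv ⟨M, hMO⟩, ?_⟩, ?_⟩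
  · change ((eqv.symm (eqv ⟨M, hMO⟩) : ↥O) : Subgroup G) = M
    rw [Equiv.symm_apply_apply]
  · intro h hh
    refine ⟨eqv.symm.trans ((c h hh).trans eqv), fun i => ?_⟩
    change (X i).map (MulAut.conj h).toMonoidHom =
      ((eqv.symm (eqv ((c h hh) (eqv.symm i))) : ↥O) : Subgroup G)
    rw [Equiv.symm_apply_apply]
    rfl

end Cfsg.Agent.Lib.Helper19.ASG
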