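import Mathlib
import Cfsg.Prelude.Def_GeometricClasses
import Cfsg.Agent.Lib.Helper27.ASC.Defs
import Cfsg.Agent.Lib.helper23.ASCO.Defs
import Cfsg.Agent.Lib.Helper19.ASG.Defs
import Cfsg.Agent.Lib.Helper1.ASGCLIF3
import Cfsg.Agent.Lib.Lead.Reindex
import Cfsg.Agent.Lib.Helper25.ASO.Defs
import Cfsg.Agent.Lib.Helper25.ASOADJ

set_option autoImplicit false
set_option linter.unusedVariables false
set_option linter.unusedSectionVars false
set_option linter.style.haveILetI false

namespace Cfsg.Agent.Lib.Helper25.ASO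

open Cfsg Cfsg.Geo Cfsg.Agent.Lib.Helper27.ASC Cfsg.Agent.Lib.helper23.ASCO Cfsg.Agent.Lib.Helper19.ASG
open scoped MatrixGroups Matrix Kronecker

variable {n : ℕ} {F : Type*} [Field F] [Fintype F]

theorem asodec2_mem_range (e : Matrix (Fin n) (Fin n) F) (hid : e * e = e) (w : Fin n → F) :
    w ∈ LinearMap.range (Matrix.toLin' e) ↔ e *ᵥ w = w := by
  constructor
  · rintro ⟨x, rfl⟩
    rw [Matrix.toLin'_apply, Matrix.mulVec_mulVec, hid]
  · intro h
    exact ⟨w, by rw [Matrix.toLin'_apply, h]⟩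

theorem asodec2_toLin_inj (h : GL (Fin n) F) :
    Function.Injective (Matrix.toLin' (h : Matrix (Fin n) (Fin n) F)) := by
  intro x y hxy
  have h1 := congrArg (fun z => ((h⁻¹ : GL (Fin n) F) : Matrix (Fin n) (Fin n) F) *ᵥ z) hxy
  simp only [Matrix.toLin'_apply, Matrix.mulVec_mulVec] at h1
  rw [← Units.val_mul, inv_mul_cancel, Units.val_one, Matrix.one_mulVec, Matrix.one_mulVec] at h1
  exact h1

theorem odec_of_selfadj (Q : QuadraticForm F (Fin n → F))
    (hQ : (QuadraticMap.polarBilin Q).Nondegenerate) {H N : Subgroup (GL (Fin n) F)}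
    (hHO : H ≤ isometryGroup F (⇑Q)) {t : ℕ} (E : Fin t → Matrix (Fin n) (Fin n) F)
    (hE : IsIdemSystem H N E) (hsa : ∀ i, oadj (⇑Q) (E i) = E i) :
    ∃ k : ℕ, IsOrthogonalMDecomposition (⇑Q) k (fun i => LinearMap.range (Matrix.toLin' (E i))) ∧
      H ≤ decompositionStabilizer (fun i => LinearMap.range (Matrix.toLin' (E i))) := by
  classical
  have hself : ∀ i (u v : Fin n → F),
      QuadraticMap.polar (⇑Q) (E i *ᵥ u) v = QuadraticMap.polar (⇑Q) u (E i *ᵥ v) := by
    intro i u v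
    rw [oadj_spec Q hQ, hsa]
  have hmap : ∀ h ∈ H, ∀ i j, asgConj h (E i) = E j →
      (LinearMap.range (Matrix.toLin' (E i))).map (Matrix.toLin' (h : Matrix (Fin n) (Fin n) F)) =
        LinearMap.range (Matrix.toLin' (E j)) := by
    intro h hh i j hij
    rw [asgclif_range_conj, hij]
  have ht := hE.two_le
  let i0 : Fin t := ⟨0, by omega⟩
  have hfr : ∀ i, Module.finrank F (LinearMap.range (Matrix.toLin' (E i))) =
      Module.finrank F (LinearMap.range (Matrix.toLin' (E i0))) := by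
    intro i
    obtain ⟨h, hh, hc⟩ := hE.trans i0 i
    rw [← hmap h hh i0 i hc]
    exact (LinearEquiv.finrank_eq (Submodule.equivMapOfInjective _ (asodec2_toLin_inj h) _)).symm
  have hpos : 0 < Module.finrank F (LinearMap.range (Matrix.toLin' (E i0))) := by
    rw [Module.finrank_pos_iff_exists_ne_zero]
    have hne : ∃ v : Fin n → F, E i0 *ᵥ v ≠ 0 := by
      by_contra hcon
      push Not at hcon
      apply hE.ne_zero i0
      apply Matrix.toLin'.injective
      apply LinearMap.ext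
      intro v
      rw [Matrix.toLin'_apply, hcon v, map_zero, LinearMap.zero_apply]
    obtain ⟨v, hv⟩ := hne
    refine ⟨⟨E i0 *ᵥ v, ⟨v, by rw [Matrix.toLin'_apply]⟩⟩, ?_⟩
    intro h0
    exact hv (congrArg Subtype.val h0)
  have htop : (⨆ i, LinearMap.range (Matrix.toLin' (E i))) = ⊤ := by
    rw [eq_top_iff]
    intro v _
    have hv : v = ∑ i, E i *ᵥ v := by
      rw [← Matrix.sum_mulVec, hE.sum, Matrix.one_mulVec]
    rw [hv]
    refine Submodule.sum_mem _ fun i _ => ?_
    exact Submodule.mem_iSup_of_mem i ⟨v, by rw [Matrix.toLin'_apply]⟩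
  have hnd : ∀ i, IsNondegenerateOn (QuadraticMap.polar (⇑Q)) (LinearMap.range (Matrix.toLin' (E i))) := by
    intro i w hw hw0
    have hw' := (asodec2_mem_range (E i) (hE.idem i) w).mp hw
    have hex : ∃ x, QuadraticMap.polar (⇑Q) x w ≠ 0 := by
      by_contra hcon
      push Not at hcon
      exact hw0 (hQ.2 w (fun x => hcon x))
    obtain ⟨x, hx⟩ := hex
    have hx' : QuadraticMap.polar (⇑Q) (E i *ᵥ x) w ≠ 0 := by
      rw [hself, hw']
      exact hx
    refine ⟨⟨E i *ᵥ x, ⟨x, by rw [Matrix.toLin'_apply]⟩, hx'⟩, ⟨E i *ᵥ x, ⟨x, by rw [Matrix.toLin'_apply]⟩, ?_⟩⟩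
    rw [QuadraticMap.polar_comm]
    exact hx'
  have horth : ∀ i j, i ≠ j → AreOrthogonalFor (QuadraticMap.polar (⇑Q))
      (LinearMap.range (Matrix.toLin' (E i))) (LinearMap.range (Matrix.toLin' (E j))) := by
    rintro i j hij _ ⟨u, rfl⟩ _ ⟨v, rfl⟩
    rw [Matrix.toLin'_apply, Matrix.toLin'_apply, hself, Matrix.mulVec_mulVec, hE.orth i j hij,
      Matrix.zero_mulVec]
    exact QuadraticMap.polar_zero_right _ _
  have hiso : ∀ i j, AreIsometricFor (⇑Q) (LinearMap.range (Matrix.toLin' (E i)))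
      (LinearMap.range (Matrix.toLin' (E j))) := by
    intro i j
    obtain ⟨h, hh, hc⟩ := hE.trans i j
    have hm := hmap h hh i j hc
    let e1 := Submodule.equivMapOfInjective (Matrix.toLin' (h : Matrix (Fin n) (Fin n) F))
      (asodec2_toLin_inj h) (LinearMap.range (Matrix.toLin' (E i)))
    let e2 := LinearEquiv.ofEq _ _ hm
    refine ⟨e1.trans e2, fun w => ?_⟩
    have h1 : (((e1.trans e2) w : LinearMap.range (Matrix.toLin' (E j))) : Fin n → F) =
        (h : Matrix (Fin n) (Fin n) F) *ᵥ (w : Fin n → F) := by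
      rw [LinearEquiv.trans_apply, LinearEquiv.coe_ofEq_apply, Submodule.coe_equivMapOfInjective_apply,
        Matrix.toLin'_apply]
    rw [h1]
    exact hHO hh (w : Fin n → F) (w : Fin n → F)
  refine ⟨Module.finrank F (LinearMap.range (Matrix.toLin' (E i0))),
    ⟨⟨⟨ht, hpos, hfr, asgclif_indep E hE.idem hE.orth, htop⟩, hnd, horth⟩, hiso⟩, ?_⟩
  intro h hh
  obtain ⟨σ, hσ⟩ := hE.perm h hh
  exact ⟨σ, fun i => hmap h hh i (σ i) (hσ i)⟩

end Cfsg.Agent.Lib.Helper25.ASO
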