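import Mathlib
import Cfsg.Prelude.Def_GeometricClasses
import Cfsg.Agent.Lib.Helper27.ASC.Defs
import Cfsg.Agent.Lib.helper23.ASCO.Defs
import Cfsg.Agent.Lib.Helper19.ASG.Defs
import Cfsg.Agent.Lib.Helper1.ASGCLIF3
import Cfsg.Agent.Lib.Helper1.ASGCLIF4
import Cfsg.Agent.Lib.Helper18.ASCSCHURB
import Cfsg.Agent.Lib.Lead.Reindex
import Cfsg.Agent.Lib.Helper25.ASO.Defs
import Cfsg.Agent.Lib.Helper25.ASOADJ
import Cfsg.Agent.Lib.Helper20.ASOSTAR

set_option autoImplicit false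
set_option linter.unusedVariables false
set_option linter.unusedSectionVars false
set_option linter.style.haveILetI false

namespace Cfsg.Agent.Lib.Helper25.ASO

open Cfsg Cfsg.Geo Cfsg.Agent.Lib.Helper27.ASC Cfsg.Agent.Lib.helper23.ASCO Cfsg.Agent.Lib.Helper19.ASG
open scoped MatrixGroups Matrix Kronecker

variable {n : ℕ} {F : Type*} [Field F] [Fintype F]

theorem asofld_core {b : ℕ} (hb : Odd b) (Q : QuadraticForm F (Fin n → F))
    (hQ : (QuadraticMap.polarBilin Q).Nondegenerate)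
    (K : Subalgebra F (Matrix (Fin n) (Fin n) F)) (hK : IsFieldSubalgebra b K)
    (hstar : ∀ z ∈ K, oadj (⇑Q) z ∈ K) : ∀ z ∈ K, oadj (⇑Q) z = z := by
  classical
  have hb0 : 0 < b := hb.pos
  letI : Field K := (asgclif_isField K hK hb0).toField
  haveI : Module.Finite F K := Module.finite_of_finrank_pos (by rw [hK.finrank_eq]; exact hb0)
  haveI : Finite K := Module.finite_of_finite F
  let σ : K ≃ₐ[F] K :=
    { toFun := fun z => ⟨oadj (⇑Q) (z : Matrix (Fin n) (Fin n) F), hstar z z.2⟩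
      invFun := fun z => ⟨oadj (⇑Q) (z : Matrix (Fin n) (Fin n) F), hstar z z.2⟩
      left_inv := fun z => Subtype.ext (oadj_oadj Q hQ z)
      right_inv := fun z => Subtype.ext (oadj_oadj Q hQ z)
      map_mul' := fun x y => Subtype.ext (by
        show oadj (⇑Q) ((x : Matrix (Fin n) (Fin n) F) * (y : Matrix (Fin n) (Fin n) F)) =
          oadj (⇑Q) (x : Matrix (Fin n) (Fin n) F) * oadj (⇑Q) (y : Matrix (Fin n) (Fin n) F)
        rw [oadj_mul Q hQ]
        exact hK.comm _ (hstar y y.2) _ (hstar x x.2))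
      map_add' := fun x y => Subtype.ext (oadj_add Q x y)
      commutes' := fun c => Subtype.ext (by
        show oadj (⇑Q) (algebraMap F (Matrix (Fin n) (Fin n) F) c) =
          algebraMap F (Matrix (Fin n) (Fin n) F) c
        rw [Algebra.algebraMap_eq_smul_one, oadj_smul, oadj_one Q hQ]) }
  have hσ2 : σ ^ 2 = 1 := by
    apply AlgEquiv.ext
    intro z
    rw [sq, AlgEquiv.mul_apply, AlgEquiv.one_apply]
    exact Subtype.ext (oadj_oadj Q hQ z)
  have h1 : orderOf σ ∣ 2 := orderOf_dvd_of_pow_eq_one hσ2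
  have h2 : orderOf σ ∣ b := by
    have h3 := orderOf_dvd_natCard σ
    rw [IsGalois.card_aut_eq_finrank, hK.finrank_eq] at h3
    exact h3
  have h4 : orderOf σ = 1 := by
    have h5 : orderOf σ ∣ Nat.gcd 2 b := Nat.dvd_gcd h1 h2
    have h6 : Nat.gcd 2 b = 1 := Nat.coprime_two_left.mpr hb
    rw [h6] at h5
    exact Nat.dvd_one.mp h5
  have h7 : σ = 1 := orderOf_eq_one_iff.mp h4
  intro z hz
  have h8 : σ ⟨z, hz⟩ = ⟨z, hz⟩ := by rw [h7, AlgEquiv.one_apply]
  exact congrArg Subtype.val h8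

theorem ofield_selfadj (hodd : Odd n) (h2 : (2 : F) ≠ 0) (Q : QuadraticForm F (Fin n → F))
    (hQ : (QuadraticMap.polarBilin Q).Nondegenerate) {H N : Subgroup (GL (Fin n) F)} (hH : Irr H)
    (hHO : H ≤ isometryGroup F (⇑Q)) (hN : NormalIn N H)
    (hidem : ∀ e ∈ asgZ N, e * e = e → e = 0 ∨ e = 1) : ∀ z ∈ asgZ N, oadj (⇑Q) z = z := by
  have hn : 0 < n := hodd.pos
  have hK := asgclif_field hn hH hN hidem
  have hdvd := field_finrank_dvd hn (asgZ N) hK
  have hb : Odd (Module.finrank F (asgZ N)) := Odd.of_dvd_nat hodd hdvd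
  exact asofld_core hb Q hQ (asgZ N) hK (fun z hz => star_mem_Z Q hQ (hN.1.trans hHO) z hz)

end Cfsg.Agent.Lib.Helper25.ASO
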