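import Mathlib
import Cfsg.Prelude.Def_GeometricClasses
import Cfsg.Agent.Lib.Helper27.ASC.Defs
import Cfsg.Agent.Lib.helper23.ASCO.Defs
import Cfsg.Agent.Lib.Helper19.ASG.Defs
import Cfsg.Agent.Lib.Helper1.ASGCLIF3
import Cfsg.Agent.Lib.Lead.Reindex
import Cfsg.Agent.Lib.Helper25.ASO.Defs
import Cfsg.Agent.Lib.Helper25.ASOADJ

set_option autoImplicit false
set_option linter.unusedVariables false
set_option linter.unusedSectionVars false
set_option linter.style.haveILetI false

namespace Cfsg.Agent.Lib.Helper25.ASO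

open Cfsg Cfsg.Geo Cfsg.Agent.Lib.Helper27.ASC Cfsg.Agent.Lib.helper23.ASCO Cfsg.Agent.Lib.Helper19.ASG
open scoped MatrixGroups Matrix Kronecker

variable {n : ℕ} {F : Type*} [Field F] [Fintype F]

theorem asofldn_self_cent (hn : 0 < n) (K : Subalgebra F (Matrix (Fin n) (Fin n) F))
    (hK : IsFieldSubalgebra n K) (c : Matrix (Fin n) (Fin n) F)
    (hc : ∀ k ∈ K, c * k = k * c) : c ∈ K := by
  classical
  let v : Fin n → F := Pi.single ⟨0, hn⟩ 1
  have hv : v ≠ 0 := by
    intro h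
    have := congrFun h ⟨0, hn⟩
    simp [v] at this
  let φ : K →ₗ[F] (Fin n → F) :=
    { toFun := fun k => (k : Matrix (Fin n) (Fin n) F) *ᵥ v
      map_add' := fun a b => by
        show ((a + b : K) : Matrix (Fin n) (Fin n) F) *ᵥ v = _
        rw [Subalgebra.coe_add, Matrix.add_mulVec]
      map_smul' := fun a b => by
        show ((a • b : K) : Matrix (Fin n) (Fin n) F) *ᵥ v = _
        rw [Subalgebra.coe_smul, Matrix.smul_mulVec, RingHom.id_apply] }
  have hφ : ∀ k : K, φ k = (k : Matrix (Fin n) (Fin n) F) *ᵥ v := fun k => rfl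
  have hinj : Function.Injective φ := by
    rw [← LinearMap.ker_eq_bot, LinearMap.ker_eq_bot']
    intro k hk
    rw [hφ] at hk
    by_contra hk0
    have hk0' : (k : Matrix (Fin n) (Fin n) F) ≠ 0 := fun h => hk0 (Subtype.ext h)
    obtain ⟨y, hy, hky⟩ := hK.inv k k.2 hk0'
    have hyk : y * (k : Matrix (Fin n) (Fin n) F) = 1 := by
      rw [← hK.comm k k.2 y hy]
      exact hky
    apply hv
    calc v = (1 : Matrix (Fin n) (Fin n) F) *ᵥ v := (Matrix.one_mulVec v).symm
      _ = y *ᵥ ((k : Matrix (Fin n) (Fin n) F) *ᵥ v) := by rw [← hyk, Matrix.mulVec_mulVec]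
      _ = 0 := by rw [hk, Matrix.mulVec_zero]
  have hfin : Module.finrank F K = Module.finrank F (Fin n → F) := by
    rw [hK.finrank_eq, Module.finrank_fintype_fun_eq_card, Fintype.card_fin]
  have hsurj : Function.Surjective φ :=
    (LinearMap.injective_iff_surjective_of_finrank_eq_finrank hfin).mp hinj
  obtain ⟨k₀, hk₀⟩ := hsurj (c *ᵥ v)
  have heq : c = (k₀ : Matrix (Fin n) (Fin n) F) := by
    apply Matrix.toLin'.injective
    apply LinearMap.ext
    intro w
    obtain ⟨k, rfl⟩ := hsurj w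
    rw [Matrix.toLin'_apply, Matrix.toLin'_apply, hφ, Matrix.mulVec_mulVec, hc k k.2,
      ← Matrix.mulVec_mulVec, ← hk₀, hφ, Matrix.mulVec_mulVec, Matrix.mulVec_mulVec,
      hK.comm k k.2 k₀ k₀.2]
  rw [heq]
  exact k₀.2

theorem ofield_degree_ne (hn : 2 ≤ n) (h2 : (2 : F) ≠ 0) (Q : QuadraticForm F (Fin n → F))
    (hQ : (QuadraticMap.polarBilin Q).Nondegenerate) {N : Subgroup (GL (Fin n) F)}
    (hNO : N ≤ isometryGroup F (⇑Q)) (K : Subalgebra F (Matrix (Fin n) (Fin n) F))
    (hK : IsFieldSubalgebra n K) (hKZ : K ≤ asgZ N) (hsa : ∀ z ∈ asgZ N, oadj (⇑Q) z = z) : False := by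
  classical
  have hn0 : 0 < n := by omega
  have hNK : ∀ x ∈ N, (x : Matrix (Fin n) (Fin n) F) ∈ K := by
    intro x hx
    apply asofldn_self_cent hn0 K hK
    intro k hk
    have h1 : k ∈ centAlg N := (asgclif_mem_Z.mp (hKZ hk)).1
    exact (Subalgebra.mem_centralizer_iff F).mp h1 _ ⟨x, hx, rfl⟩
  have hpm : ∀ x ∈ N, (x : Matrix (Fin n) (Fin n) F) = 1 ∨ (x : Matrix (Fin n) (Fin n) F) = -1 := by
    intro x hx
    have hxK := hNK x hx
    have h1 : oadj (⇑Q) (x : Matrix (Fin n) (Fin n) F) = (x : Matrix (Fin n) (Fin n) F) :=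
      hsa _ (hKZ hxK)
    rw [oadj_of_iso Q hQ x (hNO hx)] at h1
    have hxx : (x : Matrix (Fin n) (Fin n) F) * (x : Matrix (Fin n) (Fin n) F) = 1 := by
      calc (x : Matrix (Fin n) (Fin n) F) * (x : Matrix (Fin n) (Fin n) F)
          = ((x⁻¹ : GL (Fin n) F) : Matrix (Fin n) (Fin n) F) * (x : Matrix (Fin n) (Fin n) F) := by
            rw [h1]
        _ = 1 := by rw [← Units.val_mul, inv_mul_cancel, Units.val_one]
    have hprod : ((x : Matrix (Fin n) (Fin n) F) - 1) * ((x : Matrix (Fin n) (Fin n) F) + 1) = 0 := by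
      rw [sub_mul, mul_add, mul_add, hxx, mul_one, one_mul, one_mul]
      abel
    by_cases hx1 : (x : Matrix (Fin n) (Fin n) F) - 1 = 0
    · left
      exact sub_eq_zero.mp hx1
    · right
      have hmem : (x : Matrix (Fin n) (Fin n) F) - 1 ∈ K := K.sub_mem hxK K.one_mem
      obtain ⟨y, hy, hxy⟩ := hK.inv _ hmem hx1
      have hyx : y * ((x : Matrix (Fin n) (Fin n) F) - 1) = 1 := by
        rw [← hK.comm _ hmem y hy]
        exact hxy
      have h3 : (x : Matrix (Fin n) (Fin n) F) + 1 = 0 := by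
        calc (x : Matrix (Fin n) (Fin n) F) + 1
            = (y * ((x : Matrix (Fin n) (Fin n) F) - 1)) * ((x : Matrix (Fin n) (Fin n) F) + 1) := by
              rw [hyx, one_mul]
          _ = 0 := by rw [mul_assoc, hprod, mul_zero]
      exact eq_neg_of_add_eq_zero_left h3
  have hall : ∀ c : Matrix (Fin n) (Fin n) F, c ∈ centAlg N := by
    intro c
    rw [Subalgebra.mem_centralizer_iff]
    rintro _ ⟨x, hx, rfl⟩
    rcases hpm x hx with h | h
    · show (x : Matrix (Fin n) (Fin n) F) * c = c * (x : Matrix (Fin n) (Fin n) F)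
      rw [h, one_mul, mul_one]
    · show (x : Matrix (Fin n) (Fin n) F) * c = c * (x : Matrix (Fin n) (Fin n) F)
      rw [h, neg_mul, mul_neg, one_mul, mul_one]
  have hscal : ∀ k ∈ K, ∃ a : F, k = a • (1 : Matrix (Fin n) (Fin n) F) := by
    intro k hk
    have h1 := (asgclif_mem_Z.mp (hKZ hk)).2
    have h2 : k ∈ Set.range (Matrix.scalar (Fin n)) := by
      apply Matrix.mem_range_scalar_of_commute_single
      intro i j _
      exact h1 _ (hall _)
    obtain ⟨a, ha⟩ := h2
    refine ⟨a, ?_⟩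
    rw [← ha, Matrix.scalar_apply, Matrix.smul_one_eq_diagonal]
  have hle : Module.finrank F K ≤ 1 := by
    refine finrank_le_one (1 : K) fun w => ?_
    obtain ⟨a, ha⟩ := hscal w w.2
    refine ⟨a, Subtype.ext ?_⟩
    rw [Subalgebra.coe_smul, Subalgebra.coe_one, ha]
  rw [hK.finrank_eq] at hle
  omega

end Cfsg.Agent.Lib.Helper25.ASO
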