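import Mathlib
import Cfsg.Prelude.Def_GeometricClasses
import Cfsg.Agent.Lib.Helper27.ASC.Defs
import Cfsg.Agent.Lib.Helper19.ASG.Defs
import Cfsg.Agent.Lib.Helper18.ASP.Defs
import Cfsg.Agent.Lib.Helper18.ASPADJ
import Cfsg.Agent.Lib.Helper9.ASGD2T.Defs
import Cfsg.Agent.Lib.Helper9.ASGD2TF.Defs
import Cfsg.Agent.Lib.helper8.ASPC.Defs
import Cfsg.Agent.Lib.Helper9.ASPCEVQ1
import Cfsg.Agent.Lib.Helper11.ASGD2TPTMUL

set_option autoImplicit false
set_option linter.unusedVariables false
set_option linter.unusedSectionVars false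

namespace Cfsg.Agent.Lib.Helper18.ASP

open Cfsg Cfsg.Geo Cfsg.Agent.Lib.Helper27.ASC Cfsg.Agent.Lib.Helper19.ASG
open scoped MatrixGroups Matrix

variable {n : ℕ} {F : Type*} [Field F] [Fintype F]

theorem aspd2tspeven_zero {κ : Type} [Fintype κ] [DecidableEq κ] (D : (κ → F) → F)
    (hadd : ∀ x y, D (x + y) = D x + D y)
    (hsm : ∀ (c : F) x, D (c • x) = c ^ 2 * D x) (hb : ∀ p, D (Pi.single p 1) = 0) :
    ∀ x, D x = 0 := by
  intro x
  let φ : (κ → F) →+ F := AddMonoidHom.mk' D hadd
  have hx : x = ∑ p, x p • (Pi.single p (1 : F) : κ → F) := by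
    ext q
    simp [Finset.sum_apply, Pi.single_apply]
  have h1 : D x = φ x := rfl
  rw [h1, hx, map_sum]
  apply Finset.sum_eq_zero
  intro p _
  show D _ = 0
  rw [hsm, hb, mul_zero]

theorem aspd2tspeven_smul {κ : Type} [Fintype κ] (M : Matrix κ κ F) (c : F) (x : κ → F) :
    formOfGram id M (c • x) (c • x) = c ^ 2 * formOfGram id M x x := by
  unfold formOfGram
  rw [Finset.mul_sum]
  refine Finset.sum_congr rfl fun a _ => ?_
  rw [Finset.mul_sum]
  refine Finset.sum_congr rfl fun b _ => ?_
  simp only [Pi.smul_apply, smul_eq_mul, id]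
  ring

theorem aspd2tspeven_dot {κ : Type} [Fintype κ] (M : Matrix κ κ F) (x y : κ → F) :
    formOfGram id M x y = x ⬝ᵥ (M *ᵥ y) := by
  unfold formOfGram
  simp only [dotProduct, Matrix.mulVec, Finset.mul_sum, id, mul_assoc]

theorem aspd2tspeven_inv {κ : Type} [Fintype κ] [DecidableEq κ] (M R : Matrix κ κ F)
    (h : Rᵀ * M * R = M) (x y : κ → F) :
    formOfGram id M (R *ᵥ x) (R *ᵥ y) = formOfGram id M x y := by
  rw [aspd2tspeven_dot, aspd2tspeven_dot]
  conv_rhs => rw [← h]
  rw [← Matrix.vecMul_transpose R x, ← Matrix.dotProduct_mulVec, Matrix.mulVec_mulVec,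
    Matrix.mulVec_mulVec, Matrix.mul_assoc]

theorem aspd2tspeven_ptMat_transpose {m t : ℕ} (c : Fin t → Matrix (Fin m) (Fin m) F) :
    (ptMat c)ᵀ = ptMat (fun i => (c i)ᵀ) := by
  ext x y
  simp [ptMat_apply, Matrix.transpose_apply]

theorem aspd2tspeven_conj {k t : ℕ} (A : Matrix (Fin k) (Fin k) F) (i : Fin t)
    (a : Matrix (Fin k) (Fin k) F) (haA : aᵀ * A * a = A) :
    (ptMat (Pi.mulSingle i a))ᵀ * ptMat (fun _ : Fin t => A) * ptMat (Pi.mulSingle i a) =
      ptMat (fun _ : Fin t => A) := by
  rw [aspd2tspeven_ptMat_transpose, ← ptMat_mul, ← ptMat_mul]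
  congr 1
  funext j
  by_cases hj : j = i
  · subst hj
    simp only [Pi.mul_apply, Pi.mulSingle_eq_same]
    exact haA
  · simp only [Pi.mul_apply, Pi.mulSingle_eq_of_ne hj, Matrix.transpose_one, Matrix.one_mul, Matrix.mul_one]

theorem aspd2tspeven_core (h2 : (2 : F) = 0) {k t : ℕ} (ht : 2 ≤ t) (e : Fin n ≃ (Fin t → Fin k))
    (A : Matrix (Fin k) (Fin k) F) (hAd : ∀ p, A p p = 0) (c : F)
    (Gh : Matrix (Fin n) (Fin n) F) (hGhT : Ghᵀ = Gh) (hGh0 : ∀ p, Gh p p = 0)
    (hgram : Gh = c • Matrix.reindex e.symm e.symm (ptMat (fun _ : Fin t => A)))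
    (i : Fin t) (a : Matrix (Fin k) (Fin k) F) (haA : aᵀ * A * a = A) (w : Fin n → F) :
    formOfGram id (upperPart Gh) (Matrix.reindex e.symm e.symm (ptMat (Pi.mulSingle i a)) *ᵥ w)
        (Matrix.reindex e.symm e.symm (ptMat (Pi.mulSingle i a)) *ᵥ w) =
      formOfGram id (upperPart Gh) w w := by
  classical
  set R : Matrix (Fin n) (Fin n) F := Matrix.reindex e.symm e.symm (ptMat (Pi.mulSingle i a)) with hR
  set U := upperPart Gh with hU
  have hUU : U + Uᵀ = Gh := by
    ext p q
    rw [Matrix.add_apply, Matrix.transpose_apply]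
    exact aspcevq1_upper Gh hGhT hGh0 p q
  have hRG : Rᵀ * Gh * R = Gh := by
    rw [hgram, hR]
    simp only [Matrix.reindex_apply, Equiv.symm_symm]
    rw [Matrix.transpose_submatrix, Matrix.mul_smul, Matrix.smul_mul, Matrix.submatrix_mul_equiv,
      Matrix.submatrix_mul_equiv, aspd2tspeven_conj A i a haA]
  have hpolar : ∀ x y : Fin n → F, formOfGram id U (x + y) (x + y) =
      formOfGram id U x x + formOfGram id U y y + formOfGram id Gh x y := by
    intro x y
    have := aspcevq1_polar U x y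
    rw [hUU] at this
    linear_combination this
  have key := aspd2tspeven_zero (F := F)
    (fun w : Fin n → F => formOfGram id U (R *ᵥ w) (R *ᵥ w) - formOfGram id U w w) ?_ ?_ ?_ w
  · exact sub_eq_zero.mp key
  · intro x y
    rw [Matrix.mulVec_add, hpolar, hpolar x y, aspd2tspeven_inv Gh R hRG]
    ring
  · intro r x
    rw [Matrix.mulVec_smul, aspd2tspeven_smul, aspd2tspeven_smul]
    ring
  · intro p
    have h1 : formOfGram id U (Pi.single p 1) (Pi.single p 1) = 0 := by
      unfold formOfGram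
      apply Finset.sum_eq_zero
      intro x _
      apply Finset.sum_eq_zero
      intro y _
      by_cases hx : x = p
      · by_cases hy : y = p
        · subst hx
          subst hy
          rw [hU, upperPart_apply, if_neg (lt_irrefl _)]
          simp
        · simp [Pi.single_apply, hy]
      · simp [Pi.single_apply, hx]
    have h2' : formOfGram id U (R *ᵥ Pi.single p 1) (R *ᵥ Pi.single p 1) = 0 := by
      unfold formOfGram
      apply Finset.sum_eq_zero
      intro x _
      apply Finset.sum_eq_zero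
      intro y _
      rw [Matrix.mulVec_single_one]
      simp only [Matrix.col_apply, id]
      have hRx : ∀ z, R z p = if ∀ j, j ≠ i → e z j = e p j then a (e z i) (e p i) else 0 := by
        intro z
        rw [hR, Matrix.reindex_apply, Matrix.submatrix_apply, Equiv.symm_symm, asgd2tptmul_single_apply]
      obtain ⟨j, hj⟩ : ∃ j : Fin t, j ≠ i := by
        by_cases hi : (i : ℕ) = 0
        · refine ⟨⟨1, by omega⟩, ?_⟩
          intro h
          have := congrArg Fin.val h
          simp only at this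
          omega
        · refine ⟨⟨0, by omega⟩, ?_⟩
          intro h
          have := congrArg Fin.val h
          simp only at this
          omega
      by_cases hxj : e x j = e p j
      · by_cases hyj : e y j = e p j
        · have hG : Gh x y = 0 := by
            rw [hgram, Matrix.smul_apply, Matrix.reindex_apply, Matrix.submatrix_apply, Equiv.symm_symm,
              ptMat_apply, Finset.prod_eq_zero (Finset.mem_univ j), smul_zero]
            rw [hxj, hyj]
            exact hAd _
          have hUxy : U x y = 0 := by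
            rw [hU, upperPart_apply, hG]
            simp
          rw [hUxy]
          ring
        · have : R y p = 0 := by
            rw [hRx, if_neg]
            intro h
            exact hyj (h j hj)
          rw [this, mul_zero]
      · have : R x p = 0 := by
          rw [hRx, if_neg]
          intro h
          exact hxj (h j hj)
        rw [this, zero_mul, zero_mul]
    rw [h1, h2', sub_zero]

theorem sp_even_quad (h2 : (2 : F) = 0) (f : (Fin n → F) → (Fin n → F) → F) (hf : IsSymplecticForm f) {k t : ℕ}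
    (ht : 2 ≤ t) (e : Fin n ≃ (Fin t → Fin k)) (B : GL (Fin n) F) (A : Matrix (Fin k) (Fin k) F)
    (hAd : ∀ p, A p p = 0) (c : F)
    (hgram : (B : Matrix (Fin n) (Fin n) F)ᵀ * ascformGram f * (B : Matrix (Fin n) (Fin n) F) =
      c • Matrix.reindex e.symm e.symm (ptMat (fun _ : Fin t => A))) :
    ∃ Q : (Fin n → F) → F, IsNondegenerateQuadraticForm Q ∧
      ∀ (i : Fin t) (a : Matrix (Fin k) (Fin k) F), aᵀ * A * a = A →
        ∀ v : Fin n → F, Q (tensorFac e B i a *ᵥ v) = Q v := by
  classical
  set Bm : Matrix (Fin n) (Fin n) F := (B : Matrix (Fin n) (Fin n) F) with hBm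
  set Bi : Matrix (Fin n) (Fin n) F := ((B⁻¹ : GL (Fin n) F) : Matrix (Fin n) (Fin n) F) with hBi
  set G : Matrix (Fin n) (Fin n) F := ascformGram f with hG
  set Gh : Matrix (Fin n) (Fin n) F := Bmᵀ * G * Bm with hGh
  have hBiB : Bi * Bm = 1 := by
    rw [hBi, hBm, ← Units.val_mul, inv_mul_cancel, Units.val_one]
  have hBBi : Bm * Bi = 1 := by
    rw [hBi, hBm, ← Units.val_mul, mul_inv_cancel, Units.val_one]
  have hneg : ∀ x : F, -x = x := by
    intro x
    have hx : x + x = 0 := by rw [← two_mul, h2, zero_mul]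
    exact neg_eq_of_add_eq_zero_left hx
  have hGhT : Ghᵀ = Gh := by
    rw [hGh, Matrix.transpose_mul, Matrix.transpose_mul, Matrix.transpose_transpose, hG,
      aspadj_gram_transpose hf, ← Matrix.mul_assoc]
    ext p q
    rw [Matrix.mul_neg, Matrix.neg_mul, Matrix.neg_apply, hneg]
  have hGhform : ∀ x y : Fin n → F, formOfGram id Gh x y = f (Bm *ᵥ x) (Bm *ᵥ y) := by
    intro x y
    rw [aspadj_gram hf, aspd2tspeven_dot, hGh, ← hG, ← Matrix.vecMul_transpose Bm x,
      ← Matrix.dotProduct_mulVec, Matrix.mulVec_mulVec, Matrix.mulVec_mulVec, Matrix.mul_assoc]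
  have hGh0 : ∀ p, Gh p p = 0 := by
    intro p
    have h4 : Gh p p = formOfGram id Gh (Pi.single p 1) (Pi.single p 1) := by
      rw [aspd2tspeven_dot, Matrix.mulVec_single_one, single_one_dotProduct]
      rfl
    rw [h4, hGhform]
    exact hf.alternating _
  set U := upperPart Gh with hU
  have hUU : U + Uᵀ = Gh := by
    ext p q
    rw [Matrix.add_apply, Matrix.transpose_apply]
    exact aspcevq1_upper Gh hGhT hGh0 p q
  refine ⟨fun v => formOfGram id U (Bi *ᵥ v) (Bi *ᵥ v), ?_, ?_⟩
  · have hpol : QuadraticMap.polar (fun v : Fin n → F => formOfGram id U (Bi *ᵥ v) (Bi *ᵥ v)) = f := by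
      funext u v
      unfold QuadraticMap.polar
      simp only
      rw [Matrix.mulVec_add, aspcevq1_polar, hUU, hGhform, Matrix.mulVec_mulVec, Matrix.mulVec_mulVec,
        hBBi, Matrix.one_mulVec, Matrix.one_mulVec]
    refine ⟨fun r v => ?_, ?_, ?_⟩
    · rw [Matrix.mulVec_smul, aspd2tspeven_smul]
    · rw [hpol]
      exact hf.bilinear
    · rw [hpol]
      exact hf.nondegenerate
  · intro i a haA v
    simp only
    have hT : Bi *ᵥ (tensorFac e B i a *ᵥ v) =
        Matrix.reindex e.symm e.symm (ptMat (Pi.mulSingle i a)) *ᵥ (Bi *ᵥ v) := by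
      rw [tensorFac_def, Matrix.mulVec_mulVec, Matrix.mulVec_mulVec, ← hBm, ← hBi, ← Matrix.mul_assoc,
        ← Matrix.mul_assoc, hBiB, Matrix.one_mul]
    rw [hT]
    exact aspd2tspeven_core h2 ht e A hAd c Gh hGhT hGh0 hgram i a haA (Bi *ᵥ v)

end Cfsg.Agent.Lib.Helper18.ASP
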