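import Mathlib
import Cfsg.Prelude.Def_Solvable

set_option autoImplicit false

namespace Cfsg.Agent.Lib.Helper1

open scoped Pointwise

variable {G : Type*} [Group G]

theorem sSup_normal_of_forall_normal (S : Set (Subgroup G)) (h : ∀ N ∈ S, N.Normal) :
    (sSup S).Normal := by
  rw [sSup_eq_iSup']
  have : ∀ i : S, (i : Subgroup G).Normal := fun i => h i i.2
  exact Subgroup.iSup_normal _

theorem pCore_normal (p : ℕ) : (Cfsg.pCore p G).Normal :=
  sSup_normal_of_forall_normal _ (fun _ hN => hN.1)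

theorem pPrimeCore_normal (p : ℕ) : (Cfsg.pPrimeCore p G).Normal :=
  sSup_normal_of_forall_normal _ (fun _ hN => hN.1)

theorem fittingSubgroup_normal : (Cfsg.fittingSubgroup G).Normal :=
  sSup_normal_of_forall_normal _ (fun _ hN => hN.1)

theorem le_pCore {p : ℕ} {N : Subgroup G} (hN : N.Normal) (hp : IsPGroup p N) :
    N ≤ Cfsg.pCore p G :=
  le_sSup ⟨hN, hp⟩

theorem le_pPrimeCore {p : ℕ} {N : Subgroup G} (hN : N.Normal) (hp : (Nat.card N).Coprime p) :
    N ≤ Cfsg.pPrimeCore p G :=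
  le_sSup ⟨hN, hp⟩

theorem le_fittingSubgroup {N : Subgroup G} (hN : N.Normal) (hp : Group.IsNilpotent N) :
    N ≤ Cfsg.fittingSubgroup G :=
  le_sSup ⟨hN, hp⟩

theorem pCore_isPGroup (p : ℕ) [Fact p.Prime] : IsPGroup p (Cfsg.pCore p G) :=
  Sylow.sSup_of_normal _ (fun _ hN => hN.2) (fun _ hN => hN.1)

theorem pCore_le_sylow (p : ℕ) [Fact p.Prime] (P : Sylow p G) : Cfsg.pCore p G ≤ P := by
  have := pCore_normal (G := G) p
  exact (pCore_isPGroup p).le_sylow_of_normal P

theorem iInf_sylow_normal (p : ℕ) [Fact p.Prime] : (⨅ P : Sylow p G, (P : Subgroup G)).Normal := by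
  constructor
  intro n hn g
  rw [Subgroup.mem_iInf] at hn ⊢
  intro P
  have h1 := hn (g⁻¹ • P)
  rw [Sylow.coe_subgroup_smul, Subgroup.mem_pointwise_smul_iff_inv_smul_mem] at h1
  simpa using h1

theorem pCore_eq_iInf_sylow (p : ℕ) [Fact p.Prime] :
    Cfsg.pCore p G = ⨅ P : Sylow p G, (P : Subgroup G) := by
  apply le_antisymm
  · exact le_iInf (pCore_le_sylow p)
  · apply le_pCore (iInf_sylow_normal p)
    obtain ⟨P⟩ := (inferInstance : Nonempty (Sylow p G))
    exact P.2.to_le (iInf_le _ P)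

end Cfsg.Agent.Lib.Helper1
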