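import Mathlib
import Cfsg.Prelude.Def_Solvable
import Cfsg.Agent.Lib.Helper1.Cores

set_option autoImplicit false

namespace Cfsg.Agent.Lib.Helper1

open scoped Pointwise

variable {G : Type*} [Group G]

theorem card_mul_relIndex_of_le {H K : Subgroup G} (h : H ≤ K) :
    Nat.card H * H.relIndex K = Nat.card K := by
  rw [← Subgroup.relIndex_bot_left, ← Subgroup.relIndex_bot_left (H := K)]
  exact Subgroup.relIndex_mul_relIndex ⊥ H K bot_le h

theorem card_sup_dvd_mul [Finite G] (M N : Subgroup G) [N.Normal] :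
    Nat.card (M ⊔ N : Subgroup G) ∣ Nat.card M * Nat.card N := by
  rw [← card_mul_relIndex_of_le (le_sup_right : N ≤ M ⊔ N), Subgroup.relIndex_sup_right, mul_comm]
  exact Nat.mul_dvd_mul_right (Subgroup.relIndex_dvd_card N M) _

/-- The join of a finite set of normal subgroups of order coprime to `n` is normal of order
coprime to `n`. -/
theorem sSup_normal_coprime [Finite G] (n : ℕ) (S : Set (Subgroup G))
    (hS : ∀ N ∈ S, N.Normal ∧ (Nat.card N).Coprime n) :
    (sSup S).Normal ∧ (Nat.card (sSup S : Subgroup G)).Coprime n := by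
  have hfin : S.Finite := Set.toFinite S
  induction S, hfin using Set.Finite.induction_on with
  | empty =>
    rw [sSup_empty]
    exact ⟨Subgroup.normal_bot, by simp⟩
  | @insert a s ha hs ih =>
    rw [sSup_insert]
    have h1 := hS a (Set.mem_insert a s)
    have h2 := ih (fun N hN => hS N (Set.mem_insert_of_mem a hN))
    have := h1.1
    have := h2.1
    refine ⟨Subgroup.sup_normal a (sSup s), ?_⟩
    exact Nat.Coprime.coprime_dvd_left (card_sup_dvd_mul a (sSup s))
      (Nat.Coprime.mul_left h1.2 h2.2)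

theorem pPrimeCore_card_coprime [Finite G] (p : ℕ) :
    (Nat.card (Cfsg.pPrimeCore p G)).Coprime p :=
  (sSup_normal_coprime p _ (fun _ hN => hN)).2

end Cfsg.Agent.Lib.Helper1

namespace Cfsg.Agent.Lib.Helper1

open scoped Pointwise

variable {G : Type*} [Group G]

/-- A finite group in which, for each prime `q`, there is a normal `q`-subgroup of index prime
to `q`, is nilpotent. -/
theorem nilpotent_of_normal_sylows [Finite G]
    (h : ∀ q : ℕ, q.Prime → ∃ Q : Subgroup G, Q.Normal ∧ IsPGroup q Q ∧ ¬ q ∣ Q.index) :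
    Group.IsNilpotent G := by
  have t := (Group.isNilpotent_of_finite_tfae (G := G)).out 0 3
  rw [t]; clear t
  intro q hq P
  obtain ⟨Q, hQn, hQp, hQi⟩ := h q hq.out
  let Q' : Sylow q G := hQp.toSylow hQi
  have hQ'n : (Q' : Subgroup G).Normal := hQn
  obtain ⟨g, rfl⟩ := MulAction.exists_smul_eq G Q' P
  rw [Sylow.smul_eq_of_normal]
  exact hQ'n

theorem iSup_pCore_eq_sup [Finite G] (q : Nat.Primes) :
    (⨆ p : Nat.Primes, Cfsg.pCore (p : ℕ) G) =
      Cfsg.pCore (q : ℕ) G ⊔ sSup {N | ∃ p : Nat.Primes, p ≠ q ∧ N = Cfsg.pCore (p : ℕ) G} := by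
  apply le_antisymm
  · apply iSup_le
    intro p
    by_cases hpq : p = q
    · rw [hpq]; exact le_sup_left
    · refine le_trans (le_sSup ?_) le_sup_right
      exact ⟨p, hpq, rfl⟩
  · apply sup_le
    · exact le_iSup (fun p : Nat.Primes => Cfsg.pCore (p : ℕ) G) q
    · apply sSup_le
      rintro N ⟨p, -, rfl⟩
      exact le_iSup (fun p : Nat.Primes => Cfsg.pCore (p : ℕ) G) p

theorem iSup_pCore_nilpotent [Finite G] :
    Group.IsNilpotent (⨆ p : Nat.Primes, Cfsg.pCore (p : ℕ) G : Subgroup G) := by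
  set F := (⨆ p : Nat.Primes, Cfsg.pCore (p : ℕ) G : Subgroup G) with hF
  apply nilpotent_of_normal_sylows
  intro q hq
  let q' : Nat.Primes := ⟨q, hq⟩
  have : Fact q.Prime := ⟨hq⟩
  set R := sSup {N : Subgroup G | ∃ p : Nat.Primes, p ≠ q' ∧ N = Cfsg.pCore (p : ℕ) G} with hR
  have hRc : R.Normal ∧ (Nat.card R).Coprime q := by
    apply sSup_normal_coprime
    rintro N ⟨p, hp, rfl⟩
    refine ⟨pCore_normal _, ?_⟩
    have : Fact (p : ℕ).Prime := ⟨p.2⟩
    obtain ⟨n, hn⟩ := IsPGroup.iff_card.mp (pCore_isPGroup (G := G) (p : ℕ))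
    rw [hn]
    apply Nat.Coprime.pow_left
    rw [Nat.coprime_primes p.2 hq]
    intro h
    exact hp (Subtype.ext h)
  have hFeq : F = Cfsg.pCore q G ⊔ R := iSup_pCore_eq_sup q'
  have hle : Cfsg.pCore q G ≤ F := by rw [hFeq]; exact le_sup_left
  have := hRc.1
  have hdvd : Nat.card F ∣ Nat.card (Cfsg.pCore q G) * Nat.card R := by
    rw [hFeq]; exact card_sup_dvd_mul _ _
  refine ⟨(Cfsg.pCore q G).subgroupOf F, ?_, ?_, ?_⟩
  · have := pCore_normal (G := G) q
    exact Subgroup.normal_subgroupOf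
  · exact (pCore_isPGroup (G := G) q).comap_subtype
  · change ¬ q ∣ (Cfsg.pCore q G).relIndex F
    rw [← card_mul_relIndex_of_le hle] at hdvd
    have hpos : 0 < Nat.card (Cfsg.pCore q G) := Nat.card_pos
    have h2 : (Cfsg.pCore q G).relIndex F ∣ Nat.card R := Nat.dvd_of_mul_dvd_mul_left hpos hdvd
    intro h3
    have := Nat.Coprime.coprime_dvd_left h2 hRc.2
    exact hq.one_lt.ne' (Nat.Coprime.eq_one_of_dvd this.symm h3)

end Cfsg.Agent.Lib.Helper1

namespace Cfsg.Agent.Lib.Helper1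

open scoped Pointwise

variable {G : Type*} [Group G]

theorem iSup_sylow_eq_top [Finite G] :
    (⨆ p : Nat.Primes, ⨆ P : Sylow (p : ℕ) G, (P : Subgroup G)) = ⊤ := by
  set K := (⨆ p : Nat.Primes, ⨆ P : Sylow (p : ℕ) G, (P : Subgroup G)) with hK
  apply (Subgroup.card_eq_iff_eq_top K).mp
  apply Nat.dvd_antisymm (Subgroup.card_subgroup_dvd_card K)
  rw [← Nat.factorization_prime_le_iff_dvd Nat.card_pos.ne' Nat.card_pos.ne']
  intro p hp
  have : Fact p.Prime := ⟨hp⟩
  obtain ⟨P⟩ := (inferInstance : Nonempty (Sylow p G))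
  rw [← hp.pow_dvd_iff_le_factorization Nat.card_pos.ne', ← P.card_eq_multiplicity]
  apply Subgroup.card_dvd_of_le
  exact le_trans (le_iSup (fun P : Sylow p G => (P : Subgroup G)) P)
    (le_iSup (fun p : Nat.Primes => ⨆ P : Sylow (p : ℕ) G, (P : Subgroup G)) ⟨p, hp⟩)

theorem nilpotent_normal_le_iSup_pCore [Finite G] (N : Subgroup G) [N.Normal]
    [Group.IsNilpotent N] : N ≤ ⨆ p : Nat.Primes, Cfsg.pCore (p : ℕ) G := by
  have h1 : N = (⊤ : Subgroup N).map N.subtype := by
    rw [← MonoidHom.range_eq_map, Subgroup.range_subtype]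
  rw [h1, ← iSup_sylow_eq_top, Subgroup.map_iSup]
  apply iSup_le
  intro p
  rw [Subgroup.map_iSup]
  apply iSup_le
  intro P
  have : Fact (p : ℕ).Prime := ⟨p.2⟩
  have hn : (P : Subgroup N).Normal := inferInstance
  have hc : (P : Subgroup N).Characteristic := Sylow.characteristic_of_normal P hn
  have hn' : ((P : Subgroup N).map N.subtype).Normal := inferInstance
  have hp : IsPGroup p ((P : Subgroup N).map N.subtype) := P.isPGroup'.map _
  exact le_trans (le_pCore hn' hp) (le_iSup (fun p : Nat.Primes => Cfsg.pCore (p : ℕ) G) p)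

theorem pCore_le_fittingSubgroup [Finite G] (p : ℕ) [Fact p.Prime] :
    Cfsg.pCore p G ≤ Cfsg.fittingSubgroup G :=
  le_fittingSubgroup (pCore_normal p) (pCore_isPGroup p).isNilpotent

theorem fittingSubgroup_eq_iSup_pCore [Finite G] :
    Cfsg.fittingSubgroup G = ⨆ p : Nat.Primes, Cfsg.pCore (p : ℕ) G := by
  apply le_antisymm
  · apply sSup_le
    rintro N ⟨hN, hnil⟩
    exact nilpotent_normal_le_iSup_pCore N
  · apply iSup_le
    intro p
    have : Fact (p : ℕ).Prime := ⟨p.2⟩
    exact pCore_le_fittingSubgroup p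

theorem fittingSubgroup_nilpotent [Finite G] : Group.IsNilpotent (Cfsg.fittingSubgroup G) := by
  rw [fittingSubgroup_eq_iSup_pCore]
  exact iSup_pCore_nilpotent

end Cfsg.Agent.Lib.Helper1
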