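import Mathlib

set_option autoImplicit false

namespace Cfsg.Agent.Lib.Helper1

open scoped Pointwise

variable {G : Type*} [Group G]

theorem conj_image_image (a b : G) (X : Set G) :
    MulAut.conj a '' (MulAut.conj b '' X) = MulAut.conj (a * b) '' X := by
  rw [Set.image_image]
  congr 1
  funext x
  simp [MulAut.conj_apply, mul_assoc]

theorem conj_fun_eq (g : G) : (fun y => g * y * g⁻¹) = ⇑(MulAut.conj g) := by
  funext y; simp [MulAut.conj_apply]

theorem mem_conj_smul_iff (g x : G) (H : Subgroup G) :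
    x ∈ MulAut.conj g • H ↔ g⁻¹ * x * g ∈ H := by
  rw [Subgroup.mem_pointwise_smul_iff_inv_smul_mem]
  simp [MulAut.smul_def]

theorem mem_sylow_smul_iff {p : ℕ} (g x : G) (P : Sylow p G) :
    x ∈ g • P ↔ g⁻¹ * x * g ∈ P := by
  change x ∈ ((g • P : Sylow p G) : Subgroup G) ↔ _
  rw [Sylow.coe_subgroup_smul, mem_conj_smul_iff]
  rfl

theorem exists_mem_smul_eq_of_le [Finite G] {p : ℕ} [Fact p.Prime] (P R : Sylow p G)
    (S : Subgroup G) (hP : (P : Subgroup G) ≤ S) (hR : (R : Subgroup G) ≤ S) :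
    ∃ s ∈ S, s • R = P := by
  obtain ⟨s, hs⟩ := MulAction.exists_smul_eq S (R.subtype hR) (P.subtype hP)
  rw [Sylow.smul_subtype] at hs
  exact ⟨s, s.2, Sylow.subtype_injective hs⟩

/-- Burnside's fusion argument for normal subsets of a Sylow subgroup. -/
theorem burnside_fusion_sets [Finite G] {p : ℕ} [Fact p.Prime] (P : Sylow p G) (X Y : Set G)
    (hX : (P : Subgroup G) ≤ Subgroup.normalizer X) (hY : (P : Subgroup G) ≤ Subgroup.normalizer Y)
    (g : G) (hg : MulAut.conj g '' X = Y) :
    ∃ n ∈ Subgroup.normalizer ((P : Subgroup G) : Set G), MulAut.conj n '' X = Y := by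
  set S := Subgroup.normalizer Y with hS
  have h2 : ((g • P : Sylow p G) : Subgroup G) ≤ S := by
    intro y hy
    change y ∈ (g • P : Sylow p G) at hy
    rw [mem_sylow_smul_iff] at hy
    have hx := hX hy
    rw [Subgroup.mem_normalizer_iff_conj_image_eq] at hx
    rw [hS, Subgroup.mem_normalizer_iff_conj_image_eq, ← hg, conj_image_image]
    conv_rhs => rw [← hx, conj_image_image]
    congr 2
    group
  obtain ⟨s, hs⟩ := MulAction.exists_smul_eq S ((g • P).subtype h2) (P.subtype hY)
  rw [Sylow.smul_subtype] at hs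
  have hs' := Sylow.subtype_injective hs
  rw [Subgroup.smul_def, ← mul_smul] at hs'
  refine ⟨(s : G) * g, Sylow.smul_eq_iff_mem_normalizer.mp hs', ?_⟩
  rw [← conj_image_image, hg]
  exact Subgroup.mem_normalizer_iff_conj_image_eq.mp s.2

end Cfsg.Agent.Lib.Helper1
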