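import Mathlib

set_option autoImplicit false

namespace Cfsg.Agent.Lib.Helper1

open scoped commutatorElement

variable {G : Type*} [Group G]

theorem normal_inf_center_ne_bot [Group.IsNilpotent G]
    (N : Subgroup G) [N.Normal] (hN : N ≠ ⊥) : N ⊓ Subgroup.center G ≠ ⊥ := by
  classical
  have hex : ∃ n : ℕ, N ⊓ Subgroup.upperCentralSeries G n ≠ ⊥ := by
    obtain ⟨n, hn⟩ := Group.IsNilpotent.nilpotent G
    exact ⟨n, by rw [hn, inf_top_eq]; exact hN⟩
  have hmin : ∀ m, m < Nat.find hex → ¬ (N ⊓ Subgroup.upperCentralSeries G m ≠ ⊥) := fun m hm => Nat.find_min hex hm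
  have hspec := Nat.find_spec hex
  set n := Nat.find hex with hn
  cases hn' : n with
  | zero =>
    rw [hn'] at hspec
    simp at hspec
  | succ m =>
    have hm : N ⊓ Subgroup.upperCentralSeries G m = ⊥ := by
      have := hmin m (by omega)
      simpa using this
    rw [hn'] at hspec
    intro hbot
    apply hspec
    rw [eq_bot_iff] at hbot ⊢
    refine le_trans ?_ hbot
    intro x hx
    refine Subgroup.mem_inf.mpr ⟨hx.1, ?_⟩
    rw [Subgroup.mem_center_iff]
    intro y
    have h1 : ⁅x, y⁆ ∈ Subgroup.upperCentralSeries G m :=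
      Subgroup.mem_upperCentralSeries_succ_iff.mp hx.2 y
    have h2 : ⁅x, y⁆ ∈ N := by
      rw [commutatorElement_def]
      have := ‹N.Normal›.conj_mem x⁻¹ (N.inv_mem hx.1) y
      have h3 : x * y * x⁻¹ * y⁻¹ = x * (y * x⁻¹ * y⁻¹) := by group
      rw [h3]
      exact N.mul_mem hx.1 this
    have h4 : ⁅x, y⁆ ∈ N ⊓ Subgroup.upperCentralSeries G m := ⟨h2, h1⟩
    rw [hm, Subgroup.mem_bot, commutatorElement_eq_one_iff_mul_comm] at h4
    exact h4.symm

end Cfsg.Agent.Lib.Helper1

namespace Cfsg.Agent.Lib.Helper1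

variable {G : Type*} [Group G]

theorem isMulCommutative_subgroup_iff (M : Subgroup G) :
    IsMulCommutative M ↔ ∀ a ∈ M, ∀ b ∈ M, a * b = b * a := by
  rw [isMulCommutative_iff]
  constructor
  · intro h a ha b hb
    have := h ⟨a, ha⟩ ⟨b, hb⟩
    exact congrArg Subtype.val this
  · intro h a b
    exact Subtype.ext (h a a.2 b b.2)

theorem le_centralizer_self_of_comm (N : Subgroup G) [IsMulCommutative N] :
    N ≤ Subgroup.centralizer (N : Set G) := by
  intro x hx
  rw [Subgroup.mem_centralizer_iff]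
  intro y hy
  exact ((isMulCommutative_subgroup_iff N).mp inferInstance) y hy x hx

theorem centralizer_eq_self_of_max_abelian_normal [Group.IsNilpotent G]
    (N : Subgroup G) [N.Normal] [IsMulCommutative N]
    (hmax : ∀ M : Subgroup G, M.Normal → IsMulCommutative M → N ≤ M → M = N) :
    Subgroup.centralizer (N : Set G) = N := by
  by_contra hne
  have hcomm := (isMulCommutative_subgroup_iff N).mp inferInstance
  have hle : N ≤ Subgroup.centralizer (N : Set G) := le_centralizer_self_of_comm N
  set C := Subgroup.centralizer (N : Set G) with hC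
  let π := QuotientGroup.mk' N
  have hπ : Function.Surjective π := QuotientGroup.mk'_surjective N
  have hCn : (C.map π).Normal := Subgroup.Normal.map inferInstance π hπ
  have hCne : C.map π ≠ ⊥ := by
    intro hbot
    apply hne
    apply le_antisymm _ hle
    intro c hc
    have : π c ∈ C.map π := Subgroup.mem_map_of_mem π hc
    rw [hbot, Subgroup.mem_bot] at this
    exact (QuotientGroup.eq_one_iff c).mp this
  have h1 := normal_inf_center_ne_bot (C.map π) hCne
  obtain ⟨⟨q, hq⟩, hq1⟩ := (Subgroup.ne_bot_iff_exists_ne_one).mp h1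
  have hq1' : q ≠ 1 := fun h => hq1 (Subtype.ext h)
  obtain ⟨⟨x, hxC, rfl⟩, hqZ⟩ := hq
  have hxN : x ∉ N := fun h => hq1' ((QuotientGroup.eq_one_iff x).mpr h)
  let M : Subgroup G := (Subgroup.zpowers (π x)).comap π
  have hNM : N ≤ M := by
    intro n hn
    change π n ∈ Subgroup.zpowers (π x)
    have : π n = 1 := (QuotientGroup.eq_one_iff n).mpr hn
    rw [this]
    exact Subgroup.one_mem _
  have hxM : x ∈ M := Subgroup.mem_zpowers (π x)
  have hZn : (Subgroup.zpowers (π x)).Normal := by
    constructor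
    intro n hn g
    have hn' : n ∈ Subgroup.center (G ⧸ N) := by
      obtain ⟨k, rfl⟩ := hn
      exact Subgroup.zpow_mem _ hqZ k
    have : g * n * g⁻¹ = n := by
      rw [Subgroup.mem_center_iff] at hn'
      rw [hn' g]; group
    rw [this]; exact hn
  have hMn : M.Normal := Subgroup.Normal.comap hZn π
  have hMc : IsMulCommutative M := by
    rw [isMulCommutative_subgroup_iff]
    have hdec : ∀ a ∈ M, ∃ k : ℤ, ∃ n ∈ N, a = x ^ k * n := by
      intro a ha
      obtain ⟨k, hk⟩ := ha
      refine ⟨k, (x ^ k)⁻¹ * a, ?_, by group⟩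
      rw [← QuotientGroup.eq_one_iff]
      change π ((x ^ k)⁻¹ * a) = 1
      rw [map_mul, map_inv, map_zpow]
      change (π x ^ k)⁻¹ * π a = 1
      rw [← hk]; group
    have hxn : ∀ n ∈ N, ∀ k : ℤ, n * x ^ k = x ^ k * n := by
      intro n hn k
      have h2 : x ^ k ∈ C := Subgroup.zpow_mem _ hxC k
      rw [hC, Subgroup.mem_centralizer_iff] at h2
      exact h2 n hn
    intro a ha b hb
    obtain ⟨k, n, hn, rfl⟩ := hdec a ha
    obtain ⟨l, m, hm, rfl⟩ := hdec b hb
    calc x ^ k * n * (x ^ l * m) = x ^ k * (n * x ^ l) * m := by group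
      _ = x ^ k * (x ^ l * n) * m := by rw [hxn n hn l]
      _ = x ^ l * (x ^ k * (n * m)) := by
          rw [mul_assoc, mul_assoc, ← mul_assoc (x ^ k), ← zpow_add, add_comm, zpow_add]; group
      _ = x ^ l * (x ^ k * (m * n)) := by rw [hcomm n hn m hm]
      _ = x ^ l * ((x ^ k * m) * n) := by group
      _ = x ^ l * ((m * x ^ k) * n) := by rw [hxn m hm k]
      _ = x ^ l * m * (x ^ k * n) := by group
  have := hmax M hMn hMc hNM
  exact hxN (this ▸ hxM)

end Cfsg.Agent.Lib.Helper1
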