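import Mathlib
import Cfsg.Agent.Lib.Helper1.Nilp
import Cfsg.Agent.Lib.Helper1.Fitting

set_option autoImplicit false

namespace Cfsg.Agent.Lib.Helper1

open scoped Pointwise commutatorElement

variable {G : Type*} [Group G]

theorem isMulCommutative_of_commutator_eq_bot (N : Subgroup G) (h : ⁅N, N⁆ = ⊥) :
    IsMulCommutative N := by
  rw [isMulCommutative_subgroup_iff]
  intro a ha b hb
  have h1 : ⁅a, b⁆ ∈ ⁅N, N⁆ := Subgroup.commutator_mem_commutator ha hb
  rw [h, Subgroup.mem_bot, commutatorElement_eq_one_iff_mul_comm] at h1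
  exact h1

/-- A minimal normal subgroup of a finite solvable group is elementary abelian. -/
theorem minimal_normal_of_solvable [Finite G] [Group.IsSolvable G]
    (N : Subgroup G) [N.Normal] (hN : N ≠ ⊥)
    (hmin : ∀ M : Subgroup G, M.Normal → M ≤ N → M = ⊥ ∨ M = N) :
    IsMulCommutative N ∧ ∃ p : ℕ, p.Prime ∧ ∀ x ∈ N, x ^ p = 1 := by
  have hlt : ⁅N, N⁆ < N := Group.IsSolvable.commutator_lt_of_ne_bot hN
  have hcn : (⁅N, N⁆ : Subgroup G).Normal := inferInstance
  have hc : ⁅N, N⁆ = ⊥ := by
    rcases hmin _ hcn hlt.le with h | h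
    · exact h
    · exact absurd h hlt.ne
  have hcomm := isMulCommutative_of_commutator_eq_bot N hc
  refine ⟨hcomm, ?_⟩
  have hcomm' := (isMulCommutative_subgroup_iff N).mp hcomm
  have hcard : Nat.card N ≠ 1 := by
    intro h
    exact hN ((Subgroup.card_eq_one).mp h)
  obtain ⟨p, hp, hpd⟩ := Nat.exists_prime_and_dvd hcard
  have : Fact p.Prime := ⟨hp⟩
  refine ⟨p, hp, ?_⟩
  let Ω : Subgroup G :=
    { carrier := {x | x ∈ N ∧ x ^ p = 1}
      one_mem' := ⟨N.one_mem, one_pow p⟩
      mul_mem' := by
        rintro a b ⟨ha, ha'⟩ ⟨hb, hb'⟩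
        refine ⟨N.mul_mem ha hb, ?_⟩
        have : Commute a b := hcomm' a ha b hb
        rw [this.mul_pow, ha', hb', one_mul]
      inv_mem' := by
        rintro a ⟨ha, ha'⟩
        exact ⟨N.inv_mem ha, by rw [inv_pow, ha', inv_one]⟩ }
  have hΩn : Ω.Normal := by
    constructor
    rintro x ⟨hx, hx'⟩ g
    refine ⟨‹N.Normal›.conj_mem x hx g, ?_⟩
    rw [conj_pow, hx']; group
  have hΩle : Ω ≤ N := fun x hx => hx.1
  obtain ⟨x, hx⟩ := exists_prime_orderOf_dvd_card' (G := N) p hpd
  have hΩne : Ω ≠ ⊥ := by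
    intro h
    have hxΩ : (x : G) ∈ Ω := by
      refine ⟨x.2, ?_⟩
      have := pow_orderOf_eq_one x
      rw [hx] at this
      exact_mod_cast congrArg Subtype.val this
    rw [h, Subgroup.mem_bot] at hxΩ
    have : x = 1 := Subtype.ext hxΩ
    rw [this, orderOf_one] at hx
    exact hp.one_lt.ne hx
  rcases hmin Ω hΩn hΩle with h | h
  · exact absurd h hΩne
  · intro y hy
    rw [← h] at hy
    exact hy.2

end Cfsg.Agent.Lib.Helper1

namespace Cfsg.Agent.Lib.Helper1

open scoped Pointwise commutatorElement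

/-- A nontrivial finite group has a minimal normal subgroup. -/
theorem exists_minimal_normal {G : Type*} [Group G] [Finite G] [Nontrivial G] :
    ∃ N : Subgroup G, N.Normal ∧ N ≠ ⊥ ∧
      ∀ M : Subgroup G, M.Normal → M ≤ N → M = ⊥ ∨ M = N := by
  have hfin : {N : Subgroup G | N.Normal ∧ N ≠ ⊥}.Finite := Set.toFinite _
  have hne : {N : Subgroup G | N.Normal ∧ N ≠ ⊥}.Nonempty :=
    ⟨⊤, Subgroup.normal_top, top_ne_bot⟩
  obtain ⟨N, hN⟩ := hfin.exists_minimal hne
  refine ⟨N, hN.1.1, hN.1.2, fun M hM hMN => ?_⟩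
  by_cases hM0 : M = ⊥
  · exact Or.inl hM0
  · exact Or.inr (le_antisymm hMN (hN.2 ⟨hM, hM0⟩ hMN))

theorem isCoatom_map_of_ker_le {G H : Type*} [Group G] [Group H] {f : G →* H}
    (hf : Function.Surjective f) {M : Subgroup G} (hM : IsCoatom M) (hker : f.ker ≤ M) :
    IsCoatom (M.map f) := by
  have hcm : (M.map f).comap f = M := Subgroup.comap_map_eq_self hker
  constructor
  · intro h
    rw [h, Subgroup.comap_top] at hcm
    exact hM.1 hcm.symm
  · intro L hL
    have h1 : M < L.comap f := by
      rw [← hcm]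
      refine lt_of_le_of_ne (Subgroup.comap_mono hL.le) ?_
      intro h
      exact hL.ne (Subgroup.comap_injective hf h)
    have h2 := hM.2 _ h1
    rw [← Subgroup.comap_top f] at h2
    exact Subgroup.comap_injective hf h2

theorem coatom_index_primePow_aux : ∀ (n : ℕ) (G : Type*) [Group G] [Finite G]
    [Group.IsSolvable G], Nat.card G = n → ∀ M : Subgroup G, IsCoatom M → IsPrimePow M.index := by
  intro n
  induction n using Nat.strong_induction_on with
  | _ n ih =>
    intro G _ _ _ hn M hM
    have hnt : Nontrivial G := by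
      by_contra h
      rw [not_nontrivial_iff_subsingleton] at h
      exact hM.1 (Subsingleton.elim _ _)
    obtain ⟨N, hNn, hN0, hNmin⟩ := exists_minimal_normal (G := G)
    by_cases hNM : N ≤ M
    · let π := QuotientGroup.mk' N
      have hπ : Function.Surjective π := QuotientGroup.mk'_surjective N
      have hker : π.ker ≤ M := by rw [QuotientGroup.ker_mk']; exact hNM
      have hco := isCoatom_map_of_ker_le hπ hM hker
      have hidx : (M.map π).index = M.index := Subgroup.index_map_eq _ hπ hker
      rw [← hidx]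
      have hlt : Nat.card (G ⧸ N) < n := by
        rw [← hn, ← N.card_mul_index]
        have h1 : 1 < Nat.card N := by
          rw [Subgroup.one_lt_card_iff_ne_bot]; exact hN0
        have h2 : 0 < N.index := Nat.pos_of_ne_zero Subgroup.index_ne_zero_of_finite
        change N.index < _
        nlinarith
      exact ih _ hlt (G ⧸ N) rfl _ hco
    · have hsup : M ⊔ N = ⊤ := by
        apply hM.2
        refine lt_of_le_of_ne le_sup_left ?_
        intro h
        apply hNM
        rw [h]; exact le_sup_right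
      obtain ⟨_, p, hp, hpN⟩ := minimal_normal_of_solvable N hN0 hNmin
      have : Fact p.Prime := ⟨hp⟩
      have hpg : IsPGroup p N := by
        intro x
        refine ⟨1, ?_⟩
        rw [pow_one]
        exact Subtype.ext (hpN x x.2)
      obtain ⟨k, hk⟩ := IsPGroup.iff_card.mp hpg
      have h1 := card_sup_dvd_mul M N
      rw [hsup, Subgroup.card_top, ← M.card_mul_index, hk] at h1
      have hpos : 0 < Nat.card M := Nat.card_pos
      have h2 : M.index ∣ p ^ k := Nat.dvd_of_mul_dvd_mul_left hpos h1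
      obtain ⟨j, -, hj⟩ := (Nat.dvd_prime_pow hp).mp h2
      have hj0 : j ≠ 0 := by
        intro h
        rw [h, pow_zero] at hj
        exact hM.1 (Subgroup.index_eq_one.mp hj)
      rw [hj]
      exact ⟨p, j, hp.prime, Nat.pos_of_ne_zero hj0, rfl⟩

theorem coatom_index_primePow {G : Type*} [Group G] [Finite G] [Group.IsSolvable G]
    (M : Subgroup G) (hM : IsCoatom M) : IsPrimePow M.index :=
  coatom_index_primePow_aux _ G rfl M hM

end Cfsg.Agent.Lib.Helper1
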