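import Mathlib
import Cfsg.Agent.S0001
import Cfsg.Agent.Lib.Lead.Coprime
import Cfsg.Agent.Lib.Helper1.Fusion
import Cfsg.Agent.Lib.Helper1.Fitting
import Cfsg.Agent.Lib.Helper1.MinNormal

set_option autoImplicit false

namespace Cfsg.Agent.Lib.Helper1

open scoped Pointwise

variable {G : Type*} [Group G]

theorem card_sup_eq_mul_of_inf_eq_bot [Finite G] (A N : Subgroup G) [N.Normal] (h : A ⊓ N = ⊥) :
    Nat.card (A ⊔ N : Subgroup G) = Nat.card A * Nat.card N := by
  rw [← card_mul_relIndex_of_le (le_sup_right : N ≤ A ⊔ N), Subgroup.relIndex_sup_right, mul_comm]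
  congr 1
  rw [← Subgroup.inf_relIndex_right, inf_comm, h, Subgroup.relIndex_bot_left]

theorem card_map_mk' (A N : Subgroup G) [N.Normal] :
    Nat.card (A.map (QuotientGroup.mk' N)) = N.relIndex A := by
  rw [← Subgroup.relIndex_ker, QuotientGroup.ker_mk']

theorem card_map_mk'_of_le [Finite G] (A N : Subgroup G) [N.Normal] (h : N ≤ A) :
    Nat.card N * Nat.card (A.map (QuotientGroup.mk' N)) = Nat.card A := by
  rw [card_map_mk', card_mul_relIndex_of_le h]

theorem card_map_mk'_of_inf_eq_bot (A N : Subgroup G) [N.Normal] (h : A ⊓ N = ⊥) :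
    Nat.card (A.map (QuotientGroup.mk' N)) = Nat.card A := by
  rw [card_map_mk', ← Subgroup.inf_relIndex_right, inf_comm, h, Subgroup.relIndex_bot_left]

theorem comap_conj_smul_map (A N : Subgroup G) [N.Normal] (g : G) :
    (MulAut.conj (QuotientGroup.mk' N g) • A.map (QuotientGroup.mk' N)).comap (QuotientGroup.mk' N)
      = MulAut.conj g • (A ⊔ N) := by
  ext x
  rw [Subgroup.mem_comap, mem_conj_smul_iff, mem_conj_smul_iff, ← map_inv, ← map_mul, ← map_mul,
    ← Subgroup.mem_comap, Subgroup.comap_map_eq, QuotientGroup.ker_mk']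

theorem le_conj_smul_of_map_le (A K N : Subgroup G) [N.Normal] (g : G)
    (h : K.map (QuotientGroup.mk' N) ≤
      MulAut.conj (QuotientGroup.mk' N g) • A.map (QuotientGroup.mk' N)) :
    K ≤ MulAut.conj g • (A ⊔ N) := by
  rw [← comap_conj_smul_map]
  exact le_trans (Subgroup.le_comap_map _ _) (Subgroup.comap_mono h)

theorem conj_smul_sup_normal (A N : Subgroup G) [N.Normal] (g : G) :
    MulAut.conj g • (A ⊔ N) = MulAut.conj g • A ⊔ N := by
  rw [Subgroup.smul_sup, Subgroup.Normal.conj_smul_eq_self g N]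

theorem inf_eq_bot_of_coprime_card [Finite G] (A B : Subgroup G)
    (h : (Nat.card A).Coprime (Nat.card B)) : A ⊓ B = ⊥ :=
  disjoint_iff.mp (Subgroup.disjoint_of_coprime_natCard h)

end Cfsg.Agent.Lib.Helper1

namespace Cfsg.Agent.Lib.Helper1

open scoped Pointwise

/-- Hall's theorems (existence, and the combined conjugacy/dominance statement). -/
def HallProp (G : Type*) [Group G] : Prop :=
  ∀ m n : ℕ, Nat.card G = m * n → m.Coprime n →
    (∃ H : Subgroup G, Nat.card H = m) ∧
    ∀ H K : Subgroup G, Nat.card H = m → (Nat.card K).Coprime n →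
      ∃ g : G, K ≤ MulAut.conj g • H

theorem hallProp_of_subsingleton {G : Type*} [Group G] [Subsingleton G] : HallProp G := by
  intro m n hmn _
  have h1 : Nat.card G = 1 := Nat.card_unique
  rw [h1] at hmn
  have hm : m = 1 := Nat.eq_one_of_mul_eq_one_right hmn.symm
  refine ⟨⟨⊥, by rw [Subgroup.card_bot, hm]⟩, fun H K _ _ => ⟨1, ?_⟩⟩
  intro x _
  rw [Subsingleton.elim x 1]
  exact Subgroup.one_mem _

variable {G : Type*} [Group G]

/-- Case `p ∣ m`. -/
theorem hallProp_stepA [Finite G] (M : Subgroup G) [M.Normal] (p k : ℕ) (hp : p.Prime)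
    (hM : Nat.card M = p ^ k) (hQ : HallProp (G ⧸ M))
    (m n : ℕ) (hmn : Nat.card G = m * n) (hcop : m.Coprime n) (hpm : p ∣ m) :
    (∃ H : Subgroup G, Nat.card H = m) ∧
    ∀ H K : Subgroup G, Nat.card H = m → (Nat.card K).Coprime n →
      ∃ g : G, K ≤ MulAut.conj g • H := by
  have hpn : (p ^ k).Coprime n :=
    Nat.Coprime.pow_left k (Nat.Coprime.coprime_dvd_left hpm hcop)
  have hdvd : p ^ k ∣ m := by
    have h1 : p ^ k ∣ m * n := by rw [← hmn, ← hM]; exact Subgroup.card_subgroup_dvd_card M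
    exact hpn.dvd_of_dvd_mul_right h1
  obtain ⟨m', rfl⟩ := hdvd
  have hpos : 0 < p ^ k := pow_pos hp.pos k
  have hQcard : Nat.card (G ⧸ M) = m' * n := by
    have h1 := M.card_mul_index
    rw [hM, hmn, mul_assoc] at h1
    exact Nat.eq_of_mul_eq_mul_left hpos h1
  have hcop' : m'.Coprime n := Nat.Coprime.coprime_dvd_left (Dvd.intro_left _ rfl) hcop
  obtain ⟨⟨H', hH'⟩, hDC⟩ := hQ m' n hQcard hcop'
  let π := QuotientGroup.mk' M
  have hπ : Function.Surjective π := QuotientGroup.mk'_surjective M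
  refine ⟨⟨H'.comap π, ?_⟩, ?_⟩
  · have h1 : M ≤ H'.comap π := by
      intro x hx
      rw [Subgroup.mem_comap]
      have : π x = 1 := (QuotientGroup.eq_one_iff x).mpr hx
      rw [this]; exact Subgroup.one_mem _
    have h2 := card_map_mk'_of_le (H'.comap π) M h1
    rw [Subgroup.map_comap_eq_self_of_surjective hπ, hM, hH'] at h2
    exact h2.symm
  · intro H K hH hK
    have hMH : M ≤ H := by
      have h1 : Nat.card (H ⊔ M : Subgroup G) ∣ p ^ k * m' * (p ^ k) := by
        rw [← hH, ← hM]; exact card_sup_dvd_mul H M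
      have h2 : Nat.card (H ⊔ M : Subgroup G) ∣ p ^ k * m' * n := by
        rw [← hmn]; exact Subgroup.card_subgroup_dvd_card _
      have h3 : Nat.card (H ⊔ M : Subgroup G) ∣ p ^ k * m' := by
        have := Nat.dvd_gcd h1 h2
        rwa [Nat.gcd_mul_left, hpn, mul_one] at this
      have h4 : H = H ⊔ M := by
        apply Subgroup.eq_of_le_of_card_ge le_sup_left
        rw [hH]
        have hHpos : 0 < Nat.card H := Nat.card_pos
        rw [hH] at hHpos
        exact Nat.le_of_dvd hHpos h3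
      rw [h4]; exact le_sup_right
    have hHc : Nat.card (H.map π) = m' := by
      have h2 := card_map_mk'_of_le H M hMH
      rw [hM, hH] at h2
      exact Nat.eq_of_mul_eq_mul_left hpos h2
    have hKc : (Nat.card (K.map π)).Coprime n :=
      Nat.Coprime.coprime_dvd_left (Subgroup.card_map_dvd K π) hK
    obtain ⟨g', hg'⟩ := hDC (H.map π) (K.map π) hHc hKc
    obtain ⟨g, rfl⟩ := hπ g'
    refine ⟨g, ?_⟩
    have := le_conj_smul_of_map_le H K M g hg'
    rwa [sup_eq_left.mpr hMH] at this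

end Cfsg.Agent.Lib.Helper1

namespace Cfsg.Agent.Lib.Helper1

open scoped Pointwise

variable {G : Type*} [Group G]

theorem hallProp_subgroup_transfer (L : Subgroup G) (H K : Subgroup G) (hH : H ≤ L) (hK : K ≤ L)
    (l : L) (h : K.subgroupOf L ≤ MulAut.conj l • H.subgroupOf L) :
    K ≤ MulAut.conj (l : G) • H := by
  intro x hx
  have h1 : (⟨x, hK hx⟩ : L) ∈ K.subgroupOf L := Subgroup.mem_subgroupOf.mpr hx
  have h2 := h h1
  rw [mem_conj_smul_iff, Subgroup.mem_subgroupOf] at h2
  rw [mem_conj_smul_iff]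
  simpa using h2

/-- Case `p ∣ n`. -/
theorem hallProp_stepB [Finite G] [Group.IsSolvable G] (M : Subgroup G) [M.Normal] (p k : ℕ)
    (hp : p.Prime) (hM : Nat.card M = p ^ k) (hQ : HallProp (G ⧸ M))
    (hsub : ∀ L : Subgroup G, L ≠ ⊤ → HallProp L)
    (m n : ℕ) (hmn : Nat.card G = m * n) (hcop : m.Coprime n) (hpn : p ∣ n) :
    (∃ H : Subgroup G, Nat.card H = m) ∧
    ∀ H K : Subgroup G, Nat.card H = m → (Nat.card K).Coprime n →
      ∃ g : G, K ≤ MulAut.conj g • H := by
  have hpm : (p ^ k).Coprime m :=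
    Nat.Coprime.pow_left k (Nat.Coprime.coprime_dvd_left hpn hcop.symm)
  have hdvd : p ^ k ∣ n := by
    have h1 : p ^ k ∣ m * n := by rw [← hmn, ← hM]; exact Subgroup.card_subgroup_dvd_card M
    exact hpm.dvd_of_dvd_mul_left h1
  obtain ⟨n', rfl⟩ := hdvd
  have hpos : 0 < p ^ k := pow_pos hp.pos k
  have hQcard : Nat.card (G ⧸ M) = m * n' := by
    have h1 := M.card_mul_index
    rw [hM, hmn] at h1
    have h2 : p ^ k * M.index = p ^ k * (m * n') := by rw [h1]; ring
    exact Nat.eq_of_mul_eq_mul_left hpos h2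
  have hcop' : m.Coprime n' := Nat.Coprime.coprime_dvd_right (Dvd.intro_left _ rfl) hcop
  have hmpk : m.Coprime (p ^ k) := hpm.symm
  obtain ⟨⟨H', hH'⟩, hDC⟩ := hQ m n' hQcard hcop'
  let π := QuotientGroup.mk' M
  have hπ : Function.Surjective π := QuotientGroup.mk'_surjective M
  have hMsolv : Group.IsSolvable M := inferInstance
  -- a general fact: Hall subgroups meet `M` trivially
  have hdisj : ∀ H : Subgroup G, Nat.card H = m → H ⊓ M = ⊥ := by
    intro H hH
    apply inf_eq_bot_of_coprime_card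
    rw [hH, hM]; exact hmpk
  have hE : ∃ H : Subgroup G, Nat.card H = m := by
    set L := H'.comap π with hL
    have hML : M ≤ L := by
      intro x hx
      rw [Subgroup.mem_comap]
      have : π x = 1 := (QuotientGroup.eq_one_iff x).mpr hx
      rw [this]; exact Subgroup.one_mem _
    have hLcard : Nat.card L = m * p ^ k := by
      have h2 := card_map_mk'_of_le L M hML
      rw [Subgroup.map_comap_eq_self_of_surjective hπ, hM, hH'] at h2
      rw [← h2]; ring
    by_cases hLtop : L = ⊤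
    · have hG : Nat.card G = m * p ^ k := by
        rw [← hLcard, hLtop, Subgroup.card_top]
      have hidx : M.index = m := by
        have h1 := M.card_mul_index
        rw [hM, hG, mul_comm] at h1
        exact Nat.eq_of_mul_eq_mul_right hpos h1
      have hcopM : (Nat.card M).Coprime M.index := by rw [hM, hidx]; exact hpm
      obtain ⟨H, hH⟩ := Subgroup.exists_right_complement'_of_coprime hcopM
      refine ⟨H, ?_⟩
      have h1 := hH.card_mul_card
      rw [hM, hG, mul_comm] at h1
      exact Nat.eq_of_mul_eq_mul_right hpos h1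
    · obtain ⟨⟨H₀, hH₀⟩, -⟩ := hsub L hLtop m (p ^ k) hLcard hmpk
      refine ⟨H₀.map L.subtype, ?_⟩
      rw [Subgroup.card_map_of_injective L.subtype_injective, hH₀]
  refine ⟨hE, ?_⟩
  intro H K hH hK
  have hHM : H ⊓ M = ⊥ := hdisj H hH
  have hHc : Nat.card (H.map π) = m := by
    rw [card_map_mk'_of_inf_eq_bot H M hHM, hH]
  have hKc : (Nat.card (K.map π)).Coprime n' :=
    Nat.Coprime.coprime_dvd_left (Subgroup.card_map_dvd K π)
      (Nat.Coprime.coprime_dvd_right (Dvd.intro_left _ rfl) hK)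
  obtain ⟨g', hg'⟩ := hDC (H.map π) (K.map π) hHc hKc
  obtain ⟨g, rfl⟩ := hπ g'
  have hKL := le_conj_smul_of_map_le H K M g hg'
  rw [conj_smul_sup_normal] at hKL
  set H₁ := MulAut.conj g • H with hH₁
  have hH₁c : Nat.card H₁ = m := by rw [hH₁, Cfsg.Agent.S0001.card_conj, hH]
  have hH₁M : H₁ ⊓ M = ⊥ := hdisj H₁ hH₁c
  have hKpk : (Nat.card K).Coprime (p ^ k) :=
    Nat.Coprime.coprime_dvd_right (Dvd.intro _ rfl) hK
  have hKM : K ⊓ M = ⊥ := by
    apply inf_eq_bot_of_coprime_card
    rw [hM]; exact hKpk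
  suffices h : ∃ x : G, K ≤ MulAut.conj x • H₁ by
    obtain ⟨x, hx⟩ := h
    refine ⟨x * g, ?_⟩
    rw [map_mul, mul_smul]
    exact hx
  set L := H₁ ⊔ M with hL
  have hLcard : Nat.card L = m * p ^ k := by
    rw [hL, card_sup_eq_mul_of_inf_eq_bot H₁ M hH₁M, hH₁c, hM]
  by_cases hLtop : L = ⊤
  · -- `G = H₁ M`, use conjugacy of complements
    set B := H₁ ⊓ (K ⊔ M) with hB
    have hBM : B ⊓ M = ⊥ := by
      rw [eq_bot_iff, ← hH₁M]
      exact inf_le_inf_right M inf_le_left
    have hBsup : B ⊔ M = K ⊔ M := by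
      apply le_antisymm
      · exact sup_le inf_le_right le_sup_right
      · intro x hx
        have hx' : x ∈ H₁ ⊔ M := by rw [← hL, hLtop]; trivial
        obtain ⟨h, hh, m', hm', rfl⟩ := Subgroup.mem_sup_of_normal_right.mp hx'
        have hh' : h ∈ K ⊔ M := by
          have : h = (h * m') * m'⁻¹ := by group
          rw [this]
          exact Subgroup.mul_mem _ hx (Subgroup.inv_mem _ (Subgroup.mem_sup_right hm'))
        exact Subgroup.mul_mem_sup ⟨hh, hh'⟩ hm'
    have hBcard : Nat.card B = Nat.card K := by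
      have h1 := card_sup_eq_mul_of_inf_eq_bot B M hBM
      have h2 := card_sup_eq_mul_of_inf_eq_bot K M hKM
      rw [hBsup, h2, hM] at h1
      exact (Nat.eq_of_mul_eq_mul_right hpos h1).symm
    have hKn : K ≤ Subgroup.normalizer (M : Set G) := by
      rw [Subgroup.normalizer_eq_top]; exact le_top
    obtain ⟨x, -, hx⟩ := Cfsg.Agent.Lib.Lead.hall_conj K M hKn (by rw [hM]; exact hKpk)
      (Or.inr hMsolv) B inf_le_right hBcard
    refine ⟨x⁻¹, ?_⟩
    have h3 : MulAut.conj x • K ≤ H₁ := by rw [hx]; exact inf_le_left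
    have h4 := Subgroup.pointwise_smul_le_pointwise_smul_iff (a := MulAut.conj x⁻¹) |>.mpr h3
    rwa [← mul_smul, ← map_mul, inv_mul_cancel, map_one, one_smul] at h4
  · obtain ⟨-, hDCL⟩ := hsub L hLtop m (p ^ k) hLcard hmpk
    have hH₁L : H₁ ≤ L := le_sup_left
    have h1 : Nat.card (H₁.subgroupOf L) = m := by
      rw [Cfsg.Agent.S0001.card_subgroupOf_of_le hH₁L, hH₁c]
    have h2 : (Nat.card (K.subgroupOf L)).Coprime (p ^ k) := by
      rw [Cfsg.Agent.S0001.card_subgroupOf_of_le hKL]; exact hKpk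
    obtain ⟨l, hl⟩ := hDCL (H₁.subgroupOf L) (K.subgroupOf L) h1 h2
    exact ⟨l, hallProp_subgroup_transfer L H₁ K hH₁L hKL l hl⟩

end Cfsg.Agent.Lib.Helper1

namespace Cfsg.Agent.Lib.Helper1

open scoped Pointwise

theorem hallProp_aux.{u} : ∀ (c : ℕ) (G : Type u) [Group G] [Finite G] [Group.IsSolvable G],
    Nat.card G = c → HallProp G := by
  intro c
  induction c using Nat.strong_induction_on with
  | _ c ih =>
    intro G _ _ _ hc
    by_cases hnt : Nontrivial G
    · obtain ⟨M, hMn, hM0, hMmin⟩ := exists_minimal_normal (G := G)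
      obtain ⟨-, p, hp, hpM⟩ := minimal_normal_of_solvable M hM0 hMmin
      have : Fact p.Prime := ⟨hp⟩
      have hpg : IsPGroup p M := by
        intro x
        refine ⟨1, ?_⟩
        rw [pow_one]
        exact Subtype.ext (hpM x x.2)
      obtain ⟨k, hk⟩ := IsPGroup.iff_card.mp hpg
      have hk0 : k ≠ 0 := by
        rintro rfl
        rw [pow_zero] at hk
        exact hM0 (Subgroup.card_eq_one.mp hk)
      have hQ : HallProp (G ⧸ M) := by
        apply ih (Nat.card (G ⧸ M)) _ (G ⧸ M) rfl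
        rw [← hc, ← M.card_mul_index]
        have h1 : 1 < Nat.card M := by
          rw [Subgroup.one_lt_card_iff_ne_bot]; exact hM0
        have h2 : 0 < M.index := Nat.pos_of_ne_zero Subgroup.index_ne_zero_of_finite
        change M.index < _
        nlinarith
      have hsub : ∀ L : Subgroup G, L ≠ ⊤ → HallProp L := by
        intro L hL
        apply ih (Nat.card L) _ L rfl
        rw [← hc]
        exact Cfsg.Agent.S0001.card_lt_of_ne_top L hL
      intro m n hmn hcop
      have hpd : p ∣ m * n := by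
        rw [← hmn]
        exact dvd_trans (hk ▸ dvd_pow_self p hk0) (Subgroup.card_subgroup_dvd_card M)
      rcases (Nat.Prime.dvd_mul hp).mp hpd with h | h
      · exact hallProp_stepA M p k hp hk hQ m n hmn hcop h
      · exact hallProp_stepB M p k hp hk hQ hsub m n hmn hcop h
    · rw [not_nontrivial_iff_subsingleton] at hnt
      exact hallProp_of_subsingleton

variable {G : Type*} [Group G]

theorem hallProp [Finite G] [Group.IsSolvable G] : HallProp G :=
  hallProp_aux _ G rfl

theorem hall_exists [Finite G] [Group.IsSolvable G] (m n : ℕ)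
    (hG : Nat.card G = m * n) (hmn : m.Coprime n) : ∃ H : Subgroup G, Nat.card H = m :=
  (hallProp m n hG hmn).1

theorem hall_le_conj [Finite G] [Group.IsSolvable G] (m n : ℕ)
    (hG : Nat.card G = m * n) (hmn : m.Coprime n) (H K : Subgroup G)
    (hH : Nat.card H = m) (hK : (Nat.card K).Coprime n) :
    ∃ g : G, K ≤ MulAut.conj g • H :=
  (hallProp m n hG hmn).2 H K hH hK

theorem hall_conj [Finite G] [Group.IsSolvable G] (m n : ℕ)
    (hG : Nat.card G = m * n) (hmn : m.Coprime n) (H K : Subgroup G)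
    (hH : Nat.card H = m) (hK : Nat.card K = m) : ∃ g : G, MulAut.conj g • H = K := by
  obtain ⟨g, hg⟩ := hall_le_conj m n hG hmn H K hH (by rw [hK]; exact hmn)
  refine ⟨g, (Subgroup.eq_of_le_of_card_ge hg ?_).symm⟩
  rw [Cfsg.Agent.S0001.card_conj, hH, hK]

theorem hall_dominance [Finite G] [Group.IsSolvable G] (m n : ℕ)
    (hG : Nat.card G = m * n) (hmn : m.Coprime n) (K : Subgroup G)
    (hK : (Nat.card K).Coprime n) : ∃ H : Subgroup G, Nat.card H = m ∧ K ≤ H := by
  obtain ⟨H, hH⟩ := hall_exists m n hG hmn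
  obtain ⟨g, hg⟩ := hall_le_conj m n hG hmn H K hH hK
  exact ⟨MulAut.conj g • H, by rw [Cfsg.Agent.S0001.card_conj, hH], hg⟩

end Cfsg.Agent.Lib.Helper1
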