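import Mathlib
import Cfsg.Agent.Lib.Helper1.Hall

set_option autoImplicit false

namespace Cfsg.Agent.Lib.Helper1

open scoped Pointwise commutatorElement

variable {G : Type*} [Group G]

theorem isMulCommutative_conj_smul (H : Subgroup G) [IsMulCommutative H] (g : G) :
    IsMulCommutative (MulAut.conj g • H : Subgroup G) := by
  have : (MulAut.conj g • H : Subgroup G) = H.map (MulAut.conj g).toMonoidHom := rfl
  rw [this]
  infer_instance

theorem exists_sylow_le_of_hall [Finite G] (H : Subgroup G)
    (hHall : (Nat.card H).Coprime H.index) (p : ℕ) [Fact p.Prime] (hp : p ∣ Nat.card H) :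
    ∃ P : Sylow p G, (P : Subgroup G) ≤ H := by
  obtain ⟨P₀⟩ := (inferInstance : Nonempty (Sylow p H))
  have hP₀ : IsPGroup p ((P₀ : Subgroup H).map H.subtype) := P₀.2.map H.subtype
  obtain ⟨P, hP⟩ := hP₀.exists_le_sylow
  have hnd : ¬ p ∣ H.index := by
    intro h
    have := Nat.eq_one_of_dvd_coprimes hHall hp h
    exact (Fact.out : p.Prime).one_lt.ne' this
  have hfac : (Nat.card G).factorization p = (Nat.card H).factorization p := by
    rw [← H.card_mul_index, Nat.factorization_mul Nat.card_pos.ne' (Subgroup.index_ne_zero_of_finite)]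
    simp [Nat.factorization_eq_zero_of_not_dvd hnd]
  have hcard : Nat.card (P : Subgroup G) ≤ Nat.card ((P₀ : Subgroup H).map H.subtype) := by
    rw [Subgroup.card_map_of_injective H.subtype_injective, P.card_eq_multiplicity,
      P₀.card_eq_multiplicity, hfac]
  have heq := Subgroup.eq_of_le_of_card_ge hP hcard
  refine ⟨P, ?_⟩
  rw [← heq]
  exact Subgroup.map_subtype_le _

theorem abelian_hall_le_conj_aux.{u} : ∀ (c : ℕ) (G : Type u) [Group G] [Finite G],
    Nat.card G = c → ∀ H K : Subgroup G, IsMulCommutative H → IsMulCommutative K →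
      Nat.card K = Nat.card H → (Nat.card H).Coprime H.index →
      ∃ g : G, K ≤ MulAut.conj g • H := by
  intro c
  induction c using Nat.strong_induction_on with
  | _ c ih =>
    intro G _ _ hc H K hHc hKc hcard hHall
    by_cases h1 : Nat.card H = 1
    · refine ⟨1, ?_⟩
      rw [h1] at hcard
      rw [Subgroup.card_eq_one.mp hcard]
      exact bot_le
    · obtain ⟨p, hp, hpd⟩ := Nat.exists_prime_and_dvd h1
      have : Fact p.Prime := ⟨hp⟩
      have hKHall : (Nat.card K).Coprime K.index := by
        have h2 : K.index = H.index := by
          have e1 := K.card_mul_index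
          have e2 := H.card_mul_index
          rw [hcard] at e1
          have hpos : 0 < Nat.card H := Nat.card_pos
          exact Nat.eq_of_mul_eq_mul_left hpos (e1.trans e2.symm)
        rw [hcard, h2]; exact hHall
      obtain ⟨P, hPH⟩ := exists_sylow_le_of_hall H hHall p hpd
      obtain ⟨Q, hQK⟩ := exists_sylow_le_of_hall K hKHall p (hcard ▸ hpd)
      obtain ⟨g₁, hg₁⟩ := MulAction.exists_smul_eq G Q P
      have hPK' : (P : Subgroup G) ≤ MulAut.conj g₁ • K := by
        rw [← hg₁, Sylow.coe_subgroup_smul]
        exact Subgroup.pointwise_smul_le_pointwise_smul_iff.mpr hQK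
      have hK'c : IsMulCommutative (MulAut.conj g₁ • K : Subgroup G) :=
        isMulCommutative_conj_smul K g₁
      have hK'card : Nat.card (MulAut.conj g₁ • K : Subgroup G) = Nat.card H := by
        rw [Cfsg.Agent.S0001.card_conj, hcard]
      set K' := (MulAut.conj g₁ • K : Subgroup G) with hK'
      have hHC : H ≤ Subgroup.centralizer ((P : Subgroup G) : Set G) := by
        intro x hx
        rw [Subgroup.mem_centralizer_iff]
        intro y hy
        have := (isMulCommutative_iff.mp hHc) ⟨y, hPH hy⟩ ⟨x, hx⟩
        exact congrArg Subtype.val this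
      have hK'C : K' ≤ Subgroup.centralizer ((P : Subgroup G) : Set G) := by
        intro x hx
        rw [Subgroup.mem_centralizer_iff]
        intro y hy
        have := (isMulCommutative_iff.mp hK'c) ⟨y, hPK' hy⟩ ⟨x, hx⟩
        exact congrArg Subtype.val this
      have key : ∃ g₂ : G, K' ≤ MulAut.conj g₂ • H := by
        by_cases hC : Subgroup.centralizer ((P : Subgroup G) : Set G) = ⊤
        · have hPn : (P : Subgroup G).Normal := by
            constructor
            intro n hn g
            have hg : g ∈ Subgroup.centralizer ((P : Subgroup G) : Set G) := by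
              rw [hC]; exact Subgroup.mem_top g
            rw [Subgroup.mem_centralizer_iff] at hg
            have : g * n * g⁻¹ = n := by rw [← hg n hn]; group
            rw [this]; exact hn
          have hPcard : 1 < Nat.card (P : Subgroup G) := by
            rw [P.card_eq_multiplicity]
            apply Nat.one_lt_pow _ hp.one_lt
            have hpG : p ∣ Nat.card G := hpd.trans (Subgroup.card_subgroup_dvd_card H)
            exact (Nat.Prime.factorization_pos_of_dvd hp Nat.card_pos.ne' hpG).ne'
          have hQcard : Nat.card (G ⧸ (P : Subgroup G)) < c := by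
            rw [← hc, ← (P : Subgroup G).card_mul_index, ← Subgroup.index_eq_card]
            have hpos : 0 < (P : Subgroup G).index := Nat.pos_of_ne_zero Subgroup.index_ne_zero_of_finite
            nlinarith
          have e1 := card_map_mk'_of_le H (P : Subgroup G) hPH
          have e2 := card_map_mk'_of_le K' (P : Subgroup G) hPK'
          have hcard' : Nat.card (K'.map (QuotientGroup.mk' (P : Subgroup G))) =
              Nat.card (H.map (QuotientGroup.mk' (P : Subgroup G))) := by
            rw [hK'card, ← e1] at e2
            exact Nat.eq_of_mul_eq_mul_left Nat.card_pos e2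
          have hidx : (H.map (QuotientGroup.mk' (P : Subgroup G))).index = H.index := by
            apply Subgroup.index_map_eq H (QuotientGroup.mk'_surjective _)
            rw [QuotientGroup.ker_mk']; exact hPH
          have hHall' : (Nat.card (H.map (QuotientGroup.mk' (P : Subgroup G)))).Coprime
              (H.map (QuotientGroup.mk' (P : Subgroup G))).index := by
            rw [hidx]
            exact Nat.Coprime.coprime_dvd_left (Dvd.intro_left _ e1) hHall
          obtain ⟨gq, hgq⟩ := ih _ hQcard (G ⧸ (P : Subgroup G)) rfl
            (H.map (QuotientGroup.mk' (P : Subgroup G))) (K'.map (QuotientGroup.mk' (P : Subgroup G)))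
            inferInstance inferInstance hcard' hHall'
          obtain ⟨g₂, rfl⟩ := QuotientGroup.mk'_surjective _ gq
          refine ⟨g₂, ?_⟩
          have := le_conj_smul_of_map_le H K' (P : Subgroup G) g₂ hgq
          rwa [sup_eq_left.mpr hPH] at this
        · set C := Subgroup.centralizer ((P : Subgroup G) : Set G) with hCdef
          have hCcard : Nat.card C < c := by
            rw [← hc]; exact Cfsg.Agent.S0001.card_lt_of_ne_top C hC
          have e1 : Nat.card (H.subgroupOf C) = Nat.card H :=
            Cfsg.Agent.S0001.card_subgroupOf_of_le hHC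
          have e2 : Nat.card (K'.subgroupOf C) = Nat.card K' :=
            Cfsg.Agent.S0001.card_subgroupOf_of_le hK'C
          have hHall' : (Nat.card (H.subgroupOf C)).Coprime (H.subgroupOf C).index := by
            rw [e1]
            exact Nat.Coprime.coprime_dvd_right (Subgroup.relIndex_dvd_index_of_le hHC) hHall
          obtain ⟨l, hl⟩ := ih _ hCcard C rfl (H.subgroupOf C) (K'.subgroupOf C)
            inferInstance inferInstance (by rw [e1, e2, hK'card]) hHall'
          exact ⟨l, hallProp_subgroup_transfer C H K' hHC hK'C l hl⟩
      obtain ⟨g₂, hg₂⟩ := key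
      refine ⟨g₁⁻¹ * g₂, ?_⟩
      have h3 : K = MulAut.conj g₁⁻¹ • K' := by
        rw [hK', smul_smul, ← map_mul, inv_mul_cancel, map_one, one_smul]
      rw [h3, map_mul, mul_smul]
      exact Subgroup.pointwise_smul_le_pointwise_smul_iff.mpr hg₂

theorem abelian_hall_le_conj [Finite G] (H K : Subgroup G) (hH : IsMulCommutative H)
    (hK : IsMulCommutative K) (hcard : Nat.card K = Nat.card H)
    (hHall : (Nat.card H).Coprime H.index) : ∃ g : G, K ≤ MulAut.conj g • H :=
  abelian_hall_le_conj_aux _ G rfl H K hH hK hcard hHall

theorem abelian_hall_conj [Finite G] (H K : Subgroup G) (hH : IsMulCommutative H)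
    (hK : IsMulCommutative K) (hcard : Nat.card K = Nat.card H)
    (hHall : (Nat.card H).Coprime H.index) : ∃ g : G, MulAut.conj g • H = K := by
  obtain ⟨g, hg⟩ := abelian_hall_le_conj H K hH hK hcard hHall
  refine ⟨g, (Subgroup.eq_of_le_of_card_ge hg ?_).symm⟩
  rw [Cfsg.Agent.S0001.card_conj, hcard]

end Cfsg.Agent.Lib.Helper1
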