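import Mathlib
import Cfsg.Prelude.Def_Transfer

set_option autoImplicit false

namespace Cfsg.Agent.Lib.Helper1

open scoped Pointwise

variable {G : Type*} [Group G]

theorem pResidual_normal (p : ℕ) : (Cfsg.pResidual p G).Normal := by
  constructor
  intro n hn g
  unfold Cfsg.pResidual at hn ⊢
  induction hn using Subgroup.closure_induction with
  | mem x hx =>
    apply Subgroup.subset_closure
    change Nat.Coprime (orderOf (g * x * g⁻¹)) p
    have : g * x * g⁻¹ = MulAut.conj g x := by simp [MulAut.conj_apply]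
    rw [this, MulEquiv.orderOf_eq]
    exact hx
  | one => simp
  | mul x y _ _ hx hy =>
    have : g * (x * y) * g⁻¹ = (g * x * g⁻¹) * (g * y * g⁻¹) := by group
    rw [this]; exact Subgroup.mul_mem _ hx hy
  | inv x _ hx =>
    have : g * x⁻¹ * g⁻¹ = (g * x * g⁻¹)⁻¹ := by group
    rw [this]; exact Subgroup.inv_mem _ hx

theorem mem_pResidual_of_coprime {p : ℕ} {g : G} (h : Nat.Coprime (orderOf g) p) :
    g ∈ Cfsg.pResidual p G :=
  Subgroup.subset_closure h

theorem pResidual_le_of_isPGroup_quotient {p : ℕ} [Fact p.Prime] (N : Subgroup G) [N.Normal]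
    (h : IsPGroup p (G ⧸ N)) : Cfsg.pResidual p G ≤ N := by
  unfold Cfsg.pResidual
  rw [Subgroup.closure_le]
  intro g hg
  change Nat.Coprime (orderOf g) p at hg
  obtain ⟨k, hk⟩ := h (g : G ⧸ N)
  have h1 : orderOf (g : G ⧸ N) ∣ p ^ k := orderOf_dvd_of_pow_eq_one hk
  have h2 : orderOf (g : G ⧸ N) ∣ orderOf g := orderOf_map_dvd (QuotientGroup.mk' N) g
  have h3 : orderOf (g : G ⧸ N) = 1 :=
    Nat.eq_one_of_dvd_coprimes (Nat.Coprime.pow_right k hg) h2 h1
  rw [orderOf_eq_one_iff] at h3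
  exact (QuotientGroup.eq_one_iff g).mp h3

theorem quotient_pResidual_isPGroup [Finite G] (p : ℕ) [Fact p.Prime] :
    haveI := pResidual_normal (G := G) p
    IsPGroup p (G ⧸ Cfsg.pResidual p G) := by
  have := pResidual_normal (G := G) p
  intro q
  obtain ⟨g, rfl⟩ := QuotientGroup.mk_surjective q
  have hpos : 0 < orderOf g := orderOf_pos g
  obtain ⟨a, m, hm, hn⟩ := Nat.exists_eq_pow_mul_and_not_dvd hpos.ne' p (Fact.out : p.Prime).ne_one
  refine ⟨a, ?_⟩
  rw [← QuotientGroup.mk_pow, QuotientGroup.eq_one_iff]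
  apply mem_pResidual_of_coprime
  have h1 : orderOf (g ^ p ^ a) = m := by
    rw [orderOf_pow' g (pow_ne_zero a (Fact.out : p.Prime).ne_zero), hn,
      Nat.gcd_eq_right (Dvd.intro _ rfl), Nat.mul_div_cancel_left _ (pow_pos (Fact.out : p.Prime).pos a)]
  rw [h1]
  exact ((Fact.out : p.Prime).coprime_iff_not_dvd.mpr hm).symm

theorem sylow_sup_pResidual [Finite G] {p : ℕ} [Fact p.Prime] (P : Sylow p G) :
    (P : Subgroup G) ⊔ Cfsg.pResidual p G = ⊤ := by
  have := pResidual_normal (G := G) p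
  rw [← Subgroup.index_eq_one]
  have h1 : ((P : Subgroup G) ⊔ Cfsg.pResidual p G).index ∣ (P : Subgroup G).index :=
    Subgroup.index_dvd_of_le le_sup_left
  have h2 : ((P : Subgroup G) ⊔ Cfsg.pResidual p G).index ∣ (Cfsg.pResidual p G).index :=
    Subgroup.index_dvd_of_le le_sup_right
  obtain ⟨k, hk⟩ := IsPGroup.iff_card.mp (quotient_pResidual_isPGroup (G := G) p)
  have h3 : (Cfsg.pResidual p G).index = p ^ k := hk
  rw [h3] at h2
  have hcop : Nat.Coprime (P : Subgroup G).index (p ^ k) :=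
    (Nat.Coprime.pow_left k ((Fact.out : p.Prime).coprime_iff_not_dvd.mpr P.not_dvd_index)).symm
  exact Nat.eq_one_of_dvd_coprimes hcop h1 h2

end Cfsg.Agent.Lib.Helper1

namespace Cfsg.Agent.Lib.Helper1

open scoped Pointwise

variable {G : Type*} [Group G]

/-- If the Sylow `p`-subgroup `P` is commutative, then `G' ≤ O^p(G)`. -/
theorem commutator_le_pResidual_of_comm_sylow [Finite G] {p : ℕ} [Fact p.Prime] (P : Sylow p G)
    (hP : IsMulCommutative P) : commutator G ≤ Cfsg.pResidual p G := by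
  have := pResidual_normal (G := G) p
  rw [← Subgroup.Normal.quotient_commutative_iff_commutator_le]
  let π := QuotientGroup.mk' (Cfsg.pResidual p G)
  have hsurj : ∀ q : G ⧸ Cfsg.pResidual p G, ∃ x ∈ (P : Subgroup G), π x = q := by
    intro q
    obtain ⟨g, rfl⟩ := QuotientGroup.mk_surjective q
    have hg : g ∈ (P : Subgroup G) ⊔ Cfsg.pResidual p G := by
      rw [sylow_sup_pResidual]; trivial
    obtain ⟨y, hy, z, hz, rfl⟩ := Subgroup.mem_sup_of_normal_right.mp hg
    refine ⟨y, hy, ?_⟩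
    change π y = π (y * z)
    have hz1 : π z = 1 := (QuotientGroup.eq_one_iff z).mpr hz
    rw [map_mul, hz1, mul_one]
  have hPc := (isMulCommutative_iff (M := P)).mp hP
  rw [isMulCommutative_iff]
  intro a b
  obtain ⟨x, hx, rfl⟩ := hsurj a
  obtain ⟨y, hy, rfl⟩ := hsurj b
  have := congrArg Subtype.val (hPc ⟨x, hx⟩ ⟨y, hy⟩)
  change x * y = y * x at this
  rw [← map_mul, ← map_mul, this]

theorem pResidual_eq_top_of_sylow_le_commutator [Finite G] {p : ℕ} [Fact p.Prime] (P : Sylow p G)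
    (hP : IsMulCommutative P) (hle : (P : Subgroup G) ≤ commutator G) :
    Cfsg.pResidual p G = ⊤ := by
  rw [eq_top_iff, ← sylow_sup_pResidual P]
  exact sup_le (le_trans hle (commutator_le_pResidual_of_comm_sylow P hP)) le_rfl

end Cfsg.Agent.Lib.Helper1
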