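import Mathlib
import Cfsg.Prelude.Def_Transfer
import Cfsg.Agent.Lib.Helper1.Residual

set_option autoImplicit false

namespace Cfsg.Agent.Lib.Helper1

open scoped Pointwise commutatorElement

variable {G : Type*} [Group G]

/-- The focal subgroup of a commutative Sylow subgroup is `[P, N_G(P)]`. -/
theorem focalSubgroup_eq_commutator_normalizer [Finite G] {p : ℕ} [Fact p.Prime] (P : Sylow p G)
    (hP : IsMulCommutative P) :
    Subgroup.focalSubgroup (P : Subgroup G) =
      ⁅(P : Subgroup G), Subgroup.normalizer ((P : Subgroup G) : Set G)⁆ := by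
  apply le_antisymm
  · rw [Subgroup.focalSubgroup_def, Subgroup.closure_le]
    rintro g ⟨hg, x, hx, u, rfl⟩
    have hy : (u⁻¹)⁻¹ * x⁻¹ * u⁻¹ ∈ (P : Subgroup G) := by
      have : (u⁻¹)⁻¹ * x⁻¹ * u⁻¹ = x⁻¹ * ⁅x, u⁆ := by
        rw [commutatorElement_def]; group
      rw [this]
      exact Subgroup.mul_mem _ (Subgroup.inv_mem _ hx) hg
    obtain ⟨n, hn, hconj⟩ := P.conj_eq_normalizer_conj_of_mem x⁻¹ u⁻¹ (Subgroup.inv_mem _ hx) hy
    have : ⁅x, u⁆ = ⁅x, n⁻¹⁆ := by
      rw [commutatorElement_def, commutatorElement_def]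
      have h1 : x * u * x⁻¹ * u⁻¹ = x * ((u⁻¹)⁻¹ * x⁻¹ * u⁻¹) := by group
      rw [h1, hconj]; group
    rw [this]
    exact Subgroup.commutator_mem_commutator hx (Subgroup.inv_mem _ hn)
  · rw [Subgroup.commutator_le]
    intro x hx n hn
    rw [Subgroup.focalSubgroup_def]
    apply Subgroup.subset_closure
    refine ⟨?_, x, hx, n, rfl⟩
    rw [commutatorElement_def]
    have h1 : x * n * x⁻¹ * n⁻¹ = x * (n * x⁻¹ * n⁻¹) := by group
    rw [h1]
    apply Subgroup.mul_mem _ hx
    exact (Subgroup.mem_normalizer_iff.mp hn x⁻¹).mp (Subgroup.inv_mem _ hx)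

theorem commutator_inf_sylow_eq_of_comm [Finite G] {p : ℕ} [Fact p.Prime] (P : Sylow p G)
    (hP : IsMulCommutative P) :
    commutator G ⊓ (P : Subgroup G) =
      ⁅(P : Subgroup G), Subgroup.normalizer ((P : Subgroup G) : Set G)⁆ := by
  rw [Subgroup.commutator_inf_eq_focalSubgroup, focalSubgroup_eq_commutator_normalizer P hP]

end Cfsg.Agent.Lib.Helper1
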