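import Mathlib
import Cfsg.Agent.Lib.Lead.Coprime
import Cfsg.Agent.S0026
import Cfsg.Agent.Lib.Helper1.Nilp

set_option autoImplicit false

namespace Cfsg.Agent.Lib.Helper1

open scoped Pointwise commutatorElement IsMulCommutative
open Cfsg.Agent.Lib.Lead

variable {G : Type*} [Group G]

/-- The norm map `v ↦ ∏_{a ∈ A} a v a⁻¹` on a commutative subgroup normalised by `A`. -/
noncomputable def normHom (A V : Subgroup G) [IsMulCommutative V] [Fintype A]
    (hAV : A ≤ Subgroup.normalizer (V : Set G)) : V →* V :=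
  ∏ a : A, (conjAut V a (hAV a.2)).toMonoidHom

theorem normHom_apply (A V : Subgroup G) [IsMulCommutative V] [Fintype A]
    (hAV : A ≤ Subgroup.normalizer (V : Set G)) (v : V) :
    normHom A V hAV v = ∏ a : A, conjAut V a (hAV a.2) v := by
  unfold normHom
  rw [MonoidHom.finsetProd_apply]
  rfl

theorem normHom_conj (A V : Subgroup G) [IsMulCommutative V] [Fintype A]
    (hAV : A ≤ Subgroup.normalizer (V : Set G)) (b : A) (v : V) :
    normHom A V hAV (conjAut V b (hAV b.2) v) = normHom A V hAV v := by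
  rw [normHom_apply, normHom_apply]
  apply Fintype.prod_equiv (Equiv.mulRight b)
  intro a
  apply Subtype.ext
  simp only [conjAut_coe, Equiv.coe_mulRight, Subgroup.coe_mul]
  group

theorem normHom_of_mem_centralizer (A V : Subgroup G) [IsMulCommutative V] [Fintype A]
    (hAV : A ≤ Subgroup.normalizer (V : Set G)) (v : V)
    (hv : (v : G) ∈ Subgroup.centralizer (A : Set G)) :
    normHom A V hAV v = v ^ Fintype.card A := by
  rw [normHom_apply]
  have : ∀ a : A, conjAut V a (hAV a.2) v = v := by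
    intro a
    apply Subtype.ext
    rw [conjAut_coe]
    rw [Subgroup.mem_centralizer_iff] at hv
    rw [hv a a.2]; group
  simp only [this, Finset.prod_const, Finset.card_univ]

theorem commutator_le_ker_normHom (A V : Subgroup G) [IsMulCommutative V] [Fintype A]
    (hAV : A ≤ Subgroup.normalizer (V : Set G)) :
    ⁅V, A⁆ ≤ (normHom A V hAV).ker.map V.subtype := by
  rw [Subgroup.commutator_le]
  intro v hv a ha
  have hmem : a * v⁻¹ * a⁻¹ ∈ V :=
    (Subgroup.mem_normalizer_iff.mp (hAV ha) v⁻¹).mp (V.inv_mem hv)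
  refine ⟨⟨v, hv⟩ * conjAut V a (hAV ha) ⟨v⁻¹, V.inv_mem hv⟩, ?_, ?_⟩
  · rw [SetLike.mem_coe, MonoidHom.mem_ker, map_mul]
    have h1 := normHom_conj A V hAV ⟨a, ha⟩ ⟨v⁻¹, V.inv_mem hv⟩
    rw [h1, ← map_mul]
    have : (⟨v, hv⟩ : V) * ⟨v⁻¹, V.inv_mem hv⟩ = 1 := by
      apply Subtype.ext; simp
    rw [this, map_one]
  · simp only [Subgroup.coe_subtype, Subgroup.coe_mul, conjAut_coe, commutatorElement_def]
    group

theorem inf_centralizer_inf_commutator_eq_bot [Finite G] (A V : Subgroup G) [IsMulCommutative V]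
    (hAV : A ≤ Subgroup.normalizer (V : Set G)) (hcop : (Nat.card A).Coprime (Nat.card V)) :
    (V ⊓ Subgroup.centralizer (A : Set G)) ⊓ ⁅V, A⁆ = ⊥ := by
  let _ : Fintype A := Fintype.ofFinite A
  rw [eq_bot_iff]
  rintro x ⟨⟨hxV, hxC⟩, hxc⟩
  rw [Subgroup.mem_bot]
  obtain ⟨v, hv, rfl⟩ := commutator_le_ker_normHom A V hAV hxc
  rw [SetLike.mem_coe, MonoidHom.mem_ker, normHom_of_mem_centralizer A V hAV v hxC] at hv
  have h1 : orderOf v ∣ Fintype.card A := orderOf_dvd_of_pow_eq_one hv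
  rw [← Nat.card_eq_fintype_card] at h1
  have h2 : orderOf v ∣ Nat.card V := orderOf_dvd_natCard v
  have h3 : orderOf v = 1 := Nat.eq_one_of_dvd_coprimes hcop h1 h2
  rw [orderOf_eq_one_iff] at h3
  rw [h3]; rfl

/-- Coprime action on an abelian group: `V = C_V(A) × [V, A]`. -/
theorem coprime_abelian_decomposition [Finite G] (A V : Subgroup G) [IsMulCommutative V]
    (hAV : A ≤ Subgroup.normalizer (V : Set G)) (hcop : (Nat.card A).Coprime (Nat.card V)) :
    (V ⊓ Subgroup.centralizer (A : Set G)) ⊓ ⁅V, A⁆ = ⊥ ∧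
      (V ⊓ Subgroup.centralizer (A : Set G)) ⊔ ⁅V, A⁆ = V := by
  refine ⟨inf_centralizer_inf_commutator_eq_bot A V hAV hcop, ?_⟩
  rw [sup_comm]
  have hsolv : Group.IsSolvable V :=
    Group.isSolvable_of_comm (fun a b => (isMulCommutative_iff.mp inferInstance) a b)
  exact Cfsg.Agent.S0026.result A V hAV hcop (Or.inr hsolv)

end Cfsg.Agent.Lib.Helper1
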