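import Mathlib

set_option autoImplicit false

namespace Cfsg.Agent.Lib.Helper1

open scoped Pointwise commutatorElement IsMulCommutative

variable {G : Type*} [Group G]

/-- A central element of the derived subgroup is killed by the index of any commutative
subgroup of finite index (transfer). -/
theorem pow_index_eq_one_of_mem_commutator_of_mem_center (H : Subgroup G) [IsMulCommutative H]
    [H.FiniteIndex] (z : G) (hz : z ∈ Subgroup.center G) (hz' : z ∈ commutator G) :
    z ^ H.index = 1 := by
  have key : ∀ (k : ℕ) (g₀ : G), g₀⁻¹ * z ^ k * g₀ ∈ H → g₀⁻¹ * z ^ k * g₀ = z ^ k := by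
    intro k g₀ _
    have hzk : z ^ k ∈ Subgroup.center G := Subgroup.pow_mem _ hz k
    rw [Subgroup.mem_center_iff] at hzk
    rw [mul_assoc, ← hzk g₀]; group
  have h1 := MonoidHom.transfer_eq_pow (MonoidHom.id H) z key
  have h2 : MonoidHom.transfer (MonoidHom.id H) z = 1 :=
    Abelianization.commutator_subset_ker _ hz'
  rw [h2] at h1
  have := congrArg Subtype.val h1
  simpa using this.symm

theorem eq_one_of_mem_hall_commutator_center [Finite G] (H : Subgroup G) (hc : IsMulCommutative H)
    (hHall : Nat.Coprime (Nat.card H) H.index) (z : G) (hzH : z ∈ H)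
    (hz' : z ∈ commutator G) (hz : z ∈ Subgroup.center G) : z = 1 := by
  have h1 := pow_index_eq_one_of_mem_commutator_of_mem_center H z hz hz'
  have h2 : orderOf z ∣ H.index := orderOf_dvd_of_pow_eq_one h1
  have h3 : orderOf z ∣ Nat.card H := by
    have := orderOf_dvd_natCard (⟨z, hzH⟩ : H)
    rwa [Subgroup.orderOf_mk] at this
  have h4 : orderOf z = 1 := Nat.eq_one_of_dvd_coprimes hHall h3 h2
  exact orderOf_eq_one_iff.mp h4

end Cfsg.Agent.Lib.Helper1
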