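import Mathlib
import Cfsg.Agent.Lib.Helper1.CoprimeAbelian
import Cfsg.Agent.Lib.Helper1.TransferLib

set_option autoImplicit false

namespace Cfsg.Agent.Lib.Helper1

open scoped Pointwise commutatorElement IsMulCommutative

variable {G : Type*} [Group G]

theorem exists_complement_of_coprime_relIndex [Finite G] (V N : Subgroup G) (hVN : V ≤ N)
    (hNV : N ≤ Subgroup.normalizer (V : Set G)) (hcop : (Nat.card V).Coprime (V.relIndex N)) :
    ∃ K : Subgroup G, K ≤ N ∧ V ⊓ K = ⊥ ∧ V ⊔ K = N ∧ Nat.card K = V.relIndex N := by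
  have hnorm : (V.subgroupOf N).Normal :=
    (Subgroup.normal_subgroupOf_iff_le_normalizer hVN).mpr hNV
  have hcard : Nat.card (V.subgroupOf N) = Nat.card V :=
    Nat.card_congr (Subgroup.subgroupOfEquivOfLe hVN).toEquiv
  have hcop' : (Nat.card (V.subgroupOf N)).Coprime (V.subgroupOf N).index := by
    rw [hcard]; exact hcop
  obtain ⟨K', hK'⟩ := Subgroup.exists_right_complement'_of_coprime hcop'
  refine ⟨K'.map N.subtype, Subgroup.map_subtype_le K', ?_, ?_, ?_⟩
  · rw [eq_bot_iff]
    rintro x ⟨hxV, k, hk, rfl⟩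
    have hkV : k ∈ V.subgroupOf N := hxV
    have hbot := hK'.disjoint.eq_bot
    have : k ∈ V.subgroupOf N ⊓ K' := ⟨hkV, hk⟩
    rw [hbot, Subgroup.mem_bot] at this
    rw [this]; simp
  · have h1 := hK'.sup_eq_top
    have h2 := congrArg (Subgroup.map N.subtype) h1
    rw [Subgroup.map_sup, Subgroup.subgroupOf_map_subtype, inf_eq_left.mpr hVN,
      ← MonoidHom.range_eq_map, Subgroup.range_subtype] at h2
    exact h2
  · rw [Subgroup.card_map_of_injective N.subtype_injective]
    exact hK'.symm.index_eq_card.symm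

theorem inf_centralizer_le_of_sup [Finite G] (V K : Subgroup G) [IsMulCommutative V] :
    V ⊓ Subgroup.centralizer (K : Set G) ≤ Subgroup.centralizer ((V ⊔ K : Subgroup G) : Set G) := by
  rintro x ⟨hxV, hxK⟩
  have hVle : V ≤ Subgroup.centralizer ({x} : Set G) := by
    intro v hv
    rw [Subgroup.mem_centralizer_singleton_iff]
    have := (isMulCommutative_iff.mp (inferInstance : IsMulCommutative V)) ⟨v, hv⟩ ⟨x, hxV⟩
    exact congrArg Subtype.val this
  have hKle : K ≤ Subgroup.centralizer ({x} : Set G) := by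
    intro k hk
    rw [Subgroup.mem_centralizer_singleton_iff]
    have hxK' : x ∈ Subgroup.centralizer (K : Set G) := hxK
    rw [Subgroup.mem_centralizer_iff] at hxK'
    exact hxK' k hk
  have hle : V ⊔ K ≤ Subgroup.centralizer ({x} : Set G) := sup_le hVle hKle
  rw [Subgroup.mem_centralizer_iff]
  intro n hn
  have := hle hn
  rw [Subgroup.mem_centralizer_singleton_iff] at this
  exact this

theorem abelian_hall_decomposition [Finite G] (V N : Subgroup G) [IsMulCommutative V]
    (hVN : V ≤ N) (hNV : N ≤ Subgroup.normalizer (V : Set G))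
    (hcop : (Nat.card V).Coprime (V.relIndex N)) :
    (V ⊓ Subgroup.centralizer (N : Set G)) ⊓ ⁅V, N⁆ = ⊥ ∧
      (V ⊓ Subgroup.centralizer (N : Set G)) ⊔ ⁅V, N⁆ = V := by
  obtain ⟨K, hKN, hVK, hsup, hcardK⟩ := exists_complement_of_coprime_relIndex V N hVN hNV hcop
  have hcop' : (Nat.card K).Coprime (Nat.card V) := by
    rw [hcardK]; exact hcop.symm
  have hKV : K ≤ Subgroup.normalizer (V : Set G) := hKN.trans hNV
  obtain ⟨-, h2⟩ := coprime_abelian_decomposition K V hKV hcop'
  have hWV : ⁅V, N⁆ ≤ V := by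
    rw [Subgroup.commutator_le]
    intro v hv a ha
    have hmem : a * v⁻¹ * a⁻¹ ∈ V :=
      (Subgroup.mem_normalizer_iff.mp (hNV ha) v⁻¹).mp (V.inv_mem hv)
    have : ⁅v, a⁆ = v * (a * v⁻¹ * a⁻¹) := by
      rw [commutatorElement_def]; group
    rw [this]
    exact V.mul_mem hv hmem
  constructor
  · rw [eq_bot_iff]
    rintro x ⟨⟨hxV, hxC⟩, hxc⟩
    rw [Subgroup.mem_bot]
    have hxN : x ∈ N := hVN hxV
    have hcomm : ⁅V, N⁆ ≤ ⁅N, N⁆ := Subgroup.commutator_mono hVN le_rfl
    have hxNN : x ∈ ⁅N, N⁆ := hcomm hxc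
    rw [← Subgroup.map_subtype_commutator] at hxNN
    obtain ⟨y, hy, hyx⟩ := hxNN
    have hcardV : Nat.card (V.subgroupOf N) = Nat.card V :=
      Nat.card_congr (Subgroup.subgroupOfEquivOfLe hVN).toEquiv
    have hHall : Nat.Coprime (Nat.card (V.subgroupOf N)) (V.subgroupOf N).index := by
      rw [hcardV]; exact hcop
    have hc : IsMulCommutative (V.subgroupOf N) := by
      rw [isMulCommutative_iff]
      intro a b
      apply Subtype.ext
      apply Subtype.ext
      have := (isMulCommutative_iff.mp (inferInstance : IsMulCommutative V)) ⟨a.1.1, a.2⟩ ⟨b.1.1, b.2⟩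
      have h5 := congrArg Subtype.val this
      exact h5
    have hyV : y ∈ V.subgroupOf N := by
      change (y : G) ∈ V
      have : (y : G) = x := hyx
      rw [this]; exact hxV
    have hyZ : y ∈ Subgroup.center N := by
      rw [Subgroup.mem_center_iff]
      intro n
      apply Subtype.ext
      have : (y : G) = x := hyx
      simp only [Subgroup.coe_mul, this]
      have hxC' : x ∈ Subgroup.centralizer (N : Set G) := hxC
      rw [Subgroup.mem_centralizer_iff] at hxC'
      exact hxC' n n.2
    have := eq_one_of_mem_hall_commutator_center (V.subgroupOf N) hc hHall y hyV hy hyZ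
    rw [← hyx, this]; rfl
  · apply le_antisymm
    · exact sup_le inf_le_left hWV
    · have h3 : V ⊓ Subgroup.centralizer (K : Set G) ≤ V ⊓ Subgroup.centralizer (N : Set G) := by
        apply le_inf inf_le_left
        have := inf_centralizer_le_of_sup V K
        rw [hsup] at this
        exact this
      have h4 : ⁅V, K⁆ ≤ ⁅V, N⁆ := Subgroup.commutator_mono le_rfl hKN
      calc V = (V ⊓ Subgroup.centralizer (K : Set G)) ⊔ ⁅V, K⁆ := h2.symm
        _ ≤ _ := sup_le_sup h3 h4

end Cfsg.Agent.Lib.Helper1
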