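import Mathlib
import Cfsg.Agent.Lib.Helper1.InternalSZ
import Cfsg.Agent.Lib.Helper1.FocalLib

set_option autoImplicit false

namespace Cfsg.Agent.Lib.Helper1

open scoped Pointwise commutatorElement IsMulCommutative

variable {G : Type*} [Group G]

theorem sylow_abelian_decomposition [Finite G] {p : ℕ} [Fact p.Prime] (P : Sylow p G)
    (hP : IsMulCommutative P) :
    ((P : Subgroup G) ⊓ Subgroup.centralizer (Subgroup.normalizer ((P : Subgroup G) : Set G) : Set G)) ⊓
        Subgroup.focalSubgroup (P : Subgroup G) = ⊥ ∧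
      ((P : Subgroup G) ⊓ Subgroup.centralizer (Subgroup.normalizer ((P : Subgroup G) : Set G) : Set G)) ⊔
        Subgroup.focalSubgroup (P : Subgroup G) = (P : Subgroup G) := by
  have hc : IsMulCommutative (P : Subgroup G) := hP
  rw [focalSubgroup_eq_commutator_normalizer P hP]
  apply abelian_hall_decomposition (P : Subgroup G) _ Subgroup.le_normalizer le_rfl
  exact Nat.Coprime.coprime_dvd_right (Subgroup.relIndex_dvd_index_of_le Subgroup.le_normalizer)
    P.card_coprime_index

noncomputable def centralPartHom [Finite G] {p : ℕ} [Fact p.Prime] (P : Sylow p G) :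
    ((P : Subgroup G) ⊓ Subgroup.centralizer (Subgroup.normalizer ((P : Subgroup G) : Set G) : Set G) : Subgroup G)
      →* (P : Subgroup G) ⧸ Subgroup.focalSubgroupOf (P : Subgroup G) :=
  (QuotientGroup.mk' (Subgroup.focalSubgroupOf (P : Subgroup G))).comp (Subgroup.inclusion inf_le_left)

theorem centralPartHom_bijective [Finite G] {p : ℕ} [Fact p.Prime] (P : Sylow p G)
    (hP : IsMulCommutative P) : Function.Bijective (centralPartHom P) := by
  have hc : IsMulCommutative (P : Subgroup G) := hP
  obtain ⟨h1, h2⟩ := sylow_abelian_decomposition P hP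
  constructor
  · rw [injective_iff_map_eq_one]
    intro x hx
    unfold centralPartHom at hx
    rw [MonoidHom.comp_apply, QuotientGroup.mk'_apply, QuotientGroup.eq_one_iff] at hx
    have hx' : (x : G) ∈ Subgroup.focalSubgroup (P : Subgroup G) := hx
    have : (x : G) ∈ ((P : Subgroup G) ⊓ Subgroup.centralizer (Subgroup.normalizer ((P : Subgroup G) : Set G) : Set G)) ⊓
        Subgroup.focalSubgroup (P : Subgroup G) := ⟨x.2, hx'⟩
    rw [h1, Subgroup.mem_bot] at this
    exact Subtype.ext this
  · intro y
    obtain ⟨v, rfl⟩ := QuotientGroup.mk'_surjective _ y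
    have hsup' : ((P : Subgroup G) ⊓ Subgroup.centralizer (Subgroup.normalizer ((P : Subgroup G) : Set G) : Set G)).subgroupOf (P : Subgroup G) ⊔
        (Subgroup.focalSubgroup (P : Subgroup G)).subgroupOf (P : Subgroup G) = ⊤ := by
      rw [← Subgroup.subgroupOf_sup inf_le_left (Subgroup.focalSubgroup_le _), h2,
        Subgroup.subgroupOf_self]
    have hv : v ∈ (⊤ : Subgroup (P : Subgroup G)) := Subgroup.mem_top v
    rw [← hsup', Subgroup.mem_sup] at hv
    obtain ⟨a, ha, b, hb, rfl⟩ := hv
    refine ⟨⟨a.1, ha⟩, ?_⟩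
    unfold centralPartHom
    rw [MonoidHom.comp_apply, QuotientGroup.mk'_apply, QuotientGroup.mk'_apply]
    rw [QuotientGroup.eq]
    have : (Subgroup.inclusion inf_le_left ⟨a.1, ha⟩ : (P : Subgroup G))⁻¹ * (a * b) = b := by
      apply Subtype.ext
      simp
    rw [this]
    exact hb

theorem exists_quotient_equiv_central_part [Finite G] {p : ℕ} [Fact p.Prime] (P : Sylow p G)
    (hP : IsMulCommutative P) :
    ∃ (N : Subgroup G) (_ : N.Normal), Nonempty (G ⧸ N ≃*
      ((P : Subgroup G) ⊓ Subgroup.centralizer (Subgroup.normalizer ((P : Subgroup G) : Set G) : Set G) : Subgroup G)) := by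
  refine ⟨(Subgroup.transferFocal (P : Subgroup G)).ker, inferInstance, ⟨?_⟩⟩
  exact (Subgroup.transferFocal.quotientKerMulEquivQuotientFocalSubroupOf P).trans
    (MulEquiv.ofBijective (centralPartHom P) (centralPartHom_bijective P hP)).symm

end Cfsg.Agent.Lib.Helper1
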