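import Mathlib
import Cfsg.Agent.Lib.Helper1.Hall

set_option autoImplicit false

namespace Cfsg.Agent.Lib.Helper1

open scoped Pointwise commutatorElement

variable {G : Type*} [Group G]

theorem index_inf_of_coprime [Finite G] (A B : Subgroup G) (h : A.index.Coprime B.index) :
    (A ⊓ B).index = A.index * B.index := by
  apply Nat.le_antisymm Subgroup.index_inf_le
  apply Nat.le_of_dvd (Nat.pos_of_ne_zero Subgroup.index_ne_zero_of_finite)
  exact Nat.Coprime.mul_dvd_of_dvd_of_dvd h (Subgroup.index_dvd_of_le inf_le_left)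
    (Subgroup.index_dvd_of_le inf_le_right)

theorem exists_pComplement [Finite G] [Group.IsSolvable G] (q : ℕ) (hq : q.Prime) :
    ∃ H : Subgroup G, H.index = q ^ (Nat.card G).factorization q := by
  have hne : Nat.card G ≠ 0 := Nat.card_pos.ne'
  have hdvd : q ^ (Nat.card G).factorization q ∣ Nat.card G := Nat.ordProj_dvd _ _
  have hG : Nat.card G = (Nat.card G / q ^ (Nat.card G).factorization q) *
      q ^ (Nat.card G).factorization q := (Nat.div_mul_cancel hdvd).symm
  have hcop : (Nat.card G / q ^ (Nat.card G).factorization q).Coprime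
      (q ^ (Nat.card G).factorization q) :=
    (Nat.Coprime.pow_left _ (Nat.coprime_ordCompl hq hne)).symm
  obtain ⟨H, hH⟩ := hall_exists _ _ hG hcop
  refine ⟨H, ?_⟩
  have h1 := H.card_mul_index
  rw [hH] at h1
  have hpos : 0 < Nat.card G / q ^ (Nat.card G).factorization q := by
    apply Nat.div_pos (Nat.le_of_dvd Nat.card_pos hdvd) (pow_pos hq.pos _)
  have h2 : Nat.card G / q ^ (Nat.card G).factorization q * H.index =
      Nat.card G / q ^ (Nat.card G).factorization q * q ^ (Nat.card G).factorization q := by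
    rw [h1, ← hG]
  exact Nat.eq_of_mul_eq_mul_left hpos h2

theorem index_finset_inf [Finite G] (H : ℕ → Subgroup G) (a : ℕ → ℕ) (T : Finset ℕ)
    (hT : ∀ q ∈ T, q.Prime) (hH : ∀ q ∈ T, (H q).index = q ^ a q) :
    (T.inf H).index = ∏ q ∈ T, q ^ a q := by
  classical
  induction T using Finset.induction_on with
  | empty => simp
  | insert q T hqT ih =>
    have hT' : ∀ r ∈ T, r.Prime := fun r hr => hT r (Finset.mem_insert_of_mem hr)
    have hH' : ∀ r ∈ T, (H r).index = r ^ a r := fun r hr => hH r (Finset.mem_insert_of_mem hr)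
    have hq : q.Prime := hT q (Finset.mem_insert_self q T)
    rw [Finset.inf_insert, Finset.prod_insert hqT]
    have hcop : (H q).index.Coprime (T.inf H).index := by
      rw [ih hT' hH', hH q (Finset.mem_insert_self q T)]
      apply Nat.Coprime.prod_right
      intro r hr
      apply Nat.Coprime.pow
      rw [Nat.coprime_primes hq (hT' r hr)]
      rintro rfl
      exact hqT hr
    rw [index_inf_of_coprime _ _ hcop, ih hT' hH', hH q (Finset.mem_insert_self q T)]

theorem prod_erase_mul_pow_factorization (n : ℕ) (hn : n ≠ 0) (p : ℕ) :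
    (∏ q ∈ n.primeFactors.erase p, q ^ n.factorization q) * p ^ n.factorization p = n := by
  by_cases hp : p ∈ n.primeFactors
  · rw [Finset.prod_erase_mul _ _ hp]
    have := Nat.prod_factorization_pow_eq_self hn
    rw [Finsupp.prod, Nat.support_factorization] at this
    exact this
  · rw [Finset.erase_eq_of_notMem hp]
    have h0 : n.factorization p = 0 := by
      rw [← Finsupp.notMem_support_iff, Nat.support_factorization]; exact hp
    rw [h0, pow_zero, mul_one]
    have := Nat.prod_factorization_pow_eq_self hn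
    rw [Finsupp.prod, Nat.support_factorization] at this
    exact this

theorem prod_erase_erase_mul (n : ℕ) (hn : n ≠ 0) (p q : ℕ) (hpq : p ≠ q) :
    (∏ r ∈ (n.primeFactors.erase p).erase q, r ^ n.factorization r) *
      (p ^ n.factorization p * q ^ n.factorization q) = n := by
  have h1 := prod_erase_mul_pow_factorization n hn p
  by_cases hq : q ∈ n.primeFactors.erase p
  · rw [← Finset.prod_erase_mul _ _ hq] at h1
    refine Eq.trans ?_ h1
    ring
  · rw [Finset.erase_eq_of_notMem hq]
    have h0 : n.factorization q = 0 := by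
      rw [← Finsupp.notMem_support_iff, Nat.support_factorization]
      intro h
      exact hq (Finset.mem_erase.mpr ⟨hpq.symm, h⟩)
    rw [h0, pow_zero, mul_one]
    exact h1

theorem sylow_system_exists [Finite G] [Group.IsSolvable G] :
    ∃ S : (p : Nat.Primes) → Sylow (p : ℕ) G,
      ∀ p q : Nat.Primes, (S p : Set G) * (S q : Set G) = (S q : Set G) * (S p : Set G) := by
  classical
  have hne : Nat.card G ≠ 0 := Nat.card_pos.ne'
  set n := Nat.card G with hn
  set a : ℕ → ℕ := fun q => n.factorization q with ha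
  have hex : ∀ q : ℕ, ∃ H : Subgroup G, q.Prime → H.index = q ^ a q := by
    intro q
    by_cases hq : q.Prime
    · obtain ⟨H, hH⟩ := exists_pComplement (G := G) q hq
      exact ⟨H, fun _ => hH⟩
    · exact ⟨⊤, fun h => absurd h hq⟩
  choose H hH using hex
  set π := n.primeFactors with hπ
  have hπp : ∀ q ∈ π, q.Prime := fun q hq => Nat.prime_of_mem_primeFactors hq
  have hidx : ∀ T : Finset ℕ, T ⊆ π → (T.inf H).index = ∏ q ∈ T, q ^ a q := by
    intro T hT
    exact index_finset_inf H a T (fun q hq => hπp q (hT hq)) (fun q hq => hH q (hπp q (hT hq)))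
  have hcardS : ∀ p : Nat.Primes, Nat.card ((π.erase (p : ℕ)).inf H : Subgroup G) =
      (p : ℕ) ^ n.factorization (p : ℕ) := by
    intro p
    have h1 := hidx (π.erase (p : ℕ)) (Finset.erase_subset _ _)
    have h2 := ((π.erase (p : ℕ)).inf H).card_mul_index
    have h3 := prod_erase_mul_pow_factorization n hne (p : ℕ)
    rw [h1] at h2
    have hpos : 0 < ∏ q ∈ π.erase (p : ℕ), q ^ a q := by
      apply Finset.prod_pos
      intro q hq
      exact pow_pos (hπp q (Finset.mem_of_mem_erase hq)).pos _
    have h4 : (∏ q ∈ π.erase (p : ℕ), q ^ a q) * Nat.card ((π.erase (p : ℕ)).inf H : Subgroup G) =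
        (∏ q ∈ π.erase (p : ℕ), q ^ a q) * (p : ℕ) ^ n.factorization (p : ℕ) := by
      rw [mul_comm, h2, h3]
    exact Nat.eq_of_mul_eq_mul_left hpos h4
  have hfact : ∀ p : Nat.Primes, Fact (p : ℕ).Prime := fun p => ⟨p.2⟩
  refine ⟨fun p => Sylow.ofCard ((π.erase (p : ℕ)).inf H) (hcardS p), ?_⟩
  intro p q
  by_cases hpq : p = q
  · rw [hpq]
  have hpq' : (p : ℕ) ≠ (q : ℕ) := fun h => hpq (Subtype.ext h)
  set A := (π.erase (p : ℕ)).inf H with hA
  set B := (π.erase (q : ℕ)).inf H with hB
  set D := ((π.erase (p : ℕ)).erase (q : ℕ)).inf H with hD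
  have hAD : A ≤ D := Finset.inf_mono (Finset.erase_subset _ _)
  have hBD : B ≤ D := by
    apply Finset.inf_mono
    intro r hr
    rw [Finset.mem_erase, Finset.mem_erase] at hr
    exact Finset.mem_erase.mpr ⟨hr.1, hr.2.2⟩
  have hcardD : Nat.card D = (p : ℕ) ^ n.factorization (p : ℕ) * (q : ℕ) ^ n.factorization (q : ℕ) := by
    have h1 := hidx ((π.erase (p : ℕ)).erase (q : ℕ))
      ((Finset.erase_subset _ _).trans (Finset.erase_subset _ _))
    have h2 := D.card_mul_index
    have h3 := prod_erase_erase_mul n hne (p : ℕ) (q : ℕ) hpq'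
    rw [h1] at h2
    have hpos : 0 < ∏ r ∈ (π.erase (p : ℕ)).erase (q : ℕ), r ^ a r := by
      apply Finset.prod_pos
      intro r hr
      exact pow_pos (hπp r (Finset.mem_of_mem_erase (Finset.mem_of_mem_erase hr))).pos _
    have h4 : (∏ r ∈ (π.erase (p : ℕ)).erase (q : ℕ), r ^ a r) * Nat.card D =
        (∏ r ∈ (π.erase (p : ℕ)).erase (q : ℕ), r ^ a r) *
          ((p : ℕ) ^ n.factorization (p : ℕ) * (q : ℕ) ^ n.factorization (q : ℕ)) := by
      rw [mul_comm, h2, h3]
    exact Nat.eq_of_mul_eq_mul_left hpos h4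
  have hcop : (Nat.card A).Coprime (Nat.card B) := by
    rw [hcardS p, hcardS q]
    apply Nat.Coprime.pow
    exact (Nat.coprime_primes p.2 q.2).mpr hpq'
  have hcA : Nat.card (A.subgroupOf D) = Nat.card A :=
    Cfsg.Agent.S0001.card_subgroupOf_of_le hAD
  have hcB : Nat.card (B.subgroupOf D) = Nat.card B :=
    Cfsg.Agent.S0001.card_subgroupOf_of_le hBD
  have hcompl : (A.subgroupOf D).IsComplement' (B.subgroupOf D) := by
    apply Subgroup.isComplement'_of_coprime
    · rw [hcA, hcB, hcardS p, hcardS q, hcardD]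
    · rw [hcA, hcB]; exact hcop
  have key : ∀ (A B : Subgroup G), A ≤ D → B ≤ D → (A.subgroupOf D).IsComplement' (B.subgroupOf D) →
      (A : Set G) * (B : Set G) = (D : Set G) := by
    intro A B hAD hBD hc
    apply Set.Subset.antisymm
    · rintro _ ⟨x, hx, y, hy, rfl⟩
      exact D.mul_mem (hAD hx) (hBD hy)
    · intro d hd
      obtain ⟨⟨x, y⟩, hxy⟩ := hc.2 ⟨d, hd⟩
      refine ⟨(x : D), x.2, (y : D), y.2, ?_⟩
      have := congrArg Subtype.val hxy
      simpa using this
  change (A : Set G) * (B : Set G) = (B : Set G) * (A : Set G)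
  rw [key A B hAD hBD hcompl, key B A hBD hAD hcompl.symm]

end Cfsg.Agent.Lib.Helper1
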