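import Mathlib
import Cfsg.Agent.S0001
import Cfsg.Agent.Lib.Helper1.Fusion
import Cfsg.Agent.Lib.Helper19.Frobenius

set_option autoImplicit false

namespace Cfsg.Agent.Lib.Helper1

open scoped Pointwise commutatorElement

universe u

variable {G : Type*} [Group G]

theorem solvable_of_normal_of_quotient (N : Subgroup G) [N.Normal] (h1 : Group.IsSolvable N)
    (h2 : Group.IsSolvable (G ⧸ N)) : Group.IsSolvable G := by
  apply Group.isSolvable_of_ker_le_range N.subtype (QuotientGroup.mk' N)
  rw [QuotientGroup.ker_mk', Subgroup.range_subtype]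

theorem solvable_of_card_prime_pow [Finite G] {p k : ℕ} (hp : p.Prime) (h : Nat.card G = p ^ k) :
    Group.IsSolvable G := by
  have : Fact p.Prime := ⟨hp⟩
  have hpg : IsPGroup p G := IsPGroup.of_card h
  have := hpg.isNilpotent
  infer_instance

theorem sylow_card_of_card_eq [Finite G] {p q m : ℕ} [Fact p.Prime] (hq : q.Prime) (hpq : p ≠ q)
    (hG : Nat.card G = p ^ m * q) (P : Sylow p G) : Nat.card (P : Subgroup G) = p ^ m := by
  rw [P.card_eq_multiplicity, hG]
  congr 1
  have hp : p.Prime := Fact.out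
  rw [Nat.factorization_mul (pow_ne_zero _ hp.ne_zero) hq.ne_zero]
  simp [Nat.Prime.factorization_pow hp,
    Nat.factorization_eq_zero_of_not_dvd (fun h => hpq ((Nat.prime_dvd_prime_iff_eq hp hq).mp h))]

theorem sylow_card_of_card_eq' [Finite G] {p q m : ℕ} [Fact q.Prime] (hp : p.Prime) (hpq : p ≠ q)
    (hG : Nat.card G = p ^ m * q) (Q : Sylow q G) : Nat.card (Q : Subgroup G) = q := by
  rw [Q.card_eq_multiplicity, hG]
  have hq : q.Prime := Fact.out
  rw [Nat.factorization_mul (pow_ne_zero _ hp.ne_zero) hq.ne_zero]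
  have h0 : (p ^ m).factorization q = 0 := by
    apply Nat.factorization_eq_zero_of_not_dvd
    intro h
    exact hpq ((Nat.prime_dvd_prime_iff_eq hq hp).mp (hq.dvd_of_dvd_pow h)).symm
  rw [Finsupp.add_apply, h0, hq.factorization_self, zero_add, pow_one]

theorem exists_normal_pgroup_of_max_inter [Finite G] {p q m : ℕ} [Fact p.Prime] (hq : q.Prime)
    (hpq : p ≠ q) (hG : Nat.card G = p ^ m * q) (P₁ P₂ : Sylow p G) (hne : P₁ ≠ P₂)
    (hD : (P₁ : Subgroup G) ⊓ P₂ ≠ ⊥)
    (hmax : ∀ Q₁ Q₂ : Sylow p G, Q₁ ≠ Q₂ →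
      Nat.card ((Q₁ : Subgroup G) ⊓ Q₂ : Subgroup G) ≤ Nat.card ((P₁ : Subgroup G) ⊓ P₂ : Subgroup G)) :
    ∃ N : Subgroup G, N.Normal ∧ N ≠ ⊥ ∧ IsPGroup p N := by
  have hp : p.Prime := Fact.out
  have : Fact q.Prime := ⟨hq⟩
  set D := (P₁ : Subgroup G) ⊓ P₂ with hDdef
  set N := Subgroup.normalizer (D : Set G) with hN
  have hgrow : ∀ P P' : Sylow p G, P ≠ P' → (P : Subgroup G) ⊓ P' = D →
      ∃ y ∈ (P : Subgroup G), y ∈ N ∧ y ∉ D := by
    intro P P' hPP' hPD
    have hDP : D ≤ P := by rw [← hPD]; exact inf_le_left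
    have hlt : D.subgroupOf P < ⊤ := by
      rw [lt_top_iff_ne_top]
      intro htop
      rw [Subgroup.subgroupOf_eq_top] at htop
      apply hPP'
      have h1 : (P : Subgroup G) ≤ P' := htop.trans (by rw [← hPD]; exact inf_le_right)
      apply Sylow.ext
      exact Subgroup.eq_of_le_of_card_ge h1
        (by rw [sylow_card_of_card_eq hq hpq hG, sylow_card_of_card_eq hq hpq hG])
    have hnil : Group.IsNilpotent (P : Subgroup G) := P.2.isNilpotent
    have hnc := Group.normalizerCondition_of_isNilpotent (G := (P : Subgroup G)) _ hlt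
    obtain ⟨y, hy1, hy2⟩ := SetLike.exists_of_lt hnc
    rw [← Subgroup.subgroupOf_normalizer_eq hDP] at hy1
    exact ⟨y, y.2, hy1, hy2⟩
  have hqN : q ∣ Nat.card N := by
    by_contra hnd
    have hcop : (Nat.card N).Coprime q := (Nat.Coprime.symm ((Nat.Prime.coprime_iff_not_dvd hq).mpr hnd))
    have hdvd : Nat.card N ∣ p ^ m := by
      have h1 : Nat.card N ∣ p ^ m * q := hG ▸ Subgroup.card_subgroup_dvd_card N
      exact hcop.dvd_of_dvd_mul_right h1
    obtain ⟨k, -, hk⟩ := (Nat.dvd_prime_pow hp).mp hdvd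
    have hNp : IsPGroup p N := IsPGroup.of_card hk
    obtain ⟨P₃, hP₃⟩ := hNp.exists_le_sylow
    have hDN : D ≤ N := Subgroup.le_normalizer
    have key : ∀ P P' : Sylow p G, P ≠ P' → (P : Subgroup G) ⊓ P' = D → P₃ = P := by
      intro P P' hPP' hPD
      by_contra hne3
      obtain ⟨y, hyP, hyN, hyD⟩ := hgrow P P' hPP' hPD
      have hDP : D ≤ P := by rw [← hPD]; exact inf_le_left
      have h1 : D ≤ (P₃ : Subgroup G) ⊓ P := le_inf (hDN.trans hP₃) hDP
      have h2 := hmax P₃ P hne3
      have h3 : D = (P₃ : Subgroup G) ⊓ P := Subgroup.eq_of_le_of_card_ge h1 h2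
      apply hyD
      rw [h3]
      exact ⟨hP₃ hyN, hyP⟩
    have e1 := key P₁ P₂ hne rfl
    have e2 := key P₂ P₁ hne.symm (by rw [inf_comm])
    exact hne (e1.symm.trans e2)
  obtain ⟨x, hx⟩ := exists_prime_orderOf_dvd_card' q hqN
  set Q := Subgroup.zpowers (x : G) with hQ
  have hQN : Q ≤ N := by
    rw [hQ, Subgroup.zpowers_le]; exact x.2
  have hQcard : Nat.card Q = q := by
    rw [hQ, Nat.card_zpowers, Subgroup.orderOf_coe, hx]
  have hcompl : (P₁ : Subgroup G).IsComplement' Q := by
    apply Subgroup.isComplement'_of_coprime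
    · rw [sylow_card_of_card_eq hq hpq hG, hQcard, hG]
    · rw [sylow_card_of_card_eq hq hpq hG, hQcard]
      exact Nat.Coprime.pow_left _ ((Nat.coprime_primes hp hq).mpr hpq)
  have hDP₁ : D ≤ P₁ := inf_le_left
  have hNC : Subgroup.normalClosure (D : Set G) ≤ P₁ := by
    unfold Subgroup.normalClosure
    rw [Subgroup.closure_le]
    intro y hy
    rw [Group.mem_conjugatesOfSet_iff] at hy
    obtain ⟨d, hd, hdy⟩ := hy
    rw [isConj_iff] at hdy
    obtain ⟨g, rfl⟩ := hdy
    obtain ⟨⟨a, b⟩, hab⟩ := hcompl.2 g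
    have hab' : (a : G) * (b : G) = g := hab
    have hb : (b : G) * d * (b : G)⁻¹ ∈ D :=
      (Subgroup.mem_normalizer_iff.mp (hQN b.2) d).mp hd
    have : g * d * g⁻¹ = (a : G) * ((b : G) * d * (b : G)⁻¹) * (a : G)⁻¹ := by
      rw [← hab']; group
    rw [SetLike.mem_coe, this]
    exact Subgroup.mul_mem _ (Subgroup.mul_mem _ a.2 (hDP₁ hb)) (Subgroup.inv_mem _ a.2)
  refine ⟨Subgroup.normalClosure (D : Set G), Subgroup.normalClosure_normal, ?_, P₁.2.to_le hNC⟩
  intro hbot
  apply hD
  rw [eq_bot_iff, ← hbot]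
  exact Subgroup.le_normalClosure

theorem sylow_q_normal_of_TI [Finite G] {p q m : ℕ} [Fact p.Prime] [Fact q.Prime] (hpq : p ≠ q)
    (hm : 1 ≤ m) (hG : Nat.card G = p ^ m * q) (P : Sylow p G) (hPn : ¬ (P : Subgroup G).Normal)
    (hTI : ∀ Q₁ Q₂ : Sylow p G, Q₁ ≠ Q₂ → (Q₁ : Subgroup G) ⊓ Q₂ = ⊥) (Q : Sylow q G) :
    (Q : Subgroup G).Normal := by
  have hp : p.Prime := Fact.out
  have hq : q.Prime := Fact.out
  have hcardP : Nat.card (P : Subgroup G) = p ^ m := sylow_card_of_card_eq hq hpq hG P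
  have hidx : (P : Subgroup G).index = q := by
    have h1 := (P : Subgroup G).card_mul_index
    rw [hcardP, hG] at h1
    exact Nat.eq_of_mul_eq_mul_left (pow_pos hp.pos m) h1
  have hNP : Subgroup.normalizer ((P : Subgroup G) : Set G) = P := by
    have h1 : (Subgroup.normalizer ((P : Subgroup G) : Set G)).index ∣ q := by
      rw [← hidx]; exact Subgroup.index_dvd_of_le Subgroup.le_normalizer
    rcases (Nat.dvd_prime hq).mp h1 with h2 | h2
    · exfalso
      apply hPn
      exact Subgroup.normalizer_eq_top_iff.mp (Subgroup.index_eq_one.mp h2)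
    · symm
      apply Subgroup.eq_of_le_of_card_ge Subgroup.le_normalizer
      have h3 := (Subgroup.normalizer ((P : Subgroup G) : Set G)).card_mul_index
      have h4 := (P : Subgroup G).card_mul_index
      rw [h2] at h3
      rw [hidx] at h4
      have : Nat.card (Subgroup.normalizer ((P : Subgroup G) : Set G)) * q =
          Nat.card (P : Subgroup G) * q := by rw [h3, h4]
      exact (Nat.eq_of_mul_eq_mul_right hq.pos this).le
  have hfrob : Cfsg.IsFrobeniusComplement (P : Subgroup G) := by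
    refine ⟨?_, ?_, ?_⟩
    · intro hbot
      have : Nat.card (P : Subgroup G) = 1 := by rw [hbot]; exact Subgroup.card_bot
      rw [hcardP] at this
      have := Nat.one_lt_pow (by omega : m ≠ 0) hp.one_lt
      omega
    · intro htop
      apply hPn
      rw [htop]
      infer_instance
    · intro g hg
      have hne : P ≠ g • P := by
        intro heq
        apply hg
        have : g ∈ Subgroup.normalizer ((P : Subgroup G) : Set G) :=
          Sylow.smul_eq_iff_mem_normalizer.mp heq.symm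
        rw [hNP] at this
        exact this
      have := hTI P (g • P) hne
      rw [Sylow.coe_subgroup_smul] at this
      exact this
  have hker := Cfsg.Agent.Lib.Helper19.card_frobeniusKernel (P : Subgroup G) hfrob
  rw [hidx] at hker
  have hsub : ∀ Q' : Sylow q G, ((Q' : Subgroup G) : Set G) = Cfsg.frobeniusKernel (P : Subgroup G) := by
    intro Q'
    have hcardQ : Nat.card (Q' : Subgroup G) = q := sylow_card_of_card_eq' hp hpq hG Q'
    have hss : ((Q' : Subgroup G) : Set G) ⊆ Cfsg.frobeniusKernel (P : Subgroup G) := by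
      intro x hx
      by_cases hx1 : x = 1
      · exact Or.inl hx1
      · right
        intro g hxg
        apply hx1
        have h1 : orderOf x ∣ q := by
          have := orderOf_dvd_natCard (⟨x, hx⟩ : (Q' : Subgroup G))
          rwa [Subgroup.orderOf_mk, hcardQ] at this
        have h2 : orderOf x ∣ p ^ m := by
          have := orderOf_dvd_natCard (⟨x, hxg⟩ : (MulAut.conj g • (P : Subgroup G) : Subgroup G))
          rwa [Subgroup.orderOf_mk, Cfsg.Agent.S0001.card_conj, hcardP] at this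
        have h3 : (q).Coprime (p ^ m) :=
          Nat.Coprime.pow_right _ ((Nat.coprime_primes hq hp).mpr hpq.symm)
        exact orderOf_eq_one_iff.mp (Nat.eq_one_of_dvd_coprimes h3 h1 h2)
    apply Set.eq_of_subset_of_ncard_le hss _ (Set.toFinite _)
    rw [← Nat.card_coe_set_eq, ← Nat.card_coe_set_eq, hker]
    exact hcardQ.ge
  have hss : Subsingleton (Sylow q G) := by
    constructor
    intro Q₁ Q₂
    apply Sylow.ext
    exact SetLike.coe_injective ((hsub Q₁).trans (hsub Q₂).symm)
  exact Sylow.normal_of_subsingleton Q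

end Cfsg.Agent.Lib.Helper1
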