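import Mathlib
import Cfsg.Agent.Lib.Helper1.MinNormal
import Cfsg.Agent.Lib.Helper1.PmQ

set_option autoImplicit false

namespace Cfsg.Agent.Lib.Helper1

open scoped Pointwise

universe u

section

variable {G : Type*} [Group G]

theorem pgroup_le_of_not_dvd_index [Finite G] (p : ℕ) [Fact p.Prime] (H₁ H₂ M : Subgroup G)
    (h12 : ∀ g : G, ∃ x ∈ H₁, ∃ y ∈ H₂, g = x * y) (hM : IsPGroup p M)
    (hN : H₁ ≤ Subgroup.normalizer (M : Set G)) (hp : ¬ p ∣ H₂.index) : M ≤ H₂ := by
  have hfix := hM.nonempty_fixed_point_of_prime_not_dvd_card (G ⧸ H₂) hp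
  obtain ⟨c, hc⟩ := hfix
  obtain ⟨g, rfl⟩ := QuotientGroup.mk_surjective c
  obtain ⟨x, hx, y, hy, rfl⟩ := h12 g
  have hall : ∀ m ∈ M, x⁻¹ * m * x ∈ H₂ := by
    intro m hm
    have h1 : (⟨m⁻¹, M.inv_mem hm⟩ : M) • (QuotientGroup.mk (x * y) : G ⧸ H₂) =
        QuotientGroup.mk (x * y) := hc ⟨m⁻¹, M.inv_mem hm⟩
    have h2 : (QuotientGroup.mk (m⁻¹ * (x * y)) : G ⧸ H₂) = QuotientGroup.mk (x * y) := h1
    rw [QuotientGroup.eq] at h2
    have e : x⁻¹ * m * x = y * ((m⁻¹ * (x * y))⁻¹ * (x * y)) * y⁻¹ := by group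
    rw [e]
    exact H₂.mul_mem (H₂.mul_mem hy h2) (H₂.inv_mem hy)
  intro m hm
  have hxN : x ∈ Subgroup.normalizer (M : Set G) := hN hx
  have h5 : x * m * x⁻¹ ∈ M := (Subgroup.mem_normalizer_iff.mp hxN m).mp hm
  have h6 := hall _ h5
  have e : x⁻¹ * (x * m * x⁻¹) * x = m := by group
  rwa [e] at h6

theorem normalClosure_le_of_factor (H₁ H₂ M : Subgroup G)
    (h12 : ∀ g : G, ∃ x ∈ H₁, ∃ y ∈ H₂, g = x * y)
    (hN : H₁ ≤ Subgroup.normalizer (M : Set G)) (hM : M ≤ H₂) :
    Subgroup.normalClosure (M : Set G) ≤ H₂ := by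
  rw [Subgroup.normalClosure, Subgroup.closure_le]
  intro a ha
  rw [Group.mem_conjugatesOfSet_iff] at ha
  obtain ⟨b, hb, hab⟩ := ha
  rw [isConj_iff] at hab
  obtain ⟨c, rfl⟩ := hab
  obtain ⟨x, hx, y, hy, hxy⟩ := h12 c⁻¹
  have hc : c = y⁻¹ * x⁻¹ := by
    have : c = (c⁻¹)⁻¹ := (inv_inv c).symm
    rw [this, hxy]
    group
  have hxN : x⁻¹ ∈ Subgroup.normalizer (M : Set G) := Subgroup.inv_mem _ (hN hx)
  have h5 : x⁻¹ * b * x⁻¹⁻¹ ∈ M := (Subgroup.mem_normalizer_iff.mp hxN b).mp hb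
  have e : c * b * c⁻¹ = y⁻¹ * (x⁻¹ * b * x⁻¹⁻¹) * y := by
    rw [hc]; group
  change c * b * c⁻¹ ∈ H₂
  rw [e]
  exact H₂.mul_mem (H₂.mul_mem (H₂.inv_mem hy) (hM h5)) hy

theorem solvable_map {G' : Type*} [Group G'] (f : G →* G') (H : Subgroup G)
    (h : Group.IsSolvable H) : Group.IsSolvable (H.map f) :=
  Group.isSolvable_of_surjective (f := f.subgroupMap H) (f.subgroupMap_surjective H)

end

theorem three_solvable_aux : ∀ (n : ℕ) (G : Type u) [Group G] [Finite G], Nat.card G = n →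
    ∀ (H₁ H₂ H₃ : Subgroup G), Group.IsSolvable H₁ → Group.IsSolvable H₂ → Group.IsSolvable H₃ →
    (∀ g : G, ∃ x ∈ H₁, ∃ y ∈ H₂, g = x * y) → (∀ g : G, ∃ x ∈ H₁, ∃ y ∈ H₃, g = x * y) →
    H₂.index.Coprime H₃.index → Group.IsSolvable G := by
  intro n
  induction n using Nat.strong_induction_on with
  | _ n ih =>
    intro G _ _ hn H₁ H₂ H₃ h₁ h₂ h₃ h12 h13 hcop
    by_cases hbot : H₁ = ⊥
    · have htop : H₂ = ⊤ := by
        rw [eq_top_iff]
        intro g _
        obtain ⟨x, hx, y, hy, rfl⟩ := h12 g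
        rw [hbot, Subgroup.mem_bot] at hx
        rw [hx, one_mul]
        exact hy
      rw [htop] at h₂
      exact Group.isSolvable_of_surjective (f := (⊤ : Subgroup G).subtype)
        (fun g => ⟨⟨g, trivial⟩, rfl⟩)
    · have hnt : Nontrivial H₁ := (Subgroup.nontrivial_iff_ne_bot H₁).mpr hbot
      obtain ⟨M', hM'n, hM'bot, hM'min⟩ := exists_minimal_normal (G := H₁)
      obtain ⟨_, p, hp, hpow⟩ := minimal_normal_of_solvable M' hM'bot hM'min
      have : Fact p.Prime := ⟨hp⟩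
      have hMp : IsPGroup p (M'.map H₁.subtype) := by
        rintro ⟨x, hx⟩
        obtain ⟨x', hx', rfl⟩ := hx
        refine ⟨1, ?_⟩
        apply Subtype.ext
        have h1 := hpow x' hx'
        have h2 := congrArg Subtype.val h1
        simpa using h2
      have hMN : H₁ ≤ Subgroup.normalizer ((M'.map H₁.subtype : Subgroup G) : Set G) := by
        intro h hh
        have h1 : (⟨h, hh⟩ : H₁) ∈ Subgroup.normalizer (M' : Set H₁) := by
          rw [Subgroup.normalizer_eq_top]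
          trivial
        exact Subgroup.le_normalizer_map H₁.subtype ⟨⟨h, hh⟩, h1, rfl⟩
      have hMbot : M'.map H₁.subtype ≠ ⊥ := by
        intro h
        apply hM'bot
        rwa [Subgroup.map_eq_bot_iff_of_injective _ H₁.subtype_injective] at h
      have hkey : ∃ N : Subgroup G, N.Normal ∧ N ≠ ⊥ ∧ Group.IsSolvable N := by
        have hne : Subgroup.normalClosure ((M'.map H₁.subtype : Subgroup G) : Set G) ≠ ⊥ := by
          intro h
          apply hMbot
          rw [eq_bot_iff, ← h]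
          exact Subgroup.le_normalClosure
        by_cases hp2 : p ∣ H₂.index
        · have hp3 : ¬ p ∣ H₃.index := by
            intro h
            have := Nat.dvd_gcd hp2 h
            rw [Nat.Coprime] at hcop
            rw [hcop] at this
            exact hp.one_lt.ne' (Nat.dvd_one.mp this)
          have hle := pgroup_le_of_not_dvd_index p H₁ H₃ _ h13 hMp hMN hp3
          have hncl := normalClosure_le_of_factor H₁ H₃ _ h13 hMN hle
          exact ⟨_, Subgroup.normalClosure_normal, hne,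
            Group.isSolvable_of_isSolvable_injective (Subgroup.inclusion_injective hncl)⟩
        · have hle := pgroup_le_of_not_dvd_index p H₁ H₂ _ h12 hMp hMN hp2
          have hncl := normalClosure_le_of_factor H₁ H₂ _ h12 hMN hle
          exact ⟨_, Subgroup.normalClosure_normal, hne,
            Group.isSolvable_of_isSolvable_injective (Subgroup.inclusion_injective hncl)⟩
      obtain ⟨N, hNn, hNbot, hNsol⟩ := hkey
      have hlt : Nat.card (G ⧸ N) < n := by
        rw [← hn, ← N.card_mul_index, ← Subgroup.index_eq_card]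
        have h1 : 1 < Nat.card N := by
          rw [Subgroup.one_lt_card_iff_ne_bot]
          exact hNbot
        have h2 : 0 < N.index := Nat.pos_of_ne_zero Subgroup.index_ne_zero_of_finite
        nlinarith
      have hfac : ∀ (H₂ : Subgroup G), (∀ g : G, ∃ x ∈ H₁, ∃ y ∈ H₂, g = x * y) →
          ∀ g : G ⧸ N, ∃ x ∈ H₁.map (QuotientGroup.mk' N), ∃ y ∈ H₂.map (QuotientGroup.mk' N),
            g = x * y := by
        intro H₂ h12 g
        obtain ⟨g, rfl⟩ := QuotientGroup.mk_surjective g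
        obtain ⟨x, hx, y, hy, rfl⟩ := h12 g
        exact ⟨_, ⟨x, hx, rfl⟩, _, ⟨y, hy, rfl⟩, rfl⟩
      have hq := ih _ hlt (G ⧸ N) rfl (H₁.map (QuotientGroup.mk' N))
        (H₂.map (QuotientGroup.mk' N)) (H₃.map (QuotientGroup.mk' N))
        (solvable_map _ _ h₁) (solvable_map _ _ h₂) (solvable_map _ _ h₃)
        (hfac H₂ h12) (hfac H₃ h13)
        (Nat.Coprime.coprime_dvd_left (Subgroup.index_map_dvd H₂ (QuotientGroup.mk'_surjective N))
          (Nat.Coprime.coprime_dvd_right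
            (Subgroup.index_map_dvd H₃ (QuotientGroup.mk'_surjective N)) hcop))
      exact solvable_of_normal_of_quotient N hNsol hq

theorem three_solvable {G : Type u} [Group G] [Finite G] (H₁ H₂ H₃ : Subgroup G)
    (h₁ : Group.IsSolvable H₁) (h₂ : Group.IsSolvable H₂) (h₃ : Group.IsSolvable H₃)
    (h12 : ∀ g : G, ∃ x ∈ H₁, ∃ y ∈ H₂, g = x * y) (h13 : ∀ g : G, ∃ x ∈ H₁, ∃ y ∈ H₃, g = x * y)
    (hcop : H₂.index.Coprime H₃.index) : Group.IsSolvable G :=
  three_solvable_aux _ G rfl H₁ H₂ H₃ h₁ h₂ h₃ h12 h13 hcop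

end Cfsg.Agent.Lib.Helper1
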