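import Mathlib
import Cfsg.Agent.Lib.Helper1.ThreeSolvable
import Cfsg.Agent.Lib.Helper1.SylowSystem
import Cfsg.Agent.Lib.helper2.Burnside2

set_option autoImplicit false

namespace Cfsg.Agent.Lib.Helper1

universe u

section

variable {G : Type*} [Group G]

theorem relIndex_of_coprime_index [Finite G] (A B : Subgroup G) (h : A.index.Coprime B.index) :
    B.relIndex A = B.index := by
  have e1 := index_inf_of_coprime A B h
  have e2 := Subgroup.relIndex_mul_index (inf_le_left : A ⊓ B ≤ A)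
  rw [Subgroup.inf_relIndex_left, e1, mul_comm] at e2
  exact Nat.eq_of_mul_eq_mul_left (Nat.pos_of_ne_zero Subgroup.index_ne_zero_of_finite) e2

theorem exists_mul_of_coprime_index [Finite G] (A B : Subgroup G) (h : A.index.Coprime B.index)
    (g : G) : ∃ x ∈ A, ∃ y ∈ B, g = x * y := by
  have h1 := relIndex_of_coprime_index A B h
  have hstab : MulAction.stabilizer A (QuotientGroup.mk 1 : G ⧸ B) = B.subgroupOf A := by
    ext a
    rw [MulAction.mem_stabilizer_iff, Subgroup.mem_subgroupOf]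
    have e : a • (QuotientGroup.mk 1 : G ⧸ B) = QuotientGroup.mk ((a : G) * 1) := rfl
    rw [e, QuotientGroup.eq]
    simp
  have hcard : (MulAction.orbit A (QuotientGroup.mk 1 : G ⧸ B)).ncard = B.index := by
    rw [← h1, Subgroup.relIndex, ← hstab, MulAction.index_stabilizer]
  have huniv : MulAction.orbit A (QuotientGroup.mk 1 : G ⧸ B) = Set.univ := by
    apply Set.eq_of_subset_of_ncard_le (Set.subset_univ _)
    rw [hcard, Set.ncard_univ, Subgroup.index_eq_card]
  have hg : (QuotientGroup.mk g : G ⧸ B) ∈ MulAction.orbit A (QuotientGroup.mk 1 : G ⧸ B) := by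
    rw [huniv]; trivial
  obtain ⟨a, ha⟩ := hg
  have ha' : (QuotientGroup.mk ((a : G) * 1) : G ⧸ B) = QuotientGroup.mk g := ha
  rw [QuotientGroup.eq] at ha'
  refine ⟨a, a.2, ((a : G) * 1)⁻¹ * g, ha', ?_⟩
  group

end

theorem split_prime (n : ℕ) (hn : n ≠ 0) (h1 : n ≠ 1) :
    ∃ p a m : ℕ, p.Prime ∧ n = p ^ a * m ∧ ¬ p ∣ m ∧ m ∣ n ∧ p ∣ n ∧ m ≠ 0 := by
  have hp : n.minFac.Prime := Nat.minFac_prime h1
  have hnm := Nat.ordProj_mul_ordCompl_eq_self n n.minFac
  refine ⟨n.minFac, n.factorization n.minFac, n / n.minFac ^ n.factorization n.minFac, hp,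
    hnm.symm, Nat.not_dvd_ordCompl hp hn, Nat.ordCompl_dvd n n.minFac, Nat.minFac_dvd n, ?_⟩
  intro h
  rw [h, mul_zero] at hnm
  exact hn hnm.symm

theorem two_primes_of_not_three (n : ℕ) (hn : n ≠ 0)
    (h3 : ¬ ∃ p q r : ℕ, p.Prime ∧ q.Prime ∧ r.Prime ∧ p ≠ q ∧ p ≠ r ∧ q ≠ r ∧
      p ∣ n ∧ q ∣ n ∧ r ∣ n) :
    ∃ p q a b : ℕ, p.Prime ∧ q.Prime ∧ n = p ^ a * q ^ b := by
  by_cases h1 : n = 1
  · exact ⟨2, 2, 0, 0, Nat.prime_two, Nat.prime_two, by simp [h1]⟩
  obtain ⟨p, a, m, hp, hnm, hpm, hmn, hpn, hm0⟩ := split_prime n hn h1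
  by_cases hm1 : m = 1
  · refine ⟨p, p, a, 0, hp, hp, ?_⟩
    rw [hnm, hm1, pow_zero]
  obtain ⟨q, b, m', hq, hmm', hqm', hm'm, hqm, hm'0⟩ := split_prime m hm0 hm1
  have hqp : q ≠ p := by
    intro h
    rw [h] at hqm
    exact hpm hqm
  by_cases hm'1 : m' = 1
  · refine ⟨p, q, a, b, hp, hq, ?_⟩
    rw [hnm, hmm', hm'1, mul_one]
  exfalso
  apply h3
  obtain ⟨r, c, m'', hr, _, _, _, hrm', _⟩ := split_prime m' hm'0 hm'1
  refine ⟨p, q, r, hp, hq, hr, hqp.symm, ?_, ?_, hpn, hqm.trans hmn, (hrm'.trans hm'm).trans hmn⟩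
  · intro h
    apply hpm
    rw [h]
    exact hrm'.trans hm'm
  · intro h
    apply hqm'
    rw [h]
    exact hrm'

def HasPComplements (G : Type*) [Group G] : Prop :=
  ∀ p : ℕ, p.Prime → ∃ H : Subgroup G, H.index = p ^ (Nat.card G).factorization p

theorem hasPComplements_subgroup {G : Type*} [Group G] [Finite G] (h : HasPComplements G)
    (p : ℕ) (hp : p.Prime) (H : Subgroup G)
    (hH : H.index = p ^ (Nat.card G).factorization p) : HasPComplements H := by
  have hG0 : Nat.card G ≠ 0 := Nat.card_pos.ne'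
  have hH0 : Nat.card H ≠ 0 := Nat.card_pos.ne'
  have hmul : Nat.card H * p ^ (Nat.card G).factorization p = Nat.card G := by
    rw [← hH]; exact H.card_mul_index
  intro q hq
  by_cases hqp : q = p
  · subst hqp
    refine ⟨⊤, ?_⟩
    rw [Subgroup.index_top]
    have hnd : ¬ q ∣ Nat.card H := by
      intro hd
      apply Nat.pow_succ_factorization_not_dvd hG0 hq
      have h5 : q ^ ((Nat.card G).factorization q + 1) ∣
          Nat.card H * q ^ (Nat.card G).factorization q := by
        rw [pow_succ, mul_comm]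
        exact Nat.mul_dvd_mul hd dvd_rfl
      rwa [hmul] at h5
    rw [Nat.factorization_eq_zero_of_not_dvd hnd, pow_zero]
  · obtain ⟨Hq, hHq⟩ := h q hq
    refine ⟨Hq.subgroupOf H, ?_⟩
    have hcop : H.index.Coprime Hq.index := by
      rw [hH, hHq]
      exact Nat.Coprime.pow _ _ ((Nat.coprime_primes hp hq).mpr (Ne.symm hqp))
    have h1 := relIndex_of_coprime_index H Hq hcop
    have h2 : (Nat.card G).factorization q = (Nat.card H).factorization q := by
      have h5 : (Nat.card H * p ^ (Nat.card G).factorization p).factorization q =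
          (Nat.card H).factorization q := by
        rw [Nat.factorization_mul hH0 (pow_ne_zero _ hp.ne_zero), Nat.factorization_pow]
        simp [Nat.Prime.factorization hp, Ne.symm hqp]
      rwa [hmul] at h5
    change Hq.relIndex H = _
    rw [h1, hHq, h2]

theorem converse_hall_aux : ∀ (n : ℕ) (G : Type u) [Group G] [Finite G], Nat.card G = n →
    HasPComplements G → Group.IsSolvable G := by
  intro n
  induction n using Nat.strong_induction_on with
  | _ n ih =>
    intro G _ _ hn hG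
    have hn0 : n ≠ 0 := hn ▸ Nat.card_pos.ne'
    by_cases h3 : ∃ p q r : ℕ, p.Prime ∧ q.Prime ∧ r.Prime ∧ p ≠ q ∧ p ≠ r ∧ q ≠ r ∧
        p ∣ n ∧ q ∣ n ∧ r ∣ n
    · obtain ⟨p, q, r, hp, hq, hr, hpq, hpr, hqr, hpn, hqn, hrn⟩ := h3
      obtain ⟨Hp, hHp⟩ := hG p hp
      obtain ⟨Hq, hHq⟩ := hG q hq
      obtain ⟨Hr, hHr⟩ := hG r hr
      have solv : ∀ (p : ℕ) (hp : p.Prime) (hpn : p ∣ n) (H : Subgroup G)
          (hH : H.index = p ^ (Nat.card G).factorization p), Group.IsSolvable H := by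
        intro p hp hpn H hH
        apply ih (Nat.card H) ?_ H rfl (hasPComplements_subgroup hG p hp H hH)
        rw [← hn, ← H.card_mul_index, hH]
        have h1 : 0 < (Nat.card G).factorization p :=
          hp.factorization_pos_of_dvd (hn ▸ hn0) (hn ▸ hpn)
        have h2 : 1 < p ^ (Nat.card G).factorization p :=
          Nat.one_lt_pow h1.ne' hp.one_lt
        have h3 : 0 < Nat.card H := Nat.card_pos
        nlinarith
      have cop : ∀ (p q : ℕ) (hp : p.Prime) (hq : q.Prime) (hpq : p ≠ q) (Hp Hq : Subgroup G)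
          (hHp : Hp.index = p ^ (Nat.card G).factorization p)
          (hHq : Hq.index = q ^ (Nat.card G).factorization q), Hp.index.Coprime Hq.index := by
        intro p q hp hq hpq Hp Hq hHp hHq
        rw [hHp, hHq]
        exact Nat.Coprime.pow _ _ ((Nat.coprime_primes hp hq).mpr hpq)
      exact three_solvable Hp Hq Hr (solv p hp hpn Hp hHp) (solv q hq hqn Hq hHq)
        (solv r hr hrn Hr hHr)
        (exists_mul_of_coprime_index Hp Hq (cop p q hp hq hpq Hp Hq hHp hHq))
        (exists_mul_of_coprime_index Hp Hr (cop p r hp hr hpr Hp Hr hHp hHr))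
        (cop q r hq hr hqr Hq Hr hHq hHr)
    · obtain ⟨p, q, a, b, hp, hq, hnab⟩ := two_primes_of_not_three n hn0 h3
      exact Cfsg.Agent.Lib.helper2.burnside_pq p q a b hp hq (hn.trans hnab)

theorem converse_hall {G : Type u} [Group G] [Finite G]
    (h : ∀ p : ℕ, p.Prime → ∃ H : Subgroup G, H.index = p ^ (Nat.card G).factorization p) :
    Group.IsSolvable G :=
  converse_hall_aux _ G rfl h

end Cfsg.Agent.Lib.Helper1
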