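import Mathlib

set_option autoImplicit false

namespace Cfsg.Agent.Lib.Helper1

open scoped Pointwise commutatorElement IsMulCommutative

variable {G : Type*} [Group G]

theorem card_quotient_focal_coprime [Finite G] (H : Subgroup G)
    (h : Nat.Coprime H.index (⁅H, H⁆.relIndex H)) :
    (Nat.card (H ⧸ H.focalSubgroupOf)).Coprime H.index := by
  have h1 : Nat.card (H ⧸ H.focalSubgroupOf) = H.focalSubgroup.relIndex H := by
    rw [← Subgroup.index_eq_card]; rfl
  rw [h1]
  exact (Nat.Coprime.coprime_dvd_right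
    (Subgroup.relIndex_dvd_of_le_left H H.commutator_le_focalSubgroup) h).symm

theorem ker_transferFocal_inf_eq [Finite G] (H : Subgroup G)
    (h : Nat.Coprime H.index (⁅H, H⁆.relIndex H)) :
    H.transferFocal.ker ⊓ H = H.focalSubgroup := by
  have hcop := card_quotient_focal_coprime H h
  ext x
  constructor
  · rintro ⟨hxk', hxH'⟩
    have hxH : x ∈ H := hxH'
    have hxk : H.transferFocal x = 1 := MonoidHom.mem_ker.mp hxk'
    have h1 := H.transferFocal_eq_pow ⟨x, hxH⟩
    rw [hxk] at h1
    have h2 : (powCoprime hcop) ((⟨x, hxH⟩ : H) : H ⧸ H.focalSubgroupOf) = (powCoprime hcop) 1 := by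
      rw [powCoprime_apply, powCoprime_apply, one_pow]; exact h1.symm
    have h3 := (powCoprime hcop).injective h2
    rw [QuotientGroup.eq_one_iff] at h3
    exact h3
  · intro hx
    have hxH : x ∈ H := H.focalSubgroup_le hx
    refine ⟨?_, hxH⟩
    apply MonoidHom.mem_ker.mpr
    have h1 := H.transferFocal_eq_pow ⟨x, hxH⟩
    have h3 : ((⟨x, hxH⟩ : H) : H ⧸ H.focalSubgroupOf) = 1 := by
      rw [QuotientGroup.eq_one_iff]; exact hx
    rw [h3, one_pow] at h1
    exact h1

theorem focal_eq_commutator_inf [Finite G] (H : Subgroup G)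
    (h : Nat.Coprime H.index (⁅H, H⁆.relIndex H)) :
    H.focalSubgroup = commutator G ⊓ H := by
  apply le_antisymm
  · exact le_inf H.focalSubgroup_le_commutator H.focalSubgroup_le
  · rw [← ker_transferFocal_inf_eq H h]
    exact inf_le_inf_right _ (Abelianization.commutator_subset_ker H.transferFocal)

theorem ker_transferFocal_sup_eq_top [Finite G] (H : Subgroup G)
    (h : Nat.Coprime H.index (⁅H, H⁆.relIndex H)) :
    H.transferFocal.ker ⊔ H = ⊤ := by
  have hcop := card_quotient_focal_coprime H h
  rw [eq_top_iff]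
  intro g _
  obtain ⟨y, hy⟩ := (powCoprime hcop).surjective (H.transferFocal g)
  obtain ⟨x, rfl⟩ := QuotientGroup.mk_surjective y
  rw [powCoprime_apply, ← H.transferFocal_eq_pow x] at hy
  have hk : g * (x : G)⁻¹ ∈ H.transferFocal.ker := by
    rw [MonoidHom.mem_ker, map_mul, map_inv, hy, mul_inv_cancel]
  have : g = (g * (x : G)⁻¹) * x := by group
  rw [this]
  exact Subgroup.mul_mem _ (Subgroup.mem_sup_left hk) (Subgroup.mem_sup_right x.2)

end Cfsg.Agent.Lib.Helper1
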