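import Mathlib
import Cfsg.Agent.Lib.Helper1.ConverseHall
import Cfsg.Agent.Lib.Helper1.FocalHall
import Cfsg.Agent.Lib.Helper1.Fusion
import Cfsg.Agent.Lib.Helper21.FrobeniusNPC
import Cfsg.Agent.S0001

set_option autoImplicit false

namespace Cfsg.Agent.Lib.Helper1

open scoped commutatorElement Pointwise
open Cfsg.Agent.S0001

universe u

section

variable {G : Type*} [Group G]

def ControlsFusion (P : Subgroup G) : Prop :=
  ∀ x ∈ P, ∀ u : G, u * x * u⁻¹ ∈ P → ∃ v ∈ P, v * x * v⁻¹ = u * x * u⁻¹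

theorem focal_le_of_controls (P : Subgroup G) (hc : ControlsFusion P) :
    P.focalSubgroup ≤ ⁅P, P⁆ := by
  rw [Subgroup.focalSubgroup_def, Subgroup.closure_le]
  rintro g ⟨hgP, x, hxP, u, rfl⟩
  have h1 : u * x⁻¹ * u⁻¹ ∈ P := by
    have : u * x⁻¹ * u⁻¹ = x⁻¹ * ⁅x, u⁆ := by rw [commutatorElement_def]; group
    rw [this]; exact P.mul_mem (P.inv_mem hxP) hgP
  obtain ⟨v, hv, hvx⟩ := hc x⁻¹ (P.inv_mem hxP) u h1
  have h2 : ⁅x, u⁆ = ⁅x, v⁆ := by
    rw [commutatorElement_def, commutatorElement_def]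
    calc x * u * x⁻¹ * u⁻¹ = x * (u * x⁻¹ * u⁻¹) := by group
      _ = x * (v * x⁻¹ * v⁻¹) := by rw [hvx]
      _ = x * v * x⁻¹ * v⁻¹ := by group
  rw [h2]
  exact Subgroup.commutator_mem_commutator hxP hv

theorem centralizer_sylow_of_controls [Finite G] {p : ℕ} [hp : Fact p.Prime] (P : Subgroup G)
    (hP : IsPGroup p P) (hidx : ¬ p ∣ P.index) (hc : ControlsFusion P) (x : G) (hx : x ∈ P) :
    ¬ p ∣ (P.subgroupOf (Subgroup.centralizer {x})).index := by
  set C := Subgroup.centralizer ({x} : Set G) with hC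
  have hxC : x ∈ C := by
    rw [hC]
    apply Subgroup.mem_centralizer_iff.mpr
    intro z hz
    rw [Set.mem_singleton_iff] at hz
    rw [hz]
  have hQ₀ : IsPGroup p (P.subgroupOf C) := hP.comap_of_injective C.subtype C.subtype_injective
  obtain ⟨S₀, hS₀⟩ := hQ₀.exists_le_sylow
  have hS : IsPGroup p ((S₀ : Subgroup C).map C.subtype) := S₀.2.map _
  obtain ⟨T, hT⟩ := hS.exists_le_sylow
  obtain ⟨g, hg⟩ := MulAction.exists_smul_eq G T (hP.toSylow hidx)
  have hconj : ∀ s ∈ (S₀ : Subgroup C).map C.subtype, g * s * g⁻¹ ∈ P := by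
    intro s hs
    have h1 : g * s * g⁻¹ ∈ g • T := by
      rw [mem_sylow_smul_iff]
      have e : g⁻¹ * (g * s * g⁻¹) * g = s := by group
      rw [e]
      exact hT hs
    rw [hg] at h1
    exact h1
  have hxS : x ∈ (S₀ : Subgroup C).map C.subtype :=
    ⟨⟨x, hxC⟩, hS₀ (Subgroup.mem_subgroupOf.mpr hx), rfl⟩
  obtain ⟨w, hw, hwx⟩ := hc x hx g (hconj x hxS)
  have hcC : w⁻¹ * g ∈ C := by
    rw [hC]
    apply Subgroup.mem_centralizer_iff.mpr
    intro z hz
    rw [Set.mem_singleton_iff] at hz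
    rw [hz]
    have e1 : g * x = w * x * w⁻¹ * g := by rw [hwx]; group
    calc x * (w⁻¹ * g) = w⁻¹ * (w * x * w⁻¹ * g) := by group
      _ = w⁻¹ * (g * x) := by rw [e1]
      _ = w⁻¹ * g * x := by group
  have hle : Nat.card (S₀ : Subgroup C) ≤ Nat.card (P.subgroupOf C) := by
    let f : ↥(S₀ : Subgroup C) → ↥(P.subgroupOf C) := fun s =>
      ⟨⟨w⁻¹ * g, hcC⟩ * (s : C) * ⟨w⁻¹ * g, hcC⟩⁻¹, by
        rw [Subgroup.mem_subgroupOf]
        have h1 := hconj ((s : C) : G) ⟨(s : C), s.2, rfl⟩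
        have e : ((⟨w⁻¹ * g, hcC⟩ * (s : C) * ⟨w⁻¹ * g, hcC⟩⁻¹ : C) : G) =
            w⁻¹ * (g * ((s : C) : G) * g⁻¹) * w := by
          simp only [Subgroup.coe_mul, Subgroup.coe_inv]
          group
        rw [e]
        exact P.mul_mem (P.mul_mem (P.inv_mem hw) h1) hw⟩
    apply Nat.card_le_card_of_injective f
    intro s t hst
    have h1 := congrArg Subtype.val hst
    simp only [f] at h1
    have h2 : (s : C) = (t : C) := by
      have := mul_left_cancel (mul_right_cancel h1)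
      exact this
    exact Subtype.ext h2
  have heq : P.subgroupOf C = (S₀ : Subgroup C) := Subgroup.eq_of_le_of_card_ge hS₀ hle
  rw [heq]
  exact S₀.not_dvd_index

theorem centralizer_decomp_of_controls [Finite G] {p : ℕ} [hp : Fact p.Prime] (P K : Subgroup G)
    [K.Normal] (hP : IsPGroup p P) (hidx : ¬ p ∣ P.index) (hc : ControlsFusion P)
    {j : ℕ} (hK : K.index = p ^ j) (x : G) (hx : x ∈ P) (c : G) (hcx : c * x = x * c) :
    ∃ a ∈ P, a * x = x * a ∧ ∃ b ∈ K, b * x = x * b ∧ c = a * b := by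
  have hS := centralizer_sylow_of_controls P hP hidx hc x hx
  set C := Subgroup.centralizer ({x} : Set G) with hC
  have hmemC : ∀ z : G, z ∈ C ↔ z * x = x * z := by
    intro z
    rw [hC]
    constructor
    · intro h
      exact ((Subgroup.mem_centralizer_iff.mp h) x (Set.mem_singleton x)).symm
    · intro h
      apply Subgroup.mem_centralizer_iff.mpr
      intro y hy
      rw [Set.mem_singleton_iff] at hy
      rw [hy]
      exact h.symm
  have hD : (K.subgroupOf C).index ∣ p ^ j := by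
    rw [← hK]
    exact Subgroup.relIndex_dvd_index_of_normal K C
  obtain ⟨i, -, hi⟩ := (Nat.dvd_prime_pow hp.out).mp hD
  have hcop : (P.subgroupOf C).index.Coprime (K.subgroupOf C).index := by
    rw [hi]
    exact Nat.Coprime.pow_right _ ((Nat.Prime.coprime_iff_not_dvd hp.out).mpr hS).symm
  obtain ⟨s, hs, d, hd, hsd⟩ := exists_mul_of_coprime_index _ _ hcop ⟨c, (hmemC c).mpr hcx⟩
  refine ⟨(s : G), Subgroup.mem_subgroupOf.mp hs, (hmemC _).mp s.2, (d : G),
    Subgroup.mem_subgroupOf.mp hd, (hmemC _).mp d.2, ?_⟩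
  have := congrArg Subtype.val hsd
  simpa using this

end

theorem controls_npc (p : ℕ) [hp : Fact p.Prime] :
    ∀ n : ℕ, ∀ (G : Type u) [Group G] [Finite G], Nat.card G = n →
      ∀ P : Subgroup G, IsPGroup p P → ¬ p ∣ P.index → ControlsFusion P →
      ∃ N : Subgroup G, N.Normal ∧ (Nat.card N).Coprime p ∧ ∃ k : ℕ, N.index = p ^ k := by
  intro n
  induction n using Nat.strong_induction_on with
  | _ n ih =>
  intro G _ _ hn P hP hidx hc
  by_cases hbot : P = ⊥
  · refine ⟨⊤, inferInstance, ?_, 0, by simp⟩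
    rw [Subgroup.card_top]
    rw [hbot, Subgroup.index_bot] at hidx
    exact ((Nat.Prime.coprime_iff_not_dvd hp.out).mpr hidx).symm
  obtain ⟨a, ha⟩ := IsPGroup.iff_card.mp hP
  have hpcop : ∀ m : ℕ, m ∣ p ^ a → Nat.Coprime P.index m := by
    intro m hm
    obtain ⟨j, -, hj⟩ := (Nat.dvd_prime_pow hp.out).mp hm
    rw [hj]
    exact Nat.Coprime.pow_right _ ((Nat.Prime.coprime_iff_not_dvd hp.out).mpr hidx).symm
  have hcopidx : Nat.Coprime P.index (⁅P, P⁆.relIndex P) :=
    hpcop _ (ha ▸ Subgroup.relIndex_dvd_card _ _)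
  have hKP : P.transferFocal.ker ⊓ P = P.focalSubgroup := ker_transferFocal_inf_eq P hcopidx
  have hKsup : P.transferFocal.ker ⊔ P = ⊤ := ker_transferFocal_sup_eq_top P hcopidx
  have hfoc : P.focalSubgroup ≤ ⁅P, P⁆ := focal_le_of_controls P hc
  have hnil : Group.IsNilpotent P := hP.isNilpotent
  have hsolv : Group.IsSolvable P := inferInstance
  have hlt : ⁅P, P⁆ < P := commutator_lt_of_solvable P hbot
  have hKtop : P.transferFocal.ker ≠ ⊤ := by
    intro h
    rw [h, top_inf_eq] at hKP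
    have : P ≤ ⁅P, P⁆ := by
      calc P = P.focalSubgroup := hKP
        _ ≤ ⁅P, P⁆ := hfoc
    exact absurd hlt (not_lt_of_ge this)
  obtain ⟨K, hKdef⟩ : ∃ K : Subgroup G, K = P.transferFocal.ker := ⟨_, rfl⟩
  have hKn : K.Normal := by rw [hKdef]; infer_instance
  rw [← hKdef] at hKP hKsup hKtop
  obtain ⟨j, hj⟩ : ∃ j, K.index = p ^ j := by
    have h1 : K.index = K.relIndex P := by
      rw [← Subgroup.relIndex_sup_left (K := K) (H := P), hKsup, Subgroup.relIndex_top_right]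
    have h2 : K.relIndex P ∣ p ^ a := ha ▸ Subgroup.relIndex_dvd_card _ _
    obtain ⟨j, -, hj⟩ := (Nat.dvd_prime_pow hp.out).mp (h1 ▸ h2)
    exact ⟨j, hj⟩
  have hcopKP : K.index.Coprime P.index := by
    rw [hj]
    exact Nat.Coprime.pow_left _ ((Nat.Prime.coprime_iff_not_dvd hp.out).mpr hidx)
  have hQidx : ¬ p ∣ (P.subgroupOf K).index := by
    have : (P.subgroupOf K).index = P.index := relIndex_of_coprime_index K P hcopKP
    rw [this]
    exact hidx
  have hQp : IsPGroup p (P.subgroupOf K) := hP.comap_of_injective K.subtype K.subtype_injective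
  have hQc : ControlsFusion (P.subgroupOf K) := by
    intro x' hx' u' hu'
    have hxP : (x' : G) ∈ P := Subgroup.mem_subgroupOf.mp hx'
    have huP : (u' : G) * (x' : G) * (u' : G)⁻¹ ∈ P := by
      have := Subgroup.mem_subgroupOf.mp hu'
      simpa using this
    obtain ⟨w, hw, hwx⟩ := hc (x' : G) hxP (u' : G) huP
    have hcx : (w⁻¹ * (u' : G)) * (x' : G) = (x' : G) * (w⁻¹ * (u' : G)) := by
      have e1 : (u' : G) * (x' : G) = w * (x' : G) * w⁻¹ * (u' : G) := by rw [hwx]; group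
      calc (w⁻¹ * (u' : G)) * (x' : G) = w⁻¹ * ((u' : G) * (x' : G)) := by group
        _ = w⁻¹ * (w * (x' : G) * w⁻¹ * (u' : G)) := by rw [e1]
        _ = (x' : G) * (w⁻¹ * (u' : G)) := by group
    obtain ⟨a', ha'P, ha'x, b, hbK, hbx, hab⟩ :=
      centralizer_decomp_of_controls P K hP hidx hc hj (x' : G) hxP _ hcx
    have hvK : w * a' ∈ K := by
      have e : w * a' = (u' : G) * b⁻¹ := by
        have : a' = w⁻¹ * (u' : G) * b⁻¹ := by rw [hab]; group
        rw [this]; group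
      rw [e]
      exact K.mul_mem u'.2 (K.inv_mem hbK)
    refine ⟨⟨w * a', hvK⟩, Subgroup.mem_subgroupOf.mpr (P.mul_mem hw ha'P), ?_⟩
    apply Subtype.ext
    simp only [Subgroup.coe_mul, Subgroup.coe_inv]
    rw [← hwx]
    have e2 : a' * (x' : G) * a'⁻¹ = (x' : G) := by rw [ha'x]; group
    calc w * a' * (x' : G) * (w * a')⁻¹ = w * (a' * (x' : G) * a'⁻¹) * w⁻¹ := by group
      _ = w * (x' : G) * w⁻¹ := by rw [e2]
  have hlt' : Nat.card K < n := by
    rw [← hn]
    exact card_lt_of_ne_top K hKtop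
  obtain ⟨M, hMn, hMc, k, hMk⟩ := ih _ hlt' K rfl (P.subgroupOf K) hQp hQidx hQc
  refine ⟨M.map K.subtype, ?_, ?_, k + j, ?_⟩
  · constructor
    intro n' hn' g
    obtain ⟨m, hm, rfl⟩ := hn'
    have hgK : g * (m : G) * g⁻¹ ∈ K := hKn.conj_mem _ m.2 g
    refine ⟨⟨g * (m : G) * g⁻¹, hgK⟩, ?_, rfl⟩
    apply (Cfsg.Agent.Lib.Helper21.mem_iff_coprime_orderOf_of_normal_pcomp M hMc hMk _).mpr
    have h1 := (Cfsg.Agent.Lib.Helper21.mem_iff_coprime_orderOf_of_normal_pcomp M hMc hMk m).mp hm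
    have h2 : orderOf (⟨g * (m : G) * g⁻¹, hgK⟩ : K) = orderOf m := by
      rw [← Subgroup.orderOf_coe, ← Subgroup.orderOf_coe m]
      have hsc : SemiconjBy g (m : G) (g * (m : G) * g⁻¹) := by
        unfold SemiconjBy
        group
      exact (SemiconjBy.orderOf_eq g hsc).symm
    rw [h2]
    exact h1
  · rw [Subgroup.card_map_of_injective K.subtype_injective]
    exact hMc
  · rw [Subgroup.index_map_subtype, hMk, hj, pow_add]

end Cfsg.Agent.Lib.Helper1
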