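import Mathlib
import Cfsg.Agent.S0116
import Cfsg.Agent.Lib.Helper1.FusionControl
import Cfsg.Agent.Lib.Helper1.ConverseHall

set_option autoImplicit false

namespace Cfsg.Agent.Lib.Helper1

open Cfsg.Agent.Lib.Helper13 Cfsg.Agent.S0116

universe u

variable {G : Type u} [Group G]

theorem alperin_chain [Finite G] {p : ℕ} [Fact p.Prime] (P : Sylow p G) (R : Subgroup G)
    (hRP : R ≤ (P : Subgroup G)) (g : G) (hRg : rc R g ≤ (P : Subgroup G)) :
    ConjChain (tame p (P : Subgroup G)) R g := by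
  have hPp : IsPGroup p (P : Subgroup G) := P.2
  obtain ⟨Q₀, hQ₀⟩ : ∃ Q₀ : Subgroup G, Q₀ = rc (P : Subgroup G) g⁻¹ := ⟨_, rfl⟩
  have hRQ : R ≤ Q₀ := by
    intro a ha
    rw [hQ₀, mem_rc, inv_inv]
    have h1 : g⁻¹ * a * g ∈ rc R g := rc_mem ha
    exact hRg h1
  obtain ⟨x, hx1, hx2⟩ := alperin_aux P _ Q₀ (hQ₀ ▸ isPGroup_rc _ hPp)
    (by rw [hQ₀, card_rc]) le_rfl
  have hyN : x⁻¹ * g ∈ Subgroup.normalizer ((P : Subgroup G) : Set G) := by
    rw [hQ₀, rc_rc, rc_def] at hx2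
    have := mem_normalizer_iff_cj_eq.mpr hx2
    simpa using this
  have hPtame : (P : Subgroup G) ∈ tame p (P : Subgroup G) := by
    have h1 : ¬ p ∣ ((P : Subgroup G) ⊓ Subgroup.normalizer ((P : Subgroup G) : Set G)).relIndex
        (Subgroup.normalizer ((P : Subgroup G) : Set G)) := by
      rw [inf_eq_left.mpr Subgroup.le_normalizer]
      intro h
      exact P.not_dvd_index (dvd_trans h (Subgroup.relIndex_dvd_index_of_le Subgroup.le_normalizer))
    exact ⟨P, hPp, rfl, (inf_idem _).symm, h1, h1⟩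
  have chain : ConjChain (tame p (P : Subgroup G)) R (x * (x⁻¹ * g)) := by
    apply (hx1.mono (le_inf hRP hRQ)).append
    apply ConjChain.single hPtame hyN
    rw [← hx2]
    exact rc_mono hRQ x
  rw [mul_inv_cancel_left] at chain
  exact chain

theorem chain_control {𝓕 : Set (Subgroup G)} (P : Subgroup G)
    (h𝓕 : ∀ T ∈ 𝓕, T ≠ ⊥ → ∀ y ∈ Subgroup.normalizer (T : Set G),
      ∃ v ∈ P, ∀ t ∈ T, y⁻¹ * t * y = v⁻¹ * t * v)
    {R : Subgroup G} {g : G} (hc : ConjChain 𝓕 R g) :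
    R ≠ ⊥ → ∃ v ∈ P, ∀ r ∈ R, g⁻¹ * r * g = v⁻¹ * r * v := by
  induction hc with
  | nil R =>
    intro _
    exact ⟨1, P.one_mem, fun r _ => by simp⟩
  | cons R T x g' hT hx hRT _ ih =>
    intro hR
    have hTne : T ≠ ⊥ := by
      intro h
      apply hR
      rw [h] at hRT
      exact le_bot_iff.mp hRT
    obtain ⟨v₁, hv₁, h1⟩ := h𝓕 T hT hTne x hx
    have hR2 : rc R x ≠ ⊥ := by
      intro h
      apply hR
      have h2 := card_rc R x
      rw [h, Subgroup.card_bot] at h2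
      exact Subgroup.card_eq_one.mp h2.symm
    obtain ⟨v₂, hv₂, h2⟩ := ih hR2
    refine ⟨v₁ * v₂, P.mul_mem hv₁ hv₂, ?_⟩
    intro r hr
    have h3 : x⁻¹ * r * x ∈ rc R x := rc_mem hr
    have h4 := h2 _ h3
    have e1 : (x * g')⁻¹ * r * (x * g') = g'⁻¹ * (x⁻¹ * r * x) * g' := by group
    rw [e1, h4, h1 r (hRT hr)]
    group

theorem exists_mul_of_pgroup_quotient [Finite G] {p : ℕ} [hp : Fact p.Prime] (N C S : Subgroup G)
    (hCN : C ≤ N) (hSN : S ≤ N) [hCn : (C.subgroupOf N).Normal]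
    (hq : IsPGroup p (↥N ⧸ C.subgroupOf N)) (hS : ¬ p ∣ S.relIndex N) :
    ∀ y ∈ N, ∃ c ∈ C, ∃ s ∈ S, y = c * s := by
  intro y hy
  have hidx : ∃ k : ℕ, (C.subgroupOf N).index = p ^ k := by
    rw [Subgroup.index_eq_card]
    exact IsPGroup.iff_card.mp hq
  obtain ⟨k, hk⟩ := hidx
  have hcop : (C.subgroupOf N).index.Coprime (S.subgroupOf N).index := by
    rw [hk]
    apply Nat.Coprime.pow_left
    exact (Nat.Prime.coprime_iff_not_dvd hp.out).mpr hS
  obtain ⟨a, ha, b, hb, hab⟩ := exists_mul_of_coprime_index (C.subgroupOf N) (S.subgroupOf N) hcop ⟨y, hy⟩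
  refine ⟨a, Subgroup.mem_subgroupOf.mp ha, b, Subgroup.mem_subgroupOf.mp hb, ?_⟩
  have := congrArg Subtype.val hab
  simpa using this

theorem controls_of_tame [Finite G] {p : ℕ} [hp : Fact p.Prime] (P : Sylow p G)
    (h : ∀ T ∈ tame p (P : Subgroup G), T ≠ ⊥ → ∀ y ∈ Subgroup.normalizer (T : Set G),
      ∃ v ∈ (P : Subgroup G), ∀ t ∈ T, y⁻¹ * t * y = v⁻¹ * t * v) :
    ControlsFusion (P : Subgroup G) := by
  intro x hx u hux
  by_cases hx1 : x = 1
  · exact ⟨1, Subgroup.one_mem _, by rw [hx1]; simp⟩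
  have hRP : Subgroup.zpowers x ≤ (P : Subgroup G) := (Subgroup.zpowers_le).mpr hx
  have hRg : rc (Subgroup.zpowers x) u⁻¹ ≤ (P : Subgroup G) := by
    intro a ha
    rw [mem_rc] at ha
    obtain ⟨k, hk⟩ := Subgroup.mem_zpowers_iff.mp ha
    have e : a = (u * x * u⁻¹) ^ k := by
      rw [conj_zpow, hk]
      group
    rw [e]
    exact Subgroup.zpow_mem _ hux k
  have hchain := alperin_chain P _ hRP u⁻¹ hRg
  have hne : Subgroup.zpowers x ≠ ⊥ := by
    intro h0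
    apply hx1
    exact Subgroup.zpowers_eq_bot.mp h0
  obtain ⟨v, hv, h2⟩ := chain_control (P : Subgroup G) h hchain hne
  refine ⟨v⁻¹, Subgroup.inv_mem _ hv, ?_⟩
  have h3 := h2 x (Subgroup.mem_zpowers x)
  rw [inv_inv] at h3 ⊢
  exact h3.symm

end Cfsg.Agent.Lib.Helper1
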