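import Mathlib
import Cfsg.Prelude.Def_TwoFusion
import Cfsg.Agent.Lib.Helper1.AlperinUse
import Cfsg.Agent.Lib.Helper18.SylowIn
import Cfsg.Agent.Lib.helper17.CharP

set_option autoImplicit false

namespace Cfsg.Agent.Lib.Helper1

open Cfsg.Agent.Lib.Helper13 Cfsg.Agent.S0116 Cfsg.Agent.Lib.Helper18

open scoped commutatorElement

universe u

variable {G : Type u} [Group G]

def stab1 (C₁ C₀ : Subgroup G) : Subgroup G where
  carrier := {x | x ∈ Subgroup.normalizer (C₀ : Set G) ∧ x ∈ Subgroup.normalizer (C₁ : Set G) ∧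
    ∀ t ∈ C₁, ⁅x, t⁆ ∈ C₀}
  one_mem' := ⟨one_mem _, one_mem _, fun t _ => by
    rw [commutatorElement_one_left]; exact one_mem _⟩
  mul_mem' := by
    rintro x y ⟨hx0, hx1, hx⟩ ⟨hy0, hy1, hy⟩
    refine ⟨mul_mem hx0 hy0, mul_mem hx1 hy1, fun t ht => ?_⟩
    have e : ⁅x * y, t⁆ = x * ⁅y, t⁆ * x⁻¹ * ⁅x, t⁆ := by
      simp only [commutatorElement_def]; group
    rw [e]
    exact mul_mem ((Subgroup.mem_normalizer_iff.mp hx0 _).mp (hy t ht)) (hx t ht)
  inv_mem' := by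
    rintro x ⟨hx0, hx1, hx⟩
    refine ⟨inv_mem hx0, inv_mem hx1, fun t ht => ?_⟩
    have e : ⁅x⁻¹, t⁆ = x⁻¹ * (⁅x, t⁆)⁻¹ * x⁻¹⁻¹ := by
      simp only [commutatorElement_def]; group
    rw [e]
    exact (Subgroup.mem_normalizer_iff.mp (inv_mem hx0) _).mp (inv_mem (hx t ht))

theorem mem_stab1 {C₁ C₀ : Subgroup G} {x : G} :
    x ∈ stab1 C₁ C₀ ↔ x ∈ Subgroup.normalizer (C₀ : Set G) ∧ x ∈ Subgroup.normalizer (C₁ : Set G) ∧
      ∀ t ∈ C₁, ⁅x, t⁆ ∈ C₀ := Iff.rfl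

def stabSeries (C : ℕ → Subgroup G) (m : ℕ) : Subgroup G :=
  ⨅ i : Fin m, stab1 (C (i.1 + 1)) (C i.1)

theorem mem_stabSeries {C : ℕ → Subgroup G} {m : ℕ} {x : G} :
    x ∈ stabSeries C m ↔ ∀ i < m, x ∈ stab1 (C (i + 1)) (C i) := by
  unfold stabSeries
  rw [Subgroup.mem_iInf]
  constructor
  · intro h i hi; exact h ⟨i, hi⟩
  · intro h i; exact h i.1 i.2

theorem centralizes_of_mem_stabSeries [Finite G] {p : ℕ} [Fact p.Prime] {C : ℕ → Subgroup G}
    {m : ℕ} (h0 : C 0 = ⊥) (hp : ∀ i, IsPGroup p (C i)) {x : G} (hx : x ∈ stabSeries C m)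
    (hco : Nat.Coprime (orderOf x) p) : ∀ i ≤ m, ∀ t ∈ C i, x * t = t * x := by
  intro i
  induction i with
  | zero =>
    intro _ t ht
    rw [h0, Subgroup.mem_bot] at ht
    rw [ht]; simp
  | succ i ih =>
    intro hi t ht
    have h1 := (mem_stab1.mp (mem_stabSeries.mp hx i (by omega))).2.2
    exact Cfsg.Agent.Lib.helper17.centralizes_of_stabilizes_chain hco (hp i) h1 (ih (by omega)) t ht

theorem isPGroup_quotient_of_le_stabSeries [Finite G] {p : ℕ} [hp : Fact p.Prime]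
    {C : ℕ → Subgroup G} {m : ℕ} (h0 : C 0 = ⊥) (hpC : ∀ i, IsPGroup p (C i))
    (K Z : Subgroup G) (hK : K ≤ stabSeries C m)
    (hZ : ∀ x ∈ K, (∀ t ∈ C m, x * t = t * x) → x ∈ Z) [(Z.subgroupOf K).Normal] :
    IsPGroup p (↥K ⧸ Z.subgroupOf K) := by
  intro q
  obtain ⟨x, rfl⟩ := QuotientGroup.mk_surjective q
  have hpos : 0 < orderOf (x : G) := orderOf_pos _
  obtain ⟨k, m', hm', hkm⟩ := Nat.exists_eq_pow_mul_and_not_dvd hpos.ne' p hp.out.ne_one
  refine ⟨k, ?_⟩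
  have h1 : orderOf ((x : G) ^ (p ^ k)) = m' := by
    rw [orderOf_pow' (x : G) (pow_ne_zero k hp.out.ne_zero), hkm, Nat.gcd_eq_right (dvd_mul_right _ _),
      Nat.mul_div_cancel_left _ (pow_pos hp.out.pos k)]
  have hxK : (x : G) ^ (p ^ k) ∈ K := K.pow_mem x.2 _
  have h2 : (x : G) ^ (p ^ k) ∈ Z := by
    apply hZ _ hxK
    intro t ht
    refine centralizes_of_mem_stabSeries h0 hpC (hK hxK) ?_ m le_rfl t ht
    rw [h1]
    exact ((Nat.Prime.coprime_iff_not_dvd hp.out).mpr hm').symm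
  rw [← QuotientGroup.mk_pow, QuotientGroup.eq_one_iff, Subgroup.mem_subgroupOf]
  simpa using h2

theorem conj_mem_of_mem_normalizer {T : Subgroup G} {y t : G}
    (hy : y ∈ Subgroup.normalizer (T : Set G)) (ht : t ∈ T) : y * t * y⁻¹ ∈ T :=
  (Subgroup.mem_normalizer_iff.mp hy t).mp ht

theorem conj_inv_mem_of_mem_normalizer {T : Subgroup G} {y t : G}
    (hy : y ∈ Subgroup.normalizer (T : Set G)) (ht : t ∈ T) : y⁻¹ * t * y ∈ T := by
  have := conj_mem_of_mem_normalizer (inv_mem hy) ht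
  rwa [inv_inv] at this

theorem le_normalizer_of_stronglyClosed [Finite G] {W P : Subgroup G}
    (hW : Cfsg.IsStronglyClosed W P) : P ≤ Subgroup.normalizer (W : Set G) := by
  intro y hy
  apply Helper18.mem_normalizer_of_conjSub_le
  rintro _ ⟨w, hw, rfl⟩
  exact hW.2 w hw y (P.mul_mem (P.mul_mem hy (hW.1 hw)) (P.inv_mem hy))

theorem normalizer_le_normalizer_inf_of_stronglyClosed [Finite G] {W P T : Subgroup G}
    (hW : Cfsg.IsStronglyClosed W P) (hTP : T ≤ P) :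
    Subgroup.normalizer (T : Set G) ≤ Subgroup.normalizer ((T ⊓ W : Subgroup G) : Set G) := by
  intro y hy
  apply Helper18.mem_normalizer_of_conjSub_le
  rintro _ ⟨t, ht, rfl⟩
  have h1 : y * t * y⁻¹ ∈ T := conj_mem_of_mem_normalizer hy ht.1
  exact ⟨h1, hW.2 t ht.2 y (hTP h1)⟩

theorem tame_step [Finite G] {p : ℕ} [hp : Fact p.Prime] (P : Sylow p G) (W : Subgroup G)
    (Ws : ℕ → Subgroup G) (m : ℕ)
    (hW : Cfsg.IsStronglyClosed W (P : Subgroup G)) (h0 : Ws 0 = ⊥)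
    (hm : Ws m = (P : Subgroup G))
    (hsc : ∀ i, Cfsg.IsStronglyClosed (Ws i) (P : Subgroup G))
    (hcomm : ∀ i < m, ⁅Ws (i + 1), W⁆ ≤ Ws i)
    (T : Subgroup G) (hTP : T ≤ (P : Subgroup G))
    (hR : ¬ p ∣ ((P : Subgroup G) ⊓ Subgroup.normalizer (T : Set G)).relIndex
      (Subgroup.normalizer (T : Set G)))
    (IH : ∀ A' : Subgroup G, A' ≤ (P : Subgroup G) → Nat.card T < Nat.card A' →
      ∀ g : G, rc A' g ≤ (P : Subgroup G) →
        ∃ c ∈ Subgroup.centralizer (A' : Set G), ∃ h ∈ Subgroup.normalizer (W : Set G),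
          g = c * h) :
    ∀ x ∈ Subgroup.normalizer (T : Set G),
      ∃ c ∈ Subgroup.centralizer (T : Set G), ∃ h ∈ Subgroup.normalizer (W : Set G),
        x = c * h := by
  intro x hx
  obtain ⟨L, hL⟩ : ∃ L : Subgroup G, L = Subgroup.normalizer (T : Set G) := ⟨_, rfl⟩
  rw [← hL] at hx hR
  by_cases hWT : W ≤ T
  · refine ⟨1, one_mem _, x, ?_, (one_mul x).symm⟩
    apply Helper18.mem_normalizer_of_conjSub_le
    rintro _ ⟨w, hw, rfl⟩
    have h1 : x * w * x⁻¹ ∈ T := conj_mem_of_mem_normalizer (hL ▸ hx) (hWT hw)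
    exact hW.2 w hw x (hTP h1)
  obtain ⟨C, hC⟩ : ∃ C : ℕ → Subgroup G, C = fun i => T ⊓ Ws i := ⟨_, rfl⟩
  have hCi : ∀ i, C i = T ⊓ Ws i := fun i => by rw [hC]
  have hC0 : C 0 = ⊥ := by rw [hCi, h0, inf_bot_eq]
  have hCm : C m = T := by rw [hCi, hm]; exact inf_eq_left.mpr hTP
  have hCp : ∀ i, IsPGroup p (C i) := fun i => by
    rw [hCi]; exact P.2.to_le (inf_le_left.trans hTP)
  have hLC : ∀ y ∈ L, ∀ i, y ∈ Subgroup.normalizer ((C i : Subgroup G) : Set G) := by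
    intro y hy i
    rw [hCi]
    exact normalizer_le_normalizer_inf_of_stronglyClosed (hsc i) hTP (hL ▸ hy)
  obtain ⟨St, hSt⟩ : ∃ St : Subgroup G, St = L ⊓ stabSeries C m := ⟨_, rfl⟩
  have hStL : St ≤ L := hSt ▸ inf_le_left
  have hStn : L ≤ Subgroup.normalizer (St : Set G) := by
    intro y hy
    apply Helper18.mem_normalizer_of_conjSub_le
    rintro _ ⟨s, hs, rfl⟩
    rw [hSt] at hs ⊢
    refine Subgroup.mem_inf.mpr ⟨L.mul_mem (L.mul_mem hy hs.1) (L.inv_mem hy), ?_⟩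
    rw [mem_stabSeries]
    intro i hi
    have hs1 := mem_stab1.mp (mem_stabSeries.mp hs.2 i hi)
    refine mem_stab1.mpr ⟨?_, ?_, ?_⟩
    · exact Subgroup.mul_mem _ (Subgroup.mul_mem _ (hLC y hy i) hs1.1) (Subgroup.inv_mem _ (hLC y hy i))
    · exact Subgroup.mul_mem _ (Subgroup.mul_mem _ (hLC y hy (i + 1)) hs1.2.1)
        (Subgroup.inv_mem _ (hLC y hy (i + 1)))
    · intro t ht
      have e : ⁅(MulAut.conj y).toMonoidHom s, t⁆ = y * ⁅s, y⁻¹ * t * y⁆ * y⁻¹ := by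
        simp only [commutatorElement_def, MulEquiv.coe_toMonoidHom, MulAut.conj_apply]; group
      rw [e]
      apply conj_mem_of_mem_normalizer (hLC y hy i)
      apply hs1.2.2
      exact conj_inv_mem_of_mem_normalizer (hLC y hy (i + 1)) ht
  have hPW : (P : Subgroup G) ≤ Subgroup.normalizer (W : Set G) := le_normalizer_of_stronglyClosed hW
  have hWSt : W ⊓ L ≤ St := by
    intro w hw
    rw [hSt]
    refine Subgroup.mem_inf.mpr ⟨hw.2, ?_⟩
    rw [mem_stabSeries]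
    intro i hi
    refine mem_stab1.mpr ⟨hLC w hw.2 i, hLC w hw.2 (i + 1), ?_⟩
    intro t ht
    rw [hCi] at ht ⊢
    constructor
    · have h1 : w * t * w⁻¹ ∈ T := conj_mem_of_mem_normalizer (hL ▸ hw.2) ht.1
      have := T.mul_mem h1 (T.inv_mem ht.1)
      rwa [commutatorElement_def]
    · have h1 : ⁅t, w⁆ ∈ ⁅Ws (i + 1), W⁆ := Subgroup.commutator_mem_commutator ht.2 hw.1
      have h2 := (Ws i).inv_mem (hcomm i hi h1)
      rwa [commutatorElement_inv] at h2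
  have hSyl : IsSylowIn p ((P : Subgroup G) ⊓ L) L := ⟨inf_le_right, P.2.to_le inf_le_left, hR⟩
  have hSyl2 : IsSylowIn p (((P : Subgroup G) ⊓ L) ⊓ St) St := hSyl.inf_of_normal hStL hStn
  obtain ⟨s, hs, hsx⟩ := hSyl2.frattini (hStn hx)
  obtain ⟨Cz, hCz⟩ : ∃ Cz : Subgroup G, Cz = Subgroup.centralizer (T : Set G) ⊓ St := ⟨_, rfl⟩
  have hCzn : St ≤ Subgroup.normalizer (Cz : Set G) := by
    intro y hy
    apply Helper18.mem_normalizer_of_conjSub_le
    rintro _ ⟨z, hz, rfl⟩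
    rw [hCz] at hz ⊢
    refine Subgroup.mem_inf.mpr ⟨?_, conj_mem_of_mem_normalizer (Subgroup.le_normalizer hy) hz.2⟩
    rw [Subgroup.mem_centralizer_iff]
    intro t ht
    have h1 : y⁻¹ * t * y ∈ T := conj_inv_mem_of_mem_normalizer (hL ▸ hStL hy) ht
    have h2 := Subgroup.mem_centralizer_iff.mp hz.1 _ h1
    simp only [MulEquiv.coe_toMonoidHom, MulAut.conj_apply]
    calc t * (y * z * y⁻¹) = y * ((y⁻¹ * t * y) * z) * y⁻¹ := by group
      _ = y * (z * (y⁻¹ * t * y)) * y⁻¹ := by rw [h2]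
      _ = y * z * y⁻¹ * t := by group
  haveI : (Cz.subgroupOf St).Normal := Subgroup.normal_subgroupOf_of_le_normalizer hCzn
  have hq : IsPGroup p (↥St ⧸ Cz.subgroupOf St) := by
    apply isPGroup_quotient_of_le_stabSeries hC0 hCp St Cz (hSt ▸ inf_le_right)
    intro y hy hcent
    rw [hCz]
    refine Subgroup.mem_inf.mpr ⟨?_, hy⟩
    rw [Subgroup.mem_centralizer_iff]
    intro t ht
    exact (hcent t (hCm.symm ▸ ht)).symm
  obtain ⟨c, hc, r, hr, hsr⟩ := exists_mul_of_pgroup_quotient St Cz (((P : Subgroup G) ⊓ L) ⊓ St)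
    (hCz ▸ inf_le_right) inf_le_right hq hSyl2.not_dvd s⁻¹ (St.inv_mem hs)
  obtain ⟨y', hy'⟩ : ∃ y' : G, y' = r * (s * x) := ⟨_, rfl⟩
  have hxy : x = c * y' := by
    rw [hy', ← mul_assoc, ← hsr]; group
  have hy'n : y' ∈ Subgroup.normalizer ((((P : Subgroup G) ⊓ L) ⊓ St : Subgroup G) : Set G) := by
    rw [hy']
    exact Subgroup.mul_mem _ (Subgroup.le_normalizer hr) hsx
  have hy'L : y' ∈ L := by
    rw [hy']
    exact L.mul_mem hr.1.2 (L.mul_mem (hStL hs) hx)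
  obtain ⟨T₁, hT₁⟩ : ∃ T₁ : Subgroup G, T₁ = T ⊔ (((P : Subgroup G) ⊓ L) ⊓ St) := ⟨_, rfl⟩
  have hT₁P : T₁ ≤ (P : Subgroup G) := by
    rw [hT₁]; exact sup_le hTP (inf_le_left.trans inf_le_left)
  have hy'T₁ : y' ∈ Subgroup.normalizer (T₁ : Set G) := by
    rw [hT₁]
    rw [Subgroup.mem_normalizer_iff_map_conj_eq, Subgroup.map_sup]
    rw [Subgroup.mem_normalizer_iff_map_conj_eq.mp (hL ▸ hy'L),
      Subgroup.mem_normalizer_iff_map_conj_eq.mp hy'n]
  have hcard : Nat.card T < Nat.card T₁ := by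
    have hne : T ≠ T ⊔ W := by
      intro h
      apply hWT
      rw [h]; exact le_sup_right
    have hpg : IsPGroup p (T ⊔ W : Subgroup G) := P.2.to_le (sup_le hTP hW.1)
    have h1 := card_lt_card_inf_normalizer hpg le_sup_left hne
    refine lt_of_lt_of_le h1 (Subgroup.card_le_of_le ?_)
    intro k hk
    have hk1 : k ∈ ((T ⊔ W : Subgroup G) : Set G) := hk.1
    rw [Subgroup.coe_mul_of_left_le_normalizer_right T W (hTP.trans hPW)] at hk1
    obtain ⟨t, ht, w, hw, rfl⟩ := Set.mem_mul.mp hk1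
    have hwL : w ∈ L := by
      have h2 : t * w ∈ L := hL ▸ hk.2
      have h3 : t ∈ L := hL ▸ Subgroup.le_normalizer ht
      have := L.mul_mem (L.inv_mem h3) h2
      rwa [inv_mul_cancel_left] at this
    rw [hT₁]
    exact Subgroup.mul_mem _ (Subgroup.mem_sup_left ht)
      (Subgroup.mem_sup_right ⟨⟨hW.1 hw, hwL⟩, hWSt ⟨hw, hwL⟩⟩)
  have hrc : rc T₁ y' ≤ (P : Subgroup G) := by
    rw [rc_of_mem_normalizer hy'T₁]; exact hT₁P
  obtain ⟨c', hc', h', hh', hyc⟩ := IH T₁ hT₁P hcard y' hrc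
  refine ⟨c * c', ?_, h', hh', ?_⟩
  · apply Subgroup.mul_mem
    · rw [hCz] at hc; exact hc.1
    · have hTT₁ : T ≤ T₁ := by rw [hT₁]; exact le_sup_left
      exact Subgroup.centralizer_le hTT₁ hc'
  · rw [hxy, hyc, mul_assoc]

theorem chain_strong [Finite G] (W : Subgroup G) {𝓕 : Set (Subgroup G)} {R : Subgroup G} {g : G}
    (hc : ConjChain 𝓕 R g) :
    (∀ T ∈ 𝓕, Nat.card R ≤ Nat.card T → ∀ x ∈ Subgroup.normalizer (T : Set G),
      ∃ c ∈ Subgroup.centralizer (T : Set G), ∃ h ∈ Subgroup.normalizer (W : Set G), x = c * h) →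
    ∃ c ∈ Subgroup.centralizer (R : Set G), ∃ h ∈ Subgroup.normalizer (W : Set G), g = c * h := by
  induction hc with
  | nil R =>
    intro _
    exact ⟨1, one_mem _, 1, one_mem _, (one_mul 1).symm⟩
  | cons R T x g' hT hx hRT _ ih =>
    intro h𝓕
    obtain ⟨c₁, hc₁, h₁, hh₁, hx1⟩ := h𝓕 T hT (Subgroup.card_le_of_le hRT) x hx
    obtain ⟨c', hc', h', hh', hg'⟩ := ih (by rw [card_rc]; exact h𝓕)
    have hc₁R : c₁ ∈ Subgroup.centralizer (R : Set G) := Subgroup.centralizer_le hRT hc₁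
    refine ⟨c₁ * (h₁ * c' * h₁⁻¹), ?_, h₁ * h', Subgroup.mul_mem _ hh₁ hh', ?_⟩
    · apply Subgroup.mul_mem _ hc₁R
      rw [Subgroup.mem_centralizer_iff]
      intro r hr
      have h1 : x⁻¹ * r * x ∈ rc R x := rc_mem hr
      have h2 : x⁻¹ * r * x = h₁⁻¹ * r * h₁ := by
        have h3 := Subgroup.mem_centralizer_iff.mp hc₁R r hr
        rw [hx1]
        calc (c₁ * h₁)⁻¹ * r * (c₁ * h₁) = h₁⁻¹ * (c₁⁻¹ * (r * c₁)) * h₁ := by group
          _ = h₁⁻¹ * (c₁⁻¹ * (c₁ * r)) * h₁ := by rw [h3]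
          _ = h₁⁻¹ * r * h₁ := by group
      rw [h2] at h1
      have h4 := Subgroup.mem_centralizer_iff.mp hc' _ h1
      calc r * (h₁ * c' * h₁⁻¹) = h₁ * ((h₁⁻¹ * r * h₁) * c') * h₁⁻¹ := by group
        _ = h₁ * (c' * (h₁⁻¹ * r * h₁)) * h₁⁻¹ := by rw [h4]
        _ = h₁ * c' * h₁⁻¹ * r := by group
    · rw [hx1, hg']; group

theorem controls_strong_of_series_aux [Finite G] {p : ℕ} [hp : Fact p.Prime] (P : Sylow p G)
    (W : Subgroup G) (Ws : ℕ → Subgroup G) (m : ℕ)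
    (hW : Cfsg.IsStronglyClosed W (P : Subgroup G)) (h0 : Ws 0 = ⊥)
    (hm : Ws m = (P : Subgroup G))
    (hsc : ∀ i, Cfsg.IsStronglyClosed (Ws i) (P : Subgroup G))
    (hcomm : ∀ i < m, ⁅Ws (i + 1), W⁆ ≤ Ws i) :
    ∀ (k : ℕ) (A : Subgroup G), A ≤ (P : Subgroup G) →
      Nat.card (P : Subgroup G) - Nat.card A = k →
      ∀ g : G, rc A g ≤ (P : Subgroup G) →
        ∃ c ∈ Subgroup.centralizer (A : Set G), ∃ h ∈ Subgroup.normalizer (W : Set G),
          g = c * h := by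
  intro k
  induction k using Nat.strong_induction_on with
  | _ k ih =>
    intro A hAP hk g hg
    have chain := alperin_chain P A hAP g hg
    apply chain_strong W chain
    intro T hT hAT x hx
    obtain ⟨Q', _, _, hTQ, hR, _⟩ := hT
    have hTP : T ≤ (P : Subgroup G) := by rw [hTQ]; exact inf_le_left
    have hTc : Nat.card T ≤ Nat.card (P : Subgroup G) := Subgroup.card_le_of_le hTP
    rcases Nat.lt_or_ge (Nat.card A) (Nat.card T) with hlt | hge
    · have hAc : Nat.card A ≤ Nat.card (P : Subgroup G) := Subgroup.card_le_of_le hAP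
      apply ih (Nat.card (P : Subgroup G) - Nat.card T) (by omega) T hTP rfl x
      rw [rc_of_mem_normalizer hx]; exact hTP
    · have heq : Nat.card T = Nat.card A := le_antisymm hge hAT
      apply tame_step P W Ws m hW h0 hm hsc hcomm T hTP hR _ x hx
      intro A' hA'P hcard g' hg'
      have hA'c : Nat.card A' ≤ Nat.card (P : Subgroup G) := Subgroup.card_le_of_le hA'P
      exact ih (Nat.card (P : Subgroup G) - Nat.card A') (by omega) A' hA'P rfl g' hg'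

theorem controls_strong_of_series [Finite G] {p : ℕ} [hp : Fact p.Prime] (P : Sylow p G)
    (W : Subgroup G) (Ws : ℕ → Subgroup G) (m : ℕ)
    (hW : Cfsg.IsStronglyClosed W (P : Subgroup G)) (h0 : Ws 0 = ⊥)
    (hm : Ws m = (P : Subgroup G))
    (hsc : ∀ i, Cfsg.IsStronglyClosed (Ws i) (P : Subgroup G))
    (hcomm : ∀ i < m, ⁅Ws (i + 1), W⁆ ≤ Ws i)
    (A : Subgroup G) (hAP : A ≤ (P : Subgroup G)) (g : G) (hg : rc A g ≤ (P : Subgroup G)) :
    ∃ c ∈ Subgroup.centralizer (A : Set G), ∃ h ∈ Subgroup.normalizer (W : Set G), g = c * h :=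
  controls_strong_of_series_aux P W Ws m hW h0 hm hsc hcomm _ A hAP rfl g hg

end Cfsg.Agent.Lib.Helper1
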