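import Mathlib
import Cfsg.Prelude.Def_Solvable
import Cfsg.Agent.Lib.Helper1.Cores
import Cfsg.Agent.Lib.Helper1.Fitting

set_option autoImplicit false

namespace Cfsg.Agent.Lib.Helper1

open scoped Pointwise commutatorElement

variable {G : Type*} [Group G]

theorem commElem_mul_right_of_comm {a a' g : G} (h : a * a' = a' * a) : ⁅a, g * a'⁆ = ⁅a, g⁆ := by
  rw [commutatorElement_def, commutatorElement_def]
  have h' : a' * a⁻¹ = a⁻¹ * a' := by
    calc a' * a⁻¹ = a⁻¹ * (a * a') * a⁻¹ := by group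
      _ = a⁻¹ * (a' * a) * a⁻¹ := by rw [h]
      _ = a⁻¹ * a' := by group
  calc a * (g * a') * a⁻¹ * (g * a')⁻¹ = a * g * (a' * a⁻¹) * a'⁻¹ * g⁻¹ := by group
    _ = a * g * (a⁻¹ * a') * a'⁻¹ * g⁻¹ := by rw [h']
    _ = a * g * a⁻¹ * g⁻¹ := by group

theorem commElem_mul_left_of_comm {b b' g : G} (h : b * b' = b' * b) : ⁅g * b', b⁆ = ⁅g, b⁆ := by
  rw [commutatorElement_def, commutatorElement_def]
  calc g * b' * b * (g * b')⁻¹ * b⁻¹ = g * (b' * b) * b'⁻¹ * g⁻¹ * b⁻¹ := by group
    _ = g * (b * b') * b'⁻¹ * g⁻¹ * b⁻¹ := by rw [h]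
    _ = g * b * g⁻¹ * b⁻¹ := by group

/-- A subgroup whose commutators are central (inside the subgroup) is nilpotent. -/
theorem nilpotent_of_commutators_central (E : Subgroup G)
    (h : ∀ x ∈ E, ∀ y ∈ E, ∀ z ∈ E, ⁅x, y⁆ * z = z * ⁅x, y⁆) : Group.IsNilpotent E := by
  refine ⟨⟨2, ?_⟩⟩
  rw [eq_top_iff]
  intro x _
  change x ∈ Subgroup.upperCentralSeries E (1 + 1)
  rw [Subgroup.mem_upperCentralSeries_succ_iff]
  intro y
  rw [Subgroup.upperCentralSeries_one, Subgroup.mem_center_iff]
  intro z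
  apply Subtype.ext
  have := h x x.2 y y.2 z z.2
  simpa [commutatorElement_def] using this.symm

end Cfsg.Agent.Lib.Helper1

namespace Cfsg.Agent.Lib.Helper1

open scoped Pointwise commutatorElement

variable {G : Type*} [Group G]

/-- General form: if `F` is a normal subgroup containing every normal nilpotent subgroup
of the finite solvable group `G`, then `C_G(F) ≤ F`. -/
theorem centralizer_le_of_contains_normal_nilpotent [Finite G] [Group.IsSolvable G]
    (F : Subgroup G) [hFn : F.Normal]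
    (hF : ∀ E : Subgroup G, E.Normal → Group.IsNilpotent E → E ≤ F) :
    Subgroup.centralizer (F : Set G) ≤ F := by
  set C := Subgroup.centralizer (F : Set G) with hC
  have hCn : C.Normal := Subgroup.normal_centralizer
  set D := C ⊓ F with hD
  have hDn : D.Normal := Subgroup.normal_inf_normal C F
  by_contra hCF
  have hDC : D < C := lt_of_le_of_ne inf_le_left (fun h => hCF (h ▸ inf_le_right))
  have hfin : {E : Subgroup G | E.Normal ∧ D < E ∧ E ≤ C}.Finite := Set.toFinite _
  obtain ⟨E, hE⟩ := hfin.exists_minimal ⟨C, hCn, hDC, le_rfl⟩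
  obtain ⟨⟨hEn, hDE, hEC⟩, hEmin⟩ := hE
  -- `D` is central in `E`
  have hDcent : ∀ d ∈ D, ∀ e ∈ E, e * d = d * e := by
    intro d hd e he
    have h1 : e ∈ C := hEC he
    rw [hC, Subgroup.mem_centralizer_iff] at h1
    exact (h1 d hd.2).symm
  have key : ⁅E, E⁆ ≤ D := by
    set T := ⁅E, E⁆ ⊔ D with hT
    have hE'n : (⁅E, E⁆ : Subgroup G).Normal := inferInstance
    have hTn : T.Normal := Subgroup.sup_normal _ _
    have hE'E : ⁅E, E⁆ ≤ E := Subgroup.commutator_le_left E E
    have hTE : T ≤ E := sup_le hE'E hDE.le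
    by_cases hDT : D < T
    · have hET : E ≤ T := hEmin ⟨hTn, hDT, le_trans hTE hEC⟩ hTE
      have h1 : ⁅E, E⁆ ≤ ⁅⁅E, E⁆, ⁅E, E⁆⁆ := by
        rw [Subgroup.commutator_le]
        intro x hx y hy
        obtain ⟨x', hx', d, hd, rfl⟩ := Subgroup.mem_sup_of_normal_left.mp (hET hx)
        obtain ⟨y', hy', d', hd', rfl⟩ := Subgroup.mem_sup_of_normal_left.mp (hET hy)
        have e1 : ⁅x' * d, y' * d'⁆ = ⁅x', y'⁆ := by
          rw [commElem_mul_right_of_comm (hDcent d' hd' _ (hTE (hET hx))),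
            commElem_mul_left_of_comm (hDcent d hd y' (hE'E hy'))]
        rw [e1]
        exact Subgroup.commutator_mem_commutator hx' hy'
      have h2 : (⁅E, E⁆ : Subgroup G) = ⊥ := by
        by_contra hne
        exact absurd h1 (not_le_of_gt (Group.IsSolvable.commutator_lt_of_ne_bot hne))
      rw [hT, h2, bot_sup_eq] at hDT
      exact absurd hDT (lt_irrefl D)
    · have hTD : T = D := by
        by_contra hne
        exact hDT (lt_of_le_of_ne le_sup_right (Ne.symm hne))
      rw [← hTD]; exact le_sup_left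
  have hEnil : Group.IsNilpotent E := by
    apply nilpotent_of_commutators_central
    intro x hx y hy z hz
    exact hDcent _ (key (Subgroup.commutator_mem_commutator hx hy)) z hz |>.symm
  have hEF : E ≤ F := hF E hEn hEnil
  have hED : E ≤ D := le_inf hEC hEF
  exact absurd hED (not_le_of_gt hDE)

theorem centralizer_fittingSubgroup_le [Finite G] [Group.IsSolvable G] :
    Subgroup.centralizer (Cfsg.fittingSubgroup G : Set G) ≤ Cfsg.fittingSubgroup G := by
  have := fittingSubgroup_normal (G := G)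
  exact centralizer_le_of_contains_normal_nilpotent _ (fun E hEn hE => le_fittingSubgroup hEn hE)

end Cfsg.Agent.Lib.Helper1

namespace Cfsg.Agent.Lib.Helper1

open scoped Pointwise commutatorElement

variable {G : Type*} [Group G]

theorem pCore_le_pPrimeCore_of_ne [Finite G] {p q : ℕ} (hp : p.Prime) (hq : q.Prime) (hpq : q ≠ p) :
    Cfsg.pCore q G ≤ Cfsg.pPrimeCore p G := by
  have : Fact q.Prime := ⟨hq⟩
  apply le_pPrimeCore (pCore_normal q)
  obtain ⟨n, hn⟩ := IsPGroup.iff_card.mp (pCore_isPGroup (G := G) q)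
  rw [hn]
  apply Nat.Coprime.pow_left
  rw [Nat.coprime_primes hq hp]
  exact hpq

theorem fittingSubgroup_eq_pCore_of_pPrimeCore_eq_bot [Finite G] (p : ℕ) [Fact p.Prime]
    (h : Cfsg.pPrimeCore p G = ⊥) : Cfsg.fittingSubgroup G = Cfsg.pCore p G := by
  apply le_antisymm
  · rw [fittingSubgroup_eq_iSup_pCore]
    apply iSup_le
    intro q
    by_cases hqp : (q : ℕ) = p
    · rw [hqp]
    · have := pCore_le_pPrimeCore_of_ne (G := G) (Fact.out : p.Prime) q.2 hqp
      rw [h] at this
      exact le_trans this bot_le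
  · exact pCore_le_fittingSubgroup p

theorem centralizer_pCore_le [Finite G] [Group.IsSolvable G] (p : ℕ) [Fact p.Prime]
    (h : Cfsg.pPrimeCore p G = ⊥) :
    Subgroup.centralizer (Cfsg.pCore p G : Set G) ≤ Cfsg.pCore p G := by
  rw [← fittingSubgroup_eq_pCore_of_pPrimeCore_eq_bot p h]
  exact centralizer_fittingSubgroup_le

end Cfsg.Agent.Lib.Helper1
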