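import Mathlib
import Cfsg.Prelude.Def_Solvable
import Cfsg.Agent.Lib.Helper1.CFitting
import Cfsg.Agent.Lib.Helper1.Hall

set_option autoImplicit false

namespace Cfsg.Agent.Lib.Helper1

open scoped Pointwise commutatorElement

variable {G : Type*} [Group G]

theorem pPrimeCore_quotient_eq_bot [Finite G] (p : ℕ) :
    haveI := pPrimeCore_normal (G := G) p
    Cfsg.pPrimeCore p (G ⧸ Cfsg.pPrimeCore p G) = ⊥ := by
  have hn := pPrimeCore_normal (G := G) p
  rw [eq_bot_iff]
  apply sSup_le
  rintro N ⟨hNn, hNc⟩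
  let π := QuotientGroup.mk' (Cfsg.pPrimeCore p G)
  have hπ : Function.Surjective π := QuotientGroup.mk'_surjective _
  have h1 : Cfsg.pPrimeCore p G ≤ N.comap π := by
    intro x hx
    rw [Subgroup.mem_comap]
    have : π x = 1 := (QuotientGroup.eq_one_iff x).mpr hx
    rw [this]; exact Subgroup.one_mem _
  have h2 := card_map_mk'_of_le (N.comap π) (Cfsg.pPrimeCore p G) h1
  rw [Subgroup.map_comap_eq_self_of_surjective hπ] at h2
  have h3 : (Nat.card (N.comap π)).Coprime p := by
    rw [← h2]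
    exact Nat.Coprime.mul_left (pPrimeCore_card_coprime p) hNc
  have h4 : N.comap π ≤ Cfsg.pPrimeCore p G := le_pPrimeCore (hNn.comap π) h3
  intro y hy
  obtain ⟨x, rfl⟩ := hπ y
  have h5 : x ∈ Cfsg.pPrimeCore p G := h4 hy
  rw [Subgroup.mem_bot]
  exact (QuotientGroup.eq_one_iff x).mpr h5

theorem sylow_sup_pPrimeCore_normal [Finite G] [Group.IsSolvable G]
    (p : ℕ) [Fact p.Prime] (P : Sylow p G) (hP : IsMulCommutative P) :
    ((P : Subgroup G) ⊔ Cfsg.pPrimeCore p G).Normal := by
  have hn := pPrimeCore_normal (G := G) p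
  let π := QuotientGroup.mk' (Cfsg.pPrimeCore p G)
  have hπ : Function.Surjective π := QuotientGroup.mk'_surjective _
  have h0 := pPrimeCore_quotient_eq_bot (G := G) p
  have h1 := centralizer_pCore_le (G := G ⧸ Cfsg.pPrimeCore p G) p h0
  set Q := Cfsg.pCore p (G ⧸ Cfsg.pPrimeCore p G) with hQ
  have h2 : Q ≤ (P : Subgroup G).map π := by
    have := pCore_le_sylow p (P.mapSurjective hπ)
    rwa [Sylow.coe_mapSurjective] at this
  have hPc := (isMulCommutative_iff (M := P)).mp hP
  have h3 : (P : Subgroup G).map π ≤ Subgroup.centralizer (Q : Set (G ⧸ Cfsg.pPrimeCore p G)) := by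
    rintro _ ⟨x, hx, rfl⟩
    rw [Subgroup.mem_centralizer_iff]
    intro y hy
    obtain ⟨z, hz, rfl⟩ := h2 hy
    have := congrArg Subtype.val (hPc ⟨x, hx⟩ ⟨z, hz⟩)
    change x * z = z * x at this
    rw [← map_mul, ← map_mul, this]
  have h4 : (P : Subgroup G).map π = Q := le_antisymm (le_trans h3 h1) h2
  have h5 : ((P : Subgroup G).map π).Normal := by rw [h4]; exact pCore_normal p
  have h6 := h5.comap π
  rwa [Subgroup.comap_map_eq, QuotientGroup.ker_mk'] at h6

end Cfsg.Agent.Lib.Helper1
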