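import Mathlib
import Cfsg.Prelude.Def_TwoFusion
import Cfsg.Prelude.Def_Local
import Cfsg.Agent.Lib.Helper1.StrongControl
import Cfsg.Agent.Lib.Helper5.PConstr
import Cfsg.Agent.Lib.Helper13.CentralSylow
import Cfsg.Agent.Lib.Helper24.SelfCentCore

set_option autoImplicit false

namespace Cfsg.Agent.Lib.Helper1

open Cfsg.Agent.Lib.Helper13 Cfsg.Agent.S0116 Cfsg.Agent.Lib.Helper18

open scoped commutatorElement

universe u

theorem ag_dichotomy {N : Type u} [Group N] [Finite N] {p : ℕ} [hp : Fact p.Prime]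
    (T : Subgroup N) [hTn : T.Normal] (hT : IsPGroup p T) (R : Sylow p N) :
    (Subgroup.centralizer (T : Set N) ≤ Cfsg.pPrimePCore p N ∧
      Cfsg.IsInternalDirectProduct (Cfsg.pPrimeCore p N) T (Cfsg.pPrimePCore p N)) ∨
    ∃ T₁ : Subgroup N, T ≤ T₁ ∧ T₁ ≤ (R : Subgroup N) ∧ T ≠ T₁ ∧
      ∀ x : N, ∃ c ∈ Subgroup.centralizer (T : Set N),
        ∃ y ∈ Subgroup.normalizer (T₁ : Set N), x = c * y := by
  have hTR : T ≤ (R : Subgroup N) := hT.le_sylow_of_normal R
  obtain ⟨C, hC⟩ : ∃ C : Subgroup N, C = Subgroup.centralizer (T : Set N) := ⟨_, rfl⟩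
  haveI hCn : C.Normal := by rw [hC]; infer_instance
  have hRtop := isSylowIn_top_of_sylow R
  have hnormtop : ∀ X : Subgroup N, X.Normal → (⊤ : Subgroup N) ≤ Subgroup.normalizer (X : Set N) := by
    intro X hX
    rw [Subgroup.normalizer_eq_top_iff.mpr hX]
  have hTtop : ∀ y : N, y ∈ Subgroup.normalizer (T : Set N) := fun y =>
    hnormtop T hTn (Subgroup.mem_top y)
  have hSylC : IsSylowIn p ((R : Subgroup N) ⊓ C) C := hRtop.inf_of_normal le_top (hnormtop C hCn)
  rw [← hC]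
  by_cases hA : (R : Subgroup N) ⊓ C ≤ T
  swap
  · right
    refine ⟨T ⊔ ((R : Subgroup N) ⊓ C), le_sup_left, sup_le hTR inf_le_left, ?_, ?_⟩
    · intro h
      apply hA
      rw [h]; exact le_sup_right
    · intro x
      obtain ⟨c₀, hc₀, hc₀x⟩ := hSylC.frattini (hnormtop C hCn (Subgroup.mem_top x))
      refine ⟨c₀⁻¹, C.inv_mem hc₀, c₀ * x, ?_, by group⟩
      rw [Subgroup.mem_normalizer_iff_map_conj_eq, Subgroup.map_sup,
        Subgroup.mem_normalizer_iff_map_conj_eq.mp (hTtop _),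
        Subgroup.mem_normalizer_iff_map_conj_eq.mp hc₀x]
  obtain ⟨K, hK⟩ : ∃ K : Subgroup N, K = Cfsg.pPrimeCore p N := ⟨_, rfl⟩
  obtain ⟨Y, hY⟩ : ∃ Y : Subgroup N, Y = Cfsg.pPrimePCore p N := ⟨_, rfl⟩
  rw [← hK, ← hY]
  haveI hKn : K.Normal := by rw [hK]; exact pPrimeCore_normal p
  haveI hYn : Y.Normal := by rw [hY]; exact Cfsg.Agent.Lib.Helper5.h5_pPrimePCore_normal p N
  have hKY : K ≤ Y := by rw [hK, hY]; exact Cfsg.Agent.Lib.Helper5.h5_pPrimeCore_le_pPrimePCore p N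
  have hKc : (Nat.card K).Coprime p := by rw [hK]; exact pPrimeCore_card_coprime p
  have hTY : T ≤ Y := by
    rw [hY]
    exact (le_pCore hTn hT).trans Cfsg.Agent.Lib.Helper5.h5_pCore_le_pPrimePCore
  have hKTbot : K ⊓ T = ⊥ := by
    rw [eq_bot_iff]
    intro g hg
    rw [Subgroup.mem_bot]
    exact Cfsg.Agent.Lib.Helper5.h5_eq_one_of_mem_pgroup_of_mem_coprime hT hKc hg.2 hg.1
  have hKT : ∀ k ∈ K, ∀ t ∈ T, k * t = t * k := by
    intro k hk t ht
    have h1 : k * t * k⁻¹ * t⁻¹ ∈ K ⊓ T := by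
      constructor
      · have : k * t * k⁻¹ * t⁻¹ = k * (t * k⁻¹ * t⁻¹) := by group
        rw [this]
        exact K.mul_mem hk (hKn.conj_mem _ (K.inv_mem hk) t)
      · exact T.mul_mem (hTn.conj_mem _ ht k) (T.inv_mem ht)
    rw [hKTbot, Subgroup.mem_bot] at h1
    have : k * t = (k * t * k⁻¹ * t⁻¹) * (t * k) := by group
    rw [this, h1, one_mul]
  have hYq : IsPGroup p (↥Y ⧸ K.subgroupOf Y) := by
    intro q
    obtain ⟨y, rfl⟩ := QuotientGroup.mk_surjective q
    have hy : (y : N) ∈ Cfsg.pPrimePCore p N := hY ▸ y.2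
    rw [Cfsg.Agent.Lib.Helper5.h5_mem_pPrimePCore_iff] at hy
    obtain ⟨k, hk⟩ := (pCore_isPGroup p (G := N ⧸ Cfsg.pPrimeCore p N)) ⟨_, hy⟩
    refine ⟨k, ?_⟩
    rw [← QuotientGroup.mk_pow, QuotientGroup.eq_one_iff, Subgroup.mem_subgroupOf]
    have h2 := congrArg Subtype.val hk
    simp only [Subgroup.coe_pow, Subgroup.coe_one] at h2
    rw [← map_pow, QuotientGroup.mk'_apply, QuotientGroup.eq_one_iff] at h2
    rw [hK]
    simpa using h2
  have hSylY : IsSylowIn p ((R : Subgroup N) ⊓ Y) Y := hRtop.inf_of_normal le_top (hnormtop Y hYn)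
  have hTSY : T ≤ (R : Subgroup N) ⊓ Y := le_inf hTR hTY
  have hdecomp : ∀ y ∈ Y, ∃ k ∈ K, ∃ s ∈ (R : Subgroup N) ⊓ Y, y = k * s :=
    exists_mul_of_pgroup_quotient Y K ((R : Subgroup N) ⊓ Y) hKY inf_le_right hYq hSylY.not_dvd
  by_cases hST : (R : Subgroup N) ⊓ Y = T
  · left
    refine ⟨?_, hKY, hTY, hKT, hKTbot, ?_⟩
    · intro c hc
      haveI : (Cfsg.pPrimeCore p ↥C).Characteristic :=
        Cfsg.Agent.Lib.Helper24.pPrimeCore_characteristic p
      obtain ⟨RC, hRC⟩ := hSylC.exists_sylow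
      have hcentral : (RC : Subgroup ↥C) ≤ Subgroup.center ↥C := by
        intro r hr
        rw [hRC, Subgroup.mem_subgroupOf] at hr
        have hrT : (r : N) ∈ T := hA hr
        rw [Subgroup.mem_center_iff]
        intro g
        apply Subtype.ext
        have hg : (g : N) ∈ Subgroup.centralizer (T : Set N) := hC ▸ g.2
        have := Subgroup.mem_centralizer_iff.mp hg (r : N) hrT
        simpa using this.symm
      obtain ⟨t, ht, r, hr, hctr⟩ := exists_mul_of_central_sylow RC hcentral ⟨c, hc⟩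
      have h1 : (Cfsg.pPrimeCore p ↥C).map C.subtype ≤ K := by
        rw [hK]
        apply le_pPrimeCore (Cfsg.Agent.Lib.Helper5.h5_normal_map_of_characteristic C _)
        rw [Subgroup.card_map_of_injective C.subtype_injective]
        exact pPrimeCore_card_coprime p
      have h2 : (t : N) ∈ Y := hKY (h1 ⟨t, ht, rfl⟩)
      have h3 : (r : N) ∈ Y := by
        rw [hRC, Subgroup.mem_subgroupOf] at hr
        exact hTY (hA hr)
      have h4 : c = (t : N) * (r : N) := by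
        have := congrArg Subtype.val hctr
        simpa using this
      rw [h4]
      exact Y.mul_mem h2 h3
    · apply le_antisymm (sup_le hKY hTY)
      intro y hy
      obtain ⟨k, hk, s, hs, rfl⟩ := hdecomp y hy
      rw [hST] at hs
      exact Subgroup.mul_mem _ (Subgroup.mem_sup_left hk) (Subgroup.mem_sup_right hs)
  · right
    refine ⟨(R : Subgroup N) ⊓ Y, hTSY, inf_le_left, fun h => hST h.symm, ?_⟩
    intro x
    obtain ⟨y₀, hy₀, hy₀x⟩ := hSylY.frattini (hnormtop Y hYn (Subgroup.mem_top x))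
    obtain ⟨k, hk, s, hs, hks⟩ := hdecomp y₀⁻¹ (Y.inv_mem hy₀)
    refine ⟨k, ?_, s * (y₀ * x), Subgroup.mul_mem _ (Subgroup.le_normalizer hs) hy₀x, ?_⟩
    · rw [hC, Subgroup.mem_centralizer_iff]
      intro t ht
      exact (hKT k hk t ht).symm
    · rw [← mul_assoc, ← mul_assoc, ← hks]; group

variable {G : Type u} [Group G]

def agFamily (p : ℕ) (P : Subgroup G) : Set (Subgroup G) :=
  {D | D ≤ P ∧
    Subgroup.centralizer (D : Set G) ≤
      (Cfsg.pPrimePCore p ↥(Subgroup.normalizer (D : Set G))).map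
        (Subgroup.normalizer (D : Set G)).subtype ∧
    Cfsg.IsInternalDirectProduct
      ((Cfsg.pPrimeCore p ↥(Subgroup.normalizer (D : Set G))).map
        (Subgroup.normalizer (D : Set G)).subtype)
      D
      ((Cfsg.pPrimePCore p ↥(Subgroup.normalizer (D : Set G))).map
        (Subgroup.normalizer (D : Set G)).subtype) ∧
    ¬ p ∣ (P ⊓ Subgroup.normalizer (D : Set G)).relIndex (Subgroup.normalizer (D : Set G))}

theorem ag_transfer [Finite G] {p : ℕ} [hp : Fact p.Prime] (P : Sylow p G) (T : Subgroup G)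
    (hTP : T ≤ (P : Subgroup G))
    (hR : ¬ p ∣ ((P : Subgroup G) ⊓ Subgroup.normalizer (T : Set G)).relIndex
      (Subgroup.normalizer (T : Set G))) :
    T ∈ agFamily p (P : Subgroup G) ∨
    ∃ T₁ : Subgroup G, T ≤ T₁ ∧ T₁ ≤ (P : Subgroup G) ∧ T ≠ T₁ ∧
      ∀ x ∈ Subgroup.normalizer (T : Set G), ∃ c ∈ Subgroup.centralizer (T : Set G),
        ∃ y ∈ Subgroup.normalizer (T₁ : Set G), x = c * y := by
  obtain ⟨Nn, hNn⟩ : ∃ Nn : Subgroup G, Nn = Subgroup.normalizer (T : Set G) := ⟨_, rfl⟩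
  have hTN : T ≤ Nn := hNn ▸ Subgroup.le_normalizer
  haveI hT'n : (T.subgroupOf Nn).Normal :=
    (Subgroup.normal_subgroupOf_iff_le_normalizer hTN).mpr (hNn ▸ le_rfl)
  have hT' : IsPGroup p (T.subgroupOf Nn) := (P.2.to_le hTP).comap_subtype
  have hSyl : IsSylowIn p ((P : Subgroup G) ⊓ Nn) Nn :=
    ⟨inf_le_right, P.2.to_le inf_le_left, hNn ▸ hR⟩
  obtain ⟨R', hR'⟩ := hSyl.exists_sylow
  have hTmap : (T.subgroupOf Nn).map Nn.subtype = T := Subgroup.map_subgroupOf_eq_of_le hTN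
  rcases ag_dichotomy (T.subgroupOf Nn) hT' R' with ⟨h1, h2⟩ | ⟨T₁', h1, h2, h3, h4⟩
  · left
    subst hNn
    refine ⟨hTP, ?_, ?_, hR⟩
    · intro c hc
      have hcN : c ∈ Subgroup.normalizer (T : Set G) := Subgroup.centralizer_le_normalizer _ hc
      refine ⟨⟨c, hcN⟩, h1 ?_, rfl⟩
      rw [Subgroup.mem_centralizer_iff]
      intro t ht
      apply Subtype.ext
      exact Subgroup.mem_centralizer_iff.mp hc (t : G) (Subgroup.mem_subgroupOf.mp ht)
    · obtain ⟨hKY, hTY, hcomm, hbot, hsup⟩ := h2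
      refine ⟨Subgroup.map_mono hKY, ?_, ?_, ?_, ?_⟩
      · intro t ht
        exact ⟨⟨t, hTN ht⟩, hTY (Subgroup.mem_subgroupOf.mpr ht), rfl⟩
      · rintro _ ⟨a, ha, rfl⟩ b hb
        have := hcomm a ha ⟨b, hTN hb⟩ (Subgroup.mem_subgroupOf.mpr hb)
        exact congrArg Subtype.val this
      · rw [eq_bot_iff]
        rintro _ ⟨⟨a, ha, rfl⟩, hg2⟩
        have h5 : a ∈ Cfsg.pPrimeCore p ↥(Subgroup.normalizer (T : Set G)) ⊓
            T.subgroupOf (Subgroup.normalizer (T : Set G)) :=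
          ⟨ha, Subgroup.mem_subgroupOf.mpr hg2⟩
        rw [hbot, Subgroup.mem_bot] at h5
        rw [h5]
        exact Subgroup.one_mem _
      · have e := congrArg (Subgroup.map (Subgroup.normalizer (T : Set G)).subtype) hsup
        rw [Subgroup.map_sup, hTmap] at e
        exact e
  · right
    refine ⟨T₁'.map Nn.subtype, ?_, ?_, ?_, ?_⟩
    · rw [← hTmap]; exact Subgroup.map_mono h1
    · rintro _ ⟨a, ha, rfl⟩
      have h5 : a ∈ (R' : Subgroup ↥Nn) := h2 ha
      rw [hR', Subgroup.mem_subgroupOf] at h5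
      exact h5.1
    · intro h
      apply h3
      rw [← hTmap] at h
      exact Subgroup.map_injective Nn.subtype_injective h
    · intro x hx
      have hxN : x ∈ Nn := hNn ▸ hx
      obtain ⟨c', hc', y', hy', hxy⟩ := h4 ⟨x, hxN⟩
      refine ⟨(c' : G), ?_, (y' : G), ?_, ?_⟩
      · rw [Subgroup.mem_centralizer_iff]
        intro t ht
        have := Subgroup.mem_centralizer_iff.mp hc' ⟨t, hTN ht⟩ (Subgroup.mem_subgroupOf.mpr ht)
        exact congrArg Subtype.val this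
      · apply Helper18.mem_normalizer_of_conjSub_le
        rintro _ ⟨_, ⟨a, ha, rfl⟩, rfl⟩
        refine ⟨y' * a * y'⁻¹, conj_mem_of_mem_normalizer hy' ha, ?_⟩
        simp
      · have := congrArg Subtype.val hxy
        simpa using this

theorem rc_of_mem_centralizer {R : Subgroup G} {c : G}
    (hc : c ∈ Subgroup.centralizer (R : Set G)) : rc R c = R :=
  rc_of_mem_normalizer (Subgroup.centralizer_le_normalizer _ hc)

theorem chain_good [Finite G] {𝓕₀ 𝓕 : Set (Subgroup G)} {R : Subgroup G} {g : G}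
    (hc : ConjChain 𝓕₀ R g) :
    (∀ T ∈ 𝓕₀, Nat.card R ≤ Nat.card T → ∀ x ∈ Subgroup.normalizer (T : Set G),
      ∃ c ∈ Subgroup.centralizer (T : Set G), ∃ x' : G, ConjChain 𝓕 T x' ∧ x = c * x') →
    ∃ c ∈ Subgroup.centralizer (R : Set G), ∃ g' : G, ConjChain 𝓕 R g' ∧ g = c * g' := by
  induction hc with
  | nil R =>
    intro _
    exact ⟨1, one_mem _, 1, ConjChain.nil R, (one_mul 1).symm⟩
  | cons R T x g'' hT hx hRT _ ih =>
    intro h𝓕
    obtain ⟨c₁, hc₁, x₁, hx₁, hxc⟩ := h𝓕 T hT (Subgroup.card_le_of_le hRT) x hx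
    obtain ⟨c₂, hc₂, g₂, hg₂, hgc⟩ := ih (by rw [card_rc]; exact h𝓕)
    have hc₁R : c₁ ∈ Subgroup.centralizer (R : Set G) := Subgroup.centralizer_le hRT hc₁
    have hrc : rc R x = rc R x₁ := by
      rw [hxc, ← rc_rc, rc_of_mem_centralizer hc₁R]
    rw [hrc] at hc₂ hg₂
    refine ⟨c₁ * (x₁ * c₂ * x₁⁻¹), ?_, x₁ * g₂, (hx₁.mono hRT).append hg₂, ?_⟩
    · apply Subgroup.mul_mem _ hc₁R
      rw [Subgroup.mem_centralizer_iff]
      intro r hr
      have h1 : x₁⁻¹ * r * x₁ ∈ rc R x₁ := rc_mem hr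
      have h4 := Subgroup.mem_centralizer_iff.mp hc₂ _ h1
      calc r * (x₁ * c₂ * x₁⁻¹) = x₁ * ((x₁⁻¹ * r * x₁) * c₂) * x₁⁻¹ := by group
        _ = x₁ * (c₂ * (x₁⁻¹ * r * x₁)) * x₁⁻¹ := by rw [h4]
        _ = x₁ * c₂ * x₁⁻¹ * r := by group
    · rw [hxc, hgc]; group

theorem ag_aux [Finite G] {p : ℕ} [hp : Fact p.Prime] (P : Sylow p G) :
    ∀ (k : ℕ) (A : Subgroup G), A ≤ (P : Subgroup G) →
      Nat.card (P : Subgroup G) - Nat.card A = k →
      ∀ g : G, rc A g ≤ (P : Subgroup G) →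
        ∃ c ∈ Subgroup.centralizer (A : Set G), ∃ g' : G,
          ConjChain (agFamily p (P : Subgroup G)) A g' ∧ g = c * g' := by
  intro k
  induction k using Nat.strong_induction_on with
  | _ k ih =>
    intro A hAP hk g hg
    have chain := alperin_chain P A hAP g hg
    apply chain_good chain
    intro T hT hAT x hx
    obtain ⟨Q', _, _, hTQ, hR, _⟩ := hT
    have hTP : T ≤ (P : Subgroup G) := by rw [hTQ]; exact inf_le_left
    have hTc : Nat.card T ≤ Nat.card (P : Subgroup G) := Subgroup.card_le_of_le hTP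
    have hAc : Nat.card A ≤ Nat.card (P : Subgroup G) := Subgroup.card_le_of_le hAP
    rcases Nat.lt_or_ge (Nat.card A) (Nat.card T) with hlt | hge
    · apply ih (Nat.card (P : Subgroup G) - Nat.card T) (by omega) T hTP rfl x
      rw [rc_of_mem_normalizer hx]; exact hTP
    · have heq : Nat.card T = Nat.card A := le_antisymm hge hAT
      rcases ag_transfer P T hTP hR with hTag | ⟨T₁, hTT₁, hT₁P, hne, hdec⟩
      · exact ⟨1, one_mem _, x, ConjChain.single hTag hx le_rfl, (one_mul x).symm⟩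
      · obtain ⟨c, hc, y, hy, hxy⟩ := hdec x hx
        have hcard : Nat.card T < Nat.card T₁ := by
          by_contra hle
          push Not at hle
          exact hne (Subgroup.eq_of_le_of_card_ge hTT₁ hle)
        have hT₁c : Nat.card T₁ ≤ Nat.card (P : Subgroup G) := Subgroup.card_le_of_le hT₁P
        obtain ⟨c', hc', y', hy', hyy⟩ := ih (Nat.card (P : Subgroup G) - Nat.card T₁) (by omega)
          T₁ hT₁P rfl y (by rw [rc_of_mem_normalizer hy]; exact hT₁P)
        refine ⟨c * c', Subgroup.mul_mem _ hc (Subgroup.centralizer_le hTT₁ hc'), y',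
          hy'.mono hTT₁, ?_⟩
        rw [hxy, hyy, mul_assoc]

theorem sylow_mem_agFamily [Finite G] {p : ℕ} [hp : Fact p.Prime] (P : Sylow p G) :
    (P : Subgroup G) ∈ agFamily p (P : Subgroup G) := by
  have h1 : ¬ p ∣ ((P : Subgroup G) ⊓ Subgroup.normalizer ((P : Subgroup G) : Set G)).relIndex
      (Subgroup.normalizer ((P : Subgroup G) : Set G)) := by
    rw [inf_eq_left.mpr Subgroup.le_normalizer]
    intro h
    exact P.not_dvd_index (dvd_trans h (Subgroup.relIndex_dvd_index_of_le Subgroup.le_normalizer))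
  rcases ag_transfer P (P : Subgroup G) le_rfl h1 with h | ⟨T₁, h2, h3, h4, _⟩
  · exact h
  · exact absurd (le_antisymm h2 h3) h4

theorem alperin_goldschmidt [Finite G] {p : ℕ} [hp : Fact p.Prime] (P : Sylow p G)
    (A : Subgroup G) (hAP : A ≤ (P : Subgroup G)) (g : G) (hg : rc A g ≤ (P : Subgroup G)) :
    ∃ c ∈ Subgroup.centralizer (A : Set G), ∃ g' : G,
      ConjChain (agFamily p (P : Subgroup G)) A g' ∧ g = c * g' :=
  ag_aux P _ A hAP rfl g hg

end Cfsg.Agent.Lib.Helper1
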