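import Mathlib
import Cfsg.Prelude.Def_Transfer

set_option autoImplicit false

namespace Cfsg.Agent.Lib.Helper1

open scoped Pointwise commutatorElement

theorem mulAut_fixedPoints_zpowers {T : Type*} [Group T] (φ : MulAut T) :
    MulAction.fixedPoints (Subgroup.zpowers φ) T =
      ((φ.toMonoidHom.eqLocus (MonoidHom.id T) : Subgroup T) : Set T) := by
  ext t
  constructor
  · intro ht
    exact ht ⟨φ, Subgroup.mem_zpowers φ⟩
  · intro ht h
    have h1 : φ ∈ MulAction.stabilizer (MulAut T) t := ht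
    have h2 : Subgroup.zpowers φ ≤ MulAction.stabilizer (MulAut T) t := by
      rw [Subgroup.zpowers_le]; exact h1
    exact h2 h.2

theorem mulAut_eq_one_of_pow_prime_of_not_dvd {T : Type*} [Group T] [Finite T] {p k q : ℕ}
    [Fact q.Prime] (hp : p.Prime) (hT : Nat.card T = p ^ k) (φ : MulAut T) (hφ : φ ^ q = 1)
    (hq : ∀ j < k, ¬ q ∣ p ^ k - p ^ j) : φ = 1 := by
  have hpg : IsPGroup q (Subgroup.zpowers φ) := by
    intro g
    refine ⟨1, ?_⟩
    obtain ⟨g, hg⟩ := g
    obtain ⟨i, rfl⟩ := Subgroup.mem_zpowers_iff.mp hg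
    apply Subtype.ext
    simp only [pow_one, Subgroup.coe_pow, Subgroup.coe_one]
    rw [← zpow_natCast, ← zpow_mul, mul_comm, zpow_mul, zpow_natCast, hφ, one_zpow]
  have h1 := hpg.card_modEq_card_fixedPoints T
  have h2 : Nat.card (MulAction.fixedPoints (Subgroup.zpowers φ) T) =
      Nat.card (φ.toMonoidHom.eqLocus (MonoidHom.id T) : Subgroup T) := by
    rw [mulAut_fixedPoints_zpowers]; rfl
  rw [h2, hT] at h1
  have h3 : Nat.card (φ.toMonoidHom.eqLocus (MonoidHom.id T) : Subgroup T) ∣ p ^ k := by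
    rw [← hT]; exact Subgroup.card_subgroup_dvd_card _
  obtain ⟨j, hjk, hj⟩ := (Nat.dvd_prime_pow hp).mp h3
  rw [hj] at h1
  have hle : p ^ j ≤ p ^ k := Nat.pow_le_pow_right hp.pos hjk
  have h4 : q ∣ p ^ k - p ^ j := (Nat.modEq_iff_dvd' hle).mp h1.symm
  have hjk' : j = k := by
    by_contra hne
    exact hq j (lt_of_le_of_ne hjk hne) h4
  rw [hjk', ← hT] at hj
  have htop := (Subgroup.card_eq_iff_eq_top _).mp hj
  ext t
  have : t ∈ (φ.toMonoidHom.eqLocus (MonoidHom.id T) : Subgroup T) := by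
    rw [htop]; exact Subgroup.mem_top t
  exact this

variable {G : Type*} [Group G]

theorem normalizer_le_centralizer_of_not_dvd [Finite G] {p : ℕ} [Fact p.Prime] (P : Sylow p G)
    (hP : IsMulCommutative P) (k : ℕ) (hk : Nat.card P = p ^ k)
    (hq : ∀ q : ℕ, q.Prime → q ∣ Nat.card G → q ≠ p → ∀ j < k, ¬ q ∣ p ^ k - p ^ j) :
    Subgroup.normalizer ((P : Subgroup G) : Set G) ≤ Subgroup.centralizer ((P : Subgroup G) : Set G) := by
  have hc : IsMulCommutative (P : Subgroup G) := hP
  set f := (P : Subgroup G).normalizerMonoidHom with hf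
  by_cases hr : Nat.card f.range = 1
  · have h1 : f.range = ⊥ := Subgroup.card_eq_one.mp hr
    have h2 : f.ker = ⊤ := by
      rw [eq_top_iff]
      intro x _
      rw [MonoidHom.mem_ker]
      have : f x ∈ f.range := ⟨x, rfl⟩
      rw [h1, Subgroup.mem_bot] at this
      exact this
    rw [hf, Subgroup.normalizerMonoidHom_ker, Subgroup.subgroupOf_eq_top] at h2
    exact h2
  · exfalso
    obtain ⟨q, hqp, hqd⟩ := Nat.exists_prime_and_dvd hr
    have : Fact q.Prime := ⟨hqp⟩
    have hidx : Nat.card f.range =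
        (Subgroup.centralizer ((P : Subgroup G) : Set G)).relIndex
          (Subgroup.normalizer ((P : Subgroup G) : Set G)) := by
      rw [← Subgroup.index_ker, hf, Subgroup.normalizerMonoidHom_ker]
      rfl
    have hdG : q ∣ Nat.card G := by
      apply hqd.trans
      rw [hidx]
      exact (Subgroup.relIndex_dvd_card _ _).trans (Subgroup.card_subgroup_dvd_card _)
    have hne : q ≠ p := by
      rintro rfl
      apply P.not_dvd_index
      apply hqd.trans
      rw [hidx]
      exact (Subgroup.relIndex_dvd_of_le_left _ (Subgroup.le_centralizer (P : Subgroup G))).trans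
        (Subgroup.relIndex_dvd_index_of_le Subgroup.le_normalizer)
    obtain ⟨x, hx⟩ := exists_prime_orderOf_dvd_card' q hqd
    have hxq : (x : MulAut (P : Subgroup G)) ^ q = 1 := by
      have : x ^ q = 1 := by rw [← hx]; exact pow_orderOf_eq_one x
      have := congrArg Subtype.val this
      simpa using this
    have h1 := mulAut_eq_one_of_pow_prime_of_not_dvd (Fact.out : p.Prime) hk
      (x : MulAut (P : Subgroup G)) hxq (hq q hqp hdG hne)
    have hx1 : x = 1 := Subtype.ext h1
    rw [hx1, orderOf_one] at hx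
    exact hqp.one_lt.ne hx

theorem npc_of_abelian_sylow_of_not_dvd [Finite G] {p : ℕ} [Fact p.Prime] (P : Sylow p G)
    (hP : IsMulCommutative P) (k : ℕ) (hk : Nat.card P = p ^ k)
    (hq : ∀ q : ℕ, q.Prime → q ∣ Nat.card G → q ≠ p → ∀ j < k, ¬ q ∣ p ^ k - p ^ j) :
    Cfsg.HasNormalPComplement p G :=
  ⟨P, _, inferInstance, MonoidHom.ker_transferSylow_isComplement' P
    (normalizer_le_centralizer_of_not_dvd P hP k hk hq)⟩

end Cfsg.Agent.Lib.Helper1
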