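import Mathlib
import Cfsg.Agent.Lib.Lead.BCG.Defs
import Cfsg.Agent.Lib.Lead.S5955T2

set_option autoImplicit false

/-! # Project BCG, row T1 (`geo_split`): `V = fixS x ⟂ geoS N x` for a reflexive nondegenerate form and an isometry `x` with `x ^ N = 1`, `(N : F) ≠ 0`. -/

namespace Cfsg.Agent.Lib.Lead.BCG

open Polynomial Module Matrix Cfsg.Agent.Lib.Helper13.S5955 Cfsg.Agent.Lib.helper15.S5972
  Cfsg.Agent.Lib.Helper18.ONE Cfsg.Agent.Lib.Lead.BCS

theorem bcgt1_pres_pow {F : Type*} [Field F] {V : Type*} [AddCommGroup V] [Module F V]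
    (B : LinearMap.BilinForm F V) (x : Module.End F V)
    (hpres : ∀ u v, B (x u) (x v) = B u v) (j : ℕ) (u v : V) :
    B ((x ^ j) u) ((x ^ j) v) = B u v := by
  induction j generalizing u v with
  | zero => rw [pow_zero, Module.End.one_apply, Module.End.one_apply]
  | succ j ih => rw [pow_succ, Module.End.mul_apply, Module.End.mul_apply, ih, hpres]

theorem bcgt1_coprime {F : Type*} [Field F] (N : ℕ) (hN : (N : F) ≠ 0) :
    IsCoprime (X - 1 : F[X]) (∑ j ∈ Finset.range N, (X : F[X]) ^ j) := by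
  have hirr : Irreducible (X - 1 : F[X]) := by
    have := Polynomial.irreducible_X_sub_C (1 : F)
    rwa [map_one] at this
  rw [hirr.coprime_iff_not_dvd]
  intro hdvd
  have h1 : (X - 1 : F[X]) = X - C 1 := by rw [map_one]
  rw [h1, Polynomial.dvd_iff_isRoot, Polynomial.IsRoot.def, Polynomial.eval_finsetSum] at hdvd
  simp only [eval_pow, eval_X, one_pow, Finset.sum_const, Finset.card_range, nsmul_eq_mul,
    mul_one] at hdvd
  exact hN hdvd

theorem bcgt1_kill {F : Type*} [Field F] {V : Type*} [AddCommGroup V] [Module F V]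
    (x : Module.End F V) (N : ℕ) (hpow : x ^ N = 1) :
    aeval x ((X - 1 : F[X]) * ∑ j ∈ Finset.range N, (X : F[X]) ^ j) = 0 := by
  rw [mul_geom_sum, map_sub, map_pow, aeval_X, map_one, hpow, sub_self]

theorem bcgt1_mem_geoS {F : Type*} [Field F] {V : Type*} [AddCommGroup V] [Module F V]
    (x : Module.End F V) (N : ℕ) (w : V) :
    w ∈ geoS N x ↔ ∑ j ∈ Finset.range N, (x ^ j) w = 0 := by
  unfold geoS
  rw [LinearMap.mem_ker, map_sum, LinearMap.sum_apply]
  simp only [map_pow, aeval_X]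

theorem geo_split {F : Type*} [Field F] {V : Type*} [AddCommGroup V] [Module F V]
    (B : LinearMap.BilinForm F V) (hrefl : ∀ u v, B u v = 0 → B v u = 0)
    (hnd : ∀ u, (∀ v, B u v = 0) → u = 0) (x : Module.End F V)
    (hpres : ∀ u v, B (x u) (x v) = B u v) (N : ℕ) (hpow : x ^ N = 1) (hN : (N : F) ≠ 0) :
    SOrth B (fixS x) (geoS N x) ∧ IsCompl (fixS x) (geoS N x) ∧ SND B (fixS x) ∧
      SND B (geoS N x) := by
  have hcop := bcgt1_coprime (F := F) N hN
  have hkill := bcgt1_kill x N hpow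
  have hcompl : IsCompl (fixS x) (geoS N x) := by
    constructor
    · exact disjoint_ker_aeval_of_isCoprime x hcop
    · rw [codisjoint_iff]
      unfold fixS geoS
      rw [sup_ker_aeval_eq_ker_aeval_mul_of_coprime x hcop, hkill, LinearMap.ker_zero]
  have horth : SOrth B (fixS x) (geoS N x) := by
    intro v hv w hw
    have hv' : x v = v := (s5955t2_mem_fixS x v).mp hv
    have h0 : B v (∑ j ∈ Finset.range N, (x ^ j) w) = 0 := by
      rw [(bcgt1_mem_geoS x N w).mp hw, map_zero]
    rw [map_sum] at h0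
    have h1 : ∀ j ∈ Finset.range N, B v ((x ^ j) w) = B v w := by
      intro j _
      have := bcgt1_pres_pow B x hpres j v w
      rw [s5955t2_pow_fix x v hv' j] at this
      exact this
    rw [Finset.sum_congr rfl h1, Finset.sum_const, Finset.card_range, nsmul_eq_mul] at h0
    exact (mul_eq_zero.mp h0).resolve_left hN
  have hdec : ∀ v : V, ∃ a ∈ fixS x, ∃ b ∈ geoS N x, a + b = v := by
    intro v
    have hv : v ∈ fixS x ⊔ geoS N x := by rw [hcompl.sup_eq_top]; trivial
    obtain ⟨a, ha, b, hb, hab⟩ := Submodule.mem_sup.mp hv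
    exact ⟨a, ha, b, hb, hab⟩
  refine ⟨horth, hcompl, ?_, ?_⟩
  · intro u hu huv
    apply hnd u
    intro v
    obtain ⟨a, ha, b, hb, rfl⟩ := hdec v
    rw [map_add, huv a ha, horth u hu b hb, add_zero]
  · intro u hu huv
    apply hnd u
    intro v
    obtain ⟨a, ha, b, hb, rfl⟩ := hdec v
    rw [map_add, huv b hb, add_zero, hrefl a u (horth a ha u hu)]

end Cfsg.Agent.Lib.Lead.BCG
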