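import Mathlib
import Cfsg.Agent.Lib.Lead.BCG.Defs
import Cfsg.Agent.Lib.Helper1.BCGT1
import Cfsg.Agent.Lib.Helper24.S5972RESTRICT
import Cfsg.Agent.Lib.helper8.S5955X4
import Cfsg.Agent.Lib.Helper5.S5955T7

set_option autoImplicit false
set_option linter.unusedVariables false

/-! # Project BCG, row T3 (`s_restrict_geo`): restrict a symplectic context to `geoS N x` and transport it to a standard space. -/

namespace Cfsg.Agent.Lib.Lead.BCG

open Polynomial Module Matrix Cfsg.Agent.Lib.Helper13.S5955 Cfsg.Agent.Lib.helper15.S5972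
  Cfsg.Agent.Lib.Helper18.ONE Cfsg.Agent.Lib.Lead.BCS

/-- `geoS N x` is `x`-invariant -/
theorem bcgt3_geo_inv {F : Type*} [Field F] {V : Type*} [AddCommGroup V] [Module F V]
    (N : ℕ) (x : Module.End F V) : ∀ v ∈ geoS N x, x v ∈ geoS N x :=
  Cfsg.Agent.Lib.Helper24.el_inv_ker x (∑ j ∈ Finset.range N, (X : F[X]) ^ j)

/-- powers of a restriction -/
theorem bcgt3_restrict_pow {F : Type*} [Field F] {V : Type*} [AddCommGroup V] [Module F V]
    (x : Module.End F V) (W : Submodule F V) (hW : ∀ v ∈ W, x v ∈ W) (k : ℕ) (u : W) :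
    (((x.restrict hW) ^ k) u : V) = (x ^ k) (u : V) := by
  rw [Module.End.pow_restrict k hW, LinearMap.coe_restrict_apply]

/-- an intertwiner intertwines powers -/
theorem bcgt3_intertwine_pow {F : Type*} [Field F] {V V' : Type*} [AddCommGroup V] [Module F V]
    [AddCommGroup V'] [Module F V'] (y : Module.End F V) (x' : Module.End F V') (ψ : V ≃ₗ[F] V')
    (hψ : ∀ u, ψ (y u) = x' (ψ u)) (k : ℕ) (u : V) : ψ ((y ^ k) u) = (x' ^ k) (ψ u) := by
  induction k generalizing u with
  | zero => rw [pow_zero, pow_zero, Module.End.one_apply, Module.End.one_apply]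
  | succ k ih => rw [pow_succ, pow_succ, Module.End.mul_apply, Module.End.mul_apply, ih, hψ]

theorem s_restrict_geo {F : Type*} [Field F] {V : Type*} [AddCommGroup V] [Module F V]
    [FiniteDimensional F V] {N : ℕ} (hNo : Odd N) (hN : (N : F) ≠ 0)
    {A : LinearMap.BilinForm F V} {x : Module.End F V} (h : SCtx N A x) :
    ∃ (h' : ℕ) (y₀ : Module.End F (Fin h' ⊕ Fin h' → F)), SCtx N (stdB h' F) y₀ ∧
      fixS y₀ = ⊥ ∧ 2 * h' + finrank F (fixS x) = finrank F V ∧ SameOrd y₀ x := by
  classical
  have hrefl : ∀ u v, A u v = 0 → A v u = 0 := by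
    intro u v huv
    rw [s5955t2_skew A h.alt, huv, neg_zero]
  obtain ⟨-, hcompl, -, hWnd⟩ := geo_split A hrefl h.nd x h.pres N h.pow hN
  have hWinv : ∀ v ∈ geoS N x, x v ∈ geoS N x := bcgt3_geo_inv N x
  have hctx : SCtx N (A.restrict (geoS N x)) (x.restrict hWinv) := by
    refine ⟨?_, ?_, ?_, ?_⟩
    · intro v
      rw [s5972restrict_apply]
      exact h.alt _
    · intro u hu
      apply Subtype.ext
      apply hWnd _ u.2
      intro v hv
      have := hu ⟨v, hv⟩
      rw [s5972restrict_apply] at this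
      exact this
    · intro u v
      rw [s5972restrict_apply, s5972restrict_apply, LinearMap.coe_restrict_apply,
        LinearMap.coe_restrict_apply]
      exact h.pres _ _
    · rw [Module.End.pow_restrict N hWinv]
      ext u
      rw [LinearMap.coe_restrict_apply, h.pow]
      rfl
  obtain ⟨d, hd⟩ := nd_even A h.alt (geoS N x) hWnd
  obtain ⟨y, ψ, hy, -, hψx⟩ := transport (A.restrict (geoS N x)) (x.restrict hWinv) hctx d
    (by omega)
  have hdec : ∀ v : V, ∃ a ∈ fixS x, ∃ b ∈ geoS N x, a + b = v := by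
    intro v
    have hv : v ∈ fixS x ⊔ geoS N x := by rw [hcompl.sup_eq_top]; trivial
    obtain ⟨a, ha, b, hb, hab⟩ := Submodule.mem_sup.mp hv
    exact ⟨a, ha, b, hb, hab⟩
  refine ⟨d, y, hy, ?_, ?_, ?_⟩
  · rw [eq_bot_iff]
    intro u hu
    rw [s5955t2_mem_fixS] at hu
    have h1 : (x.restrict hWinv) (ψ u) = ψ u := by rw [← hψx, hu]
    have h2 : x ((ψ u : geoS N x) : V) = ((ψ u : geoS N x) : V) := by
      have := congrArg Subtype.val h1
      rwa [LinearMap.coe_restrict_apply] at this
    have hmem : ((ψ u : geoS N x) : V) ∈ fixS x ⊓ geoS N x :=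
      ⟨(s5955t2_mem_fixS x _).mpr h2, (ψ u).2⟩
    rw [hcompl.inf_eq_bot, Submodule.mem_bot] at hmem
    have h3 : ψ u = 0 := Subtype.ext hmem
    rw [Submodule.mem_bot]
    exact ψ.map_eq_zero_iff.mp h3
  · have := Submodule.finrank_add_eq_of_isCompl hcompl
    omega
  · intro k
    constructor
    · intro hk
      have hW : ∀ w ∈ geoS N x, (x ^ k) w = w := by
        intro w hw
        obtain ⟨u, hu⟩ := ψ.surjective ⟨w, hw⟩
        have h1 := bcgt3_intertwine_pow y (x.restrict hWinv) ψ hψx k u
        rw [hk, Module.End.one_apply, hu] at h1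
        have h2 := congrArg Subtype.val h1
        rw [bcgt3_restrict_pow] at h2
        exact h2.symm
      apply LinearMap.ext
      intro v
      obtain ⟨a, ha, b, hb, rfl⟩ := hdec v
      rw [map_add, hW b hb, s5955t2_pow_fix x a ((s5955t2_mem_fixS x a).mp ha) k,
        Module.End.one_apply]
    · intro hk
      apply LinearMap.ext
      intro u
      rw [Module.End.one_apply]
      apply ψ.injective
      rw [bcgt3_intertwine_pow y (x.restrict hWinv) ψ hψx k u]
      apply Subtype.ext
      rw [bcgt3_restrict_pow, hk, Module.End.one_apply]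

end Cfsg.Agent.Lib.Lead.BCG
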