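import Mathlib
import Cfsg.Agent.Lib.Lead.BCG.Defs
import Cfsg.Agent.Lib.helper15.S5972STDCTX
import Cfsg.Agent.Lib.helper15.BCGT4
import Cfsg.Agent.Lib.Helper10.BCGT6
import Cfsg.Agent.Lib.Helper11.BCGX2
import Cfsg.Agent.Lib.Helper11.BCGX3
import Cfsg.Agent.Lib.Helper25.BCGX4

set_option autoImplicit false
set_option linter.unusedVariables false

/-! # Project BCG, row T8 (`odd_O_to_S`), second copy by helper1: an odd order prime to `p` of `Ω_{2n+1}(q)` is an element order of `Sp_{2n}(q)`. -/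

namespace Cfsg.Agent.Lib.Lead.BCG

open Polynomial Module Matrix Cfsg.Agent.Lib.Helper13.S5955 Cfsg.Agent.Lib.helper15.S5972
  Cfsg.Agent.Lib.Helper18.ONE Cfsg.Agent.Lib.Lead.BCS

theorem bcgt8h1_two_ne {F : Type*} [Field F] [Fintype F] {p : ℕ} [Fact p.Prime] [CharP F p]
    (hodd : Odd (Fintype.card F)) : (2 : F) ≠ 0 := by
  intro h
  have h2 : ((2 : ℕ) : F) = 0 := by exact_mod_cast h
  rw [CharP.cast_eq_zero_iff F p] at h2
  obtain ⟨k, -, hk⟩ := FiniteField.card F p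
  have hp2 : p = 2 := (Nat.prime_dvd_prime_iff_eq Fact.out Nat.prime_two).mp h2
  rw [hk, hp2] at hodd
  have : Even (2 ^ (k : ℕ)) := (Nat.even_pow.mpr ⟨even_two, k.ne_zero⟩)
  exact (Nat.not_even_iff_odd.mpr hodd) this

theorem bcgt8_h1 {F : Type*} [Field F] [Fintype F] {p : ℕ} [Fact p.Prime] [CharP F p]
    (hodd : Odd (Fintype.card F)) (n : ℕ) (hn : 3 ≤ n) (N : ℕ) (hNo : Odd N) (hN1 : 1 < N)
    (hNp : ¬ p ∣ N) (hX : InO n F N) :
    ∃ x : Matrix.symplecticGroup (Fin n) F, orderOf x = N := by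
  obtain ⟨X, hXΩ, hXord⟩ := hX
  have h2 : (2 : F) ≠ 0 := bcgt8h1_two_ne hodd
  have hXiso := omegaGL_le n X hXΩ
  have hXN : X ^ N = 1 := by rw [← hXord]; exact pow_orderOf_eq_one X
  have hctx := std_octx h2 n N X hXiso hXN
  have hNF : (N : F) ≠ 0 := by
    intro h
    rw [CharP.cast_eq_zero_iff F p] at h
    exact hNp h
  obtain ⟨h', y₀, hy₀, -, hdim, hsame⟩ := o_restrict_geo hNo hNF hctx
  have hh : h' ≤ n := by
    have hfr : finrank F (Unit ⊕ (Fin n ⊕ Fin n) → F) = 1 + (n + n) := by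
      rw [Module.finrank_fintype_fun_eq_card]
      simp
    omega
  obtain ⟨x, hx, hxsame⟩ := s_extend_std h' n hh y₀ hy₀
  obtain ⟨g, hg⟩ := sp_realize n x hx.pres
  refine ⟨g, ?_⟩
  rw [← hXord]
  apply orderOf_eq_orderOf_iff.mpr
  intro k
  rw [sp_same, gl_same, hg]
  exact (hxsame k).trans (hsame k)

end Cfsg.Agent.Lib.Lead.BCG
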