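import Mathlib

set_option autoImplicit false

namespace Cfsg.Agent.Lib.Helper1

variable {G : Type*} [Group G]

theorem mem_frattini_iff (x : G) : x ∈ frattini G ↔ ∀ M : Subgroup G, IsCoatom M → x ∈ M := by
  unfold frattini Order.radical
  simp [Subgroup.mem_iInf]

theorem le_frattini_iff (K : Subgroup G) : K ≤ frattini G ↔ ∀ M : Subgroup G, IsCoatom M → K ≤ M := by
  constructor
  · intro h M hM
    exact le_trans h (frattini_le_coatom hM)
  · intro h x hx
    rw [mem_frattini_iff]
    intro M hM
    exact h M hM hx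

theorem pgroup_coatom_normal [Finite G] {p : ℕ} [Fact p.Prime] (hG : IsPGroup p G)
    {M : Subgroup G} (hM : IsCoatom M) : M.Normal := by
  have := hG.isNilpotent
  exact Subgroup.NormalizerCondition.normal_of_coatom M Group.normalizerCondition_of_isNilpotent hM

theorem pgroup_coatom_index [Finite G] {p : ℕ} [Fact p.Prime] (hG : IsPGroup p G)
    {M : Subgroup G} (hM : IsCoatom M) : M.index = p := by
  have hn := pgroup_coatom_normal hG hM
  have hQ : IsPGroup p (G ⧸ M) := hG.to_quotient M
  have hcard : Nat.card (G ⧸ M) ≠ 1 := by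
    intro h
    exact hM.1 (Subgroup.index_eq_one.mp h)
  obtain ⟨q, hq⟩ := exists_prime_orderOf_dvd_card' p (hQ.card_eq_or_dvd.resolve_left hcard)
  have hq1 : q ≠ 1 := by
    intro h
    rw [h, orderOf_one] at hq
    exact (Fact.out : p.Prime).one_lt.ne hq
  have h1 : (Subgroup.zpowers q).comap (QuotientGroup.mk' M) = ⊤ := by
    apply hM.2
    refine lt_of_le_of_ne ?_ ?_
    · intro m hm
      change QuotientGroup.mk' M m ∈ Subgroup.zpowers q
      have : QuotientGroup.mk' M m = 1 := (QuotientGroup.eq_one_iff m).mpr hm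
      rw [this]; exact Subgroup.one_mem _
    · intro h
      obtain ⟨x, rfl⟩ := QuotientGroup.mk'_surjective M q
      have hx : x ∈ (Subgroup.zpowers (QuotientGroup.mk' M x)).comap (QuotientGroup.mk' M) :=
        Subgroup.mem_zpowers _
      rw [← h] at hx
      exact hq1 ((QuotientGroup.eq_one_iff x).mpr hx)
  have h2 : Subgroup.zpowers q = ⊤ := by
    rw [← Subgroup.comap_top (QuotientGroup.mk' M)] at h1
    exact Subgroup.comap_injective (QuotientGroup.mk'_surjective M) h1
  have h3 : Nat.card (Subgroup.zpowers q) = p := by rw [Nat.card_zpowers, hq]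
  rw [h2, Subgroup.card_top] at h3
  exact h3

theorem pgroup_commutator_le_frattini [Finite G] {p : ℕ} [Fact p.Prime] (hG : IsPGroup p G) :
    commutator G ≤ frattini G := by
  rw [le_frattini_iff]
  intro M hM
  have hn := pgroup_coatom_normal hG hM
  have hidx := pgroup_coatom_index hG hM
  have : Fact (Nat.card (G ⧸ M)).Prime := ⟨by
    have : Nat.card (G ⧸ M) = p := hidx
    rw [this]; exact Fact.out⟩
  have hcyc : IsCyclic (G ⧸ M) := isCyclic_of_prime_card (p := Nat.card (G ⧸ M)) rfl
  have hcomm : IsMulCommutative (G ⧸ M) := IsCyclic.isMulCommutative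
  exact (Subgroup.Normal.quotient_commutative_iff_commutator_le).mp hcomm

theorem pgroup_pow_mem_frattini [Finite G] {p : ℕ} [Fact p.Prime] (hG : IsPGroup p G) (x : G) :
    x ^ p ∈ frattini G := by
  rw [mem_frattini_iff]
  intro M hM
  have hn := pgroup_coatom_normal hG hM
  have hidx := pgroup_coatom_index hG hM
  rw [← QuotientGroup.eq_one_iff, QuotientGroup.mk_pow]
  have : Nat.card (G ⧸ M) = p := hidx
  rw [← this]
  exact pow_card_eq_one'

end Cfsg.Agent.Lib.Helper1

namespace Cfsg.Agent.Lib.Helper1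

theorem exists_coatom_not_mem_of_elementary {Q : Type*} [CommGroup Q] [Finite Q] {p : ℕ}
    [Fact p.Prime] (hp : ∀ y : Q, y ^ p = 1) (q : Q) (hq : q ≠ 1) :
    ∃ K : Subgroup Q, IsCoatom K ∧ q ∉ K := by
  have hfin : {K : Subgroup Q | q ∉ K}.Finite := Set.toFinite _
  have hne : {K : Subgroup Q | q ∉ K}.Nonempty := ⟨⊥, by simpa [Subgroup.mem_bot] using hq⟩
  obtain ⟨K, hK⟩ := hfin.exists_maximal hne
  have hqK : q ∉ K := hK.1
  have hmax : ∀ L : Subgroup Q, q ∉ L → K ≤ L → L ≤ K := fun L hL hKL => hK.2 hL hKL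
  refine ⟨K, ⟨?_, ?_⟩, hqK⟩
  · intro h; rw [h] at hqK; exact hqK (Subgroup.mem_top q)
  · intro L hKL
    have hqL : q ∈ L := by
      by_contra hqL
      exact (not_le_of_gt hKL) (hmax L hqL hKL.le)
    rw [eq_top_iff]
    intro y _
    by_cases hy : y ∈ K
    · exact hKL.le hy
    · have h1 : q ∈ K ⊔ Subgroup.zpowers y := by
        by_contra h1
        have := hmax _ h1 le_sup_left
        exact hy (this (Subgroup.mem_sup_right (Subgroup.mem_zpowers y)))
      obtain ⟨k, hk, z, hz, hkz⟩ := Subgroup.mem_sup.mp h1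
      obtain ⟨i, rfl⟩ := Subgroup.mem_zpowers_iff.mp hz
      have hpi : ¬ (p : ℤ) ∣ i := by
        rintro ⟨j, rfl⟩
        rw [zpow_mul, zpow_natCast, hp, one_zpow, mul_one] at hkz
        exact hqK (hkz ▸ hk)
      have hcop : IsCoprime i (p : ℤ) := by
        rw [isCoprime_comm]
        exact (Nat.prime_iff_prime_int.mp (Fact.out : p.Prime)).coprime_iff_not_dvd.mpr hpi
      obtain ⟨a, b, hab⟩ := hcop
      have hy' : y = (y ^ i) ^ a := by
        have h3 : y = y ^ (a * i + b * p) := by rw [hab, zpow_one]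
        have h4 : y ^ (b * (p : ℤ)) = 1 := by
          rw [mul_comm, zpow_mul, zpow_natCast, hp, one_zpow]
        rw [zpow_add, h4, mul_one, mul_comm a i, zpow_mul] at h3
        exact h3
      have h2 : y ^ i = k⁻¹ * q := by rw [← hkz]; group
      rw [hy', h2]
      exact L.zpow_mem (L.mul_mem (L.inv_mem (hKL.le hk)) hqL) a

end Cfsg.Agent.Lib.Helper1

namespace Cfsg.Agent.Lib.Helper1

variable {G : Type*} [Group G]

theorem frattini_le_of_elementary_quotient [Finite G] {p : ℕ} [Fact p.Prime]
    (N : Subgroup G) [N.Normal] (hcomm : commutator G ≤ N) (hpow : ∀ x : G, x ^ p ∈ N) :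
    frattini G ≤ N := by
  intro x hx
  by_contra hxN
  have hc : IsMulCommutative (G ⧸ N) :=
    (Subgroup.Normal.quotient_commutative_iff_commutator_le).mpr hcomm
  let _ : CommGroup (G ⧸ N) :=
    { (QuotientGroup.Quotient.group N) with mul_comm := fun a b => hc.is_comm.comm a b }
  have hp : ∀ y : G ⧸ N, y ^ p = 1 := by
    intro y
    obtain ⟨g, rfl⟩ := QuotientGroup.mk_surjective y
    rw [← QuotientGroup.mk_pow, QuotientGroup.eq_one_iff]
    exact hpow g
  have hq : (x : G ⧸ N) ≠ 1 := fun h => hxN ((QuotientGroup.eq_one_iff x).mp h)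
  obtain ⟨K, hK, hxK⟩ := exists_coatom_not_mem_of_elementary hp (x : G ⧸ N) hq
  have hM : IsCoatom (K.comap (QuotientGroup.mk' N)) :=
    Subgroup.isCoatom_comap_of_surjective (QuotientGroup.mk'_surjective N) hK
  exact hxK (frattini_le_coatom hM hx)

end Cfsg.Agent.Lib.Helper1

namespace Cfsg.Agent.Lib.Helper1

variable {G : Type*} [Group G]

theorem nilpotent_of_frattini_quotient_nilpotent [Finite G]
    (h : Group.IsNilpotent (G ⧸ frattini G)) : Group.IsNilpotent G := by
  have q := (Group.isNilpotent_of_finite_tfae (G := G)).out 0 3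
  rw [q]; clear q
  intro p hp P
  let π := QuotientGroup.mk' (frattini G)
  have hπ : Function.Surjective π := QuotientGroup.mk'_surjective _
  have hn : ((P.mapSurjective hπ : Sylow p (G ⧸ frattini G)) : Subgroup (G ⧸ frattini G)).Normal :=
    inferInstance
  rw [Sylow.coe_mapSurjective] at hn
  set N : Subgroup G := ((P : Subgroup G).map π).comap π with hN
  have hNn : N.Normal := hn.comap π
  have hPN : (P : Subgroup G) ≤ N := Subgroup.le_comap_map π _
  have h1 := Sylow.normalizer_sup_eq_top' P hPN
  have h2 : N ≤ Subgroup.normalizer ((P : Subgroup G) : Set G) ⊔ frattini G := by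
    intro x hx
    obtain ⟨y, hy, hyx⟩ := hx
    have h3 : y⁻¹ * x ∈ frattini G := by
      rw [← QuotientGroup.eq_one_iff]
      change π (y⁻¹ * x) = 1
      rw [map_mul, map_inv, hyx]; group
    have : x = y * (y⁻¹ * x) := by group
    rw [this]
    exact Subgroup.mul_mem_sup (Subgroup.le_normalizer hy) h3
  have h4 : Subgroup.normalizer ((P : Subgroup G) : Set G) ⊔ frattini G = ⊤ := by
    rw [eq_top_iff, ← h1]
    exact sup_le le_sup_left h2
  have h5 := frattini_nongenerating h4
  exact Subgroup.normalizer_eq_top_iff.mp h5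

end Cfsg.Agent.Lib.Helper1

namespace Cfsg.Agent.Lib.Helper1

variable {G : Type*} [Group G]

theorem sylow_frattini_normal [Finite G] {p : ℕ} [Fact p.Prime] (P : Sylow p (frattini G)) :
    ((P : Subgroup (frattini G)).map (frattini G).subtype).Normal := by
  have frattini_argument := Sylow.normalizer_sup_eq_top P
  have normalizer_P := frattini_nongenerating frattini_argument
  exact Subgroup.normalizer_eq_top_iff.mp normalizer_P

theorem prime_dvd_index_frattini [Finite G] (p : ℕ) (hp : p.Prime) (hdvd : p ∣ Nat.card G) :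
    p ∣ (frattini G).index := by
  by_contra hnd
  have : Fact p.Prime := ⟨hp⟩
  obtain ⟨P⟩ := (inferInstance : Nonempty (Sylow p (frattini G)))
  set P' : Subgroup G := (P : Subgroup (frattini G)).map (frattini G).subtype with hP'
  have hPn : P'.Normal := sylow_frattini_normal P
  have hPle : P' ≤ frattini G := Subgroup.map_subtype_le _
  have hidx : ¬ p ∣ P'.index := by
    rw [hP', Subgroup.index_map_subtype]
    exact Nat.Prime.not_dvd_mul hp P.not_dvd_index hnd
  have hPp : IsPGroup p P' := P.isPGroup'.map _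
  obtain ⟨n, hn⟩ := IsPGroup.iff_card.mp hPp
  have hcop : Nat.Coprime (Nat.card P') P'.index := by
    rw [hn]
    exact Nat.Coprime.pow_left n ((Nat.Prime.coprime_iff_not_dvd hp).mpr hidx)
  obtain ⟨H, hH⟩ := Subgroup.exists_right_complement'_of_coprime hcop
  have hHtop : H ≠ ⊤ := by
    intro h
    rw [h] at hH
    have h1 := hH.card_mul_card
    rw [Subgroup.card_top] at h1
    have h2 : Nat.card P' = 1 := by
      have hpos : 0 < Nat.card G := Nat.card_pos
      nlinarith
    have h3 : P'.index = Nat.card G := by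
      have := P'.card_mul_index
      rw [h2, one_mul] at this
      exact this
    exact hidx (h3 ▸ hdvd)
  obtain ⟨M, hM, hHM⟩ := (eq_top_or_exists_le_coatom H).resolve_left hHtop
  have h4 : P' ⊔ H ≤ M := sup_le (le_trans hPle (frattini_le_coatom hM)) hHM
  rw [hH.sup_eq_top] at h4
  exact hM.1 (eq_top_iff.mpr h4)

end Cfsg.Agent.Lib.Helper1
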