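import Mathlib
import Cfsg.Agent.Lib.helper7.BD.D1Defs
import Cfsg.Agent.Lib.Helper24.BlockTransport

set_option autoImplicit false
set_option linter.unusedVariables false
set_option linter.unusedSectionVars false
set_option linter.style.haveILetI false

namespace Cfsg.Agent.Lib.helper7.BD

open Cfsg.Agent.Lib.helper7

universe u

theorem bd2blkcj_cjSet_eq {G : Type u} [Group G] (H : Subgroup G)
    {n : G} (hn : n ∈ Subgroup.normalizer (H : Set G)) (b : Set (Cfsg.IrrCharacter H)) :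
    cjSet H n b =
      Cfsg.Agent.Lib.Helper24.bt_trb (H.normalizerMonoidHom ⟨n, hn⟩).symm b := by
  ext ξ
  unfold cjSet
  rw [Cfsg.Agent.Lib.Helper24.bt_mem_trb']
  constructor
  · rintro ⟨η, hη, rfl⟩
    rw [cjIrr_of_mem H hn, Cfsg.Agent.Lib.Helper24.bt_tr_symm_tr]
    exact hη
  · intro h
    refine ⟨_, h, ?_⟩
    rw [cjIrr_of_mem H hn]
    exact Cfsg.Agent.Lib.Helper24.bt_tr_tr_symm (H.normalizerMonoidHom ⟨n, hn⟩).symm ξ

variable {M : Ideal Cfsg.AlgInt}

theorem isPBlock_cjSet {G : Type u} [Group G] [Finite G] (H : Subgroup G)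
    {n : G} (hn : n ∈ Subgroup.normalizer (H : Set G)) (b : Set (Cfsg.IrrCharacter H))
    (hb : Cfsg.IsPBlock M b) : Cfsg.IsPBlock M (cjSet H n b) := by
  rw [bd2blkcj_cjSet_eq H hn b]
  exact Cfsg.Agent.Lib.Helper24.bt_trb_isPBlock _ b hb

end Cfsg.Agent.Lib.helper7.BD
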