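import Mathlib
import Cfsg.Agent.Lib.helper7.BD.D1Defs
import Cfsg.Agent.Lib.helper7.Br.Defs

set_option autoImplicit false
set_option linter.unusedVariables false
set_option linter.unusedSectionVars false
set_option linter.style.haveILetI false

namespace Cfsg.Agent.Lib.helper7.BD

open Cfsg.Agent.Lib.helper7 Cfsg.Agent.Lib.helper7.Br

universe u

theorem bd2idcj_cjIrr_injective {G : Type u} [Group G] (H : Subgroup G)
    {n : G} (hn : n ∈ Subgroup.normalizer (H : Set G)) :
    Function.Injective (cjIrr H n) := by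
  intro ξ ξ' h
  apply Subtype.ext
  funext k
  set k' : H := (H.normalizerMonoidHom ⟨n, hn⟩) k with hk'
  have hkk : (k' : G) = n * (k : G) * n⁻¹ := rfl
  rw [← cjIrr_conj H hn ξ k k' hkk, ← cjIrr_conj H hn ξ' k k' hkk, h]

theorem bd2idcj_blockCoeff {G : Type u} [Group G] (H : Subgroup G)
    {n : G} (hn : n ∈ Subgroup.normalizer (H : Set G)) (b : Set (Cfsg.IrrCharacter H)) (x x' : ↥H)
    (hx : (x' : G) = n * (x : G) * n⁻¹) :
    Cfsg.blockCoeff (cjSet H n b) x' = Cfsg.blockCoeff b x := by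
  unfold Cfsg.blockCoeff cjSet
  rw [finsum_mem_image ((bd2idcj_cjIrr_injective H hn).injOn)]
  congr 1
  refine finsum_congr fun ξ => ?_
  refine finsum_congr fun _ => ?_
  rw [cjIrr_conj H hn ξ x x' hx, cjIrr_conj H hn ξ 1 1 (by simp)]

variable {M : Ideal Cfsg.AlgInt}

theorem eBar_cjSet {G : Type u} [Group G] [Fintype G] (hMp : M.IsPrime) (H : Subgroup G) [Fintype ↥H]
    {n : G} (hn : n ∈ Subgroup.normalizer (H : Set G)) (b : Set (Cfsg.IrrCharacter H)) (x x' : ↥H)
    (hx : (x' : G) = n * (x : G) * n⁻¹) : eBar hMp (cjSet H n b) x' = eBar hMp b x := by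
  rw [eBar_apply, eBar_apply, bd2idcj_blockCoeff H hn b x x' hx]

end Cfsg.Agent.Lib.helper7.BD
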