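import Mathlib
import Cfsg.Agent.Lib.helper7.BD.Defs
import Cfsg.Agent.Lib.Helper11.BDFIX

set_option autoImplicit false
set_option linter.unusedVariables false
set_option linter.unusedSectionVars false
set_option linter.style.haveILetI false

namespace Cfsg.Agent.Lib.helper7.BD

universe u v w

theorem sylow_trivial_of_irreducible {F : Type*} [Field F] {G : Type u} [Group G] [Fintype G]
    {p : ℕ} [Fact p.Prime] [CharP F p] {P N : Subgroup G} (h : TISetup p P N)
    {S : Type w} [AddCommGroup S] [Module F S] (σ : Representation F ↥N S) [σ.IsIrreducible]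
    (x : ↥N) (hx : (x : G) ∈ P) : σ x = LinearMap.id := by
  classical
  haveI : Fintype ↥N := Fintype.ofFinite _
  have hp : p.Prime := Fact.out
  have hxp : x ^ p = 1 := by
    apply Subtype.ext
    rw [Subgroup.coe_pow, Subgroup.coe_one]
    have h1 : (⟨(x : G), hx⟩ : P) ^ p = 1 := by
      rw [← h.card_P]
      exact pow_card_eq_one'
    have h2 := congrArg (fun y : P => (y : G)) h1
    simpa using h2
  refine trivial_of_irreducible (p := p) x hxp ?_ σ
  intro g
  by_cases hx1 : x = 1
  · refine ⟨0, ?_⟩
    rw [hx1]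
    simp
  · have hconj : (g : G) * (x : G) * (g : G)⁻¹ ∈ P := h.normal g g.2 x hx
    have hx1' : (⟨(x : G), hx⟩ : P) ≠ 1 := by
      intro h0
      apply hx1
      apply Subtype.ext
      have := congrArg (fun y : P => (y : G)) h0
      simpa using this
    haveI : Fact (Nat.card P).Prime := ⟨by rw [h.card_P]; exact hp⟩
    have htop : Subgroup.zpowers (⟨(x : G), hx⟩ : P) = ⊤ :=
      zpowers_eq_top_of_prime_card (by rw [h.card_P]) hx1'
    have hmem : (⟨(g : G) * (x : G) * (g : G)⁻¹, hconj⟩ : P) ∈
        Subgroup.zpowers (⟨(x : G), hx⟩ : P) := by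
      rw [htop]
      exact Subgroup.mem_top _
    haveI : Finite P := inferInstance
    rw [← mem_powers_iff_mem_zpowers] at hmem
    obtain ⟨k, hk⟩ := hmem
    refine ⟨k, ?_⟩
    apply Subtype.ext
    have h2 := congrArg (fun y : P => (y : G)) hk
    simp only [Subgroup.coe_pow] at h2
    simp only [Subgroup.coe_mul, Subgroup.coe_inv, Subgroup.coe_pow]
    exact h2.symm

end Cfsg.Agent.Lib.helper7.BD
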