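import Mathlib
import Cfsg.Agent.Lib.helper7.BD.Defs
import Cfsg.Agent.Lib.helper7.BD.D1Defs
import Cfsg.Agent.Lib.Helper10.BDCHARS
import Cfsg.Agent.Lib.Helper24.CyclicInertial3
import Cfsg.Agent.S0968

set_option autoImplicit false
set_option linter.unusedVariables false
set_option linter.unusedSectionVars false
set_option linter.style.haveILetI false

namespace Cfsg.Agent.Lib.helper7.BD

universe u

theorem bd3cardb_card_conjClasses {A : Type*} [Group A] (hcomm : ∀ a b : A, a * b = b * a) :
    Nat.card (ConjClasses A) = Nat.card A := by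
  symm
  refine Nat.card_congr (Equiv.ofBijective ConjClasses.mk ⟨?_, ConjClasses.mk_surjective⟩)
  intro a b hab
  rw [ConjClasses.mk_eq_mk_iff_isConj, isConj_iff] at hab
  obtain ⟨c, hc⟩ := hab
  rw [← hc, hcomm c a, mul_inv_cancel_right]

section loc

variable {G : Type u} [Group G] [Fintype G] {M : Ideal Cfsg.AlgInt} {p : ℕ} [Fact p.Prime]
  {P : Sylow p G} {B : Set (Cfsg.IrrCharacter G)}
  {b : Set (Cfsg.IrrCharacter (Subgroup.centralizer ((P : Subgroup G) : Set G)))}
  {θ : Cfsg.IrrCharacter (Subgroup.centralizer ((P : Subgroup G) : Set G))} {T : Subgroup G}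

theorem root_card_b (h : RootHyp p M P B b θ T) : Nat.card b = p := by
  have hPC : (P : Subgroup G) ≤ Subgroup.centralizer ((P : Subgroup G) : Set G) :=
    bdchars_le_centralizer (P : Subgroup G) h.card_P
  have hPg : IsPGroup p (P : Subgroup G) := P.isPGroup'
  have hD : Cfsg.IsDefectGroup p M b
      ((P : Subgroup G).subgroupOf (Subgroup.centralizer ((P : Subgroup G) : Set G))) :=
    Cfsg.Agent.Lib.Helper24.ci_defect h.hM B (P : Subgroup G) h.hBP hPg
      (Subgroup.centralizer ((P : Subgroup G) : Set G)) hPC le_rfl b h.hind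
  have hP' : IsPGroup p
      ((P : Subgroup G).subgroupOf (Subgroup.centralizer ((P : Subgroup G) : Set G))) :=
    hPg.comap_subtype
  have hcen : Subgroup.centralizer
      (((P : Subgroup G).subgroupOf (Subgroup.centralizer ((P : Subgroup G) : Set G)) :
        Subgroup ↥(Subgroup.centralizer ((P : Subgroup G) : Set G))) :
          Set ↥(Subgroup.centralizer ((P : Subgroup G) : Set G))) = ⊤ := by
    rw [eq_top_iff]
    intro c _
    rw [Subgroup.mem_centralizer_iff]
    intro y hy
    have hy' : (y : G) ∈ (P : Subgroup G) := hy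
    have hc := c.2
    rw [Subgroup.mem_centralizer_iff] at hc
    apply Subtype.ext
    exact hc (y : G) hy'
  have hG' : (P : Subgroup G).subgroupOf (Subgroup.centralizer ((P : Subgroup G) : Set G)) ⊔
      Subgroup.centralizer
        (((P : Subgroup G).subgroupOf (Subgroup.centralizer ((P : Subgroup G) : Set G)) :
          Subgroup ↥(Subgroup.centralizer ((P : Subgroup G) : Set G))) :
            Set ↥(Subgroup.centralizer ((P : Subgroup G) : Set G))) = ⊤ := by
    rw [hcen, sup_top_eq]
  obtain ⟨-, -, hcard⟩ := Cfsg.Agent.S0968.result p M h.hM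
    ((P : Subgroup G).subgroupOf (Subgroup.centralizer ((P : Subgroup G) : Set G))) hP' hG' b
    h.hind.1 hD
  rw [hcard, bd3cardb_card_conjClasses, Nat.card_congr (Subgroup.subgroupOfEquivOfLe hPC).toEquiv]
  · exact h.card_P
  · intro x y
    have hx : (x : ↥(Subgroup.centralizer ((P : Subgroup G) : Set G))) ∈
        Subgroup.centralizer
          (((P : Subgroup G).subgroupOf (Subgroup.centralizer ((P : Subgroup G) : Set G)) :
            Subgroup ↥(Subgroup.centralizer ((P : Subgroup G) : Set G))) :
              Set ↥(Subgroup.centralizer ((P : Subgroup G) : Set G))) := by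
      rw [hcen]
      exact Subgroup.mem_top _
    rw [Subgroup.mem_centralizer_iff] at hx
    apply Subtype.ext
    exact (hx (y : ↥(Subgroup.centralizer ((P : Subgroup G) : Set G))) y.2).symm

end loc

end Cfsg.Agent.Lib.helper7.BD
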