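import Mathlib
import Cfsg.Agent.Lib.helper7.BD.Defs
import Cfsg.Agent.Lib.helper7.BD.D1Defs
import Cfsg.Agent.Lib.helper7.BD.D1Defs2
import Cfsg.Agent.Lib.helper7.ExtUnique
import Cfsg.Agent.Lib.helper7.BlockOsima
import Cfsg.Agent.Lib.helper7.BlockEval
import Cfsg.Agent.Lib.helper2.PModular
import Cfsg.Agent.Lib.Helper25.CharOrth
import Cfsg.Agent.Lib.Helper10.BDCHARS
import Cfsg.Agent.Lib.Helper1.BD3CARDB

set_option autoImplicit false
set_option linter.unusedVariables false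
set_option linter.unusedSectionVars false
set_option linter.style.haveILetI false

namespace Cfsg.Agent.Lib.helper7.BD

open Cfsg.Agent.Lib.helper7

universe u

theorem bd3blk_twist_isIrr {H : Type u} [Group H] (β : H →* ℂˣ) (θ : Cfsg.IrrCharacter H) :
    Cfsg.IsIrrCharacter H (fun c => ((β c : ℂˣ) : ℂ) * (θ : H → ℂ) c) := by
  obtain ⟨n, ρ, hρ, hχ⟩ := θ.2
  haveI := hρ
  refine ⟨n, h7_twist β ρ, h7_twist_irr β ρ, ?_⟩
  funext c
  rw [h7_twist_character, hχ]

theorem bd3blk_sameBlock {H : Type u} [Group H] [Finite H] {M : Ideal Cfsg.AlgInt} {p : ℕ}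
    (hM : Cfsg.IsPModular p M) (β : H →* ℂˣ) (hβ : ∀ c : H, β c ^ p = 1)
    (θ : Cfsg.IrrCharacter H) :
    Cfsg.SameBlock M (θ : H → ℂ) (fun c => ((β c : ℂˣ) : ℂ) * (θ : H → ℂ) c) := by
  have hMp : M.IsPrime := hM.2.1.isPrime
  intro c
  have h1 : Cfsg.centralChar (fun c => ((β c : ℂˣ) : ℂ) * (θ : H → ℂ) c) c =
      ((β c : ℂˣ) : ℂ) * Cfsg.centralChar (θ : H → ℂ) c := by
    unfold Cfsg.centralChar
    simp only [map_one, Units.val_one, one_mul]
    ring
  have hpow : ((β c : ℂˣ) : ℂ) ^ p ^ 1 = 1 := by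
    rw [pow_one, ← Units.val_pow_eq_pow_val, hβ c, Units.val_one]
  have hint : IsIntegral ℤ ((β c : ℂˣ) : ℂ) := by
    refine IsIntegral.of_pow hM.1.pos ?_
    rw [pow_one] at hpow
    rw [hpow]
    exact isIntegral_one
  have h2 : (⟨((β c : ℂˣ) : ℂ), hint⟩ : Cfsg.AlgInt) - 1 ∈ M := by
    refine Cfsg.Agent.Lib.helper2.ppow_root_sub_one_mem hM _ 1 ?_
    apply Subtype.ext
    simpa using hpow
  have h3 : Cfsg.MemLocalIdeal M (((β c : ℂˣ) : ℂ) - 1) := by
    have := h7_memLocalIdeal_of_mem hMp h2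
    simpa using this
  have h4 := h7_memLocalIdeal_neg (h7_memLocalIdeal_mul_left hMp
    (h7_memLocalRing_centralChar hMp θ c) h3)
  rw [h1]
  have h5 : Cfsg.centralChar (θ : H → ℂ) c - ((β c : ℂˣ) : ℂ) * Cfsg.centralChar (θ : H → ℂ) c =
      -(Cfsg.centralChar (θ : H → ℂ) c * (((β c : ℂˣ) : ℂ) - 1)) := by ring
  rw [h5]
  exact h4

section loc

variable {G : Type u} [Group G] [Fintype G] {M : Ideal Cfsg.AlgInt} {p : ℕ} [Fact p.Prime]
  {P : Sylow p G} {B : Set (Cfsg.IrrCharacter G)}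
  {b : Set (Cfsg.IrrCharacter (Subgroup.centralizer ((P : Subgroup G) : Set G)))}
  {θ : Cfsg.IrrCharacter (Subgroup.centralizer ((P : Subgroup G) : Set G))} {T : Subgroup G}

theorem root_block_param (h : RootHyp p M P B b θ T)
    (Λ : ↥(Subgroup.centralizer ((P : Subgroup G) : Set G)) →* ℂˣ)
    (hΛ1 : ∀ c : ↥(Subgroup.centralizer ((P : Subgroup G) : Set G)), ¬ p ∣ orderOf c → Λ c = 1)
    (hΛ2 : ∀ c : ↥(Subgroup.centralizer ((P : Subgroup G) : Set G)), (c : G) ∈ (P : Subgroup G) →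
      c ≠ 1 → Λ c ≠ 1)
    (hΛ3 : ∀ c : ↥(Subgroup.centralizer ((P : Subgroup G) : Set G)), Λ c ^ p = 1) :
    ∃ ξ : Fin p → Cfsg.IrrCharacter (Subgroup.centralizer ((P : Subgroup G) : Set G)),
      Function.Injective ξ ∧ Set.range ξ = b ∧
      ∀ (a : Fin p) (c : ↥(Subgroup.centralizer ((P : Subgroup G) : Set G))),
        (ξ a : ↥(Subgroup.centralizer ((P : Subgroup G) : Set G)) → ℂ) c =
          ((Λ c : ℂˣ) : ℂ) ^ (a : ℕ) *
            (θ : ↥(Subgroup.centralizer ((P : Subgroup G) : Set G)) → ℂ) c := by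
  classical
  have hp : p.Prime := Fact.out
  have hM := h.hM
  have hMp : M.IsPrime := hM.2.1.isPrime
  haveI : Fintype ↥(Subgroup.centralizer ((P : Subgroup G) : Set G)) := Fintype.ofFinite _
  haveI : Fintype (Cfsg.IrrCharacter ↥(Subgroup.centralizer ((P : Subgroup G) : Set G))) :=
    Fintype.ofFinite _
  have hPC : (P : Subgroup G) ≤ Subgroup.centralizer ((P : Subgroup G) : Set G) :=
    bdchars_le_centralizer (P : Subgroup G) h.card_P
  set ξ : Fin p → Cfsg.IrrCharacter (Subgroup.centralizer ((P : Subgroup G) : Set G)) :=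
    fun a => ⟨fun c => (((Λ ^ (a : ℕ)) c : ℂˣ) : ℂ) *
      (θ : ↥(Subgroup.centralizer ((P : Subgroup G) : Set G)) → ℂ) c,
      bd3blk_twist_isIrr (Λ ^ (a : ℕ)) θ⟩ with hξ
  have hξv : ∀ (a : Fin p) (c : ↥(Subgroup.centralizer ((P : Subgroup G) : Set G))),
      (ξ a : ↥(Subgroup.centralizer ((P : Subgroup G) : Set G)) → ℂ) c =
        ((Λ c : ℂˣ) : ℂ) ^ (a : ℕ) *
          (θ : ↥(Subgroup.centralizer ((P : Subgroup G) : Set G)) → ℂ) c := by
    intro a c
    show (((Λ ^ (a : ℕ)) c : ℂˣ) : ℂ) * _ = _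
    rw [MonoidHom.pow_apply, Units.val_pow_eq_pow_val]
  have hinj : Function.Injective ξ := by
    intro a a' haa
    have hnt : Nontrivial (P : Subgroup G) := by
      rw [← Finite.one_lt_card_iff_nontrivial, h.card_P]
      exact hp.one_lt
    obtain ⟨x, hx⟩ := exists_ne (1 : (P : Subgroup G))
    set xC : ↥(Subgroup.centralizer ((P : Subgroup G) : Set G)) := ⟨(x : G), hPC x.2⟩ with hxC
    have hxC1 : xC ≠ 1 := by
      intro h0
      apply hx
      apply Subtype.ext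
      have := congrArg (fun y : ↥(Subgroup.centralizer ((P : Subgroup G) : Set G)) => (y : G)) h0
      simpa [hxC] using this
    have hΛx : Λ xC ≠ 1 := hΛ2 xC x.2 hxC1
    have hord : orderOf (Λ xC) = p := orderOf_eq_prime (hΛ3 xC) hΛx
    have h1 := congrArg (fun η : Cfsg.IrrCharacter (Subgroup.centralizer ((P : Subgroup G) : Set G)) =>
      (η : ↥(Subgroup.centralizer ((P : Subgroup G) : Set G)) → ℂ) xC) haa
    simp only [hξv] at h1
    have h2 := mul_right_cancel₀ (by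
      rw [h.hθP xC x.2]
      exact Cfsg.Agent.Lib.Helper25.irr_one_ne_zero θ) h1
    have h3 : Λ xC ^ (a : ℕ) = Λ xC ^ (a' : ℕ) := by
      apply Units.ext
      rw [Units.val_pow_eq_pow_val, Units.val_pow_eq_pow_val]
      exact h2
    rw [pow_eq_pow_iff_modEq, hord] at h3
    apply Fin.ext
    have h4 := h3
    unfold Nat.ModEq at h4
    rw [Nat.mod_eq_of_lt a.2, Nat.mod_eq_of_lt a'.2] at h4
    exact h4
  have hsub : Set.range ξ ⊆ b := by
    rintro _ ⟨a, rfl⟩
    obtain ⟨θ₀, hθ₀⟩ := h.hind.1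
    have h1 : Cfsg.SameBlock M (θ₀ : ↥(Subgroup.centralizer ((P : Subgroup G) : Set G)) → ℂ)
        (θ : ↥(Subgroup.centralizer ((P : Subgroup G) : Set G)) → ℂ) := by
      have := h.hθ
      rw [hθ₀] at this
      exact this
    have h2 := bd3blk_sameBlock hM (Λ ^ (a : ℕ)) (fun c => by
      rw [MonoidHom.pow_apply, ← pow_mul, mul_comm, pow_mul, hΛ3, one_pow]) θ
    rw [hθ₀]
    exact h7_sameBlock_trans hMp h1 h2
  refine ⟨ξ, hinj, ?_, hξv⟩
  have hfin : b.Finite := Set.toFinite b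
  apply Set.eq_of_subset_of_ncard_le hsub _ hfin
  rw [Set.ncard_range_of_injective hinj, Nat.card_fin, ← Nat.card_coe_set_eq, root_card_b h]

end loc

end Cfsg.Agent.Lib.helper7.BD
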