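import Mathlib
import Cfsg.Agent.Lib.helper7.BD.Defs
import Cfsg.Agent.Lib.helper7.BD.D1Defs
import Cfsg.Agent.Lib.helper7.BD.D1Defs2
import Cfsg.Agent.Lib.Helper24.CyclicInertial3
import Cfsg.Agent.Lib.Helper1.BD3BLK

set_option autoImplicit false
set_option linter.unusedVariables false
set_option linter.unusedSectionVars false
set_option linter.style.haveILetI false

namespace Cfsg.Agent.Lib.helper7.BD

open Cfsg.Agent.Lib.helper7

universe u

section loc

variable {G : Type u} [Group G] [Fintype G] {M : Ideal Cfsg.AlgInt} {p : ℕ} [Fact p.Prime]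
  {P : Sylow p G} {B : Set (Cfsg.IrrCharacter G)}
  {b : Set (Cfsg.IrrCharacter (Subgroup.centralizer ((P : Subgroup G) : Set G)))}
  {θ : Cfsg.IrrCharacter (Subgroup.centralizer ((P : Subgroup G) : Set G))} {T : Subgroup G}

theorem bd3facts_pow_ne_one
    (Λ : ↥(Subgroup.centralizer ((P : Subgroup G) : Set G)) →* ℂˣ)
    (hΛ2 : ∀ c : ↥(Subgroup.centralizer ((P : Subgroup G) : Set G)), (c : G) ∈ (P : Subgroup G) →
      c ≠ 1 → Λ c ≠ 1)
    (hΛ3 : ∀ c : ↥(Subgroup.centralizer ((P : Subgroup G) : Set G)), Λ c ^ p = 1)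
    (y : ↥(Subgroup.centralizer ((P : Subgroup G) : Set G))) (hy : (y : G) ∈ (P : Subgroup G))
    (a : ℕ) (ha0 : 0 < a) (hap : a < p) (hpow : Λ y ^ a = 1) : y = 1 := by
  have hp : p.Prime := Fact.out
  by_contra hy1
  have h1 : Λ y ≠ 1 := hΛ2 y hy hy1
  have hord : orderOf (Λ y) = p := orderOf_eq_prime (hΛ3 y) h1
  have h2 := orderOf_dvd_of_pow_eq_one hpow
  rw [hord] at h2
  exact absurd (Nat.le_of_dvd ha0 h2) (by omega)

theorem bd3facts_param (h : RootHyp p M P B b θ T)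
    (Λ : ↥(Subgroup.centralizer ((P : Subgroup G) : Set G)) →* ℂˣ)
    (hΛ1 : ∀ c : ↥(Subgroup.centralizer ((P : Subgroup G) : Set G)), ¬ p ∣ orderOf c → Λ c = 1)
    (hΛ2 : ∀ c : ↥(Subgroup.centralizer ((P : Subgroup G) : Set G)), (c : G) ∈ (P : Subgroup G) →
      c ≠ 1 → Λ c ≠ 1)
    (hΛ3 : ∀ c : ↥(Subgroup.centralizer ((P : Subgroup G) : Set G)), Λ c ^ p = 1)
    (ξ : Cfsg.IrrCharacter (Subgroup.centralizer ((P : Subgroup G) : Set G))) (hξ : ξ ∈ b) :
    ∃ a : ℕ, a < p ∧ (ξ ≠ θ → 0 < a) ∧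
      ∀ c : ↥(Subgroup.centralizer ((P : Subgroup G) : Set G)),
        (ξ : ↥(Subgroup.centralizer ((P : Subgroup G) : Set G)) → ℂ) c =
          ((Λ c : ℂˣ) : ℂ) ^ a *
            (θ : ↥(Subgroup.centralizer ((P : Subgroup G) : Set G)) → ℂ) c := by
  obtain ⟨ξs, hinj, hrange, hval⟩ := root_block_param h Λ hΛ1 hΛ2 hΛ3
  rw [← hrange] at hξ
  obtain ⟨a, rfl⟩ := hξ
  refine ⟨(a : ℕ), a.2, ?_, hval a⟩
  intro hne
  by_contra h0
  have ha0 : (a : ℕ) = 0 := by omega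
  apply hne
  apply Subtype.ext
  funext c
  rw [hval a c, ha0, pow_zero, one_mul]

theorem bd3facts_core (h : RootHyp p M P B b θ T)
    (Λ : ↥(Subgroup.centralizer ((P : Subgroup G) : Set G)) →* ℂˣ)
    (hΛ1 : ∀ c : ↥(Subgroup.centralizer ((P : Subgroup G) : Set G)), ¬ p ∣ orderOf c → Λ c = 1)
    (hΛ2 : ∀ c : ↥(Subgroup.centralizer ((P : Subgroup G) : Set G)), (c : G) ∈ (P : Subgroup G) →
      c ≠ 1 → Λ c ≠ 1)
    (hΛ3 : ∀ c : ↥(Subgroup.centralizer ((P : Subgroup G) : Set G)), Λ c ^ p = 1) :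
    Nat.card b = p ∧
    (∀ ξ ∈ b, (ξ : ↥(Subgroup.centralizer ((P : Subgroup G) : Set G)) → ℂ) 1 =
      (θ : ↥(Subgroup.centralizer ((P : Subgroup G) : Set G)) → ℂ) 1) ∧
    (∀ ξ ∈ b, ∀ c : ↥(Subgroup.centralizer ((P : Subgroup G) : Set G)), ¬ p ∣ orderOf c →
      (ξ : ↥(Subgroup.centralizer ((P : Subgroup G) : Set G)) → ℂ) c =
        (θ : ↥(Subgroup.centralizer ((P : Subgroup G) : Set G)) → ℂ) c) ∧
    (∀ ξ ∈ b, ξ ≠ θ →
      ∑ᶠ x ∈ {x : ↥(Subgroup.centralizer ((P : Subgroup G) : Set G)) | (x : G) ∈ (P : Subgroup G)},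
        (ξ : ↥(Subgroup.centralizer ((P : Subgroup G) : Set G)) → ℂ) x = 0) := by
  have hp : p.Prime := Fact.out
  have hPC : (P : Subgroup G) ≤ Subgroup.centralizer ((P : Subgroup G) : Set G) :=
    bdchars_le_centralizer (P : Subgroup G) h.card_P
  refine ⟨root_card_b h, ?_, ?_, ?_⟩
  · intro ξ hξ
    obtain ⟨a, -, -, hval⟩ := bd3facts_param h Λ hΛ1 hΛ2 hΛ3 ξ hξ
    rw [hval, map_one, Units.val_one, one_pow, one_mul]
  · intro ξ hξ c hc
    obtain ⟨a, -, -, hval⟩ := bd3facts_param h Λ hΛ1 hΛ2 hΛ3 ξ hξ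
    rw [hval, hΛ1 c hc, Units.val_one, one_pow, one_mul]
  · intro ξ hξ hne
    obtain ⟨a, hap, ha0, hval⟩ := bd3facts_param h Λ hΛ1 hΛ2 hΛ3 ξ hξ
    have ha0' := ha0 hne
    have hnt : Nontrivial (P : Subgroup G) := by
      rw [← Finite.one_lt_card_iff_nontrivial, h.card_P]
      exact hp.one_lt
    obtain ⟨x, hx⟩ := exists_ne (1 : (P : Subgroup G))
    set x₀ : ↥(Subgroup.centralizer ((P : Subgroup G) : Set G)) := ⟨(x : G), hPC x.2⟩ with hx₀
    have hx₀1 : x₀ ≠ 1 := by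
      intro h0
      apply hx
      apply Subtype.ext
      have := congrArg (fun y : ↥(Subgroup.centralizer ((P : Subgroup G) : Set G)) => (y : G)) h0
      simpa [hx₀] using this
    have hφ0 : ((Λ x₀ : ℂˣ) : ℂ) ^ a ≠ 1 := by
      intro h0
      apply hx₀1
      refine bd3facts_pow_ne_one Λ hΛ2 hΛ3 x₀ x.2 a ha0' hap ?_
      apply Units.ext
      rw [Units.val_pow_eq_pow_val, Units.val_one]
      exact h0
    set S : Set ↥(Subgroup.centralizer ((P : Subgroup G) : Set G)) :=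
      {x : ↥(Subgroup.centralizer ((P : Subgroup G) : Set G)) | (x : G) ∈ (P : Subgroup G)} with hS
    have hSfin : S.Finite := Set.toFinite S
    have hmul : ∀ y ∈ S, (ξ : ↥(Subgroup.centralizer ((P : Subgroup G) : Set G)) → ℂ) (x₀ * y) =
        ((Λ x₀ : ℂˣ) : ℂ) ^ a *
          (ξ : ↥(Subgroup.centralizer ((P : Subgroup G) : Set G)) → ℂ) y := by
      intro y hy
      have hy' : (y : G) ∈ (P : Subgroup G) := hy
      have hxy : ((x₀ * y : ↥(Subgroup.centralizer ((P : Subgroup G) : Set G))) : G) ∈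
          (P : Subgroup G) := by
        rw [Subgroup.coe_mul]
        exact (P : Subgroup G).mul_mem x.2 hy'
      rw [hval, hval, h.hθP _ hxy, h.hθP _ hy', map_mul, Units.val_mul, mul_pow]
      ring
    have hbij : Set.BijOn (fun y : ↥(Subgroup.centralizer ((P : Subgroup G) : Set G)) => x₀ * y)
        S S := by
      refine ⟨?_, ?_, ?_⟩
      · intro y hy
        have hy' : (y : G) ∈ (P : Subgroup G) := hy
        show ((x₀ * y : ↥(Subgroup.centralizer ((P : Subgroup G) : Set G))) : G) ∈ (P : Subgroup G)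
        rw [Subgroup.coe_mul]
        exact (P : Subgroup G).mul_mem x.2 hy'
      · intro y _ y' _ hyy
        exact mul_left_cancel hyy
      · intro y hy
        have hy' : (y : G) ∈ (P : Subgroup G) := hy
        refine ⟨x₀⁻¹ * y, ?_, by simp⟩
        show ((x₀⁻¹ * y : ↥(Subgroup.centralizer ((P : Subgroup G) : Set G))) : G) ∈
          (P : Subgroup G)
        rw [Subgroup.coe_mul, Subgroup.coe_inv]
        exact (P : Subgroup G).mul_mem ((P : Subgroup G).inv_mem x.2) hy'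
    have h1 : ((Λ x₀ : ℂˣ) : ℂ) ^ a *
        ∑ᶠ y ∈ S, (ξ : ↥(Subgroup.centralizer ((P : Subgroup G) : Set G)) → ℂ) y =
        ∑ᶠ y ∈ S, (ξ : ↥(Subgroup.centralizer ((P : Subgroup G) : Set G)) → ℂ) y := by
      rw [mul_finsum_mem]
      exact finsum_mem_eq_of_bijOn _ hbij (fun y hy => (hmul y hy).symm)
    have h2 : (((Λ x₀ : ℂˣ) : ℂ) ^ a - 1) *
        ∑ᶠ y ∈ S, (ξ : ↥(Subgroup.centralizer ((P : Subgroup G) : Set G)) → ℂ) y = 0 := by
      rw [sub_mul, one_mul, h1, sub_self]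
    rcases mul_eq_zero.mp h2 with h3 | h3
    · exact absurd (sub_eq_zero.mp h3) hφ0
    · exact h3

end loc

end Cfsg.Agent.Lib.helper7.BD
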