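import Mathlib
import Cfsg.Agent.Lib.helper7.BD.Defs
import Cfsg.Agent.Lib.helper7.BD.D1Defs
import Cfsg.Agent.Lib.helper7.BD.D1Defs2
import Cfsg.Agent.Lib.Helper27.BD3LAM
import Cfsg.Agent.Lib.Helper1.BD3FACTSaux

set_option autoImplicit false
set_option linter.unusedVariables false
set_option linter.unusedSectionVars false
set_option linter.style.haveILetI false

namespace Cfsg.Agent.Lib.helper7.BD

open Cfsg.Agent.Lib.helper7

universe u

section loc

variable {G : Type u} [Group G] [Fintype G] {M : Ideal Cfsg.AlgInt} {p : ℕ} [Fact p.Prime]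
  {P : Sylow p G} {B : Set (Cfsg.IrrCharacter G)}
  {b : Set (Cfsg.IrrCharacter (Subgroup.centralizer ((P : Subgroup G) : Set G)))}
  {θ : Cfsg.IrrCharacter (Subgroup.centralizer ((P : Subgroup G) : Set G))} {T : Subgroup G}

theorem root_block_facts (h : RootHyp p M P B b θ T) :
    Nat.card b = p ∧
    (∀ ξ ∈ b, (ξ : ↥(Subgroup.centralizer ((P : Subgroup G) : Set G)) → ℂ) 1 =
      (θ : ↥(Subgroup.centralizer ((P : Subgroup G) : Set G)) → ℂ) 1) ∧
    (∀ ξ ∈ b, ∀ c : ↥(Subgroup.centralizer ((P : Subgroup G) : Set G)), ¬ p ∣ orderOf c →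
      (ξ : ↥(Subgroup.centralizer ((P : Subgroup G) : Set G)) → ℂ) c =
        (θ : ↥(Subgroup.centralizer ((P : Subgroup G) : Set G)) → ℂ) c) ∧
    (∀ ξ ∈ b, ξ ≠ θ →
      ∑ᶠ x ∈ {x : ↥(Subgroup.centralizer ((P : Subgroup G) : Set G)) | (x : G) ∈ (P : Subgroup G)},
        (ξ : ↥(Subgroup.centralizer ((P : Subgroup G) : Set G)) → ℂ) x = 0) := by
  obtain ⟨Λ, hΛ1, hΛ2, hΛ3⟩ := root_exists_Lambda P h.card_P
  exact bd3facts_core h Λ hΛ1 hΛ2 hΛ3

end loc

end Cfsg.Agent.Lib.helper7.BD
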