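import Mathlib
import Cfsg.Agent.Lib.helper7.BD.Defs
import Cfsg.Agent.Lib.helper7.BD.D1Defs
import Cfsg.Agent.Lib.helper7.BD.D1Defs2
import Cfsg.Agent.Lib.Helper24.CyclicInertial3
import Cfsg.Agent.Lib.Helper1.BD3FACTSaux

set_option autoImplicit false
set_option linter.unusedVariables false
set_option linter.unusedSectionVars false
set_option linter.style.haveILetI false

namespace Cfsg.Agent.Lib.helper7.BD

open Cfsg.Agent.Lib.helper7

universe u

section loc

variable {G : Type u} [Group G] [Fintype G] {M : Ideal Cfsg.AlgInt} {p : ℕ} [Fact p.Prime]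
  {P : Sylow p G} {B : Set (Cfsg.IrrCharacter G)}
  {b : Set (Cfsg.IrrCharacter (Subgroup.centralizer ((P : Subgroup G) : Set G)))}
  {θ : Cfsg.IrrCharacter (Subgroup.centralizer ((P : Subgroup G) : Set G))} {T : Subgroup G}

theorem bd3free_core (h : RootHyp p M P B b θ T)
    (Λ : ↥(Subgroup.centralizer ((P : Subgroup G) : Set G)) →* ℂˣ)
    (hΛ1 : ∀ c : ↥(Subgroup.centralizer ((P : Subgroup G) : Set G)), ¬ p ∣ orderOf c → Λ c = 1)
    (hΛ2 : ∀ c : ↥(Subgroup.centralizer ((P : Subgroup G) : Set G)), (c : G) ∈ (P : Subgroup G) →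
      c ≠ 1 → Λ c ≠ 1)
    (hΛ3 : ∀ c : ↥(Subgroup.centralizer ((P : Subgroup G) : Set G)), Λ c ^ p = 1)
    (n : G) (hn : n ∈ T)
    (ξ : Cfsg.IrrCharacter (Subgroup.centralizer ((P : Subgroup G) : Set G))) (hξ : ξ ∈ b)
    (hne : ξ ≠ θ) (hfix : cjIrr (Subgroup.centralizer ((P : Subgroup G) : Set G)) n ξ = ξ) :
    n ∈ Subgroup.centralizer ((P : Subgroup G) : Set G) := by
  have hPC : (P : Subgroup G) ≤ Subgroup.centralizer ((P : Subgroup G) : Set G) :=
    bdchars_le_centralizer (P : Subgroup G) h.card_P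
  obtain ⟨a, hap, ha0, hval⟩ := bd3facts_param h Λ hΛ1 hΛ2 hΛ3 ξ hξ
  have ha0' := ha0 hne
  obtain ⟨hnN, -⟩ := (h.hT n).mp hn
  have hnC : n ∈ Subgroup.normalizer
      ((Subgroup.centralizer ((P : Subgroup G) : Set G) : Subgroup G) : Set G) :=
    Cfsg.Agent.Lib.Helper24.ci_normalizer_le (P : Subgroup G) hnN
  rw [Subgroup.mem_centralizer_iff]
  intro x hx
  have hx' : n * x * n⁻¹ ∈ (P : Subgroup G) := (Subgroup.mem_normalizer_iff.mp hnN x).mp hx
  set xC : ↥(Subgroup.centralizer ((P : Subgroup G) : Set G)) := ⟨x, hPC hx⟩ with hxC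
  set xC' : ↥(Subgroup.centralizer ((P : Subgroup G) : Set G)) := ⟨n * x * n⁻¹, hPC hx'⟩
    with hxC'
  have h1 : (cjIrr (Subgroup.centralizer ((P : Subgroup G) : Set G)) n ξ :
      ↥(Subgroup.centralizer ((P : Subgroup G) : Set G)) → ℂ) xC' =
      (ξ : ↥(Subgroup.centralizer ((P : Subgroup G) : Set G)) → ℂ) xC :=
    cjIrr_conj _ hnC ξ xC xC' rfl
  rw [hfix, hval, hval, h.hθP xC' hx', h.hθP xC hx] at h1
  have h2 := mul_right_cancel₀ (Cfsg.Agent.Lib.Helper25.irr_one_ne_zero θ) h1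
  have h2' : Λ xC' ^ a = Λ xC ^ a := by
    apply Units.ext
    rw [Units.val_pow_eq_pow_val, Units.val_pow_eq_pow_val]
    exact h2
  have h3 : Λ (xC' * xC⁻¹) ^ a = 1 := by
    rw [map_mul, map_inv, mul_pow, inv_pow, h2', mul_inv_cancel]
  have hmem : ((xC' * xC⁻¹ : ↥(Subgroup.centralizer ((P : Subgroup G) : Set G))) : G) ∈
      (P : Subgroup G) := by
    rw [Subgroup.coe_mul, Subgroup.coe_inv]
    exact (P : Subgroup G).mul_mem hx' ((P : Subgroup G).inv_mem hx)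
  have h4 := bd3facts_pow_ne_one Λ hΛ2 hΛ3 (xC' * xC⁻¹) hmem a ha0' hap h3
  have h5 : xC' = xC := by
    rw [mul_inv_eq_one] at h4
    exact h4
  have h6 : n * x * n⁻¹ = x := by
    have := congrArg (fun y : ↥(Subgroup.centralizer ((P : Subgroup G) : Set G)) => (y : G)) h5
    simpa [hxC, hxC'] using this
  rw [mul_inv_eq_iff_eq_mul] at h6
  exact h6.symm

end loc

end Cfsg.Agent.Lib.helper7.BD
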