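import Mathlib
import Cfsg.Agent.Lib.helper7.BD.D1Defs
import Cfsg.Agent.Lib.helper7.BD.D1Defs3
import Cfsg.Agent.Lib.helper7.BlockHom
import Cfsg.Agent.Lib.helper14.BlockSylow
import Cfsg.Agent.Lib.helper14.McKayGen
import Cfsg.Agent.Lib.Helper25.DefectZeroCount
import Cfsg.Agent.S0908
import Cfsg.Agent.S0914

set_option autoImplicit false
set_option linter.unusedVariables false
set_option linter.unusedSectionVars false
set_option linter.style.haveILetI false

namespace Cfsg.Agent.Lib.helper7.BD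

open Cfsg.Agent.Lib.helper7

universe u

section root

variable {G : Type u} [Group G] [Fintype G] {M : Ideal Cfsg.AlgInt} {p : ℕ} [Fact p.Prime]

theorem bd5part_not_dvd (hM : Cfsg.IsPModular p M) (P : Sylow p G) (hP : Nat.card P = p)
    (B : Set (Cfsg.IrrCharacter G)) (hB : Cfsg.IsPBlock M B)
    (hBP : Cfsg.IsDefectGroup p M B (P : Subgroup G)) (χ : Cfsg.IrrCharacter G) (hχ : χ ∈ B) :
    ¬ p ∣ Cfsg.charDegree (χ : G → ℂ) := by
  classical
  intro hd
  haveI : Fintype (Cfsg.IrrCharacter G) := Fintype.ofFinite _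
  have hp : p.Prime := Fact.out
  have hMp : M.IsPrime := hM.2.1.isPrime
  have hfac : (Nat.card G).factorization p = 1 := by
    have h1 : Nat.card (P : Subgroup G) = p ^ (Nat.card G).factorization p :=
      P.card_eq_multiplicity
    rw [hP] at h1
    have h2 : p ^ 1 = p ^ (Nat.card G).factorization p := by rw [pow_one]; exact h1
    exact (Nat.pow_right_injective hp.two_le h2).symm
  have hdvd : Cfsg.charDegree (χ : G → ℂ) ∣ Nat.card G :=
    Cfsg.Agent.Lib.Helper25.charDegree_dvd_card χ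
  have hdpos : 0 < Cfsg.charDegree (χ : G → ℂ) :=
    Cfsg.Agent.Lib.helper14.McKay.charDegree_pos χ
  have hcard0 : Nat.card G ≠ 0 := Nat.card_pos.ne'
  have hq : ¬ p ∣ Nat.card G / Cfsg.charDegree (χ : G → ℂ) := by
    intro h
    have h1 : p * p ∣ Cfsg.charDegree (χ : G → ℂ) * (Nat.card G / Cfsg.charDegree (χ : G → ℂ)) :=
      Nat.mul_dvd_mul hd h
    rw [Nat.mul_div_cancel' hdvd, ← pow_two] at h1
    have h2 := (hp.pow_dvd_iff_le_factorization hcard0).mp h1
    omega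
  have hsing := (Cfsg.Agent.S0914.result p M hM χ).mp hq
  have hBeq : B = {χ} := by
    obtain ⟨χ₀, rfl⟩ := hB
    rw [h7_blockOf_eq_of_mem hMp χ₀ χ hχ, hsing]
  have hdef : Cfsg.blockDefect p B = 0 := by
    unfold Cfsg.blockDefect
    rw [hBeq, Set.image_singleton, csInf_singleton, hfac]
    have h1 : 0 < (Cfsg.charDegree (χ : G → ℂ)).factorization p :=
      hp.factorization_pos_of_dvd hdpos.ne' hd
    omega
  have h1 := Cfsg.Agent.S0908.result p M hM B hB (P : Subgroup G) hBP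
  rw [hdef, pow_zero] at h1
  have h2 : Nat.card (P : Subgroup G) = p := hP
  rw [h1] at h2
  exact hp.one_lt.ne h2

theorem card_pprime_eq_sum_blocks (hM : Cfsg.IsPModular p M) (P : Sylow p G) (hP : Nat.card P = p) :
    Nat.card {χ : Cfsg.IrrCharacter G // ¬ p ∣ Cfsg.charDegree (χ : G → ℂ)} =
      ∑ᶠ B ∈ {B : Set (Cfsg.IrrCharacter G) |
        Cfsg.IsPBlock M B ∧ Cfsg.IsDefectGroup p M B (P : Subgroup G)}, Nat.card B := by
  classical
  haveI : Fintype (Cfsg.IrrCharacter G) := Fintype.ofFinite _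
  have hp : p.Prime := Fact.out
  have hMp : M.IsPrime := hM.2.1.isPrime
  set 𝔅 : Set (Set (Cfsg.IrrCharacter G)) := {B : Set (Cfsg.IrrCharacter G) |
        Cfsg.IsPBlock M B ∧ Cfsg.IsDefectGroup p M B (P : Subgroup G)} with h𝔅
  have h𝔅fin : 𝔅.Finite := Set.toFinite 𝔅
  have hc1 : ∀ B ∈ 𝔅, ∀ χ ∈ B, ¬ p ∣ Cfsg.charDegree (χ : G → ℂ) :=
    fun B hB χ hχ => bd5part_not_dvd hM P hP B hB.1 hB.2 χ hχ
  have hc2 : ∀ χ : Cfsg.IrrCharacter G, ¬ p ∣ Cfsg.charDegree (χ : G → ℂ) →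
      Cfsg.blockOf M (χ : G → ℂ) ∈ 𝔅 := by
    intro χ hχ
    refine ⟨⟨χ, rfl⟩, ?_⟩
    exact Cfsg.Agent.Lib.helper14.sylow_defect_of_coprime_degree p M hM χ
      (Cfsg.charDegree (χ : G → ℂ)) (Cfsg.Agent.Lib.helper14.McKay.irr_one_eq_charDegree χ)
      ((Nat.Prime.coprime_iff_not_dvd hp).mpr hχ).symm P
  have hc3 : ∀ B ∈ 𝔅, ∀ χ : Cfsg.IrrCharacter G, χ ∈ B ↔ Cfsg.blockOf M (χ : G → ℂ) = B := by
    intro B hB χ
    obtain ⟨χ₀, rfl⟩ := hB.1
    constructor
    · intro h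
      exact (h7_blockOf_eq_of_mem hMp χ₀ χ h).symm
    · intro h
      rw [← h]
      exact h7_sameBlock_refl hMp _
  rw [finsum_mem_eq_finite_toFinset_sum _ h𝔅fin, Nat.card_eq_fintype_card, Fintype.card_subtype]
  rw [Finset.card_eq_sum_card_fiberwise (f := fun χ : Cfsg.IrrCharacter G =>
    Cfsg.blockOf M (χ : G → ℂ)) (t := h𝔅fin.toFinset)]
  · refine Finset.sum_congr rfl fun B hB => ?_
    rw [Set.Finite.mem_toFinset] at hB
    rw [Nat.card_eq_fintype_card, ← Set.toFinset_card]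
    congr 1
    ext χ
    simp only [Finset.mem_filter, Finset.mem_univ, true_and, Set.mem_toFinset]
    constructor
    · rintro ⟨_, h2⟩
      exact (hc3 B hB χ).mpr h2
    · intro h
      exact ⟨hc1 B hB χ h, (hc3 B hB χ).mp h⟩
  · intro χ hχ
    rw [Finset.mem_coe, Finset.mem_filter] at hχ
    rw [Finset.mem_coe, Set.Finite.mem_toFinset]
    exact hc2 χ hχ.2

end root

end Cfsg.Agent.Lib.helper7.BD
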