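import Mathlib

set_option autoImplicit false

namespace Cfsg.Agent.Lib.Helper1

open scoped commutatorElement

universe u

section CommHom

variable {P : Type*} [Group P]

theorem commElem_mem_center (hc : commutator P ≤ Subgroup.center P) (g x : P) :
    ⁅g, x⁆ ∈ Subgroup.center P :=
  hc (Subgroup.commutator_mem_commutator (Subgroup.mem_top g) (Subgroup.mem_top x))

def commHom (hc : commutator P ≤ Subgroup.center P) (x : P) : P →* Subgroup.center P :=
  MonoidHom.mk' (fun g => ⟨⁅g, x⁆, commElem_mem_center hc g x⟩) (by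
    intro a b
    apply Subtype.ext
    change ⁅a * b, x⁆ = ⁅a, x⁆ * ⁅b, x⁆
    have h1 : ⁅a * b, x⁆ = a * ⁅b, x⁆ * a⁻¹ * ⁅a, x⁆ := by
      simp only [commutatorElement_def]; group
    have h2 : a * ⁅b, x⁆ = ⁅b, x⁆ * a :=
      (Subgroup.mem_center_iff.mp (commElem_mem_center hc b x)) a
    have h3 : ⁅b, x⁆ * ⁅a, x⁆ = ⁅a, x⁆ * ⁅b, x⁆ :=
      ((Subgroup.mem_center_iff.mp (commElem_mem_center hc b x)) _).symm
    rw [h1, h2, mul_assoc (⁅b, x⁆), mul_inv_cancel, mul_one, h3])

theorem commHom_apply (hc : commutator P ≤ Subgroup.center P) (x g : P) :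
    ((commHom hc x g : Subgroup.center P) : P) = ⁅g, x⁆ := rfl

theorem commHom_eq_one_iff (hc : commutator P ≤ Subgroup.center P) (x g : P) :
    commHom hc x g = 1 ↔ g * x = x * g := by
  rw [← commutatorElement_eq_one_iff_mul_comm]
  constructor
  · intro h
    have := congrArg Subtype.val h
    exact this
  · intro h
    apply Subtype.ext
    exact h

theorem commHom_self (hc : commutator P ≤ Subgroup.center P) (x : P) : commHom hc x x = 1 :=
  (commHom_eq_one_iff hc x x).mpr rfl

end CommHom

theorem class_two_card (p : ℕ) [hp : Fact p.Prime] :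
    ∀ n : ℕ, ∀ (P : Type u) [Group P] [Finite P], Nat.card P = n →
      Nat.card (Subgroup.center P) = p → commutator P ≤ Subgroup.center P →
      ∃ m : ℕ, Nat.card P = p ^ (2 * m + 1) := by
  intro n
  induction n using Nat.strong_induction_on with
  | _ n ih =>
  intro P _ _ hn hZ hc
  by_cases hab : Subgroup.center P = ⊤
  · refine ⟨0, ?_⟩
    rw [hab, Subgroup.card_top] at hZ
    rw [hZ]; simp
  obtain ⟨x, hx⟩ : ∃ x : P, x ∉ Subgroup.center P := by
    by_contra h
    push Not at h
    exact hab (eq_top_iff.mpr (fun g _ => h g))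
  obtain ⟨y, hy⟩ : ∃ y : P, y * x ≠ x * y := by
    by_contra h
    push Not at h
    apply hx
    rw [Subgroup.mem_center_iff]
    exact h
  have hyx : commHom hc x y ≠ 1 := fun h => hy ((commHom_eq_one_iff hc x y).mp h)
  have hxy : commHom hc y x ≠ 1 := fun h => hy ((commHom_eq_one_iff hc y x).mp h).symm
  have hgen : ∀ a : Subgroup.center P, a ≠ 1 → ∀ c : Subgroup.center P, ∃ i : ℕ, c = a ^ i := by
    intro a ha c
    have h1 : Subgroup.zpowers a = ⊤ := zpowers_eq_top_of_prime_card hZ ha
    have h2 : c ∈ Subgroup.zpowers a := by rw [h1]; exact Subgroup.mem_top c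
    rw [← mem_powers_iff_mem_zpowers, Submonoid.mem_powers_iff] at h2
    obtain ⟨i, hi⟩ := h2
    exact ⟨i, hi.symm⟩
  let ψ : P →* Subgroup.center P × Subgroup.center P := (commHom hc x).prod (commHom hc y)
  have hsurj : ∀ t : Subgroup.center P × Subgroup.center P,
      ∃ s ∈ Subgroup.closure ({x, y} : Set P), ψ s = t := by
    rintro ⟨c, d⟩
    obtain ⟨i, hi⟩ := hgen _ hyx c
    obtain ⟨j, hj⟩ := hgen _ hxy d
    have hxS : x ∈ Subgroup.closure ({x, y} : Set P) := Subgroup.subset_closure (by simp)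
    have hyS : y ∈ Subgroup.closure ({x, y} : Set P) := Subgroup.subset_closure (by simp)
    refine ⟨y ^ i * x ^ j, Subgroup.mul_mem _ (Subgroup.pow_mem _ hyS i) (Subgroup.pow_mem _ hxS j), ?_⟩
    change ((commHom hc x) (y ^ i * x ^ j), (commHom hc y) (y ^ i * x ^ j)) = (c, d)
    rw [map_mul, map_mul, map_pow, map_pow, map_pow, map_pow, commHom_self, commHom_self,
      one_pow, one_pow, mul_one, one_mul, hi, hj]
  have hker : ∀ g : P, g ∈ ψ.ker ↔ g * x = x * g ∧ g * y = y * g := by
    intro g
    rw [MonoidHom.mem_ker]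
    change ((commHom hc x) g, (commHom hc y) g) = (1, 1) ↔ _
    rw [Prod.mk.injEq, commHom_eq_one_iff, commHom_eq_one_iff]
  have hidx : ψ.ker.index = p ^ 2 := by
    rw [Subgroup.index_ker]
    have : ψ.range = ⊤ := by
      rw [eq_top_iff]
      intro t _
      obtain ⟨s, -, hs⟩ := hsurj t
      exact ⟨s, hs⟩
    rw [this, Subgroup.card_top, Nat.card_prod, hZ, pow_two]
  have hcenQ : ∀ w : ψ.ker, w ∈ Subgroup.center ψ.ker ↔ (w : P) ∈ Subgroup.center P := by
    intro w
    constructor
    · intro hw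
      rw [Subgroup.mem_center_iff]
      intro g
      obtain ⟨s, hsS, hs⟩ := hsurj (ψ g)
      have hwk := (hker w).mp w.2
      have hsw : s * (w : P) = (w : P) * s := by
        have hle : Subgroup.closure ({x, y} : Set P) ≤ Subgroup.centralizer {(w : P)} := by
          rw [Subgroup.closure_le]
          intro a ha
          apply Subgroup.mem_centralizer_iff.mpr
          intro z hz
          rw [Set.mem_singleton_iff] at hz
          rw [hz]
          rcases ha with rfl | rfl
          · exact hwk.1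
          · exact hwk.2
        have := Subgroup.mem_centralizer_iff.mp (hle hsS) (w : P) (Set.mem_singleton _)
        exact this.symm
      have hq : s⁻¹ * g ∈ ψ.ker := by
        rw [MonoidHom.mem_ker, map_mul, map_inv, hs, inv_mul_cancel]
      have hqw : (s⁻¹ * g) * (w : P) = (w : P) * (s⁻¹ * g) := by
        have := (Subgroup.mem_center_iff.mp hw) ⟨s⁻¹ * g, hq⟩
        exact congrArg Subtype.val this
      calc g * (w : P) = s * ((s⁻¹ * g) * (w : P)) := by group
        _ = s * ((w : P) * (s⁻¹ * g)) := by rw [hqw]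
        _ = (s * (w : P)) * (s⁻¹ * g) := by group
        _ = ((w : P) * s) * (s⁻¹ * g) := by rw [hsw]
        _ = (w : P) * g := by group
    · intro hw
      rw [Subgroup.mem_center_iff]
      intro g
      apply Subtype.ext
      exact (Subgroup.mem_center_iff.mp hw) (g : P)
  have hZle : Subgroup.center P ≤ ψ.ker := by
    intro z hz
    rw [hker]
    have := Subgroup.mem_center_iff.mp hz
    exact ⟨(this x).symm, (this y).symm⟩
  have hZQ : Nat.card (Subgroup.center ψ.ker) = p := by
    rw [← hZ]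
    apply Nat.card_congr
    refine ⟨fun w => ⟨(w : ψ.ker), (hcenQ _).mp w.2⟩,
      fun z => ⟨⟨(z : P), hZle z.2⟩, (hcenQ _).mpr z.2⟩, ?_, ?_⟩
    · intro w; rfl
    · intro z; rfl
  have hcQ : commutator ψ.ker ≤ Subgroup.center ψ.ker := by
    rw [commutator_eq_closure, Subgroup.closure_le]
    rintro _ ⟨a, b, rfl⟩
    change ⁅a, b⁆ ∈ Subgroup.center ψ.ker
    rw [hcenQ]
    exact commElem_mem_center hc (a : P) (b : P)
  have hcard : Nat.card P = Nat.card ψ.ker * p ^ 2 := by
    rw [← hidx, Subgroup.card_mul_index]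
  have hlt : Nat.card ψ.ker < n := by
    rw [← hn, hcard]
    have h1 : 0 < Nat.card ψ.ker := Nat.card_pos
    have h2 : 1 < p ^ 2 := Nat.one_lt_pow (by norm_num) hp.out.one_lt
    nlinarith
  obtain ⟨m, hm⟩ := ih _ hlt ψ.ker rfl hZQ hcQ
  refine ⟨m + 1, ?_⟩
  rw [hcard, hm, ← pow_add]
  congr 1

end Cfsg.Agent.Lib.Helper1
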