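import Mathlib

set_option autoImplicit false

namespace Cfsg.Agent.Lib.Helper1

open scoped commutatorElement

variable {G : Type*} [Group G]

theorem commElem_pow_left_of_central {x y : G} (hc : ⁅x, y⁆ ∈ Subgroup.center G) (n : ℕ) :
    ⁅x ^ n, y⁆ = ⁅x, y⁆ ^ n := by
  induction n with
  | zero => simp
  | succ n ih =>
    have h1 : ⁅x ^ (n + 1), y⁆ = x * ⁅x ^ n, y⁆ * x⁻¹ * ⁅x, y⁆ := by
      rw [commutatorElement_def, commutatorElement_def, commutatorElement_def, pow_succ']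
      group
    have h2 : ⁅x, y⁆ ^ n ∈ Subgroup.center G := Subgroup.pow_mem _ hc n
    rw [Subgroup.mem_center_iff] at h2
    rw [h1, ih, h2 x, mul_inv_cancel_right, pow_succ]

theorem commElem_pow_right_of_central {x y : G} (hc : ⁅x, y⁆ ∈ Subgroup.center G) (n : ℕ) :
    ⁅x, y ^ n⁆ = ⁅x, y⁆ ^ n := by
  have h1 : ⁅y, x⁆ ∈ Subgroup.center G := by
    rw [← commutatorElement_inv]; exact Subgroup.inv_mem _ hc
  have h2 := commElem_pow_left_of_central h1 n
  rw [← commutatorElement_inv, h2, ← commutatorElement_inv x y, inv_pow, inv_inv]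

theorem pow_mul_of_central {x y : G} (hc : ⁅y, x⁆ ∈ Subgroup.center G) (n : ℕ) :
    y ^ n * x = ⁅y, x⁆ ^ n * x * y ^ n := by
  have h1 := commElem_pow_left_of_central hc n
  rw [← h1, commutatorElement_def]
  group

theorem mul_pow_of_central {x y : G} (hc : ⁅y, x⁆ ∈ Subgroup.center G) (n : ℕ) :
    (x * y) ^ n = ⁅y, x⁆ ^ (n.choose 2) * x ^ n * y ^ n := by
  induction n with
  | zero => simp
  | succ n ih =>
    have hz : ∀ (k : ℕ) (g : G), g * ⁅y, x⁆ ^ k = ⁅y, x⁆ ^ k * g := by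
      intro k g
      have := Subgroup.pow_mem _ hc k
      rw [Subgroup.mem_center_iff] at this
      exact this g
    have hch : (n + 1).choose 2 = n.choose 2 + n := by
      rw [Nat.choose_succ_succ' n 1, Nat.choose_one_right, add_comm]
    calc (x * y) ^ (n + 1) = (x * y) ^ n * (x * y) := pow_succ _ _
      _ = ⁅y, x⁆ ^ (n.choose 2) * x ^ n * y ^ n * (x * y) := by rw [ih]
      _ = ⁅y, x⁆ ^ (n.choose 2) * x ^ n * (y ^ n * x) * y := by group
      _ = ⁅y, x⁆ ^ (n.choose 2) * x ^ n * (⁅y, x⁆ ^ n * x * y ^ n) * y := by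
        rw [pow_mul_of_central hc n]
      _ = ⁅y, x⁆ ^ (n.choose 2) * (x ^ n * ⁅y, x⁆ ^ n) * x * y ^ n * y := by group
      _ = ⁅y, x⁆ ^ (n.choose 2) * (⁅y, x⁆ ^ n * x ^ n) * x * y ^ n * y := by rw [hz n (x ^ n)]
      _ = ⁅y, x⁆ ^ (n.choose 2 + n) * (x ^ n * x) * (y ^ n * y) := by rw [pow_add]; group
      _ = ⁅y, x⁆ ^ ((n + 1).choose 2) * x ^ (n + 1) * y ^ (n + 1) := by
        rw [hch, ← pow_succ, ← pow_succ]

theorem commutator_le_center_of_class_two (h2 : ⁅commutator G, (⊤ : Subgroup G)⁆ = ⊥) :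
    commutator G ≤ Subgroup.center G := by
  rw [Subgroup.commutator_eq_bot_iff_le_centralizer, Subgroup.coe_top, Subgroup.centralizer_univ] at h2
  exact h2

theorem commElem_mem_commutator (x y : G) : ⁅x, y⁆ ∈ commutator G := by
  rw [commutator_def]
  exact Subgroup.commutator_mem_commutator (Subgroup.mem_top x) (Subgroup.mem_top y)

theorem mul_pow_prime_eq_one_of_class_two {p : ℕ} (hp : p.Prime) (hp2 : p ≠ 2)
    (hc : commutator G ≤ Subgroup.center G) {x y : G} (hx : x ^ p = 1) (hy : y ^ p = 1) :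
    (x * y) ^ p = 1 := by
  have hcc : ⁅y, x⁆ ∈ Subgroup.center G := hc (commElem_mem_commutator y x)
  rw [mul_pow_of_central hcc, hx, hy, mul_one, mul_one]
  have h1 : ⁅y, x⁆ ^ p = 1 := by
    rw [← commElem_pow_left_of_central hcc, hy]
    simp
  have hodd : Odd p := hp.odd_of_ne_two hp2
  obtain ⟨k, hk⟩ := hodd
  have h2 : p.choose 2 = p * k := by
    rw [Nat.choose_two_right, hk]
    have : (2 * k + 1) * (2 * k + 1 - 1) = 2 * ((2 * k + 1) * k) := by
      rw [Nat.add_sub_cancel]; ring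
    rw [this, Nat.mul_div_cancel_left _ (by norm_num : 0 < 2)]
  rw [h2, pow_mul, h1, one_pow]

theorem pow_prime_eq_one_of_mem_closure {p : ℕ} (hp : p.Prime) (hp2 : p ≠ 2)
    (hc : commutator G ≤ Subgroup.center G) (g : G)
    (hg : g ∈ Subgroup.closure {x : G | x ^ p = 1}) : g ^ p = 1 := by
  induction hg using Subgroup.closure_induction with
  | mem x hx => exact hx
  | one => exact one_pow p
  | mul x y _ _ hx hy => exact mul_pow_prime_eq_one_of_class_two hp hp2 hc hx hy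
  | inv x _ hx => rw [inv_pow, hx, inv_one]

end Cfsg.Agent.Lib.Helper1
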