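import Mathlib
import Cfsg.Agent.Lib.Helper1.Frat
import Cfsg.Agent.Lib.Helper1.Nilp

set_option autoImplicit false

namespace Cfsg.Agent.Lib.Helper1

open scoped commutatorElement

variable {P : Type*} [Group P]

def omegaCenter (p : ℕ) (Q : Type*) [Group Q] : Subgroup Q where
  carrier := {z | z ∈ Subgroup.center Q ∧ z ^ p = 1}
  one_mem' := ⟨Subgroup.one_mem _, one_pow _⟩
  mul_mem' := by
    rintro a b ⟨ha, hap⟩ ⟨hb, hbp⟩
    refine ⟨Subgroup.mul_mem _ ha hb, ?_⟩
    have hcomm : Commute a b := ((Subgroup.mem_center_iff.mp ha) b).symm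
    rw [hcomm.mul_pow, hap, hbp, one_mul]
  inv_mem' := by
    rintro a ⟨ha, hap⟩
    exact ⟨Subgroup.inv_mem _ ha, by rw [inv_pow, hap, inv_one]⟩

theorem mem_omegaCenter (p : ℕ) (Q : Type*) [Group Q] (z : Q) :
    z ∈ omegaCenter p Q ↔ z ∈ Subgroup.center Q ∧ z ^ p = 1 := Iff.rfl

theorem mem_comap_omegaCenter (p : ℕ) (A : Subgroup P) [A.Normal] (x : P) :
    x ∈ (omegaCenter p (P ⧸ A)).comap (QuotientGroup.mk' A) ↔
      (∀ g : P, ⁅x, g⁆ ∈ A) ∧ x ^ p ∈ A := by
  rw [Subgroup.mem_comap, mem_omegaCenter]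
  constructor
  · rintro ⟨h1, h2⟩
    constructor
    · intro g
      rw [← QuotientGroup.eq_one_iff, commutatorElement_def]
      have := (Subgroup.mem_center_iff.mp h1) (QuotientGroup.mk' A g)
      simp only [QuotientGroup.mk'_apply] at this
      simp only [QuotientGroup.mk_mul, QuotientGroup.mk_inv]
      rw [← this]
      group
    · rw [← QuotientGroup.eq_one_iff, QuotientGroup.mk_pow]
      exact h2
  · rintro ⟨h1, h2⟩
    constructor
    · rw [Subgroup.mem_center_iff]
      intro gb
      obtain ⟨g, rfl⟩ := QuotientGroup.mk_surjective gb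
      have h3 := (QuotientGroup.eq_one_iff _).mpr (h1 g)
      rw [commutatorElement_def] at h3
      simp only [QuotientGroup.mk_mul, QuotientGroup.mk_inv] at h3
      simp only [QuotientGroup.mk'_apply]
      have h4 : (x : P ⧸ A) * (g : P ⧸ A) = (g : P ⧸ A) * (x : P ⧸ A) := by
        calc (x : P ⧸ A) * (g : P ⧸ A)
            = ((x : P ⧸ A) * (g : P ⧸ A) * (x : P ⧸ A)⁻¹ * (g : P ⧸ A)⁻¹) * ((g : P ⧸ A) * (x : P ⧸ A)) := by
              group
          _ = (g : P ⧸ A) * (x : P ⧸ A) := by rw [h3, one_mul]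
      exact h4.symm
    · have := (QuotientGroup.eq_one_iff _).mpr h2
      rw [QuotientGroup.mk_pow] at this
      exact this

theorem exists_critical [Finite P] {p : ℕ} [hp : Fact p.Prime] (hP : IsPGroup p P) :
    ∃ H : Subgroup P, H.Characteristic ∧
      (frattini H).map H.subtype ≤ Subgroup.centralizer (H : Set P) ∧
      ⁅H, (⊤ : Subgroup P)⁆ ≤ H ⊓ Subgroup.centralizer (H : Set P) ∧
      Subgroup.centralizer (H : Set P) ≤ H := by
  classical
  have hfin : {A : Subgroup P | A.Characteristic ∧ IsMulCommutative A}.Finite := Set.toFinite _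
  have hne : {A : Subgroup P | A.Characteristic ∧ IsMulCommutative A}.Nonempty :=
    ⟨⊥, Subgroup.botCharacteristic, by
      refine ⟨⟨?_⟩⟩
      rintro ⟨a, ha⟩ ⟨b, hb⟩
      rw [Subgroup.mem_bot] at ha hb
      subst ha; subst hb; rfl⟩
  obtain ⟨A, hA⟩ := hfin.exists_maximal hne
  obtain ⟨hAchar, hAc⟩ := hA.1
  have hAmax : ∀ A' : Subgroup P, A'.Characteristic → IsMulCommutative A' → A ≤ A' → A' = A :=
    fun A' h1 h2 h3 => le_antisymm (hA.2 ⟨h1, h2⟩ h3) h3
  have hAn : A.Normal := inferInstance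
  have hAC : A ≤ Subgroup.centralizer (A : Set P) := by
    intro a ha
    apply Subgroup.mem_centralizer_iff.mpr
    intro b hb
    have := mul_comm' (⟨b, hb⟩ : A) ⟨a, ha⟩
    exact congrArg Subtype.val this
  have hcommA : ∀ x ∈ A, ∀ g : P, ⁅x, g⁆ ∈ A := by
    intro x hx g
    rw [commutatorElement_def]
    have : x * g * x⁻¹ * g⁻¹ = x * (g * x⁻¹ * g⁻¹) := by group
    rw [this]
    exact A.mul_mem hx (hAn.conj_mem _ (A.inv_mem hx) g)
  by_cases hCA : Subgroup.centralizer (A : Set P) ≤ A
  · refine ⟨A, hAchar, (Subgroup.map_subtype_le _).trans hAC, ?_, hCA⟩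
    rw [Subgroup.commutator_le]
    intro x hx g _
    exact ⟨hcommA x hx g, hAC (hcommA x hx g)⟩
  · obtain ⟨H, hH⟩ : ∃ H : Subgroup P, H = Subgroup.centralizer (A : Set P) ⊓
        (omegaCenter p (P ⧸ A)).comap (QuotientGroup.mk' A) := ⟨_, rfl⟩
    have hmemH : ∀ x : P, x ∈ H ↔ x ∈ Subgroup.centralizer (A : Set P) ∧
        (∀ g : P, ⁅x, g⁆ ∈ A) ∧ x ^ p ∈ A := by
      intro x
      rw [hH, Subgroup.mem_inf, mem_comap_omegaCenter]
    have hHchar : H.Characteristic := by
      rw [Subgroup.characteristic_iff_le_comap]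
      intro φ x hx
      rw [Subgroup.mem_comap]
      rw [hmemH] at hx ⊢
      obtain ⟨h1, h2, h3⟩ := hx
      have hAφ : ∀ y : P, φ y ∈ A ↔ y ∈ A := by
        intro y
        have := hAchar.fixed φ
        have h5 : y ∈ A.comap φ.toMonoidHom ↔ y ∈ A := by rw [this]
        exact h5
      refine ⟨?_, ?_, ?_⟩
      · have hc : (Subgroup.centralizer (A : Set P)).Characteristic := inferInstance
        have := hc.fixed φ
        rw [← this] at h1
        exact h1
      · intro g
        have h4 := h2 (φ.symm g)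
        rw [← hAφ, map_commutatorElement] at h4
        simpa using h4
      · have : (φ.toMonoidHom x) ^ p = φ (x ^ p) := by simp
        rw [this, hAφ]
        exact h3
    have hAH : A ≤ H := by
      intro a ha
      rw [hmemH]
      exact ⟨hAC ha, hcommA a ha, A.pow_mem ha p⟩
    have hHC : H ≤ Subgroup.centralizer (A : Set P) := fun x hx => ((hmemH x).mp hx).1
    have hAcH : A ≤ Subgroup.centralizer (H : Set P) := by
      intro a ha
      apply Subgroup.mem_centralizer_iff.mpr
      intro h hh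
      exact ((Subgroup.mem_centralizer_iff.mp (hHC hh)) a ha).symm
    have hZ : H ⊓ Subgroup.centralizer (H : Set P) = A := by
      apply hAmax
      · infer_instance
      · refine ⟨⟨?_⟩⟩
        rintro ⟨a, ha⟩ ⟨b, hb⟩
        apply Subtype.ext
        change a * b = b * a
        exact ((Subgroup.mem_centralizer_iff.mp hb.2) a ha.1)
      · exact le_inf hAH hAcH
    have hcommH : ∀ x ∈ H, ∀ g : P, ⁅x, g⁆ ∈ A := fun x hx => ((hmemH x).mp hx).2.1
    refine ⟨H, hHchar, ?_, ?_, ?_⟩
    · have hn : (A.subgroupOf H).Normal := inferInstance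
      have h1 : frattini H ≤ A.subgroupOf H := by
        apply frattini_le_of_elementary_quotient (p := p)
        · rw [commutator_eq_closure, Subgroup.closure_le]
          rintro _ ⟨x, y, rfl⟩
          rw [SetLike.mem_coe, Subgroup.mem_subgroupOf]
          exact hcommH (x : P) x.2 (y : P)
        · intro x
          rw [Subgroup.mem_subgroupOf]
          exact ((hmemH (x : P)).mp x.2).2.2
      intro y hy
      obtain ⟨x, hx, rfl⟩ := hy
      exact hAcH (Subgroup.mem_subgroupOf.mp (h1 hx))
    · rw [Subgroup.commutator_le]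
      intro x hx g _
      rw [hZ]
      exact hcommH x hx g
    · by_contra hDH
      obtain ⟨d, hdD, hdH⟩ := SetLike.not_le_iff_exists.mp hDH
      have hDchar : (Subgroup.centralizer (H : Set P)).Characteristic := inferInstance
      have hDn : (Subgroup.centralizer (H : Set P)).Normal := inferInstance
      have hDC : Subgroup.centralizer (H : Set P) ≤ Subgroup.centralizer (A : Set P) :=
        Subgroup.centralizer_le hAH
      have hdA : d ∉ A := fun h => hdH (hAH h)
      have hNn : ((Subgroup.centralizer (H : Set P)).map (QuotientGroup.mk' A)).Normal :=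
        Subgroup.Normal.map hDn _ (QuotientGroup.mk'_surjective A)
      have hNbot : (Subgroup.centralizer (H : Set P)).map (QuotientGroup.mk' A) ≠ ⊥ := by
        intro h
        have h1 : QuotientGroup.mk' A d ∈
            (Subgroup.centralizer (H : Set P)).map (QuotientGroup.mk' A) := ⟨d, hdD, rfl⟩
        rw [h, Subgroup.mem_bot] at h1
        exact hdA ((QuotientGroup.eq_one_iff d).mp h1)
      have hQP : IsPGroup p (P ⧸ A) := hP.to_quotient A
      have hnil : Group.IsNilpotent (P ⧸ A) := hQP.isNilpotent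
      have h2 := normal_inf_center_ne_bot _ hNbot
      obtain ⟨⟨z, hz⟩, hz1'⟩ := Subgroup.ne_bot_iff_exists_ne_one.mp h2
      have hz1 : z ≠ 1 := fun h => hz1' (Subtype.ext h)
      obtain ⟨k, hk⟩ := (IsPGroup.iff_orderOf.mp hQP) z
      have hk0 : k ≠ 0 := by
        rintro rfl
        rw [pow_zero, orderOf_eq_one_iff] at hk
        exact hz1 hk
      have hw1 : z ^ p ^ (k - 1) ≠ 1 := by
        intro h
        have h3 := orderOf_dvd_of_pow_eq_one h
        rw [hk] at h3
        have h4 : p ^ k ≤ p ^ (k - 1) := Nat.le_of_dvd (pow_pos hp.out.pos _) h3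
        have h5 : p ^ (k - 1) < p ^ k := Nat.pow_lt_pow_right hp.out.one_lt (by omega)
        omega
      have hwp : (z ^ p ^ (k - 1)) ^ p = 1 := by
        rw [← pow_mul, ← pow_succ]
        have : k - 1 + 1 = k := by omega
        rw [this, ← hk, pow_orderOf_eq_one]
      have hw := Subgroup.pow_mem _ hz (p ^ (k - 1))
      obtain ⟨⟨d', hd'D, hd'⟩, hwc⟩ := hw
      have hd'H : d' ∈ H := by
        rw [hH]
        refine ⟨hDC hd'D, ?_⟩
        show d' ∈ (omegaCenter p (P ⧸ A)).comap (QuotientGroup.mk' A)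
        rw [Subgroup.mem_comap, mem_omegaCenter, hd']
        exact ⟨hwc, hwp⟩
      have hd'A : d' ∈ A := by
        rw [← hZ]
        exact ⟨hd'H, hd'D⟩
      apply hw1
      rw [← hd']
      exact (QuotientGroup.eq_one_iff d').mpr hd'A

end Cfsg.Agent.Lib.Helper1
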