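import Mathlib

set_option autoImplicit false

namespace Cfsg.Agent.Lib.Helper1

theorem card_ker_pow_le {A : Type*} [CommGroup A] [Finite A]
    (h : ∀ r : ℕ, r.Prime → Nat.card (powMonoidHom r : A →* A).ker ≤ r) :
    ∀ n : ℕ, 0 < n → Nat.card (powMonoidHom n : A →* A).ker ≤ n := by
  intro n
  induction n using Nat.strong_induction_on with
  | _ n ih =>
    intro hn
    by_cases h1 : n = 1
    · subst h1
      have : (powMonoidHom 1 : A →* A).ker = ⊥ := by
        ext x
        simp [MonoidHom.mem_ker]
      rw [this]
      simp
    · have hp : (n.minFac).Prime := Nat.minFac_prime h1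
      obtain ⟨m, hm⟩ := Nat.minFac_dvd n
      set p := n.minFac with hpdef
      have hm0 : 0 < m := by
        rcases Nat.eq_zero_or_pos m with h0 | h0
        · rw [h0, mul_zero] at hm; omega
        · exact h0
      have hmn : m < n := by
        rw [hm]
        have := hp.two_le
        nlinarith
      let f : (powMonoidHom n : A →* A).ker →* A :=
        (powMonoidHom p : A →* A).comp (Subgroup.subtype _)
      have hc : Nat.card (powMonoidHom n : A →* A).ker = Nat.card f.ker * Nat.card f.range := by
        rw [← f.ker.card_mul_index, Subgroup.index_ker]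
      have hk : Nat.card f.ker ≤ p := by
        refine le_trans ?_ (h p hp)
        apply Nat.card_le_card_of_injective
          (fun x : f.ker => (⟨x.1.1, by
            have := x.2
            rw [MonoidHom.mem_ker] at this ⊢
            exact this⟩ : (powMonoidHom p : A →* A).ker))
        intro x y hxy
        apply Subtype.ext
        apply Subtype.ext
        exact congrArg (fun z : (powMonoidHom p : A →* A).ker => (z : A)) hxy
      have hr : Nat.card f.range ≤ m := by
        refine le_trans ?_ (ih m hmn hm0)
        apply Subgroup.card_le_of_le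
        rintro _ ⟨x, rfl⟩
        rw [MonoidHom.mem_ker]
        have hx := x.2
        rw [MonoidHom.mem_ker] at hx
        simp only [powMonoidHom_apply] at hx ⊢
        change ((x : A) ^ p) ^ m = 1
        rw [← pow_mul, ← hm]
        exact hx
      rw [hc]
      calc Nat.card f.ker * Nat.card f.range ≤ p * m := Nat.mul_le_mul hk hr
        _ = n := hm.symm

theorem exists_noncyclic_pair {A : Type*} [CommGroup A] [Finite A] (h : ¬ IsCyclic A) :
    ∃ r : ℕ, r.Prime ∧ ∃ x y : A, x ≠ 1 ∧ x ^ r = 1 ∧ y ^ r = 1 ∧ y ∉ Subgroup.zpowers x := by
  classical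
  by_contra hcon
  push Not at hcon
  apply h
  have := Fintype.ofFinite A
  apply isCyclic_of_card_pow_eq_one_le
  intro n hn
  have key : ∀ r : ℕ, r.Prime → Nat.card (powMonoidHom r : A →* A).ker ≤ r := by
    intro r hr
    by_contra hlt
    push Not at hlt
    have hnt : Nontrivial (powMonoidHom r : A →* A).ker := by
      rw [← Finite.one_lt_card_iff_nontrivial]
      exact lt_trans hr.one_lt hlt
    obtain ⟨x, hx⟩ := exists_ne (1 : (powMonoidHom r : A →* A).ker)
    have hx1 : (x : A) ≠ 1 := fun h => hx (Subtype.ext h)
    have hxr : (x : A) ^ r = 1 := by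
      have := x.2
      rwa [MonoidHom.mem_ker] at this
    have hord : orderOf (x : A) = r := by
      have : Fact r.Prime := ⟨hr⟩
      exact orderOf_eq_prime hxr hx1
    have hex : ∃ y : A, y ^ r = 1 ∧ y ∉ Subgroup.zpowers (x : A) := by
      by_contra hall
      push Not at hall
      have hle : (powMonoidHom r : A →* A).ker ≤ Subgroup.zpowers (x : A) := by
        intro y hy
        rw [MonoidHom.mem_ker] at hy
        exact hall y hy
      have := Subgroup.card_le_of_le hle
      rw [Nat.card_zpowers, hord] at this
      omega
    obtain ⟨y, hy, hyx⟩ := hex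
    exact hyx (hcon r hr x y hx1 hxr hy)
  have h2 := card_ker_pow_le key n hn
  have h3 : Nat.card (powMonoidHom n : A →* A).ker = (Finset.univ.filter fun a : A => a ^ n = 1).card := by
    rw [← Fintype.card_subtype, ← Nat.card_eq_fintype_card]
    apply Nat.card_congr
    exact Equiv.subtypeEquivRight (fun a => by simp [MonoidHom.mem_ker])
  rw [← h3]
  exact h2

end Cfsg.Agent.Lib.Helper1
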