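import Mathlib

set_option autoImplicit false

namespace Cfsg.Agent.Lib.Helper1

section NormIdentity

variable {M : Type*} [CommGroup M] (r : ℕ) [Fact r.Prime]

noncomputable def normZ (γ : MulAut M) (v : M) : M := ∏ i : ZMod r, (γ ^ i.val) v

theorem pow_val_add {γ : MulAut M} (hγ : γ ^ r = 1) (a b : ZMod r) :
    γ ^ (a + b).val = γ ^ a.val * γ ^ b.val := by
  rw [ZMod.val_add, ← pow_eq_pow_mod _ hγ, pow_add]

theorem pow_val_mul {γ : MulAut M} (hγ : γ ^ r = 1) (a b : ZMod r) :
    γ ^ (a * b).val = γ ^ (a.val * b.val) := by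
  rw [ZMod.val_mul, ← pow_eq_pow_mod _ hγ]

theorem normZ_fixed {γ : MulAut M} (hγ : γ ^ r = 1) (v : M) : γ (normZ r γ v) = normZ r γ v := by
  have : Fact (1 < r) := ⟨(Fact.out : r.Prime).one_lt⟩
  unfold normZ
  rw [map_prod]
  apply Fintype.prod_equiv (Equiv.addRight (1 : ZMod r))
  intro i
  simp only [Equiv.coe_addRight]
  rw [pow_val_add r hγ, ZMod.val_one, pow_one, ← (Commute.pow_self γ i.val).symm.eq]
  rfl

noncomputable def normZZ (α β : MulAut M) (v : M) : M :=
  ∏ i : ZMod r, ∏ k : ZMod r, (α ^ i.val * β ^ k.val) v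

theorem normZZ_fixed {α β : MulAut M} (hβ : β ^ r = 1) (hc : Commute α β) (v : M) :
    β (normZZ r α β v) = normZZ r α β v := by
  have : Fact (1 < r) := ⟨(Fact.out : r.Prime).one_lt⟩
  unfold normZZ
  rw [map_prod]
  apply Finset.prod_congr rfl
  intro i _
  rw [map_prod]
  apply Fintype.prod_equiv (Equiv.addRight (1 : ZMod r))
  intro k
  simp only [Equiv.coe_addRight]
  rw [pow_val_add r hβ, ZMod.val_one, pow_one]
  have h1 : β * (α ^ i.val * β ^ k.val) = α ^ i.val * (β ^ k.val * β) := by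
    rw [← mul_assoc, ← mul_assoc, (hc.pow_left i.val).symm.eq, mul_assoc, mul_assoc,
      (Commute.pow_self β k.val).symm.eq]
  rw [← h1]
  rfl

theorem norm_identity {α β : MulAut M} (hα : α ^ r = 1) (hβ : β ^ r = 1) (hc : Commute α β)
    (v : M) :
    (∏ j : ZMod r, normZ r (α * β ^ j.val) v) * normZ r β v = v ^ r * normZZ r α β v := by
  classical
  set g : ZMod r → ZMod r → M := fun i k => (α ^ i.val * β ^ k.val) v with hg
  have hA : ∀ j : ZMod r, normZ r (α * β ^ j.val) v = ∏ i : ZMod r, g i (i * j) := by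
    intro j
    unfold normZ
    apply Finset.prod_congr rfl
    intro i _
    rw [hg]
    simp only
    rw [(hc.pow_right j.val).mul_pow, ← pow_mul, pow_val_mul r hβ, mul_comm i.val j.val]
  have hB : normZ r β v = ∏ k : ZMod r, g 0 k := by
    unfold normZ
    apply Finset.prod_congr rfl
    intro k _
    rw [hg]
    simp
  have hC : ∀ i : ZMod r, i ≠ 0 → ∏ j : ZMod r, g i (i * j) = ∏ k : ZMod r, g i k := by
    intro i hi
    exact Fintype.prod_equiv (Equiv.mulLeft₀ i hi) _ _ (fun j => rfl)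
  have hD : ∏ j : ZMod r, g 0 (0 * j) = v ^ r := by
    have : ∀ j : ZMod r, g 0 (0 * j) = v := by
      intro j
      rw [hg]
      simp
    simp only [this, Finset.prod_const, Finset.card_univ, ZMod.card]
  simp_rw [hA]
  rw [Finset.prod_comm, hB, ← Finset.mul_prod_erase Finset.univ _ (Finset.mem_univ (0 : ZMod r)), hD]
  have hE : ∏ i ∈ Finset.univ.erase (0 : ZMod r), ∏ j : ZMod r, g i (i * j) =
      ∏ i ∈ Finset.univ.erase (0 : ZMod r), ∏ k : ZMod r, g i k := by
    apply Finset.prod_congr rfl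
    intro i hi
    exact hC i (Finset.ne_of_mem_erase hi)
  rw [hE]
  unfold normZZ
  rw [← Finset.mul_prod_erase Finset.univ (fun i => ∏ k : ZMod r, g i k) (Finset.mem_univ (0 : ZMod r))]
  rw [mul_assoc, mul_comm (∏ i ∈ Finset.univ.erase (0 : ZMod r), ∏ k : ZMod r, g i k)]

def fixSubgroup (γ : MulAut M) : Subgroup M := γ.toMonoidHom.eqLocus (MonoidHom.id M)

theorem mem_fixSubgroup (γ : MulAut M) (w : M) : w ∈ fixSubgroup γ ↔ γ w = w := Iff.rfl

theorem pow_mem_iSup_fix {α β : MulAut M} (hα : α ^ r = 1) (hβ : β ^ r = 1) (hc : Commute α β)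
    (v : M) :
    v ^ r ∈ (⨆ j : ZMod r, fixSubgroup (α * β ^ j.val)) ⊔ fixSubgroup β := by
  have h1 := norm_identity r hα hβ hc v
  have h2 : v ^ r = (∏ j : ZMod r, normZ r (α * β ^ j.val) v) * normZ r β v *
      (normZZ r α β v)⁻¹ := by
    rw [h1]; simp
  rw [h2]
  apply Subgroup.mul_mem
  · apply Subgroup.mul_mem
    · apply Subgroup.mem_sup_left
      apply Subgroup.prod_mem
      intro j _
      apply Subgroup.mem_iSup_of_mem j
      rw [mem_fixSubgroup]
      apply normZ_fixed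
      rw [(hc.pow_right j.val).mul_pow, hα, ← pow_mul, mul_comm, pow_mul, hβ, one_pow, one_mul]
    · apply Subgroup.mem_sup_right
      rw [mem_fixSubgroup]
      exact normZ_fixed r hβ v
  · apply Subgroup.inv_mem
    apply Subgroup.mem_sup_right
    rw [mem_fixSubgroup]
    exact normZZ_fixed r hβ hc v

end NormIdentity

end Cfsg.Agent.Lib.Helper1
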