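import Mathlib
import Cfsg.Agent.Lib.Lead.Coprime
import Cfsg.Agent.Lib.Helper1.NormIdentity
import Cfsg.Agent.Lib.Helper1.NonCyclic

set_option autoImplicit false

namespace Cfsg.Agent.Lib.Helper1

open Cfsg.Agent.Lib.Lead

def mulAutAbelianization (Q : Type*) [Group Q] : MulAut Q →* MulAut (Abelianization Q) where
  toFun f := f.abelianizationCongr
  map_one' := abelianizationCongr_refl
  map_mul' f g := (abelianizationCongr_trans g f).symm

variable {G : Type*} [Group G]

def abAct (Q : Subgroup G) :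
    Subgroup.normalizer (Q : Set G) →* MulAut (Abelianization Q) :=
  (mulAutAbelianization Q).comp Q.normalizerMonoidHom

theorem abAct_of (Q : Subgroup G) (a : Subgroup.normalizer (Q : Set G)) (q : Q) :
    abAct Q a (Abelianization.of q) =
      Abelianization.of (⟨a * q * (a : G)⁻¹, (a.2 q).mp q.2⟩ : Q) := rfl

theorem isSolvable_zpowers (w : G) : Group.IsSolvable (Subgroup.zpowers w) := by
  apply Group.isSolvable_of_comm
  intro a b
  exact mul_comm' a b

theorem le_normalizer_commutator_self (Q : Subgroup G) :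
    Subgroup.normalizer (Q : Set G) ≤ Subgroup.normalizer ((⁅Q, Q⁆ : Subgroup G) : Set G) := by
  rw [← Subgroup.map_subtype_commutator]
  exact le_normalizer_map_characteristic Q _ le_rfl (commutator Q)

theorem fix_le [Finite G] (Q H : Subgroup G) (w : G)
    (hw : w ∈ Subgroup.normalizer (Q : Set G))
    (hcop : (Nat.card (Subgroup.zpowers w)).Coprime (Nat.card Q))
    (hQ' : ⁅Q, Q⁆ ≤ H) (hC : Q ⊓ Subgroup.centralizer {w} ≤ H) (q : Q)
    (hfix : abAct Q ⟨w, hw⟩ (Abelianization.of q) = Abelianization.of q) : (q : G) ∈ H := by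
  have hzN : Subgroup.zpowers w ≤ Subgroup.normalizer (Q : Set G) := by
    rw [Subgroup.zpowers_le]; exact hw
  have hall : ∀ a (ha : a ∈ Subgroup.zpowers w),
      abAct Q ⟨a, hzN ha⟩ (Abelianization.of q) = Abelianization.of q := by
    intro a ha
    let S : Subgroup (Subgroup.normalizer (Q : Set G)) :=
      (MulAction.stabilizer (MulAut (Abelianization Q)) (Abelianization.of q)).comap (abAct Q)
    have hwS : (⟨w, hw⟩ : Subgroup.normalizer (Q : Set G)) ∈ S := by
      rw [Subgroup.mem_comap, MulAction.mem_stabilizer_iff]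
      exact hfix
    obtain ⟨n, rfl⟩ := Subgroup.mem_zpowers_iff.mp ha
    have h2 : (⟨w, hw⟩ : Subgroup.normalizer (Q : Set G)) ^ n ∈ S := S.zpow_mem hwS n
    have h3 : (⟨w ^ n, hzN ha⟩ : Subgroup.normalizer (Q : Set G)) = ⟨w, hw⟩ ^ n := by
      apply Subtype.ext
      simp
    rw [h3]
    rw [Subgroup.mem_comap, MulAction.mem_stabilizer_iff] at h2
    exact h2
  have hx : ∀ a ∈ Subgroup.zpowers w, (q : G)⁻¹ * (a * q * a⁻¹) ∈ (⁅Q, Q⁆ : Subgroup G) := by
    intro a ha
    have h1 := hall a ha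
    rw [abAct_of] at h1
    have h2 := (MonoidHom.eq_iff (f := (Abelianization.of : Q →* Abelianization Q))).mp h1
    rw [Abelianization.ker_of] at h2
    rw [← Subgroup.map_subtype_commutator]
    exact ⟨_, h2, rfl⟩
  have hcop' : (Nat.card (Subgroup.zpowers w)).Coprime (Nat.card (⁅Q, Q⁆ : Subgroup G)) :=
    coprime_of_le (Subgroup.commutator_le_self Q) hcop
  obtain ⟨d, hd, hc⟩ := coset_fixed (Subgroup.zpowers w) ⁅Q, Q⁆
    (hzN.trans (le_normalizer_commutator_self Q)) hcop' (Or.inl (isSolvable_zpowers w)) (q : G) hx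
  have hqd : (q : G) * d ∈ Q ⊓ Subgroup.centralizer {w} := by
    refine ⟨Q.mul_mem q.2 (Subgroup.commutator_le_self Q hd), ?_⟩
    apply Subgroup.centralizer_le (s := {w}) (t := (Subgroup.zpowers w : Set G)) ?_ hc
    intro z hz
    rw [Set.mem_singleton_iff] at hz
    rw [hz]
    exact Subgroup.mem_zpowers w
  have h1 := hC hqd
  have h2 := hQ' hd
  have : (q : G) = (q : G) * d * d⁻¹ := by group
  rw [this]
  exact H.mul_mem h1 (H.inv_mem h2)

theorem core_solvable [Finite G] (A : Subgroup G) (r : ℕ) [Fact r.Prime] (x y : G)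
    (hxA : x ∈ A) (hyA : y ∈ A) (hxy : Commute y x) (hx : x ^ r = 1) (hy : y ^ r = 1)
    (H : Subgroup G) :
    ∀ n : ℕ, ∀ Q : Subgroup G, Nat.card Q = n → Group.IsSolvable Q →
      A ≤ Subgroup.normalizer (Q : Set G) → (Nat.card A).Coprime (Nat.card Q) →
      r.Coprime (Nat.card Q) →
      (∀ j : ZMod r, Q ⊓ Subgroup.centralizer {y * x ^ j.val} ≤ H) →
      Q ⊓ Subgroup.centralizer {x} ≤ H → Q ≤ H := by
  intro n
  induction n using Nat.strong_induction_on with
  | _ n ih =>
    intro Q hn hsol hAQ hcop hr hW hX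
    by_cases hbot : Q = ⊥
    · rw [hbot]; exact bot_le
    have hnt : Nontrivial Q := (Subgroup.nontrivial_iff_ne_bot Q).mpr hbot
    have hlt : Nat.card (⁅Q, Q⁆ : Subgroup G) < n := by
      rw [← Subgroup.map_subtype_commutator, Subgroup.card_map_of_injective Q.subtype_injective,
        ← hn]
      have h1 := Group.IsSolvable.commutator_lt_top_of_nontrivial Q
      exact lt_of_le_of_ne (Subgroup.card_le_card_group _)
        (mt (Subgroup.card_eq_iff_eq_top _).mp h1.ne)
    have hle : (⁅Q, Q⁆ : Subgroup G) ≤ Q := Subgroup.commutator_le_self Q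
    have hsol' : Group.IsSolvable (⁅Q, Q⁆ : Subgroup G) := solvable_of_le hle
    have hQ' : (⁅Q, Q⁆ : Subgroup G) ≤ H :=
      ih _ hlt ⁅Q, Q⁆ rfl hsol' (hAQ.trans (le_normalizer_commutator_self Q))
        (coprime_of_le hle hcop) (Nat.Coprime.coprime_dvd_right (Subgroup.card_dvd_of_le hle) hr)
        (fun j => (inf_le_inf_right _ hle).trans (hW j)) ((inf_le_inf_right _ hle).trans hX)
    intro v hv
    have hxN : x ∈ Subgroup.normalizer (Q : Set G) := hAQ hxA
    have hyN : y ∈ Subgroup.normalizer (Q : Set G) := hAQ hyA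
    set α := abAct Q ⟨y, hyN⟩ with hαdef
    set β := abAct Q ⟨x, hxN⟩ with hβdef
    have hα : α ^ r = 1 := by
      rw [hαdef, ← map_pow]
      have : (⟨y, hyN⟩ : Subgroup.normalizer (Q : Set G)) ^ r = 1 := Subtype.ext (by simpa using hy)
      rw [this, map_one]
    have hβ : β ^ r = 1 := by
      rw [hβdef, ← map_pow]
      have : (⟨x, hxN⟩ : Subgroup.normalizer (Q : Set G)) ^ r = 1 := Subtype.ext (by simpa using hx)
      rw [this, map_one]
    have hc : Commute α β := by
      have : Commute (⟨y, hyN⟩ : Subgroup.normalizer (Q : Set G)) ⟨x, hxN⟩ :=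
        Subtype.ext hxy.eq
      exact this.map (abAct Q)
    have key := pow_mem_iSup_fix r hα hβ hc (Abelianization.of ⟨v, hv⟩)
    have hcopw : ∀ w ∈ A, (Nat.card (Subgroup.zpowers w)).Coprime (Nat.card Q) := by
      intro w hw
      apply Nat.Coprime.coprime_dvd_left _ hcop
      apply Subgroup.card_dvd_of_le
      rw [Subgroup.zpowers_le]; exact hw
    set T : Subgroup (Abelianization Q) := (H.subgroupOf Q).map Abelianization.of with hTdef
    have hT : (⨆ j : ZMod r, fixSubgroup (α * β ^ j.val)) ⊔ fixSubgroup β ≤ T := by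
      apply sup_le
      · apply iSup_le
        intro j m hm
        obtain ⟨q, rfl⟩ := QuotientGroup.mk_surjective m
        refine ⟨q, ?_, rfl⟩
        change (q : G) ∈ H
        have hwA : y * x ^ j.val ∈ A := A.mul_mem hyA (A.pow_mem hxA _)
        have hwN : y * x ^ j.val ∈ Subgroup.normalizer (Q : Set G) := hAQ hwA
        have e : α * β ^ j.val = abAct Q ⟨y * x ^ j.val, hwN⟩ := by
          rw [hαdef, hβdef, ← map_pow, ← map_mul]
          rfl
        apply fix_le Q H (y * x ^ j.val) hwN (hcopw _ hwA) hQ' (hW j) q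
        rw [← e]
        exact hm
      · intro m hm
        obtain ⟨q, rfl⟩ := QuotientGroup.mk_surjective m
        refine ⟨q, ?_, rfl⟩
        change (q : G) ∈ H
        exact fix_le Q H x hxN (hcopw _ hxA) hQ' hX q hm
    obtain ⟨t, ht, hte⟩ := hT key
    have ht' : (t : G) ∈ H := ht
    rw [← map_pow] at hte
    have h2 := (MonoidHom.eq_iff (f := (Abelianization.of : Q →* Abelianization Q))).mp hte
    rw [Abelianization.ker_of] at h2
    have h3 : (v ^ r)⁻¹ * (t : G) ∈ (⁅Q, Q⁆ : Subgroup G) := by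
      rw [← Subgroup.map_subtype_commutator]
      exact ⟨_, h2, rfl⟩
    have h4 : v ^ r ∈ H := by
      have e : v ^ r = (t : G) * ((v ^ r)⁻¹ * (t : G))⁻¹ := by group
      rw [e]
      exact H.mul_mem ht' (H.inv_mem (hQ' h3))
    have h5 : r.Coprime (orderOf v) := by
      apply Nat.Coprime.coprime_dvd_right _ hr
      have : orderOf v = orderOf (⟨v, hv⟩ : Q) := by
        rw [← Subgroup.orderOf_coe]
      rw [this]
      exact orderOf_dvd_natCard _
    obtain ⟨s, hs⟩ := exists_pow_eq_self_of_coprime h5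
    rw [← hs]
    exact H.pow_mem h4 s

theorem sylow_le_imp_le [Finite G] (K H : Subgroup G)
    (h : ∀ (p : ℕ) [Fact p.Prime], ∃ P : Sylow p K, (P : Subgroup K).map K.subtype ≤ H) :
    K ≤ H := by
  have h1 : H.subgroupOf K = ⊤ := by
    apply Subgroup.eq_top_of_le_card
    apply Nat.le_of_dvd Nat.card_pos
    refine (Nat.dvd_iff_prime_pow_dvd_dvd _ _).2 fun p k hp hk => ?_
    have : Fact p.Prime := ⟨hp⟩
    obtain ⟨P, hP⟩ := h p
    have hle : (P : Subgroup K) ≤ H.subgroupOf K := by
      intro z hz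
      rw [Subgroup.mem_subgroupOf]
      exact hP ⟨z, hz, rfl⟩
    exact dvd_trans (P.pow_dvd_card_of_pow_dvd_card hk) (Subgroup.card_dvd_of_le hle)
  intro k hk
  have : (⟨k, hk⟩ : K) ∈ H.subgroupOf K := by rw [h1]; trivial
  exact Subgroup.mem_subgroupOf.mp this

end Cfsg.Agent.Lib.Helper1
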