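import Mathlib
import Cfsg.Prelude.Def_PLocal
import Cfsg.Agent.Lib.Helper18.ThompsonReplacement

set_option autoImplicit false

open scoped Pointwise

namespace Cfsg.Agent.Lib.Helper1

open Cfsg.Agent.Lib.Helper18

variable {G : Type*} [Group G]

theorem card_le_card_sup_of_step [Finite G] {A M K : Subgroup G} (φ : G → G) (hKA : K ≤ A)
    (hφM : ∀ a ∈ A, φ a ∈ M)
    (hstep : ∀ a ∈ A, ∀ b ∈ A, ((φ a)⁻¹ * φ b ∈ A ↔ a⁻¹ * b ∈ K)) :
    Nat.card A ≤ Nat.card ↥(M ⊔ K) := by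
  have hrel : K.relIndex A ≤ A.relIndex M := by
    have hcompat : ∀ a b : A, QuotientGroup.leftRel (K.subgroupOf A) a b →
        QuotientGroup.leftRel (A.subgroupOf M) (⟨φ a, hφM a a.2⟩ : M) ⟨φ b, hφM b b.2⟩ := by
      intro a b hab
      rw [QuotientGroup.leftRel_apply] at hab ⊢
      rw [Subgroup.mem_subgroupOf] at hab ⊢
      have hab' : (a : G)⁻¹ * b ∈ K := by simpa using hab
      have := (hstep a a.2 b b.2).mpr hab'
      simpa using this
    have hinj : Function.Injective (Quotient.map' (s₁ := QuotientGroup.leftRel (K.subgroupOf A))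
        (s₂ := QuotientGroup.leftRel (A.subgroupOf M))
        (fun a : A => (⟨φ a, hφM a a.2⟩ : M)) hcompat) := by
      intro q₁ q₂ h
      obtain ⟨a, rfl⟩ := Quotient.mk''_surjective q₁
      obtain ⟨b, rfl⟩ := Quotient.mk''_surjective q₂
      rw [Quotient.map'_mk'', Quotient.map'_mk'', Quotient.eq''] at h
      rw [Quotient.eq'']
      rw [QuotientGroup.leftRel_apply] at h ⊢
      rw [Subgroup.mem_subgroupOf] at h ⊢
      have h' : (φ a)⁻¹ * φ b ∈ A := by simpa using h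
      have := (hstep a a.2 b b.2).mp h'
      simpa using this
    exact Nat.card_le_card_of_injective _ hinj
  have e1 := card_eq_card_mul_relIndex hKA
  have e2 := card_eq_card_mul_relIndex (inf_le_left : M ⊓ A ≤ M)
  rw [Subgroup.inf_relIndex_left] at e2
  have e3 := card_mul_set_mul_card_inf M K
  have e4 := card_mul_set_le_card_sup M K
  have e5 : Nat.card ↥(M ⊓ K) ≤ Nat.card ↥(M ⊓ A) :=
    Nat.card_mono (Set.toFinite _) (inf_le_inf_left M hKA)
  have hpos : 0 < Nat.card ↥(M ⊓ A) := Nat.card_pos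
  apply Nat.le_of_mul_le_mul_right _ hpos
  calc Nat.card A * Nat.card ↥(M ⊓ A) = Nat.card K * (Nat.card ↥(M ⊓ A) * K.relIndex A) := by
        rw [e1]; ring
    _ ≤ Nat.card K * (Nat.card ↥(M ⊓ A) * A.relIndex M) :=
        Nat.mul_le_mul_left _ (Nat.mul_le_mul_left _ hrel)
    _ = Nat.card M * Nat.card K := by rw [← e2]; ring
    _ = Nat.card ((M : Set G) * (K : Set G) : Set G) * Nat.card ↥(M ⊓ K) := e3.symm
    _ ≤ Nat.card ↥(M ⊔ K) * Nat.card ↥(M ⊓ A) := Nat.mul_le_mul e4 e5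

theorem gen_replacement [Finite G] {A Q : Subgroup G}
    (hA : A ∈ Cfsg.maxAbelianSubgroups G) (hQ : IsMulCommutative Q) (x : G)
    (hxQ : ∀ a ∈ A, x * a * x⁻¹ * a⁻¹ ∈ Q)
    (hxN : ∀ a ∈ A, x * a * x⁻¹ * a⁻¹ ∈ Subgroup.normalizer (A : Set G)) :
    ∃ A' ∈ Cfsg.maxAbelianSubgroups G, (∀ a ∈ A, x * a * x⁻¹ * a⁻¹ ∈ A') ∧
      (∀ a ∈ A, x * a * x⁻¹ * a⁻¹ ∈ A → a ∈ A') ∧
      A' ≤ A ⊔ A.map (MulAut.conj x).toMonoidHom := by
  have hAab : ∀ a ∈ A, ∀ a' ∈ A, a * a' = a' * a := by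
    intro a ha a' ha'
    have := (Subgroup.le_centralizer_iff_isMulCommutative.mpr hA.1) ha
    rw [Subgroup.mem_centralizer_iff] at this
    exact (this a' ha').symm
  have hBab : ∀ b ∈ Q, ∀ b' ∈ Q, b * b' = b' * b := by
    intro b hb b' hb'
    have := (Subgroup.le_centralizer_iff_isMulCommutative.mpr hQ) hb
    rw [Subgroup.mem_centralizer_iff] at this
    exact (this b' hb').symm
  set φ : G → G := fun a => x * a * x⁻¹ * a⁻¹ with hφ
  have hφB : ∀ a ∈ A, φ a ∈ Q := hxQ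
  have hF1 : ∀ n, n ∈ Subgroup.normalizer (A : Set G) → ∀ a ∈ A,
      n * a * n⁻¹ * a⁻¹ ∈ A := by
    intro n hnN a ha
    exact A.mul_mem ((Subgroup.mem_normalizer_iff.mp hnN a).mp ha) (A.inv_mem ha)
  have hF3 : ∀ a ∈ A, ∀ a' ∈ A, ∃ e ∈ A, φ (a * a') = φ a * e * φ a' := by
    intro a ha a' ha'
    refine ⟨(φ a' * a * (φ a')⁻¹ * a⁻¹)⁻¹, Subgroup.inv_mem _ (hF1 _ (hxN a' ha') a ha), ?_⟩
    simp [hφ, mul_assoc]
  let K : Subgroup G :=
    { carrier := {a | a ∈ A ∧ φ a ∈ A}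
      one_mem' := ⟨A.one_mem, by simp [hφ]⟩
      mul_mem' := by
        rintro a a' ⟨ha, hfa⟩ ⟨ha', hfa'⟩
        refine ⟨A.mul_mem ha ha', ?_⟩
        obtain ⟨e, he, heq⟩ := hF3 a ha a' ha'
        rw [heq]
        exact A.mul_mem (A.mul_mem hfa he) hfa'
      inv_mem' := by
        rintro a ⟨ha, hfa⟩
        refine ⟨A.inv_mem ha, ?_⟩
        have : φ a⁻¹ = a⁻¹ * (φ a)⁻¹ * a := by simp [hφ, mul_assoc]
        rw [this]
        exact A.mul_mem (A.mul_mem (A.inv_mem ha) (A.inv_mem hfa)) ha }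
  have hKA : K ≤ A := fun a ha => ha.1
  have hKmem : ∀ a, a ∈ K ↔ a ∈ A ∧ φ a ∈ A := fun a => Iff.rfl
  set M := Subgroup.closure (φ '' (A : Set G)) with hM
  have hMB : M ≤ Q := by
    rw [hM, Subgroup.closure_le]
    rintro _ ⟨a, ha, rfl⟩
    exact hφB a ha
  have hφM : ∀ a ∈ A, φ a ∈ M := fun a ha => Subgroup.subset_closure ⟨a, ha, rfl⟩
  have hMab : IsMulCommutative M := by
    rw [← Subgroup.le_centralizer_iff_isMulCommutative]
    exact le_trans hMB (le_trans (Subgroup.le_centralizer_iff_isMulCommutative.mpr hQ)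
      (Subgroup.centralizer_le (by exact_mod_cast hMB)))
  have hKab : IsMulCommutative K := by
    rw [← Subgroup.le_centralizer_iff_isMulCommutative]
    exact le_trans hKA (le_trans (Subgroup.le_centralizer_iff_isMulCommutative.mpr hA.1)
      (Subgroup.centralizer_le (by exact_mod_cast hKA)))
  have hMK : M ≤ Subgroup.centralizer (K : Set G) := by
    rw [hM, Subgroup.closure_le]
    rintro _ ⟨a, ha, rfl⟩
    rw [SetLike.mem_coe, Subgroup.mem_centralizer_iff]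
    intro k hk
    obtain ⟨hkA, hfk⟩ := hk
    have hfkB : φ k ∈ Q := hφB k hkA
    set e := (φ k)⁻¹ with he
    have heA : e ∈ A := A.inv_mem hfk
    have heB : e ∈ Q := Q.inv_mem hfkB
    have h1 : k * x = e * x * k := by simp [he, hφ, mul_assoc]
    have h2 : k * a = a * k := hAab k hkA a ha
    have h3 : e * φ a = φ a * e := hBab e heB _ (hφB a ha)
    have hc1 : k * a * k⁻¹ = a := by rw [h2]; group
    have hc2 : k * x * k⁻¹ = e * x := by rw [h1]; group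
    have hc3 : a * e⁻¹ * a⁻¹ = e⁻¹ := by rw [hAab a ha e⁻¹ (A.inv_mem heA)]; group
    have key : k * φ a * k⁻¹ = φ a := by
      have s1 : k * φ a * k⁻¹ =
          (k * x * k⁻¹) * (k * a * k⁻¹) * (k * x * k⁻¹)⁻¹ * (k * a * k⁻¹)⁻¹ := by
        simp only [hφ]; group
      rw [s1, hc1, hc2]
      have s2 : e * x * a * (e * x)⁻¹ * a⁻¹ = e * (x * a * x⁻¹ * a⁻¹) * (a * e⁻¹ * a⁻¹) := by group
      rw [s2, hc3]
      show e * φ a * e⁻¹ = φ a
      rw [h3]; group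
    show k * φ a = φ a * k
    calc k * φ a = k * φ a * k⁻¹ * k := by group
      _ = φ a * k := by rw [key]
  have hA'ab : IsMulCommutative ↥(M ⊔ K) :=
    isMulCommutative_sup_of_le_centralizer hMab hKab (Subgroup.le_centralizer_iff.mp hMK)
  have hstep : ∀ a ∈ A, ∀ b ∈ A, ((φ a)⁻¹ * φ b ∈ A ↔ a⁻¹ * b ∈ K) := by
    intro a ha b hb
    have hab : a⁻¹ * b ∈ A := A.mul_mem (A.inv_mem ha) hb
    obtain ⟨e, he, heq⟩ := hF3 a ha (a⁻¹ * b) hab
    have hfb : φ b = φ a * e * φ (a⁻¹ * b) := by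
      rw [← heq]; simp
    have h2 : (φ a)⁻¹ * φ b = e * φ (a⁻¹ * b) := by rw [hfb]; group
    rw [h2]
    constructor
    · intro h
      refine ⟨hab, ?_⟩
      have : φ (a⁻¹ * b) = e⁻¹ * (e * φ (a⁻¹ * b)) := by group
      rw [this]
      exact A.mul_mem (A.inv_mem he) h
    · intro h
      exact A.mul_mem he h.2
  have hcard : Nat.card A ≤ Nat.card ↥(M ⊔ K) := card_le_card_sup_of_step φ hKA hφM hstep
  refine ⟨M ⊔ K, ⟨hA'ab, fun B' hB' => le_trans (hA.2 B' hB') hcard⟩, ?_, ?_, ?_⟩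
  · intro a ha
    exact (le_sup_left : M ≤ M ⊔ K) (hφM a ha)
  · intro a ha hfa
    exact (le_sup_right : K ≤ M ⊔ K) ⟨ha, hfa⟩
  · refine sup_le ?_ (le_trans hKA le_sup_left)
    rw [hM, Subgroup.closure_le]
    rintro _ ⟨a, ha, rfl⟩
    have h1 : x * a * x⁻¹ ∈ A.map (MulAut.conj x).toMonoidHom :=
      ⟨a, ha, by simp [MulAut.conj_apply]⟩
    exact Subgroup.mul_mem _ ((le_sup_right : _ ≤ A ⊔ A.map (MulAut.conj x).toMonoidHom) h1)
      ((le_sup_left : A ≤ A ⊔ _) (A.inv_mem ha))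

end Cfsg.Agent.Lib.Helper1
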