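import Mathlib
import Cfsg.Prelude.Def_Transfer

set_option autoImplicit false

namespace Cfsg.Agent.Lib.Helper1

open scoped Pointwise

variable {G : Type*} [Group G]

theorem index_eq_card_of_isComplement' [Finite G] {N H : Subgroup G} (h : N.IsComplement' H) :
    N.index = Nat.card H := by
  have h1 := h.card_mul_card
  have h2 := N.card_mul_index
  have hpos : 0 < Nat.card N := Nat.card_pos
  nlinarith

theorem card_coprime_of_isComplement'_sylow [Finite G] {p : ℕ} [Fact p.Prime] (P : Sylow p G)
    {N : Subgroup G} (hN : N.IsComplement' (P : Subgroup G)) : (Nat.card N).Coprime p := by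
  have h1 := hN.card_mul_card
  have h2 := (P : Subgroup G).card_mul_index
  have h3 : Nat.card N = (P : Subgroup G).index := by
    have hpos : 0 < Nat.card (P : Subgroup G) := Nat.card_pos
    nlinarith
  rw [h3]
  exact ((Fact.out : p.Prime).coprime_iff_not_dvd.mpr P.not_dvd_index).symm

theorem mem_normal_complement_iff [Finite G] {p : ℕ} [Fact p.Prime] (P : Sylow p G)
    (N : Subgroup G) [N.Normal] (hN : N.IsComplement' (P : Subgroup G)) (x : G) :
    x ∈ N ↔ Nat.Coprime (orderOf x) p := by
  constructor
  · intro hx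
    have h1 : orderOf x ∣ Nat.card N := by
      have := orderOf_dvd_natCard (⟨x, hx⟩ : N)
      rwa [Subgroup.orderOf_mk] at this
    exact Nat.Coprime.coprime_dvd_left h1 (card_coprime_of_isComplement'_sylow P hN)
  · intro hx
    have hQ : IsPGroup p (G ⧸ N) := by
      obtain ⟨n, hn⟩ := IsPGroup.iff_card.mp P.isPGroup'
      apply IsPGroup.of_card (n := n)
      rw [← hn, ← index_eq_card_of_isComplement' hN]
      rfl
    obtain ⟨k, hk⟩ := IsPGroup.iff_orderOf.mp hQ (x : G ⧸ N)
    have h1 : orderOf (x : G ⧸ N) ∣ orderOf x := orderOf_map_dvd (QuotientGroup.mk' N) x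
    have h2 : (orderOf (x : G ⧸ N)).Coprime p := Nat.Coprime.coprime_dvd_left h1 hx
    rw [hk] at h2
    have hk0 : k = 0 := by
      by_contra hk0
      have := (Nat.coprime_pow_left_iff (Nat.pos_of_ne_zero hk0) p p).mp h2
      rw [Nat.coprime_self] at this
      exact (Fact.out : p.Prime).one_lt.ne' this
    rw [hk0, pow_zero, orderOf_eq_one_iff] at hk
    exact (QuotientGroup.eq_one_iff x).mp hk

end Cfsg.Agent.Lib.Helper1
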