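import Mathlib
import Cfsg.Prelude.Def_Transfer
import Cfsg.Agent.Lib.Helper1.NPC

set_option autoImplicit false

namespace Cfsg.Agent.Lib.Helper1

open scoped Pointwise commutatorElement

variable {G : Type*} [Group G]

theorem isComplement'_sylow_of_isComplement'_sylow [Finite G] {p : ℕ} [Fact p.Prime]
    (P P' : Sylow p G) {N : Subgroup G} (hN : N.IsComplement' (P' : Subgroup G)) :
    N.IsComplement' (P : Subgroup G) := by
  have hcard : Nat.card (P : Subgroup G) = Nat.card (P' : Subgroup G) := by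
    rw [Sylow.card_eq_multiplicity, Sylow.card_eq_multiplicity]
  apply Subgroup.isComplement'_of_coprime
  · rw [hcard]; exact hN.card_mul_card
  · have h1 := card_coprime_of_isComplement'_sylow P' hN
    obtain ⟨n, hn⟩ := IsPGroup.iff_card.mp P.isPGroup'
    rw [hn]
    exact Nat.Coprime.pow_right n h1

theorem hasNormalPComplement_iff [Finite G] {p : ℕ} [Fact p.Prime] (P : Sylow p G) :
    Cfsg.HasNormalPComplement p G ↔ ∃ N : Subgroup G, N.Normal ∧ N.IsComplement' (P : Subgroup G) := by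
  constructor
  · rintro ⟨P', N, hN, hc⟩
    exact ⟨N, hN, isComplement'_sylow_of_isComplement'_sylow P P' hc⟩
  · rintro ⟨N, hN, hc⟩
    exact ⟨P, N, hN, hc⟩

theorem exists_direct_factor_normalizer_of_npc [Finite G] {p : ℕ} [Fact p.Prime] (P : Sylow p G)
    (N : Subgroup G) [N.Normal] (hN : N.IsComplement' (P : Subgroup G)) :
    ∃ Q : Subgroup G, Q ≤ Subgroup.centralizer ((P : Subgroup G) : Set G) ∧ Q ⊓ (P : Subgroup G) = ⊥ ∧
      Q ⊔ (P : Subgroup G) = Subgroup.normalizer ((P : Subgroup G) : Set G) := by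
  have hdisj : N ⊓ (P : Subgroup G) = ⊥ := hN.disjoint.eq_bot
  refine ⟨N ⊓ Subgroup.normalizer ((P : Subgroup G) : Set G), ?_, ?_, ?_⟩
  · rintro q ⟨hqN, hqP⟩
    rw [Subgroup.mem_centralizer_iff]
    intro x hx
    have hxP : x ∈ (P : Subgroup G) := hx
    have h1 : q * x * q⁻¹ * x⁻¹ ∈ N := by
      have : q * x * q⁻¹ * x⁻¹ = q * (x * q⁻¹ * x⁻¹) := by group
      rw [this]
      exact N.mul_mem hqN (Subgroup.Normal.conj_mem inferInstance _ (N.inv_mem hqN) x)
    have h2 : q * x * q⁻¹ * x⁻¹ ∈ (P : Subgroup G) := by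
      have h3 : q * x * q⁻¹ ∈ (P : Subgroup G) := (Subgroup.mem_normalizer_iff.mp hqP x).mp hxP
      exact (P : Subgroup G).mul_mem h3 ((P : Subgroup G).inv_mem hxP)
    have h4 : q * x * q⁻¹ * x⁻¹ ∈ N ⊓ (P : Subgroup G) := ⟨h1, h2⟩
    rw [hdisj, Subgroup.mem_bot] at h4
    have : x * q = (q * x * q⁻¹ * x⁻¹)⁻¹ * (q * x) := by group
    rw [this, h4, inv_one, one_mul]
  · rw [eq_bot_iff, ← hdisj]
    exact inf_le_inf_right _ inf_le_left
  · apply le_antisymm
    · exact sup_le inf_le_right Subgroup.le_normalizer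
    · intro x hx
      have hx' : x ∈ N ⊔ (P : Subgroup G) := by rw [hN.sup_eq_top]; exact Subgroup.mem_top x
      rw [Subgroup.mem_sup_of_normal_left] at hx'
      obtain ⟨n, hn, y, hy, rfl⟩ := hx'
      have hyN : y ∈ Subgroup.normalizer ((P : Subgroup G) : Set G) := Subgroup.le_normalizer hy
      have hnN : n ∈ Subgroup.normalizer ((P : Subgroup G) : Set G) := by
        have : n = (n * y) * y⁻¹ := by group
        rw [this]
        exact Subgroup.mul_mem _ hx (Subgroup.inv_mem _ hyN)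
      exact Subgroup.mul_mem _ (Subgroup.mem_sup_left ⟨hn, hnN⟩) (Subgroup.mem_sup_right hy)

theorem npc_of_direct_factor_normalizer [Finite G] {p : ℕ} [Fact p.Prime] (P : Sylow p G)
    (hP : IsMulCommutative P) (Q : Subgroup G)
    (hQ : Q ≤ Subgroup.centralizer ((P : Subgroup G) : Set G))
    (hsup : Q ⊔ (P : Subgroup G) = Subgroup.normalizer ((P : Subgroup G) : Set G)) :
    Cfsg.HasNormalPComplement p G := by
  have hc : IsMulCommutative (P : Subgroup G) := hP
  have h : Subgroup.normalizer ((P : Subgroup G) : Set G) ≤ Subgroup.centralizer ((P : Subgroup G) : Set G) := by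
    rw [← hsup]
    exact sup_le hQ (Subgroup.le_centralizer (P : Subgroup G))
  exact ⟨P, _, inferInstance, MonoidHom.ker_transferSylow_isComplement' P h⟩

end Cfsg.Agent.Lib.Helper1
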