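import Mathlib
import Cfsg.Agent.Lib.Helper29.OddCyclic
import Cfsg.Agent.Lib.Helper19.UniqueInvolution
import Cfsg.Agent.Lib.helper14.Quat

set_option autoImplicit false

namespace Cfsg.Agent.Lib.Helper1

theorem cyclic_or_quaternion_of_unique {P : Type*} [Group P] [Finite P] (hP2 : IsPGroup 2 P)
    (huniq' : ∀ H K : Subgroup P, Nat.card H = 2 → Nat.card K = 2 → H = K) :
    IsCyclic P ∨ ∃ n : ℕ, Nonempty (P ≃* QuaternionGroup (2 ^ n)) := by
  have : Fact (Nat.Prime 2) := ⟨Nat.prime_two⟩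
  by_cases htriv : Nat.card P = 1
  · left
    have := (Nat.card_eq_one_iff_unique.mp htriv).1
    exact isCyclic_of_subsingleton
  have hPdvd : 2 ∣ Nat.card P := by
    rcases hP2.card_eq_or_dvd with h0 | h0
    · exact absurd h0 htriv
    · exact h0
  obtain ⟨z, hz⟩ := exists_prime_orderOf_dvd_card' (G := P) 2 hPdvd
  have hz1 : z ≠ 1 := by
    intro h; rw [h, orderOf_one] at hz; omega
  have hz2 : z * z = 1 := by
    have h0 := pow_orderOf_eq_one z
    rw [hz, pow_two] at h0
    exact h0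
  have huq : ∀ u : P, u * u = 1 → u = 1 ∨ u = z := by
    intro u hu
    by_cases hu1 : u = 1
    · left; exact hu1
    · right
      have huo : orderOf u = 2 := orderOf_eq_prime (by rw [pow_two]; exact hu) hu1
      have h1 : Subgroup.zpowers u = Subgroup.zpowers z :=
        huniq' _ _ (by rw [Nat.card_zpowers, huo]) (by rw [Nat.card_zpowers, hz])
      have h2 : u ∈ Subgroup.zpowers z := by rw [← h1]; exact Subgroup.mem_zpowers u
      obtain ⟨k, hk⟩ := Subgroup.mem_zpowers_iff.mp h2
      rw [← zpow_mod_orderOf, hz, Nat.cast_ofNat] at hk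
      rcases Int.emod_two_eq_zero_or_one k with h3 | h3
      · exfalso; rw [h3, zpow_zero] at hk; exact hu1 hk.symm
      · rw [h3, zpow_one] at hk; exact hk.symm
  by_cases hab : ∀ g h : P, g * h = h * g
  · left
    obtain ⟨a, -, ha⟩ := Cfsg.Agent.Lib.Helper19.cyclic_of_comm_unique_involution hP2 z huq ⊤
      (fun a _ b _ => hab a b)
    exact isCyclic_iff_exists_zpowers_eq_top.mpr ⟨a, ha.symm⟩
  · right
    obtain ⟨n, hn2, a, y, hao, -, hya, hyy, haz, -, hcard⟩ :=
      Cfsg.Agent.Lib.Helper19.quaternion_structure hP2 z hz1 hz2 huq hab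
    have hn : n - 1 + 1 = n := by omega
    have hord : orderOf a = 2 * 2 ^ (n - 1) := by rw [hao, ← pow_succ', hn]
    have hw : y * y = a ^ (2 ^ (n - 1)) := by rw [hyy, haz]
    obtain ⟨hc, ⟨e⟩⟩ := Cfsg.Agent.Lib.helper14.quaternion_closure (2 ^ (n - 1))
      Nat.one_le_two_pow a y hord hw hya
    have htop : Subgroup.closure ({a, y} : Set P) = ⊤ := by
      apply Subgroup.eq_top_of_card_eq
      rw [hc, hcard]
      have : n + 1 = (n - 1) + 2 := by omega
      rw [this, pow_add]; ring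
    exact ⟨n - 1, ⟨(Subgroup.topEquiv.symm.trans (MulEquiv.subgroupCongr htop.symm)).trans e⟩⟩

end Cfsg.Agent.Lib.Helper1
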