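import Mathlib

set_option autoImplicit false

namespace Cfsg.Agent.Lib.Helper1

abbrev SL23 := Matrix.SpecialLinearGroup (Fin 2) (ZMod 3)

structure QGens {X : Type*} [Group X] (i j g : X) : Prop where
  i4 : i ^ 4 = 1
  j2 : j ^ 2 = i ^ 2
  ji : j * i * j⁻¹ = i ^ 3
  gi : g * i * g⁻¹ = j
  gj : g * j * g⁻¹ = i * j
  g3 : g ^ 3 = 1

namespace QGens

variable {X : Type*} [Group X] {i j g : X}

theorem j4 (h : QGens i j g) : j ^ 4 = 1 := by
  have : j ^ 4 = (j ^ 2) ^ 2 := by rw [← pow_mul]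
  rw [this, h.j2, ← pow_mul]
  exact h.i4

theorem j_mul_pow (h : QGens i j g) (m : ℕ) : j * i ^ m = i ^ (3 * m) * j := by
  have h1 : j * i ^ m * j⁻¹ = (j * i * j⁻¹) ^ m := (conj_pow).symm
  rw [h.ji, ← pow_mul] at h1
  calc j * i ^ m = j * i ^ m * j⁻¹ * j := by group
    _ = i ^ (3 * m) * j := by rw [h1]

theorem jpow_mul_pow (h : QGens i j g) (d m : ℕ) : j ^ d * i ^ m = i ^ (3 ^ d * m) * j ^ d := by
  induction d generalizing m with
  | zero => simp
  | succ d ih =>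
    calc j ^ (d + 1) * i ^ m = j ^ d * (j * i ^ m) := by rw [pow_succ]; group
      _ = j ^ d * (i ^ (3 * m) * j) := by rw [h.j_mul_pow]
      _ = (j ^ d * i ^ (3 * m)) * j := by group
      _ = (i ^ (3 ^ d * (3 * m)) * j ^ d) * j := by rw [ih]
      _ = i ^ (3 ^ (d + 1) * m) * j ^ (d + 1) := by
        rw [pow_succ 3 d, pow_succ j d, mul_assoc, mul_assoc]

def Qs (i j : X) : Set X := {y | ∃ a b : ℕ, y = i ^ a * j ^ b}

theorem Qs_mul (h : QGens i j g) {y y' : X} (hy : y ∈ Qs i j) (hy' : y' ∈ Qs i j) :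
    y * y' ∈ Qs i j := by
  obtain ⟨a, b, rfl⟩ := hy
  obtain ⟨c, d, rfl⟩ := hy'
  refine ⟨a + 3 ^ b * c, b + d, ?_⟩
  calc i ^ a * j ^ b * (i ^ c * j ^ d) = i ^ a * (j ^ b * i ^ c) * j ^ d := by group
    _ = i ^ a * (i ^ (3 ^ b * c) * j ^ b) * j ^ d := by rw [h.jpow_mul_pow]
    _ = i ^ (a + 3 ^ b * c) * j ^ (b + d) := by rw [pow_add, pow_add]; group

theorem Qs_one : (1 : X) ∈ Qs i j := ⟨0, 0, by simp⟩

theorem Qs_i : i ∈ Qs i j := ⟨1, 0, by simp⟩

theorem Qs_j : j ∈ Qs i j := ⟨0, 1, by simp⟩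

theorem Qs_pow (h : QGens i j g) {y : X} (hy : y ∈ Qs i j) (n : ℕ) : y ^ n ∈ Qs i j := by
  induction n with
  | zero => simpa using Qs_one
  | succ n ih => rw [pow_succ]; exact h.Qs_mul ih hy

theorem conj_Qs (h : QGens i j g) {y : X} (hy : y ∈ Qs i j) : g * y * g⁻¹ ∈ Qs i j := by
  obtain ⟨a, b, rfl⟩ := hy
  have e : g * (i ^ a * j ^ b) * g⁻¹ = (g * i * g⁻¹) ^ a * (g * j * g⁻¹) ^ b := by
    rw [conj_pow, conj_pow]; group
  rw [e, h.gi, h.gj]
  exact h.Qs_mul (h.Qs_pow Qs_j a) (h.Qs_pow (h.Qs_mul Qs_i Qs_j) b)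

def Ss (i j g : X) : Set X := {y | ∃ q ∈ Qs i j, ∃ k : ℕ, y = q * g ^ k}

theorem Ss_one : (1 : X) ∈ Ss i j g := ⟨1, Qs_one, 0, by simp⟩

theorem Ss_i (h : QGens i j g) {y : X} (hy : y ∈ Ss i j g) : i * y ∈ Ss i j g := by
  obtain ⟨q, hq, k, rfl⟩ := hy
  exact ⟨i * q, h.Qs_mul Qs_i hq, k, by group⟩

theorem Ss_j (h : QGens i j g) {y : X} (hy : y ∈ Ss i j g) : j * y ∈ Ss i j g := by
  obtain ⟨q, hq, k, rfl⟩ := hy
  exact ⟨j * q, h.Qs_mul Qs_j hq, k, by group⟩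

theorem Ss_g (h : QGens i j g) {y : X} (hy : y ∈ Ss i j g) : g * y ∈ Ss i j g := by
  obtain ⟨q, hq, k, rfl⟩ := hy
  refine ⟨g * q * g⁻¹, h.conj_Qs hq, k + 1, ?_⟩
  rw [pow_succ']; group

theorem Ss_i_inv (h : QGens i j g) {y : X} (hy : y ∈ Ss i j g) : i⁻¹ * y ∈ Ss i j g := by
  have e : i⁻¹ * y = i * (i * (i * y)) := by
    calc i⁻¹ * y = i⁻¹ * (i ^ 4 * y) := by rw [h.i4, one_mul]
      _ = i * (i * (i * y)) := by simp only [pow_succ, pow_zero, one_mul, mul_assoc, inv_mul_cancel_left]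
  rw [e]
  exact h.Ss_i (h.Ss_i (h.Ss_i hy))

theorem Ss_j_inv (h : QGens i j g) {y : X} (hy : y ∈ Ss i j g) : j⁻¹ * y ∈ Ss i j g := by
  have e : j⁻¹ * y = j * (j * (j * y)) := by
    calc j⁻¹ * y = j⁻¹ * (j ^ 4 * y) := by rw [h.j4, one_mul]
      _ = j * (j * (j * y)) := by simp only [pow_succ, pow_zero, one_mul, mul_assoc, inv_mul_cancel_left]
  rw [e]
  exact h.Ss_j (h.Ss_j (h.Ss_j hy))

theorem Ss_g_inv (h : QGens i j g) {y : X} (hy : y ∈ Ss i j g) : g⁻¹ * y ∈ Ss i j g := by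
  have e : g⁻¹ * y = g * (g * y) := by
    calc g⁻¹ * y = g⁻¹ * (g ^ 3 * y) := by rw [h.g3, one_mul]
      _ = g * (g * y) := by simp only [pow_succ, pow_zero, one_mul, mul_assoc, inv_mul_cancel_left]
  rw [e]
  exact h.Ss_g (h.Ss_g hy)

theorem closure_subset_Ss (h : QGens i j g) :
    ((Subgroup.closure ({i, j, g} : Set X) : Subgroup X) : Set X) ⊆ Ss i j g := by
  intro y hy
  induction hy using Subgroup.closure_induction_left with
  | one => exact Ss_one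
  | mul_left x hx y _ ih =>
    rcases hx with rfl | rfl | rfl
    · exact h.Ss_i ih
    · exact h.Ss_j ih
    · exact h.Ss_g ih
  | inv_mul_cancel x hx y _ ih =>
    rcases hx with rfl | rfl | rfl
    · exact h.Ss_i_inv ih
    · exact h.Ss_j_inv ih
    · exact h.Ss_g_inv ih

def nf (i j g : X) : Fin 4 × Fin 2 × Fin 3 → X := fun t => i ^ t.1.val * j ^ t.2.1.val * g ^ t.2.2.val

theorem Ss_subset_range (h : QGens i j g) : Ss i j g ⊆ Set.range (nf i j g) := by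
  rintro y ⟨q, ⟨a, b, rfl⟩, k, rfl⟩
  have hb : j ^ b = i ^ (2 * (b / 2)) * j ^ (b % 2) := by
    conv_lhs => rw [← Nat.div_add_mod b 2]
    rw [pow_add, pow_mul, h.j2, ← pow_mul]
  have hk : g ^ k = g ^ (k % 3) := pow_eq_pow_mod k h.g3
  have ha : i ^ (a + 2 * (b / 2)) = i ^ ((a + 2 * (b / 2)) % 4) := pow_eq_pow_mod _ h.i4
  refine ⟨(⟨(a + 2 * (b / 2)) % 4, Nat.mod_lt _ (by norm_num)⟩,
    ⟨b % 2, Nat.mod_lt _ (by norm_num)⟩, ⟨k % 3, Nat.mod_lt _ (by norm_num)⟩), ?_⟩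
  show i ^ ((a + 2 * (b / 2)) % 4) * j ^ (b % 2) * g ^ (k % 3) = i ^ a * j ^ b * g ^ k
  rw [← ha, ← hk, hb, pow_add]; group

theorem card_closure_le (h : QGens i j g) :
    Nat.card (Subgroup.closure ({i, j, g} : Set X)) ≤ 24 := by
  classical
  have hsub : ((Subgroup.closure ({i, j, g} : Set X) : Subgroup X) : Set X) ⊆
      ((Finset.univ.image (nf i j g) : Finset X) : Set X) := by
    intro y hy
    obtain ⟨t, rfl⟩ := h.Ss_subset_range (h.closure_subset_Ss hy)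
    simp
  have h1 : Nat.card (Subgroup.closure ({i, j, g} : Set X)) ≤
      Nat.card ((Finset.univ.image (nf i j g) : Finset X) : Set X) :=
    Nat.card_mono (Finset.finite_toSet _) hsub
  have h2 : Nat.card ((Finset.univ.image (nf i j g) : Finset X) : Set X) =
      (Finset.univ.image (nf i j g)).card := by
    rw [Nat.card_coe_set_eq, Set.ncard_coe_finset]
  have h3 : (Finset.univ.image (nf i j g)).card ≤ (Finset.univ : Finset (Fin 4 × Fin 2 × Fin 3)).card :=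
    Finset.card_image_le
  have h4 : (Finset.univ : Finset (Fin 4 × Fin 2 × Fin 3)).card = 24 := by
    rw [Finset.card_univ]; simp
  omega

theorem finite_closure (h : QGens i j g) :
    Finite (Subgroup.closure ({i, j, g} : Set X)) := by
  classical
  have hsub : ((Subgroup.closure ({i, j, g} : Set X) : Subgroup X) : Set X) ⊆
      ((Finset.univ.image (nf i j g) : Finset X) : Set X) := by
    intro y hy
    obtain ⟨t, rfl⟩ := h.Ss_subset_range (h.closure_subset_Ss hy)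
    simp
  exact (Set.Finite.subset (Finset.finite_toSet _) hsub).to_subtype

end QGens

def mI : SL23 := ⟨!![0, 1; -1, 0], by decide⟩
def mJ : SL23 := ⟨!![-1, 1; 1, 1], by decide⟩
def mU : SL23 := ⟨!![1, 0; 1, 1], by decide⟩

set_option maxRecDepth 100000 in
theorem qgens_SL23 : QGens mI mJ mU where
  i4 := by decide
  j2 := by decide
  ji := by decide
  gi := by decide
  gj := by decide
  g3 := by decide

set_option maxRecDepth 100000 in
theorem nf_surj_SL23 : ∀ y : SL23, ∃ t : Fin 4 × Fin 2 × Fin 3,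
    y = mI ^ t.1.val * mJ ^ t.2.1.val * mU ^ t.2.2.val := by decide

set_option maxRecDepth 100000 in
theorem normal_fact_SL23 : ∀ y : SL23, y ≠ 1 →
    (∃ r : Fin 4, y ^ r.val = mI ^ 2) ∨
      ∃ u : SL23, ∃ r : Fin 4, (y * (u * y * u⁻¹)) ^ r.val = mI ^ 2 := by decide

theorem card_SL23 : Nat.card SL23 = 24 := by
  rw [Nat.card_eq_fintype_card]; decide

theorem iso_SL23 {X : Type*} [Group X] (i j g : X) (h : QGens i j g)
    (hgen : Subgroup.closure ({i, j, g} : Set X) = ⊤) (hne : i ^ 2 ≠ 1) :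
    Nonempty (X ≃* SL23) := by
  have hS := qgens_SL23
  have hQ : QGens ((i, mI) : X × SL23) (j, mJ) (g, mU) :=
    { i4 := Prod.ext (by simpa using h.i4) (by simpa using hS.i4)
      j2 := Prod.ext (by simpa using h.j2) (by simpa using hS.j2)
      ji := Prod.ext (by simpa using h.ji) (by simpa using hS.ji)
      gi := Prod.ext (by simpa using h.gi) (by simpa using hS.gi)
      gj := Prod.ext (by simpa using h.gj) (by simpa using hS.gj)
      g3 := Prod.ext (by simpa using h.g3) (by simpa using hS.g3) }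
  obtain ⟨Δ, hΔ⟩ : ∃ Δ : Subgroup (X × SL23),
    Δ = Subgroup.closure ({((i, mI) : X × SL23), (j, mJ), (g, mU)} : Set (X × SL23)) := ⟨_, rfl⟩
  have hcard : Nat.card Δ ≤ 24 := by rw [hΔ]; exact hQ.card_closure_le
  haveI hfin : Finite Δ := by rw [hΔ]; exact hQ.finite_closure
  have hiΔ : ((i, mI) : X × SL23) ∈ Δ := by rw [hΔ]; exact Subgroup.subset_closure (by simp)
  have hjΔ : ((j, mJ) : X × SL23) ∈ Δ := by rw [hΔ]; exact Subgroup.subset_closure (by simp)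
  have hgΔ : ((g, mU) : X × SL23) ∈ Δ := by rw [hΔ]; exact Subgroup.subset_closure (by simp)
  let π₁ : Δ →* X := (MonoidHom.fst X SL23).comp Δ.subtype
  let π₂ : Δ →* SL23 := (MonoidHom.snd X SL23).comp Δ.subtype
  have hs₂ : Function.Surjective π₂ := by
    intro y
    obtain ⟨t, rfl⟩ := nf_surj_SL23 y
    refine ⟨⟨((i, mI) : X × SL23) ^ t.1.val * (j, mJ) ^ t.2.1.val * (g, mU) ^ t.2.2.val,
      Δ.mul_mem (Δ.mul_mem (Δ.pow_mem hiΔ _) (Δ.pow_mem hjΔ _)) (Δ.pow_mem hgΔ _)⟩, ?_⟩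
    simp [π₂]
  have hs₁ : Function.Surjective π₁ := by
    rw [← MonoidHom.range_eq_top, eq_top_iff, ← hgen, Subgroup.closure_le]
    rintro y (rfl | rfl | rfl)
    · exact ⟨⟨_, hiΔ⟩, rfl⟩
    · exact ⟨⟨_, hjΔ⟩, rfl⟩
    · exact ⟨⟨_, hgΔ⟩, rfl⟩
  have hb₂ : Function.Bijective π₂ :=
    hs₂.bijective_of_nat_card_le (by rw [card_SL23]; exact hcard)
  let e₂ : Δ ≃* SL23 := MulEquiv.ofBijective π₂ hb₂
  let θ : SL23 →* X := π₁.comp e₂.symm.toMonoidHom
  have hθs : Function.Surjective θ := by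
    intro y
    obtain ⟨d, rfl⟩ := hs₁ y
    exact ⟨e₂ d, by simp [θ]⟩
  have hθI : θ mI = i := by
    have h1 : e₂ ⟨(i, mI), hiΔ⟩ = mI := rfl
    have h2 : e₂.symm mI = ⟨(i, mI), hiΔ⟩ := (MulEquiv.symm_apply_eq e₂).mpr h1.symm
    show π₁ (e₂.symm mI) = i
    rw [h2]; rfl
  have hθi : Function.Injective θ := by
    rw [injective_iff_map_eq_one]
    intro y hy
    by_contra hy1
    have hI2 : θ (mI ^ 2) = i ^ 2 := by rw [map_pow, hθI]
    rcases normal_fact_SL23 y hy1 with ⟨r, hr⟩ | ⟨u, r, hr⟩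
    · apply hne
      rw [← hI2, ← hr, map_pow, hy, one_pow]
    · apply hne
      rw [← hI2, ← hr, map_pow, map_mul, map_mul, map_mul, hy]
      simp
  exact ⟨(MulEquiv.ofBijective θ ⟨hθi, hθs⟩).symm⟩

end Cfsg.Agent.Lib.Helper1
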