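import Mathlib
import Cfsg.Agent.Lib.Helper1.SL23Recog

set_option autoImplicit false

namespace Cfsg.Agent.Lib.Helper1

variable {G : Type*} [Group G]

theorem conj_eq_of_odd_of_mem_zpowers [Finite G] (c g : G)
    (hc : ∃ k : ℕ, orderOf c = 2 ^ k) (hgn : g * c * g⁻¹ ∈ Subgroup.zpowers c)
    (hodd : Nat.Coprime (orderOf g) 2) : g * c * g⁻¹ = c := by
  obtain ⟨k, hk⟩ := hc
  rcases Nat.eq_zero_or_pos k with hk0 | hkpos
  · have : c = 1 := by
      rw [← orderOf_eq_one_iff, hk, hk0, pow_zero]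
    subst this; simp
  obtain ⟨u, hu⟩ : ∃ u : ℕ, c ^ u = g * c * g⁻¹ := by
    rw [← mem_powers_iff_mem_zpowers] at hgn
    exact (Submonoid.mem_powers_iff _ _).mp hgn
  have hord : orderOf (c ^ u) = orderOf c := by
    rw [hu]
    have := MulEquiv.orderOf_eq (MulAut.conj g) c
    rwa [MulAut.conj_apply] at this
  have hpos : 0 < orderOf c := orderOf_pos c
  have hcop : Nat.Coprime u (orderOf c) := by
    rw [orderOf_pow] at hord
    have h1 : Nat.gcd (orderOf c) u = 1 := by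
      rcases Nat.div_eq_self.mp hord with h | h
      · omega
      · exact h
    rw [Nat.Coprime, Nat.gcd_comm]; exact h1
  have hpow : ∀ r : ℕ, g ^ r * c * (g ^ r)⁻¹ = c ^ (u ^ r) := by
    intro r
    induction r with
    | zero => simp
    | succ r ih =>
      have e1 : g ^ (r + 1) * c * (g ^ (r + 1))⁻¹ = g * (g ^ r * c * (g ^ r)⁻¹) * g⁻¹ := by
        rw [pow_succ']; group
      rw [e1, ih, ← conj_pow, ← hu, ← pow_mul, pow_succ']
  have h1 : u ^ Nat.totient (orderOf c) ≡ 1 [MOD orderOf c] := Nat.ModEq.pow_totient hcop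
  have h2 : g ^ Nat.totient (orderOf c) * c * (g ^ Nat.totient (orderOf c))⁻¹ = c := by
    rw [hpow]
    conv_rhs => rw [← pow_one c]
    exact pow_eq_pow_iff_modEq.mpr h1
  have ht : Nat.Coprime (Nat.totient (orderOf c)) (orderOf g) := by
    obtain ⟨k', rfl⟩ : ∃ k', k = k' + 1 := ⟨k - 1, by omega⟩
    rw [hk, Nat.totient_prime_pow_succ Nat.prime_two]
    simp only [Nat.add_one_sub_one, mul_one]
    exact (Nat.Coprime.pow_right k' hodd).symm
  obtain ⟨s, hs⟩ := exists_pow_eq_self_of_coprime ht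
  have hc1 : Commute (g ^ Nat.totient (orderOf c)) c := by
    have : g ^ Nat.totient (orderOf c) * c =
        (g ^ Nat.totient (orderOf c) * c * (g ^ Nat.totient (orderOf c))⁻¹) *
          g ^ Nat.totient (orderOf c) := by group
    rw [h2] at this
    exact this
  have hc2 : Commute g c := by
    have := hc1.pow_left s
    rwa [hs] at this
  calc g * c * g⁻¹ = c * g * g⁻¹ := by rw [hc2.eq]
    _ = c := by group

theorem commute_of_sq_commute [Finite G] (c g : G) (hodd : Nat.Coprime (orderOf g) 2)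
    (h : Commute (g ^ 2) c) : Commute g c := by
  obtain ⟨s, hs⟩ := exists_pow_eq_self_of_coprime (x := g) (n := 2) hodd.symm
  have := h.pow_left s
  rwa [hs] at this

theorem coprime_two_pow_sq {g : G} (hodd : Nat.Coprime (orderOf g) 2) :
    Nat.Coprime (orderOf (g ^ 2)) 2 :=
  Nat.Coprime.coprime_dvd_left (orderOf_pow_dvd 2) hodd

theorem qrel_cube {i j g : G} (hjj : j * j = i * i)
    (hji : j * i * j⁻¹ = i⁻¹) (hgi : g * i * g⁻¹ = j) (hgj : g * j * g⁻¹ = i * j) :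
    Commute (g ^ 3) i ∧ Commute (g ^ 3) j := by
  have hjij : j * i * j = i := by
    calc j * i * j = (j * i * j⁻¹) * (j * j) := by group
      _ = i := by rw [hji, hjj]; group
  have hgij : g * (i * j) * g⁻¹ = i := by
    calc g * (i * j) * g⁻¹ = (g * i * g⁻¹) * (g * j * g⁻¹) := by group
      _ = j * (i * j) := by rw [hgi, hgj]
      _ = j * i * j := by group
      _ = i := hjij
  have e3 : g ^ 3 = g * g * g := by rw [pow_succ, pow_succ, pow_one]
  have h3i : g ^ 3 * i * (g ^ 3)⁻¹ = i := by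
    calc g ^ 3 * i * (g ^ 3)⁻¹ = g * (g * (g * i * g⁻¹) * g⁻¹) * g⁻¹ := by
          rw [e3]; simp only [mul_inv_rev, mul_assoc]
      _ = i := by rw [hgi, hgj, hgij]
  have h3j : g ^ 3 * j * (g ^ 3)⁻¹ = j := by
    calc g ^ 3 * j * (g ^ 3)⁻¹ = g * (g * (g * j * g⁻¹) * g⁻¹) * g⁻¹ := by
          rw [e3]; simp only [mul_inv_rev, mul_assoc]
      _ = j := by rw [hgj, hgij, hgi]
  constructor
  · calc g ^ 3 * i = (g ^ 3 * i * (g ^ 3)⁻¹) * g ^ 3 := by group
      _ = i * g ^ 3 := by rw [h3i]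
  · calc g ^ 3 * j = (g ^ 3 * j * (g ^ 3)⁻¹) * g ^ 3 := by group
      _ = j * g ^ 3 := by rw [h3j]

theorem exists_pow_of_mem_zpowers [Finite G] {c y : G} (h : y ∈ Subgroup.zpowers c) :
    ∃ m : ℕ, c ^ m = y := by
  rw [← mem_powers_iff_mem_zpowers] at h
  exact (Submonoid.mem_powers_iff _ _).mp h

theorem conj_cancel {g a b : G} (h : g * a * g⁻¹ = g * b * g⁻¹) : a = b := by
  have := congrArg (fun t => g⁻¹ * t * g) h
  simpa [mul_assoc] using this

theorem quat_odd_aut [Finite G] (T A : Subgroup G) (z : G)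
    (hT2 : IsPGroup 2 T) (hAcyc : IsCyclic A) (hz1 : z ≠ 1) (hzz : z * z = 1)
    (hzA : z ∈ A)
    (hP1 : ∀ y ∈ T, y ∉ A → y * y = z)
    (hP1' : ∀ y ∈ T, y ∉ A → ∀ a ∈ A, y * a * y⁻¹ = a⁻¹)
    (hP2 : ∀ y ∈ T, ∀ y' ∈ T, y ∉ A → y' ∉ A → y⁻¹ * y' ∈ A)
    (hP3 : ∀ a ∈ A, a * a = 1 → a = 1 ∨ a = z)
    (Q : Subgroup G) (hQT : Q ≤ T) (g : G) (hgN : g ∈ Subgroup.normalizer (Q : Set G))
    (hodd : Nat.Coprime (orderOf g) 2) (hgC : g ∉ Subgroup.centralizer (Q : Set G)) :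
    ∃ i j g' : G, i ^ 4 = 1 ∧ i ^ 2 ≠ 1 ∧ j * j = i * i ∧ j * i * j⁻¹ = i⁻¹ ∧
      g' * i * g'⁻¹ = j ∧ g' * j * g'⁻¹ = i * j ∧ Nat.Coprime (orderOf g') 2 := by
  classical
  haveI : Fact (Nat.Prime 2) := ⟨Nat.prime_two⟩
  have h2el : ∀ y ∈ T, ∃ k : ℕ, orderOf y = 2 ^ k := by
    intro y hy
    obtain ⟨k, hk⟩ := (IsPGroup.iff_orderOf.mp hT2) ⟨y, hy⟩
    exact ⟨k, by rw [← hk, Subgroup.orderOf_mk]⟩
  have hconjQ : ∀ y ∈ Q, g * y * g⁻¹ ∈ Q := fun y hy =>
    (Subgroup.mem_normalizer_iff.mp hgN y).mp hy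
  have hcomm_of : ∀ y : G, g * y * g⁻¹ = y → y * g = g * y := by
    intro y h
    calc y * g = (g * y * g⁻¹) * g := by rw [h]
      _ = g * y := by group
  have hprinc : ∀ c ∈ Q, (∀ y ∈ Q, y ∈ Subgroup.zpowers c) → False := by
    intro c hc hall
    have h1 := conj_eq_of_odd_of_mem_zpowers c g (h2el c (hQT hc)) (hall _ (hconjQ c hc)) hodd
    apply hgC
    rw [Subgroup.mem_centralizer_iff]
    intro y hy
    obtain ⟨m, rfl⟩ := exists_pow_of_mem_zpowers (hall y hy)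
    apply hcomm_of
    rw [← conj_pow, h1]
  obtain ⟨b, hbB, hbgen⟩ : ∃ b ∈ Q ⊓ A, ∀ y ∈ Q ⊓ A, y ∈ Subgroup.zpowers b := by
    haveI : IsCyclic ↥(Q ⊓ A) :=
      isCyclic_of_injective (Subgroup.inclusion (inf_le_right : Q ⊓ A ≤ A))
        (Subgroup.inclusion_injective _)
    obtain ⟨b, hb⟩ := IsCyclic.exists_generator (α := ↥(Q ⊓ A))
    refine ⟨b.1, b.2, fun y hy => ?_⟩
    obtain ⟨m, hm⟩ := Subgroup.mem_zpowers_iff.mp (hb ⟨y, hy⟩)
    refine Subgroup.mem_zpowers_iff.mpr ⟨m, ?_⟩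
    have := congrArg Subtype.val hm
    simpa using this
  have hE : (∀ y ∈ Q ⊓ A, g * y * g⁻¹ = y) → False := by
    intro hcent
    apply hgC
    rw [Subgroup.mem_centralizer_iff]
    intro y hy
    apply hcomm_of
    by_cases hyA : y ∈ A
    · exact hcent y ⟨hy, hyA⟩
    · have hy'Q := hconjQ y hy
      have hy'A : g * y * g⁻¹ ∉ A := by
        intro h
        have h1 : g * (g * y * g⁻¹) * g⁻¹ = g * y * g⁻¹ := hcent _ ⟨hy'Q, h⟩
        have h2 : g * y * g⁻¹ = y := conj_cancel h1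
        exact hyA (h2 ▸ h)
      obtain ⟨b', hb'⟩ : ∃ b', b' = y⁻¹ * (g * y * g⁻¹) := ⟨_, rfl⟩
      have hb'A : b' ∈ A := hb' ▸ hP2 y (hQT hy) _ (hQT hy'Q) hyA hy'A
      have hb'Q : b' ∈ Q := hb' ▸ Q.mul_mem (Q.inv_mem hy) hy'Q
      have hb'c : g * b' * g⁻¹ = b' := hcent b' ⟨hb'Q, hb'A⟩
      have hgy : g * y * g⁻¹ = y * b' := by rw [hb']; group
      have hpow : ∀ r : ℕ, g ^ r * y * (g ^ r)⁻¹ = y * b' ^ r := by
        intro r
        induction r with
        | zero => simp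
        | succ r ih =>
          have e1 : g ^ (r + 1) * y * (g ^ (r + 1))⁻¹ = g * (g ^ r * y * (g ^ r)⁻¹) * g⁻¹ := by
            rw [pow_succ']; group
          have e2 : g * (y * b' ^ r) * g⁻¹ = (g * y * g⁻¹) * (g * b' * g⁻¹) ^ r := by
            rw [conj_pow]; group
          rw [e1, ih, e2, hgy, hb'c, pow_succ', mul_assoc]
      have h1 := hpow (orderOf g)
      rw [pow_orderOf_eq_one] at h1
      have h2 : b' ^ orderOf g = 1 := by
        have : y = y * b' ^ orderOf g := by simpa using h1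
        exact (mul_eq_left.mp this.symm)
      obtain ⟨k, hk⟩ := h2el b' (hQT hb'Q)
      have h3 : orderOf b' ∣ orderOf g := orderOf_dvd_of_pow_eq_one h2
      have h4 : b' = 1 := by
        rw [← orderOf_eq_one_iff, hk]
        rcases Nat.eq_zero_or_pos k with h0 | hpos
        · rw [h0, pow_zero]
        · exfalso
          have hc : Nat.Coprime (orderOf b') 2 := Nat.Coprime.coprime_dvd_left h3 hodd
          rw [hk] at hc
          have h5 : 2 ∣ Nat.gcd (2 ^ k) 2 := Nat.dvd_gcd (dvd_pow_self 2 hpos.ne') dvd_rfl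
          rw [hc] at h5
          omega
      rw [hgy, h4, mul_one]
  have hbQ : b ∈ Q := hbB.1
  have hbA : b ∈ A := hbB.2
  have hgb : g * b * g⁻¹ ≠ b := by
    intro h
    apply hE
    intro y hy
    obtain ⟨m, rfl⟩ := exists_pow_of_mem_zpowers (hbgen y hy)
    rw [← conj_pow, h]
  have hH1 : ∀ y ∈ T, y ∉ A → y ^ 4 = 1 := by
    intro y hy hyA
    have := hP1 y hy hyA
    calc y ^ 4 = (y * y) * (y * y) := by simp only [pow_succ, pow_zero, one_mul, mul_assoc]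
      _ = 1 := by rw [this, hzz]
  have hb4 : b ^ 4 = 1 := by
    by_contra hb4
    have h1 : g * b * g⁻¹ ∈ A := by
      by_contra hnA
      have h2 := hH1 _ (hQT (hconjQ b hbQ)) hnA
      rw [conj_pow] at h2
      apply hb4
      have h3 : g * b ^ 4 * g⁻¹ = g * 1 * g⁻¹ := by rw [h2]; group
      exact conj_cancel h3
    exact hgb (conj_eq_of_odd_of_mem_zpowers b g (h2el b (hQT hbQ))
      (hbgen _ ⟨hconjQ b hbQ, h1⟩) hodd)
  obtain ⟨x₀, hx₀Q, hx₀A⟩ : ∃ x₀ ∈ Q, x₀ ∉ A := by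
    by_contra hcon
    push Not at hcon
    exact hprinc b hbQ (fun y hy => hbgen y ⟨hy, hcon y hy⟩)
  have hzQ : z ∈ Q := by
    rw [← hP1 x₀ (hQT hx₀Q) hx₀A]; exact Q.mul_mem hx₀Q hx₀Q
  have hzb : z ∈ Subgroup.zpowers b := hbgen z ⟨hzQ, hzA⟩
  have hb2 : b * b ≠ 1 := by
    intro hb2
    have hb2' : b ^ 2 = 1 := by rw [pow_two]; exact hb2
    have hred : ∀ y ∈ Subgroup.zpowers b, y = 1 ∨ y = b := by
      intro y hy
      obtain ⟨m, rfl⟩ := exists_pow_of_mem_zpowers hy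
      rw [pow_eq_pow_mod m hb2']
      rcases Nat.mod_two_eq_zero_or_one m with h | h
      · left; rw [h, pow_zero]
      · right; rw [h, pow_one]
    have hzb' : z = b := by
      rcases hred z hzb with h | h
      · exact absurd h hz1
      · exact h
    have hx2 : x₀ * x₀ = z := hP1 x₀ (hQT hx₀Q) hx₀A
    apply hprinc x₀ hx₀Q
    intro y hy
    by_cases hyA : y ∈ A
    · rcases hred y (hbgen y ⟨hy, hyA⟩) with h | h
      · rw [h]; exact Subgroup.one_mem _
      · rw [h, ← hzb', ← hx2]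
        exact Subgroup.mul_mem _ (Subgroup.mem_zpowers x₀) (Subgroup.mem_zpowers x₀)
    · have h1 : x₀⁻¹ * y ∈ Q ⊓ A :=
        ⟨Q.mul_mem (Q.inv_mem hx₀Q) hy, hP2 x₀ (hQT hx₀Q) y (hQT hy) hx₀A hyA⟩
      have h2 : y = x₀ * (x₀⁻¹ * y) := by group
      rw [h2]
      refine Subgroup.mul_mem _ (Subgroup.mem_zpowers x₀) ?_
      rcases hred _ (hbgen _ h1) with h | h
      · rw [h]; exact Subgroup.one_mem _
      · rw [h, ← hzb', ← hx2]
        exact Subgroup.mul_mem _ (Subgroup.mem_zpowers x₀) (Subgroup.mem_zpowers x₀)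
  have hbbz : b * b = z := by
    have h1 : (b * b) * (b * b) = 1 := by
      rw [← hb4]; simp only [pow_succ, pow_zero, one_mul, mul_assoc]
    rcases hP3 (b * b) (A.mul_mem hbA hbA) h1 with h | h
    · exact absurd h hb2
    · exact h
  obtain ⟨j, hj⟩ : ∃ j, j = g * b * g⁻¹ := ⟨_, rfl⟩
  have hjQ : j ∈ Q := hj ▸ hconjQ b hbQ
  have hjA : j ∉ A := by
    intro h
    apply hgb
    have := conj_eq_of_odd_of_mem_zpowers b g (h2el b (hQT hbQ)) (hbgen _ ⟨hj ▸ hjQ, hj ▸ h⟩) hodd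
    exact this
  have hjj : j * j = b * b := by rw [hbbz]; exact hP1 j (hQT hjQ) hjA
  have hji : j * b * j⁻¹ = b⁻¹ := hP1' j (hQT hjQ) hjA b hbA
  have hbj : b * j = j * b⁻¹ := by
    calc b * j = (j * b * j⁻¹)⁻¹ * j := by rw [hji, inv_inv]
      _ = j * b⁻¹ := by group
  have hjbj : j * b * j = b := by
    calc j * b * j = (j * b * j⁻¹) * (j * j) := by group
      _ = b := by rw [hji, hjj]; group
  obtain ⟨k, hk⟩ : ∃ k, k = g * j * g⁻¹ := ⟨_, rfl⟩
  have hkQ : k ∈ Q := hk ▸ hconjQ j hjQ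
  have hjb_ne : j ≠ b := fun h => hjA (h ▸ hbA)
  have hk_not_zj : k ∉ Subgroup.zpowers j := by
    intro h
    have h1 := conj_eq_of_odd_of_mem_zpowers j g (h2el j (hQT hjQ)) (hk ▸ h) hodd
    apply hjb_ne
    have h2 : g * j * g⁻¹ = g * b * g⁻¹ := by rw [h1, hj]
    exact conj_cancel h2
  have hkA : k ∉ A := by
    intro h
    have h1 : k ∈ Subgroup.zpowers b := hbgen k ⟨hkQ, h⟩
    have h2 : g ^ 2 * b * (g ^ 2)⁻¹ = k := by
      rw [hk, hj, pow_two]; group
    have h3 := conj_eq_of_odd_of_mem_zpowers b (g ^ 2) (h2el b (hQT hbQ)) (h2 ▸ h1)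
      (coprime_two_pow_sq hodd)
    have h4 : Commute (g ^ 2) b := by
      calc g ^ 2 * b = (g ^ 2 * b * (g ^ 2)⁻¹) * g ^ 2 := by group
        _ = b * g ^ 2 := by rw [h3]
    have h5 : Commute g b := commute_of_sq_commute b g hodd h4
    apply hgb
    calc g * b * g⁻¹ = b * g * g⁻¹ := by rw [h5.eq]
      _ = b := by group
  have hb' : j⁻¹ * k ∈ Q ⊓ A :=
    ⟨Q.mul_mem (Q.inv_mem hjQ) hkQ, hP2 j (hQT hjQ) k (hQT hkQ) hjA hkA⟩
  obtain ⟨m, hm⟩ := exists_pow_of_mem_zpowers (hbgen _ hb')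
  have hkm : k = j * b ^ (m % 4) := by
    rw [← pow_eq_pow_mod m hb4, hm]; group
  have hm4 : m % 4 < 4 := Nat.mod_lt _ (by norm_num)
  have hb3 : b ^ 3 = b⁻¹ := by
    apply eq_inv_of_mul_eq_one_left
    rw [← pow_succ]; exact hb4
  have hb2z : b ^ 2 = j * j := by rw [pow_two, hjj]
  interval_cases hmm : m % 4
  · exfalso
    apply hk_not_zj
    rw [hkm, pow_zero, mul_one]
    exact Subgroup.mem_zpowers j
  · refine ⟨b, j * b, g⁻¹, hb4, by rw [pow_two]; exact hb2, ?_, ?_, ?_, ?_, ?_⟩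
    · calc j * b * (j * b) = j * (b * j) * b := by group
        _ = j * (j * b⁻¹) * b := by rw [hbj]
        _ = j * j := by group
        _ = b * b := hjj
    · calc j * b * b * (j * b)⁻¹ = j * b * j⁻¹ := by group
        _ = b⁻¹ := hji
    · have h1 : g * (j * b) * g⁻¹ = b := by
        calc g * (j * b) * g⁻¹ = (g * j * g⁻¹) * (g * b * g⁻¹) := by group
          _ = (j * b) * j := by rw [← hk, ← hj, hkm, pow_one]
          _ = b := hjbj
      calc g⁻¹ * b * g⁻¹⁻¹ = g⁻¹ * (g * (j * b) * g⁻¹) * g := by rw [h1, inv_inv]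
        _ = j * b := by group
    · have h1 : g * (j * b) * g⁻¹ = b := by
        calc g * (j * b) * g⁻¹ = (g * j * g⁻¹) * (g * b * g⁻¹) := by group
          _ = (j * b) * j := by rw [← hk, ← hj, hkm, pow_one]
          _ = b := hjbj
      have h2 : g * (b * (j * b)) * g⁻¹ = j * b := by
        calc g * (b * (j * b)) * g⁻¹ = (g * b * g⁻¹) * (g * (j * b) * g⁻¹) := by group
          _ = j * b := by rw [h1, ← hj]
      calc g⁻¹ * (j * b) * g⁻¹⁻¹ = g⁻¹ * (g * (b * (j * b)) * g⁻¹) * g := by rw [h2, inv_inv]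
        _ = b * (j * b) := by group
    · rw [orderOf_inv]; exact hodd
  · exfalso
    apply hk_not_zj
    rw [hkm, hb2z]
    exact Subgroup.mul_mem _ (Subgroup.mem_zpowers j)
      (Subgroup.mul_mem _ (Subgroup.mem_zpowers j) (Subgroup.mem_zpowers j))
  · refine ⟨b, j, g, hb4, by rw [pow_two]; exact hb2, hjj, hji, hj.symm, ?_, hodd⟩
    rw [← hk, hkm, hb3, hbj]

end Cfsg.Agent.Lib.Helper1
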