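import Mathlib
import Cfsg.Agent.S0001
import Cfsg.Agent.Lib.Helper1.Fusion
import Cfsg.Agent.Lib.Helper1.PmQ
import Cfsg.Agent.Lib.Helper19.Frobenius

set_option autoImplicit false

namespace Cfsg.Agent.Lib.Helper1

open scoped Pointwise commutatorElement

universe u

variable {G : Type*} [Group G]

theorem exists_mem_normalizer_not_mem [Finite G] (A D : Subgroup G) (hA : Group.IsNilpotent A)
    (hDA : D ≤ A) (hne : D ≠ A) :
    ∃ y ∈ A, y ∈ Subgroup.normalizer (D : Set G) ∧ y ∉ D := by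
  have hlt : D.subgroupOf A < ⊤ := by
    rw [lt_top_iff_ne_top]
    intro htop
    rw [Subgroup.subgroupOf_eq_top] at htop
    exact hne (le_antisymm hDA htop)
  have hnc := Group.normalizerCondition_of_isNilpotent (G := A) _ hlt
  obtain ⟨y, hy1, hy2⟩ := SetLike.exists_of_lt hnc
  rw [← Subgroup.subgroupOf_normalizer_eq hDA] at hy1
  exact ⟨y, y.2, hy1, hy2⟩

theorem isCoatom_conj_smul {M : Subgroup G} (hM : IsCoatom M) (g : G) :
    IsCoatom (MulAut.conj g • M) := by
  have h1 : MulAut.conj g • M = (MulAut.conj g).mapSubgroup M := rfl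
  rw [h1]
  exact (OrderIso.isCoatom_iff _ M).mpr hM

theorem coatom_inf_eq_bot_of_simple [Finite G] [IsSimpleGroup G]
    (hnil : ∀ M : Subgroup G, IsCoatom M → Group.IsNilpotent M)
    (M₁ M₂ : Subgroup G) (h₁ : IsCoatom M₁) (h₂ : IsCoatom M₂) (hne : M₁ ≠ M₂) :
    M₁ ⊓ M₂ = ⊥ := by
  have hnonempty : Nonempty {AB : Subgroup G × Subgroup G //
      IsCoatom AB.1 ∧ IsCoatom AB.2 ∧ AB.1 ≠ AB.2} := ⟨⟨(M₁, M₂), h₁, h₂, hne⟩⟩
  obtain ⟨⟨⟨A, B⟩, hA, hB, hAB⟩, hmax⟩ := Finite.exists_max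
    (fun AB : {AB : Subgroup G × Subgroup G // IsCoatom AB.1 ∧ IsCoatom AB.2 ∧ AB.1 ≠ AB.2} =>
      Nat.card (AB.1.1 ⊓ AB.1.2 : Subgroup G))
  have hmax' : ∀ A' B' : Subgroup G, IsCoatom A' → IsCoatom B' → A' ≠ B' →
      Nat.card (A' ⊓ B' : Subgroup G) ≤ Nat.card (A ⊓ B : Subgroup G) :=
    fun A' B' hA' hB' hne' => hmax ⟨(A', B'), hA', hB', hne'⟩
  have hA : IsCoatom A := hA
  have hB : IsCoatom B := hB
  have hAB : A ≠ B := hAB
  have hD : A ⊓ B = ⊥ := by
    by_contra hDne
    set D := A ⊓ B with hDdef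
    have hDtop : D ≠ ⊤ := by
      intro h
      have : A = ⊤ := top_le_iff.mp (h ▸ inf_le_left)
      exact hA.1 this
    have hNtop : Subgroup.normalizer (D : Set G) ≠ ⊤ := by
      intro h
      have hDn : D.Normal := Subgroup.normalizer_eq_top_iff.mp h
      rcases hDn.eq_bot_or_eq_top with h' | h'
      · exact hDne h'
      · exact hDtop h'
    rcases eq_top_or_exists_le_coatom (Subgroup.normalizer (D : Set G)) with h | ⟨M₃, hM₃, hNM₃⟩
    · exact hNtop h
    have key : ∀ A' B' : Subgroup G, IsCoatom A' → IsCoatom B' → A' ≠ B' → A' ⊓ B' = D →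
        M₃ = A' := by
      intro A' B' hA' hB' hne' hD'
      by_contra hne3
      have hDA' : D ≤ A' := by rw [← hD']; exact inf_le_left
      have hDneA' : D ≠ A' := by
        intro h
        apply hne'
        have h1 : A' ≤ B' := by rw [← h, ← hD']; exact inf_le_right
        exact ((hA'.le_iff_eq hB'.1).mp h1).symm
      obtain ⟨y, hyA, hyN, hyD⟩ := exists_mem_normalizer_not_mem A' D (hnil A' hA') hDA' hDneA'
      have h1 : D ≤ M₃ ⊓ A' := le_inf (Subgroup.le_normalizer.trans hNM₃) hDA'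
      have h2 := hmax' M₃ A' hM₃ hA' hne3
      have h3 : D = M₃ ⊓ A' := Subgroup.eq_of_le_of_card_ge h1 h2
      apply hyD
      rw [h3]
      exact ⟨hNM₃ hyN, hyA⟩
    have e1 := key A B hA hB hAB rfl
    have e2 := key B A hB hA hAB.symm (by rw [inf_comm])
    exact hAB (e1.symm.trans e2)
  have h1 := hmax' M₁ M₂ h₁ h₂ hne
  rw [hD, Subgroup.card_bot] at h1
  apply Subgroup.card_eq_one.mp
  have hpos : 0 < Nat.card (M₁ ⊓ M₂ : Subgroup G) := Nat.card_pos
  omega

theorem coatom_isFrobeniusComplement [Finite G] [IsSimpleGroup G]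
    (hnil : ∀ M : Subgroup G, IsCoatom M → Group.IsNilpotent M)
    (M : Subgroup G) (hM : IsCoatom M) (hMbot : M ≠ ⊥) : Cfsg.IsFrobeniusComplement M := by
  refine ⟨hMbot, hM.1, ?_⟩
  intro g hg
  apply coatom_inf_eq_bot_of_simple hnil M _ hM (isCoatom_conj_smul hM g)
  intro heq
  have hgN : g ∈ Subgroup.normalizer (M : Set G) := by
    rw [Subgroup.mem_normalizer_iff]
    intro x
    have h1 : g * x * g⁻¹ ∈ MulAut.conj g • M ↔ x ∈ M := by
      rw [mem_conj_smul_iff]
      have : g⁻¹ * (g * x * g⁻¹) * g = x := by group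
      rw [this]
    rw [← heq] at h1
    exact h1.symm
  have hNM : Subgroup.normalizer (M : Set G) = M := by
    by_contra hne
    have hlt : M < Subgroup.normalizer (M : Set G) := lt_of_le_of_ne Subgroup.le_normalizer (Ne.symm hne)
    have htop := hM.2 _ hlt
    have hMn : M.Normal := Subgroup.normalizer_eq_top_iff.mp htop
    rcases hMn.eq_bot_or_eq_top with h | h
    · exact hMbot h
    · exact hM.1 h
  rw [hNM] at hgN
  exact hg hgN

theorem no_simple_all_coatoms_nilpotent [Finite G] [IsSimpleGroup G]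
    (hnil : ∀ M : Subgroup G, IsCoatom M → Group.IsNilpotent M)
    (hnc : ∃ x y : G, x * y ≠ y * x) : False := by
  have hcyc : ∀ x : G, Subgroup.zpowers x ≠ ⊤ := by
    intro x htop
    obtain ⟨a, b, hab⟩ := hnc
    apply hab
    have ha : a ∈ Subgroup.zpowers x := htop ▸ Subgroup.mem_top a
    have hb : b ∈ Subgroup.zpowers x := htop ▸ Subgroup.mem_top b
    obtain ⟨i, rfl⟩ := Subgroup.mem_zpowers_iff.mp ha
    obtain ⟨j, rfl⟩ := Subgroup.mem_zpowers_iff.mp hb
    rw [← zpow_add, ← zpow_add, add_comm]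
  have hnt : ∃ x : G, x ≠ 1 := by
    obtain ⟨a, b, hab⟩ := hnc
    by_contra hcon
    push Not at hcon
    apply hab
    rw [hcon a, hcon b]
  obtain ⟨x₀, hx₀⟩ := hnt
  rcases eq_top_or_exists_le_coatom (Subgroup.zpowers x₀) with h | ⟨M, hM, hxM⟩
  · exact hcyc x₀ h
  have hMbot : M ≠ ⊥ := by
    intro h
    apply hx₀
    have : x₀ ∈ M := hxM (Subgroup.mem_zpowers x₀)
    rw [h, Subgroup.mem_bot] at this
    exact this
  have hF := coatom_isFrobeniusComplement hnil M hM hMbot
  have hK := Cfsg.Agent.Lib.Helper19.card_frobeniusKernel M hF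
  have hidx2 : 2 ≤ M.index := by
    have h1 : M.index ≠ 1 := fun h => hM.1 (Subgroup.index_eq_one.mp h)
    have h0 : M.index ≠ 0 := Subgroup.index_ne_zero_of_finite
    omega
  have hexx : ∃ x ∈ Cfsg.frobeniusKernel M, x ≠ 1 := by
    by_contra hcon
    push Not at hcon
    have hsub : Cfsg.frobeniusKernel M ⊆ {1} := fun x hx => hcon x hx
    have h1 : Nat.card (Cfsg.frobeniusKernel M) ≤ 1 := by
      rw [Nat.card_coe_set_eq]
      calc (Cfsg.frobeniusKernel M).ncard ≤ ({1} : Set G).ncard :=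
            Set.ncard_le_ncard hsub (Set.toFinite _)
        _ = 1 := Set.ncard_singleton 1
    omega
  obtain ⟨x, hxK, hx1⟩ := hexx
  have hxnot : ∀ g : G, x ∉ MulAut.conj g • M := by
    rcases hxK with h | h
    · exact absurd h hx1
    · exact h
  rcases eq_top_or_exists_le_coatom (Subgroup.zpowers x) with h | ⟨M', hM', hxM'⟩
  · exact hcyc x h
  have hxM'' : x ∈ M' := hxM' (Subgroup.mem_zpowers x)
  have hM'bot : M' ≠ ⊥ := by
    intro h
    apply hx1
    rw [h, Subgroup.mem_bot] at hxM''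
    exact hxM''
  have hF' := coatom_isFrobeniusComplement hnil M' hM' hM'bot
  have hK' := Cfsg.Agent.Lib.Helper19.card_frobeniusKernel M' hF'
  have hnotconj : ∀ g h : G, MulAut.conj g • M ≠ MulAut.conj h • M' := by
    intro g h heq
    have h1 : MulAut.conj (h⁻¹ * g) • M = M' := by
      rw [map_mul, mul_smul, heq, smul_smul, ← map_mul, inv_mul_cancel, map_one, one_smul]
    apply hxnot (h⁻¹ * g)
    rw [h1]; exact hxM''
  have hsub : (Cfsg.frobeniusKernel M')ᶜ ⊆ Cfsg.frobeniusKernel M \ {1} := by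
    intro y hy
    have hy' : ¬ (y = 1 ∨ ∀ g : G, y ∉ MulAut.conj g • M') := hy
    push Not at hy'
    obtain ⟨hy1, h, hyh⟩ := hy'
    refine ⟨Or.inr ?_, hy1⟩
    intro g hyg
    apply hy1
    have hbot := coatom_inf_eq_bot_of_simple hnil _ _ (isCoatom_conj_smul hM g)
      (isCoatom_conj_smul hM' h) (hnotconj g h)
    have : y ∈ MulAut.conj g • M ⊓ MulAut.conj h • M' := ⟨hyg, hyh⟩
    rw [hbot, Subgroup.mem_bot] at this
    exact this
  have hc1 : (Cfsg.frobeniusKernel M')ᶜ.ncard = Nat.card G - M'.index := by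
    rw [Set.ncard_compl _ (Set.toFinite _) (Set.toFinite _), ← Nat.card_coe_set_eq, hK']
  have hc2 : (Cfsg.frobeniusKernel M \ {1}).ncard = M.index - 1 := by
    have hmem1 : (1 : G) ∈ Cfsg.frobeniusKernel M := Or.inl rfl
    rw [Set.ncard_diff_singleton_of_mem hmem1, ← Nat.card_coe_set_eq, hK]
  have hle := Set.ncard_le_ncard hsub (Set.toFinite _)
  rw [hc1, hc2] at hle
  have hidx2' : 2 ≤ M'.index := by
    have h1 : M'.index ≠ 1 := fun h => hM'.1 (Subgroup.index_eq_one.mp h)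
    have h0 : M'.index ≠ 0 := Subgroup.index_ne_zero_of_finite
    omega
  have hcM : 2 ≤ Nat.card M := by
    have h1 : Nat.card M ≠ 1 := fun h => hMbot (Subgroup.card_eq_one.mp h)
    have h0 : 0 < Nat.card M := Nat.card_pos
    omega
  have hcM' : 2 ≤ Nat.card M' := by
    have h1 : Nat.card M' ≠ 1 := fun h => hM'bot (Subgroup.card_eq_one.mp h)
    have h0 : 0 < Nat.card M' := Nat.card_pos
    omega
  have e1 := M.card_mul_index
  have e2 := M'.card_mul_index
  have h2a : 2 * M.index ≤ Nat.card G := by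
    rw [← e1]; exact Nat.mul_le_mul_right _ hcM
  have h2b : 2 * M'.index ≤ Nat.card G := by
    rw [← e2]; exact Nat.mul_le_mul_right _ hcM'
  omega

end Cfsg.Agent.Lib.Helper1
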