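import Mathlib
import Cfsg.Agent.Lib.Helper1.Schmidt

set_option autoImplicit false

namespace Cfsg.Agent.Lib.Helper1

open scoped Pointwise commutatorElement

universe u

theorem nilpotent_of_le {G : Type*} [Group G] {N M : Subgroup G} (h : N ≤ M)
    (hM : Group.IsNilpotent M) : Group.IsNilpotent N := by
  have h1 : Group.IsNilpotent (N.subgroupOf M) := inferInstance
  exact (Group.isNilpotent_congr (Subgroup.subgroupOfEquivOfLe h)).mp h1

theorem schmidt_aux : ∀ (n : ℕ) (G : Type u) [Group G] [Finite G], Nat.card G = n →
    (∀ M : Subgroup G, IsCoatom M → Group.IsNilpotent M) → Group.IsSolvable G := by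
  intro n
  induction n using Nat.strong_induction_on with
  | _ n ih =>
    intro G _ _ hn hnil
    by_cases hcomm : ∀ x y : G, x * y = y * x
    · exact Group.isSolvable_of_comm hcomm
    push Not at hcomm
    by_cases hs : ∃ N : Subgroup G, N.Normal ∧ N ≠ ⊥ ∧ N ≠ ⊤
    · obtain ⟨N, hNn, hNbot, hNtop⟩ := hs
      rcases eq_top_or_exists_le_coatom N with h | ⟨M, hM, hNM⟩
      · exact absurd h hNtop
      have hNnil : Group.IsNilpotent N := nilpotent_of_le hNM (hnil M hM)
      have hNsolv : Group.IsSolvable N := inferInstance
      have hπ : Function.Surjective (QuotientGroup.mk' N) := QuotientGroup.mk'_surjective N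
      have hQ : ∀ Mb : Subgroup (G ⧸ N), IsCoatom Mb → Group.IsNilpotent Mb := by
        intro Mb hMb
        have h1 := Subgroup.isCoatom_comap_of_surjective hπ hMb
        have h2 := hnil _ h1
        have h3 : (Mb.comap (QuotientGroup.mk' N)).map (QuotientGroup.mk' N) = Mb :=
          Subgroup.map_comap_eq_self_of_surjective hπ Mb
        rw [← h3]
        exact Group.nilpotent_of_surjective
          ((QuotientGroup.mk' N).subgroupMap (Mb.comap (QuotientGroup.mk' N)))
          (MonoidHom.subgroupMap_surjective _ _)
      have hlt : Nat.card (G ⧸ N) < n := by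
        rw [← hn, ← N.card_mul_index, ← Subgroup.index_eq_card]
        have h1 : Nat.card N ≠ 1 := fun h => hNbot (Subgroup.card_eq_one.mp h)
        have h0 : 0 < Nat.card N := Nat.card_pos
        have hi : 0 < N.index := Nat.pos_of_ne_zero Subgroup.index_ne_zero_of_finite
        have h2 : 2 ≤ Nat.card N := by omega
        nlinarith
      have hQsolv : Group.IsSolvable (G ⧸ N) := ih _ hlt (G ⧸ N) rfl hQ
      exact solvable_of_normal_of_quotient N hNsolv hQsolv
    · exfalso
      push Not at hs
      obtain ⟨x, y, hxy⟩ := hcomm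
      have hnt : Nontrivial G := ⟨⟨x * y, y * x, hxy⟩⟩
      have hsimple : IsSimpleGroup G := by
        refine IsSimpleGroup.mk ?_
        intro H hH
        by_cases hb : H = ⊥
        · exact Or.inl hb
        · exact Or.inr (hs H hH hb)
      exact no_simple_all_coatoms_nilpotent hnil ⟨x, y, hxy⟩

theorem schmidt {G : Type*} [Group G] [Finite G]
    (h : ∀ M : Subgroup G, IsCoatom M → Group.IsNilpotent M) : Group.IsSolvable G :=
  schmidt_aux _ G rfl h

end Cfsg.Agent.Lib.Helper1
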