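import Mathlib
import Cfsg.Agent.Lib.Helper1.FusionControl
import Cfsg.Agent.Lib.Helper1.SylowSystem

set_option autoImplicit false

namespace Cfsg.Agent.Lib.Helper1

open scoped commutatorElement Pointwise
open Cfsg.Agent.S0001

universe u

theorem controls_npc_exact {G : Type u} [Group G] [Finite G] {p : ℕ} [hp : Fact p.Prime]
    (P : Subgroup G) (hP : IsPGroup p P) (hidx : ¬ p ∣ P.index) (hc : ControlsFusion P) :
    ∃ N : Subgroup G, N.Normal ∧ (Nat.card N).Coprime p ∧
      N.index = p ^ (Nat.card G).factorization p := by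
  obtain ⟨N, hNn, hNc, k, hNk⟩ := controls_npc p _ G rfl P hP hidx hc
  refine ⟨N, hNn, hNc, ?_⟩
  have hG : Nat.card G = Nat.card N * p ^ k := by rw [← hNk, Subgroup.card_mul_index]
  have hnd : ¬ p ∣ Nat.card N := by
    rw [← Nat.Prime.coprime_iff_not_dvd hp.out, Nat.coprime_comm]; exact hNc
  have hfac : (Nat.card G).factorization p = k := by
    rw [hG, Nat.factorization_mul Nat.card_pos.ne' (pow_ne_zero _ hp.out.ne_zero)]
    simp [Nat.factorization_eq_zero_of_not_dvd hnd, hp.out.factorization_pow]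
  rw [hfac, hNk]

theorem nilpotent_sylow_controls {H : Type*} [Group H] [Finite H] [hnil : Group.IsNilpotent H]
    {p : ℕ} [hp : Fact p.Prime] (Pp : Sylow p H) (x : H) (hx : x ∈ Pp) (h : H) :
    ∃ s ∈ Pp, s * x * s⁻¹ = h * x * h⁻¹ := by
  have hall : ∀ (q : ℕ) (_hq : Fact q.Prime) (Q : Sylow q H), (Q : Subgroup H).Normal :=
    ((Group.isNilpotent_of_finite_tfae (G := H)).out 0 3).mp hnil
  have hPn : (Pp : Subgroup H).Normal := hall p hp Pp
  have hcop : (Pp : Subgroup H).index.Coprime
      (Subgroup.centralizer ((Pp : Subgroup H) : Set H)).index := by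
    by_contra hncop
    obtain ⟨q, hq, hq1, hq2⟩ := Nat.Prime.not_coprime_iff_dvd.mp hncop
    have hqf : Fact q.Prime := ⟨hq⟩
    have hqp : q ≠ p := by
      rintro rfl
      exact Pp.not_dvd_index hq1
    let Q : Sylow q H := default
    have hQn : (Q : Subgroup H).Normal := hall q hqf Q
    have hdisj : Disjoint (Q : Subgroup H) (Pp : Subgroup H) :=
      IsPGroup.disjoint_of_ne q p hqp _ _ Q.2 Pp.2
    have hQC : (Q : Subgroup H) ≤ Subgroup.centralizer ((Pp : Subgroup H) : Set H) := by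
      intro s hs
      apply Subgroup.mem_centralizer_iff.mpr
      intro t ht
      have h1 : s * t * s⁻¹ * t⁻¹ ∈ (Q : Subgroup H) := by
        have : s * t * s⁻¹ * t⁻¹ = s * (t * s⁻¹ * t⁻¹) := by group
        rw [this]
        exact Subgroup.mul_mem _ hs (hQn.conj_mem _ (Subgroup.inv_mem _ hs) t)
      have h2 : s * t * s⁻¹ * t⁻¹ ∈ (Pp : Subgroup H) :=
        Subgroup.mul_mem _ (hPn.conj_mem _ ht s) (Subgroup.inv_mem _ ht)
      have h3 := Subgroup.disjoint_def.mp hdisj h1 h2
      calc t * s = (s * t * s⁻¹ * t⁻¹)⁻¹ * (s * t) := by group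
        _ = s * t := by rw [h3]; group
    have h4 : (Subgroup.centralizer ((Pp : Subgroup H) : Set H)).index ∣ (Q : Subgroup H).index :=
      Subgroup.index_dvd_of_le hQC
    exact Q.not_dvd_index (hq2.trans h4)
  obtain ⟨s, hs, d, hd, hsd⟩ := exists_mul_of_coprime_index _ _ hcop h
  refine ⟨s, hs, ?_⟩
  have hdx : d * x = x * d := ((Subgroup.mem_centralizer_iff.mp hd) x hx).symm
  rw [hsd]
  have e : d * x * d⁻¹ = x := by rw [hdx]; group
  calc s * x * s⁻¹ = s * (d * x * d⁻¹) * s⁻¹ := by rw [e]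
    _ = s * d * x * (s * d)⁻¹ := by group

theorem exists_normal_complement_of_controls {G : Type u} [Group G] [Finite G] (H : Subgroup G)
    (hH : Group.IsNilpotent H) (hHall : Nat.Coprime (Nat.card H) H.index)
    (hc : ∀ x ∈ H, ∀ y ∈ H, (∃ g : G, g * x * g⁻¹ = y) → ∃ h ∈ H, h * x * h⁻¹ = y) :
    ∃ N : Subgroup G, N.Normal ∧ N.IsComplement' H := by
  classical
  have hcardG : Nat.card G = Nat.card H * H.index := (Subgroup.card_mul_index H).symm
  have key : ∀ p ∈ (Nat.card H).primeFactors, ∃ N : Subgroup G, N.Normal ∧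
      (Nat.card N).Coprime p ∧ N.index = p ^ (Nat.card H).factorization p := by
    intro p hp
    have hpp : p.Prime := Nat.prime_of_mem_primeFactors hp
    have hpH : p ∣ Nat.card H := Nat.dvd_of_mem_primeFactors hp
    have hpf : Fact p.Prime := ⟨hpp⟩
    let Pp : Sylow p H := default
    have hPp : IsPGroup p ((Pp : Subgroup H).map H.subtype) := Pp.2.map _
    have hpi : ¬ p ∣ H.index := by
      intro h
      have := Nat.eq_one_of_dvd_coprimes hHall hpH h
      exact hpp.one_lt.ne this.symm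
    have hidx : ¬ p ∣ ((Pp : Subgroup H).map H.subtype).index := by
      rw [Subgroup.index_map_subtype]
      intro h
      rcases (Nat.Prime.dvd_mul hpp).mp h with h | h
      · exact Pp.not_dvd_index h
      · exact hpi h
    have hcf : ControlsFusion ((Pp : Subgroup H).map H.subtype) := by
      rintro _ ⟨x₀, hx₀, rfl⟩ u hu
      have huH : u * (x₀ : G) * u⁻¹ ∈ H := Subgroup.map_subtype_le _ hu
      obtain ⟨h, hh, hhx⟩ := hc (x₀ : G) x₀.2 _ huH ⟨u, rfl⟩
      obtain ⟨s, hs, hsx⟩ := nilpotent_sylow_controls Pp x₀ hx₀ ⟨h, hh⟩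
      refine ⟨(s : G), ⟨s, hs, rfl⟩, ?_⟩
      have := congrArg Subtype.val hsx
      simp only [Subgroup.coe_mul, Subgroup.coe_inv] at this
      change (s : G) * (x₀ : G) * (s : G)⁻¹ = u * (x₀ : G) * u⁻¹
      rw [this, hhx]
    obtain ⟨N, hNn, hNc, hNi⟩ := controls_npc_exact _ hPp hidx hcf
    refine ⟨N, hNn, hNc, ?_⟩
    rw [hNi, hcardG, Nat.factorization_mul Nat.card_pos.ne' Subgroup.index_ne_zero_of_finite]
    simp [Nat.factorization_eq_zero_of_not_dvd hpi]
  choose! Nf hNf using key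
  have hind : ∀ S : Finset ℕ, S ⊆ (Nat.card H).primeFactors →
      (S.inf Nf).Normal ∧ (S.inf Nf).index = ∏ p ∈ S, p ^ (Nat.card H).factorization p := by
    intro S
    induction S using Finset.induction_on with
    | empty =>
      intro _
      rw [Finset.inf_empty, Finset.prod_empty]
      exact ⟨inferInstance, Subgroup.index_top⟩
    | insert q S hq ih =>
      intro hS
      have hqπ : q ∈ (Nat.card H).primeFactors := hS (Finset.mem_insert_self q S)
      have hS' : S ⊆ (Nat.card H).primeFactors := fun x hx => hS (Finset.mem_insert_of_mem hx)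
      obtain ⟨ihn, ihi⟩ := ih hS'
      obtain ⟨hqn, -, hqi⟩ := hNf q hqπ
      rw [Finset.inf_insert, Finset.prod_insert hq]
      refine ⟨inferInstance, ?_⟩
      have hcop : (Nf q).index.Coprime (S.inf Nf).index := by
        rw [hqi, ihi]
        apply Nat.Coprime.prod_right
        intro r hr
        apply Nat.Coprime.pow
        apply (Nat.coprime_primes (Nat.prime_of_mem_primeFactors hqπ)
          (Nat.prime_of_mem_primeFactors (hS' hr))).mpr
        rintro rfl
        exact hq hr
      rw [index_inf_of_coprime _ _ hcop, hqi, ihi]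
  obtain ⟨hNn, hNi⟩ := hind _ (Finset.Subset.refl _)
  have hprod : ∏ p ∈ (Nat.card H).primeFactors, p ^ (Nat.card H).factorization p = Nat.card H := by
    have h := Nat.prod_factorization_pow_eq_self (n := Nat.card H) Nat.card_pos.ne'
    rw [Nat.prod_factorization_eq_prod_primeFactors] at h
    exact h
  rw [hprod] at hNi
  obtain ⟨N, hNdef⟩ : ∃ N : Subgroup G, N = (Nat.card H).primeFactors.inf Nf := ⟨_, rfl⟩
  rw [← hNdef] at hNn hNi
  refine ⟨N, hNn, ?_⟩
  apply Subgroup.isComplement'_of_card_mul_and_disjoint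
  · rw [← Subgroup.card_mul_index N, hNi]
  · rw [Subgroup.disjoint_def]
    intro x hxN hxH
    rw [hNdef] at hxN
    by_contra hx1
    have ho : orderOf x ≠ 1 := fun h => hx1 (orderOf_eq_one_iff.mp h)
    obtain ⟨q, hq, hqx⟩ := Nat.exists_prime_and_dvd ho
    have hoH : orderOf x ∣ Nat.card H := Subgroup.orderOf_dvd_natCard _ hxH
    have hqπ : q ∈ (Nat.card H).primeFactors :=
      Nat.mem_primeFactors.mpr ⟨hq, hqx.trans hoH, Nat.card_pos.ne'⟩
    have hxq : x ∈ Nf q := (Finset.inf_le hqπ : _ ≤ Nf q) hxN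
    have h1 : orderOf x ∣ Nat.card (Nf q) := Subgroup.orderOf_dvd_natCard _ hxq
    have h2 := (hNf q hqπ).2.1
    have h3 : q ∣ Nat.gcd (Nat.card (Nf q)) q := Nat.dvd_gcd (hqx.trans h1) dvd_rfl
    rw [h2] at h3
    exact hq.one_lt.ne (Nat.dvd_one.mp h3).symm

end Cfsg.Agent.Lib.Helper1
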