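import Mathlib
import Cfsg.Agent.Lib.Helper1.Frat
import Cfsg.Agent.Lib.Helper1.Hall

set_option autoImplicit false

namespace Cfsg.Agent.Lib.Helper1

open scoped Pointwise commutatorElement

variable {G : Type*} [Group G]

theorem card_sup_zpowers_of_not_mem [Finite G] {p : ℕ} [Fact p.Prime] (hG : IsPGroup p G)
    (B : Subgroup G) (hB : frattini G ≤ B) (x : G) (hx : x ∉ B) :
    Nat.card (B ⊔ Subgroup.zpowers x : Subgroup G) = p * Nat.card B := by
  have hn : B.Normal :=
    Subgroup.Normal.of_commutator_le G ((pgroup_commutator_le_frattini hG).trans hB)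
  rw [← card_mul_relIndex_of_le (le_sup_left : B ≤ B ⊔ Subgroup.zpowers x), mul_comm]
  congr 1
  rw [← card_map_mk', Subgroup.map_sup, MonoidHom.map_zpowers, QuotientGroup.map_mk'_self,
    bot_sup_eq, Nat.card_zpowers]
  have h1 : (QuotientGroup.mk' B x) ^ p = 1 := by
    rw [← map_pow]
    exact (QuotientGroup.eq_one_iff _).mpr (hB (pgroup_pow_mem_frattini hG x))
  have h2 : orderOf (QuotientGroup.mk' B x) ∣ p := orderOf_dvd_of_pow_eq_one h1
  rcases (Nat.dvd_prime (Fact.out : p.Prime)).mp h2 with h3 | h3
  · exfalso
    rw [orderOf_eq_one_iff] at h3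
    exact hx ((QuotientGroup.eq_one_iff x).mp h3)
  · exact h3

theorem card_sup_zpowers_le [Finite G] {p : ℕ} [Fact p.Prime] (hG : IsPGroup p G)
    (B : Subgroup G) (hB : frattini G ≤ B) (x : G) :
    Nat.card (B ⊔ Subgroup.zpowers x : Subgroup G) ≤ p * Nat.card B := by
  by_cases hx : x ∈ B
  · have : B ⊔ Subgroup.zpowers x = B := by
      rw [sup_eq_left, Subgroup.zpowers_le]; exact hx
    rw [this]
    have hp : 1 ≤ p := (Fact.out : p.Prime).one_lt.le
    nlinarith
  · exact (card_sup_zpowers_of_not_mem hG B hB x hx).le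

theorem closure_insert_sup (T : Finset G) [DecidableEq G] (x : G) (Φ : Subgroup G) :
    Subgroup.closure ((insert x T : Finset G) : Set G) ⊔ Φ =
      (Subgroup.closure (T : Set G) ⊔ Φ) ⊔ Subgroup.zpowers x := by
  rw [Finset.coe_insert, Set.insert_eq, Subgroup.closure_union, ← Subgroup.zpowers_eq_closure]
  rw [sup_comm (Subgroup.zpowers x), sup_assoc, sup_assoc, sup_comm (Subgroup.zpowers x)]

theorem card_closure_sup_frattini_le [Finite G] {p : ℕ} [Fact p.Prime] (hG : IsPGroup p G)
    (T : Finset G) :
    Nat.card (Subgroup.closure (T : Set G) ⊔ frattini G : Subgroup G) ≤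
      p ^ T.card * Nat.card (frattini G) := by
  classical
  induction T using Finset.induction_on with
  | empty => simp
  | insert x T hxT ih =>
    rw [closure_insert_sup, Finset.card_insert_of_notMem hxT, pow_succ]
    calc _ ≤ p * Nat.card (Subgroup.closure (T : Set G) ⊔ frattini G : Subgroup G) :=
          card_sup_zpowers_le hG _ le_sup_right x
      _ ≤ p * (p ^ T.card * Nat.card (frattini G)) := Nat.mul_le_mul_left p ih
      _ = p ^ T.card * p * Nat.card (frattini G) := by ring

theorem burnside_basis_lower [Finite G] (p n : ℕ) [Fact p.Prime] (hG : IsPGroup p G)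
    (hn : (frattini G).index = p ^ n) (T : Finset G)
    (hT : Subgroup.closure (T : Set G) = ⊤) : n ≤ T.card := by
  have h1 := card_closure_sup_frattini_le hG T
  rw [hT, top_sup_eq, Subgroup.card_top, ← (frattini G).card_mul_index, hn, mul_comm] at h1
  have hpos : 0 < Nat.card (frattini G) := Nat.card_pos
  have h2 : p ^ n ≤ p ^ T.card := Nat.le_of_mul_le_mul_right h1 hpos
  exact (Nat.pow_le_pow_iff_right (Fact.out : p.Prime).one_lt).mp h2

theorem exists_erase_generating [Finite G] [DecidableEq G] (p n : ℕ) [Fact p.Prime]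
    (hG : IsPGroup p G) (hn : (frattini G).index = p ^ n) (S : Finset G)
    (hS : Subgroup.closure (S : Set G) = ⊤) (hcard : n < S.card) :
    ∃ s ∈ S, Subgroup.closure ((S.erase s : Finset G) : Set G) = ⊤ := by
  by_contra hcon
  push Not at hcon
  have hnot : ∀ s ∈ S, s ∉ Subgroup.closure ((S.erase s : Finset G) : Set G) ⊔ frattini G := by
    intro s hs hmem
    apply hcon s hs
    apply frattini_nongenerating
    rw [eq_top_iff, ← hS, Subgroup.closure_le]
    intro y hy
    by_cases hys : y = s
    · rw [hys]; exact hmem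
    · apply Subgroup.mem_sup_left
      apply Subgroup.subset_closure
      exact Finset.mem_erase.mpr ⟨hys, hy⟩
  have key : ∀ T : Finset G, T ⊆ S →
      Nat.card (Subgroup.closure (T : Set G) ⊔ frattini G : Subgroup G) =
        p ^ T.card * Nat.card (frattini G) := by
    intro T
    induction T using Finset.induction_on with
    | empty => intro _; simp
    | insert x T hxT ih =>
      intro hsub
      have hTS : T ⊆ S := (Finset.subset_insert x T).trans hsub
      have hxS : x ∈ S := hsub (Finset.mem_insert_self x T)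
      have hTe : T ⊆ S.erase x := by
        intro y hy
        refine Finset.mem_erase.mpr ⟨?_, hTS hy⟩
        rintro rfl
        exact hxT hy
      have hxn : x ∉ Subgroup.closure (T : Set G) ⊔ frattini G := by
        intro hmem
        apply hnot x hxS
        exact (sup_le_sup_right (Subgroup.closure_mono (Finset.coe_subset.mpr hTe)) _) hmem
      rw [closure_insert_sup, Finset.card_insert_of_notMem hxT, pow_succ,
        card_sup_zpowers_of_not_mem hG _ le_sup_right x hxn, ih hTS]
      ring
  have h1 := key S subset_rfl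
  rw [hS, top_sup_eq, Subgroup.card_top, ← (frattini G).card_mul_index, hn, mul_comm] at h1
  have hpos : 0 < Nat.card (frattini G) := Nat.card_pos
  have h2 : p ^ n = p ^ S.card := Nat.eq_of_mul_eq_mul_right hpos h1
  have h3 := Nat.pow_right_injective (Fact.out : p.Prime).two_le h2
  omega

theorem burnside_basis_upper [Finite G] (p n : ℕ) [Fact p.Prime] (hG : IsPGroup p G)
    (hn : (frattini G).index = p ^ n) :
    ∀ (k : ℕ) (S : Finset G), S.card = k → Subgroup.closure (S : Set G) = ⊤ →
      ∃ T : Finset G, T ⊆ S ∧ T.card = n ∧ Subgroup.closure (T : Set G) = ⊤ := by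
  classical
  intro k
  induction k using Nat.strong_induction_on with
  | _ k ih =>
    intro S hk hS
    have hle := burnside_basis_lower p n hG hn S hS
    rcases Nat.eq_or_lt_of_le hle with heq | hlt
    · exact ⟨S, subset_rfl, heq.symm, hS⟩
    · obtain ⟨s, hs, hgen⟩ := exists_erase_generating p n hG hn S hS hlt
      have hc : (S.erase s).card < k := by
        rw [← hk]; exact Finset.card_erase_lt_of_mem hs
      obtain ⟨T, hT1, hT2, hT3⟩ := ih _ hc (S.erase s) rfl hgen
      exact ⟨T, hT1.trans (Finset.erase_subset s S), hT2, hT3⟩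

end Cfsg.Agent.Lib.Helper1
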