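import Mathlib

set_option autoImplicit false

namespace Cfsg.Agent.Lib.Helper1

theorem factorization_mul_primes_right {p q : ℕ} (hp : p.Prime) (hq : q.Prime) (hpq : p ≠ q) :
    (p * q).factorization q = 1 := by
  rw [Nat.factorization_mul hp.ne_zero hq.ne_zero]
  simp [hp.factorization, hq.factorization, hpq]

theorem factorization_mul_primes_left {p q : ℕ} (hp : p.Prime) (hq : q.Prime) (hpq : p ≠ q) :
    (p * q).factorization p = 1 := by
  rw [Nat.factorization_mul hp.ne_zero hq.ne_zero]
  simp [hp.factorization, hq.factorization, hpq.symm]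

theorem commutative_of_commuting_generators {A : Type*} [Group A] [Finite A] (p q : ℕ)
    (hp : p.Prime) (hq : q.Prime) (hpq : p ≠ q) (hcard : Nat.card A = p * q) (x c : A)
    (hox : orderOf x = q) (hoc : orderOf c = p) (hcomm : x * c = c * x) :
    ∀ a b : A, a * b = b * a := by
  have hcl : Subgroup.closure ({x, c} : Set A) = ⊤ := by
    apply Subgroup.eq_top_of_card_eq
    apply Nat.dvd_antisymm (Subgroup.card_subgroup_dvd_card _)
    rw [hcard]
    apply Nat.Coprime.mul_dvd_of_dvd_of_dvd ((Nat.coprime_primes hp hq).mpr hpq)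
    · rw [← hoc]
      exact Subgroup.orderOf_dvd_natCard _ (Subgroup.subset_closure (by simp))
    · rw [← hox]
      exact Subgroup.orderOf_dvd_natCard _ (Subgroup.subset_closure (by simp))
  have hk : ∀ a ∈ ({x, c} : Set A), ∀ b ∈ ({x, c} : Set A), a * b = b * a := by
    intro a ha b hb
    rcases ha with rfl | ha
    · rcases hb with rfl | hb
      · rfl
      · rw [Set.mem_singleton_iff] at hb
        rw [hb]; exact hcomm
    · rw [Set.mem_singleton_iff] at ha
      rcases hb with rfl | hb
      · rw [ha]; exact hcomm.symm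
      · rw [Set.mem_singleton_iff] at hb
        rw [ha, hb]
  intro a b
  have ha : a ∈ Subgroup.closure ({x, c} : Set A) := hcl ▸ Subgroup.mem_top a
  have hb : b ∈ Subgroup.closure ({x, c} : Set A) := hcl ▸ Subgroup.mem_top b
  letI := Subgroup.closureCommGroupOfComm hk
  have := mul_comm (⟨a, ha⟩ : Subgroup.closure ({x, c} : Set A)) ⟨b, hb⟩
  exact congrArg Subtype.val this

theorem pq_structure {A : Type*} [Group A] [Finite A] (p q : ℕ) (hp : p.Prime) (hq : q.Prime)
    (hpq : p < q) (hcard : Nat.card A = p * q) (hnc : ¬ ∀ a b : A, a * b = b * a) :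
    ∃ Q P : Subgroup A, Q.Normal ∧ Nat.card Q = q ∧ Nat.card P = p ∧
      ∀ c ∈ P, c ≠ 1 → ∀ x ∈ Q, x * c = c * x → x = 1 := by
  have hpf : Fact p.Prime := ⟨hp⟩
  have hqf : Fact q.Prime := ⟨hq⟩
  obtain ⟨Q⟩ : Nonempty (Sylow q A) := inferInstance
  obtain ⟨P⟩ : Nonempty (Sylow p A) := inferInstance
  have hQc : Nat.card Q = q := by
    rw [Q.card_eq_multiplicity, hcard, factorization_mul_primes_right hp hq hpq.ne, pow_one]
  have hPc : Nat.card P = p := by
    rw [P.card_eq_multiplicity, hcard, factorization_mul_primes_left hp hq hpq.ne, pow_one]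
  have hQn : (Q : Subgroup A).Normal := by
    have h1 := card_sylow_modEq_one q A
    have h2 := Q.card_dvd_index
    have hidx : (Q : Subgroup A).index = p := by
      have h3 := (Q : Subgroup A).card_mul_index
      rw [hQc, hcard, mul_comm p q] at h3
      exact Nat.eq_of_mul_eq_mul_left hq.pos h3
    rw [hidx] at h2
    rcases (Nat.dvd_prime hp).mp h2 with h | h
    · have : Subsingleton (Sylow q A) := (Nat.card_eq_one_iff_unique.mp h).1
      exact Q.normal_of_subsingleton
    · exfalso
      rw [h] at h1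
      have h4 : p % q = 1 % q := h1
      rw [Nat.mod_eq_of_lt hpq, Nat.mod_eq_of_lt hq.one_lt] at h4
      have := hp.one_lt
      omega
  refine ⟨Q, P, hQn, hQc, hPc, ?_⟩
  intro c hcP hc1 x hxQ hcomm
  by_contra hx1
  apply hnc
  have hox : orderOf x = q := by
    have h1 : orderOf x ∣ q := hQc ▸ Subgroup.orderOf_dvd_natCard _ hxQ
    rcases (Nat.dvd_prime hq).mp h1 with h | h
    · exact absurd (orderOf_eq_one_iff.mp h) hx1
    · exact h
  have hoc : orderOf c = p := by
    have h1 : orderOf c ∣ p := hPc ▸ Subgroup.orderOf_dvd_natCard _ hcP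
    rcases (Nat.dvd_prime hp).mp h1 with h | h
    · exact absurd (orderOf_eq_one_iff.mp h) hc1
    · exact h
  exact commutative_of_commuting_generators p q hp hq hpq.ne hcard x c hox hoc hcomm

end Cfsg.Agent.Lib.Helper1
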