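import Mathlib
import Cfsg.Agent.Lib.Helper1.NormIdentity
import Cfsg.Agent.Lib.Helper1.NonCyclic
import Cfsg.Agent.Lib.Helper1.OrderPQ

set_option autoImplicit false

namespace Cfsg.Agent.Lib.Helper1

section Abstract

variable {M : Type*} [CommGroup M] {Γ : Type*} [Group Γ] (φ : Γ →* MulAut M)

noncomputable def normS (S : Subgroup Γ) [Fintype S] (u : M) : M := ∏ s : S, φ s u

theorem normS_fixed (S : Subgroup Γ) [Fintype S] (t : Γ) (ht : t ∈ S) (u : M) :
    φ t (normS φ S u) = normS φ S u := by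
  unfold normS
  rw [map_prod]
  apply Fintype.prod_equiv (Equiv.mulLeft (⟨t, ht⟩ : S))
  intro s
  simp only [Equiv.coe_mulLeft, Subgroup.coe_mul, map_mul, MulAut.mul_apply]

theorem normS_conj_fixed (S : Subgroup Γ) [Fintype S] (g t : Γ) (ht : t ∈ S) (u : M) :
    φ (g * t * g⁻¹) (∏ c : S, φ (g * c * g⁻¹) u) = ∏ c : S, φ (g * c * g⁻¹) u := by
  rw [map_prod]
  apply Fintype.prod_equiv (Equiv.mulLeft (⟨t, ht⟩ : S))
  intro s
  simp only [Equiv.coe_mulLeft, Subgroup.coe_mul]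
  rw [← MulAut.mul_apply, ← map_mul]
  congr 2
  group

theorem frob_avg (Q P : Subgroup Γ) [Fintype Q] [Fintype P]
    (hPQ : ∀ c ∈ P, ∀ x ∈ Q, c * x * c⁻¹ ∈ Q)
    (hC : ∀ c ∈ P, c ≠ 1 → ∀ x ∈ Q, x * c = c * x → x = 1)
    (hQ : ∀ u : M, normS φ Q u = 1)
    (hP : ∀ x ∈ Q, ∀ u : M, ∏ c : P, φ (x * c * x⁻¹) u = 1) (u : M) :
    u ^ Fintype.card Q = 1 := by
  classical
  have h1 : ∏ x : Q, ∏ c : P, φ ((x : Γ) * c * (x : Γ)⁻¹) u = 1 :=
    Finset.prod_eq_one (fun x _ => hP x x.2 u)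
  rw [Finset.prod_comm] at h1
  have h2 : ∀ c : P, ∏ x : Q, φ ((x : Γ) * c * (x : Γ)⁻¹) u =
      if c = 1 then u ^ Fintype.card Q else 1 := by
    intro c
    by_cases hc : c = 1
    · rw [if_pos hc, hc]
      simp
    · rw [if_neg hc]
      have hc' : (c : Γ) ≠ 1 := fun h => hc (Subtype.ext h)
      let f : Q → Q := fun x => ⟨(x : Γ) * c * (x : Γ)⁻¹ * (c : Γ)⁻¹, by
        have h3 := hPQ c c.2 (x : Γ)⁻¹ (Q.inv_mem x.2)
        have e : (x : Γ) * c * (x : Γ)⁻¹ * (c : Γ)⁻¹ = (x : Γ) * ((c : Γ) * (x : Γ)⁻¹ * (c : Γ)⁻¹) := by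
          group
        rw [e]
        exact Q.mul_mem x.2 h3⟩
      have hfinj : Function.Injective f := by
        intro x y hxy
        have h3 : (x : Γ) * c * (x : Γ)⁻¹ * (c : Γ)⁻¹ = (y : Γ) * c * (y : Γ)⁻¹ * (c : Γ)⁻¹ :=
          congrArg Subtype.val hxy
        have h4 : (x : Γ) * c * (x : Γ)⁻¹ = (y : Γ) * c * (y : Γ)⁻¹ := mul_right_cancel h3
        have h5 : ((y : Γ)⁻¹ * x) * c = c * ((y : Γ)⁻¹ * x) := by
          calc ((y : Γ)⁻¹ * x) * c = (y : Γ)⁻¹ * ((x : Γ) * c * (x : Γ)⁻¹) * x := by group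
            _ = (y : Γ)⁻¹ * ((y : Γ) * c * (y : Γ)⁻¹) * x := by rw [h4]
            _ = c * ((y : Γ)⁻¹ * x) := by group
        have h6 := hC c c.2 hc' _ (Q.mul_mem (Q.inv_mem y.2) x.2) h5
        apply Subtype.ext
        have : (x : Γ) = (y : Γ) * ((y : Γ)⁻¹ * x) := by group
        rw [this, h6, mul_one]
      have hfbij : Function.Bijective f := ⟨hfinj, Finite.surjective_of_injective hfinj⟩
      have h7 : ∏ x : Q, φ ((x : Γ) * c * (x : Γ)⁻¹) u = ∏ x : Q, φ (f x : Γ) (φ c u) := by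
        apply Finset.prod_congr rfl
        intro x _
        rw [← MulAut.mul_apply, ← map_mul]
        congr 2
        simp only [f]
        group
      rw [h7]
      have h8 := Fintype.prod_equiv (Equiv.ofBijective f hfbij) (fun x => φ (f x : Γ) (φ c u))
        (fun z => φ (z : Γ) (φ c u)) (fun x => rfl)
      rw [h8]
      exact hQ _
  simp_rw [h2] at h1
  rw [Finset.prod_ite_eq' Finset.univ (1 : P), if_pos (Finset.mem_univ _)] at h1
  exact h1

end Abstract

section Concrete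

variable {G : Type*} [Group G]

theorem eq_one_of_fixed (V : Subgroup G) (w : G) (hw : w ∈ Subgroup.normalizer (V : Set G))
    (hfpf : V ⊓ Subgroup.centralizer {w} = ⊥) (v : V)
    (hv : V.normalizerMonoidHom ⟨w, hw⟩ v = v) : v = 1 := by
  have h1 : w * (v : G) * w⁻¹ = (v : G) := congrArg Subtype.val hv
  have h2 : (v : G) ∈ V ⊓ Subgroup.centralizer {w} := by
    refine ⟨v.2, ?_⟩
    apply Subgroup.mem_centralizer_iff.mpr
    intro y hy
    rw [Set.mem_singleton_iff] at hy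
    rw [hy]
    calc w * (v : G) = (w * (v : G) * w⁻¹) * w := by group
      _ = (v : G) * w := by rw [h1]
  rw [hfpf, Subgroup.mem_bot] at h2
  exact Subtype.ext h2

theorem exists_fixed_of_exponent [Finite G] (V : Subgroup G) (r : ℕ) [Fact r.Prime] (x : G)
    (hxN : x ∈ Subgroup.normalizer (V : Set G)) (hxr : x ^ r = 1) (hV : V ≠ ⊥)
    (hpow : ∀ v ∈ V, v ^ r = 1) : V ⊓ Subgroup.centralizer {x} ≠ ⊥ := by
  have hr : r.Prime := Fact.out
  have hPp : IsPGroup r (Subgroup.zpowers (⟨x, hxN⟩ : Subgroup.normalizer (V : Set G))) := by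
    rintro ⟨g, hg⟩
    refine ⟨1, ?_⟩
    obtain ⟨n, rfl⟩ := Subgroup.mem_zpowers_iff.mp hg
    apply Subtype.ext
    apply Subtype.ext
    simp only [pow_one, Subgroup.coe_pow, Subgroup.coe_zpow, Subgroup.coe_one]
    rw [← zpow_natCast, ← zpow_mul, mul_comm, zpow_mul, zpow_natCast, hxr, one_zpow]
  have hVp : IsPGroup r V := by
    rintro ⟨v, hv⟩
    refine ⟨1, ?_⟩
    apply Subtype.ext
    simp only [pow_one, Subgroup.coe_pow, Subgroup.coe_one]
    exact hpow v hv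
  obtain ⟨k, hk⟩ := hVp.exists_card_eq
  have hk0 : k ≠ 0 := by
    intro h
    rw [h, pow_zero] at hk
    exact hV (Subgroup.card_eq_one.mp hk)
  have hdvd : r ∣ Nat.card V := by
    rw [hk]
    exact dvd_pow_self r hk0
  have hmod := hPp.card_modEq_card_fixedPoints (↥V)
  have hdvd2 : r ∣ Nat.card (MulAction.fixedPoints
      (Subgroup.zpowers (⟨x, hxN⟩ : Subgroup.normalizer (V : Set G))) ↥V) :=
    (Nat.modEq_zero_iff_dvd.mp ((hmod.symm).trans (Nat.modEq_zero_iff_dvd.mpr hdvd)))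
  have hone : (1 : V) ∈ MulAction.fixedPoints
      (Subgroup.zpowers (⟨x, hxN⟩ : Subgroup.normalizer (V : Set G))) ↥V := by
    intro g
    exact smul_one g
  have hpos : 0 < Nat.card (MulAction.fixedPoints
      (Subgroup.zpowers (⟨x, hxN⟩ : Subgroup.normalizer (V : Set G))) ↥V) := by
    have : Nonempty (MulAction.fixedPoints
      (Subgroup.zpowers (⟨x, hxN⟩ : Subgroup.normalizer (V : Set G))) ↥V) := ⟨⟨1, hone⟩⟩
    exact Nat.card_pos
  have hlt : 1 < Nat.card (MulAction.fixedPoints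
      (Subgroup.zpowers (⟨x, hxN⟩ : Subgroup.normalizer (V : Set G))) ↥V) :=
    lt_of_lt_of_le hr.one_lt (Nat.le_of_dvd hpos hdvd2)
  have hnt := Finite.one_lt_card_iff_nontrivial.mp hlt
  obtain ⟨⟨v, hv⟩, hne⟩ := exists_ne (⟨1, hone⟩ : MulAction.fixedPoints
      (Subgroup.zpowers (⟨x, hxN⟩ : Subgroup.normalizer (V : Set G))) ↥V)
  have hv1 : v ≠ 1 := fun h => hne (Subtype.ext h)
  intro hbot
  apply hv1
  apply eq_one_of_fixed V x hxN hbot v
  exact hv ⟨⟨x, hxN⟩, Subgroup.mem_zpowers _⟩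

open scoped IsMulCommutative in
theorem isCyclic_of_fpf_abelian [Finite G] (A V : Subgroup G) [IsMulCommutative V]
    [IsMulCommutative A] (hV : V ≠ ⊥) (hAV : A ≤ Subgroup.normalizer (V : Set G))
    (hfpf : ∀ a ∈ A, a ≠ 1 → V ⊓ Subgroup.centralizer {a} = ⊥) : IsCyclic A := by
  by_contra hA
  obtain ⟨r, hr, x, y, hx1, hxr, hyr, hyx⟩ := exists_noncyclic_pair (A := ↥A) hA
  have hrf : Fact r.Prime := ⟨hr⟩
  have hxG1 : (x : G) ≠ 1 := fun h => hx1 (Subtype.ext h)
  have hxrG : (x : G) ^ r = 1 := by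
    have := congrArg Subtype.val hxr
    simpa using this
  have hyrG : (y : G) ^ r = 1 := by
    have := congrArg Subtype.val hyr
    simpa using this
  have hcomm : (y : G) * (x : G) = (x : G) * (y : G) := congrArg Subtype.val (mul_comm y x)
  have hyne : ∀ j : ℕ, (y : G) * (x : G) ^ j ≠ 1 := by
    intro j hj
    apply hyx
    have h1 : y * x ^ j = 1 := Subtype.ext (by simpa using hj)
    have h2 : y = (x ^ j)⁻¹ := eq_inv_of_mul_eq_one_left h1
    rw [h2]
    exact Subgroup.inv_mem _ (Subgroup.pow_mem _ (Subgroup.mem_zpowers x) j)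
  have hxN : (x : G) ∈ Subgroup.normalizer (V : Set G) := hAV x.2
  have hyN : (y : G) ∈ Subgroup.normalizer (V : Set G) := hAV y.2
  have hα : (V.normalizerMonoidHom ⟨y, hyN⟩) ^ r = 1 := by
    rw [← map_pow]
    have : (⟨(y : G), hyN⟩ : Subgroup.normalizer (V : Set G)) ^ r = 1 :=
      Subtype.ext (by simpa using hyrG)
    rw [this, map_one]
  have hβ : (V.normalizerMonoidHom ⟨x, hxN⟩) ^ r = 1 := by
    rw [← map_pow]
    have : (⟨(x : G), hxN⟩ : Subgroup.normalizer (V : Set G)) ^ r = 1 :=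
      Subtype.ext (by simpa using hxrG)
    rw [this, map_one]
  have hc : Commute (V.normalizerMonoidHom ⟨y, hyN⟩) (V.normalizerMonoidHom ⟨x, hxN⟩) := by
    have : Commute (⟨(y : G), hyN⟩ : Subgroup.normalizer (V : Set G)) ⟨(x : G), hxN⟩ :=
      Subtype.ext hcomm
    exact this.map V.normalizerMonoidHom
  have hpow : ∀ v ∈ V, v ^ r = 1 := by
    intro v hv
    have key := pow_mem_iSup_fix r hα hβ hc (⟨v, hv⟩ : V)
    have hbot : (⨆ j : ZMod r, fixSubgroup (V.normalizerMonoidHom ⟨y, hyN⟩ *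
        (V.normalizerMonoidHom ⟨x, hxN⟩) ^ j.val)) ⊔
          fixSubgroup (V.normalizerMonoidHom ⟨x, hxN⟩) = ⊥ := by
      rw [eq_bot_iff]
      apply sup_le
      · apply iSup_le
        intro j w hw
        rw [Subgroup.mem_bot]
        have hwA : (y : G) * (x : G) ^ j.val ∈ A := A.mul_mem y.2 (A.pow_mem x.2 _)
        have hwN : (y : G) * (x : G) ^ j.val ∈ Subgroup.normalizer (V : Set G) := hAV hwA
        have e : V.normalizerMonoidHom ⟨y, hyN⟩ * (V.normalizerMonoidHom ⟨x, hxN⟩) ^ j.val =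
            V.normalizerMonoidHom ⟨(y : G) * (x : G) ^ j.val, hwN⟩ := by
          rw [← map_pow, ← map_mul]
          rfl
        rw [e, mem_fixSubgroup] at hw
        exact eq_one_of_fixed V _ hwN (hfpf _ hwA (hyne _)) w hw
      · intro w hw
        rw [Subgroup.mem_bot]
        rw [mem_fixSubgroup] at hw
        exact eq_one_of_fixed V _ hxN (hfpf _ x.2 hxG1) w hw
    rw [hbot, Subgroup.mem_bot] at key
    have := congrArg Subtype.val key
    simpa using this
  exact exists_fixed_of_exponent V r x hxN hxrG hV hpow (hfpf x x.2 hxG1)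

open scoped IsMulCommutative in
theorem false_of_fpf_pq [Finite G] (A V : Subgroup G) [IsMulCommutative V]
    (hV : V ≠ ⊥) (hAV : A ≤ Subgroup.normalizer (V : Set G))
    (hfpf : ∀ a ∈ A, a ≠ 1 → V ⊓ Subgroup.centralizer {a} = ⊥)
    (p q : ℕ) (hp : p.Prime) (hq : q.Prime) (hpq : p < q) (hcard : Nat.card A = p * q)
    (hnc : ¬ ∀ a b : A, a * b = b * a) : False := by
  classical
  obtain ⟨Q, P, hQn, hQc, hPc, hC⟩ := pq_structure p q hp hq hpq hcard hnc
  have : Fintype Q := Fintype.ofFinite Q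
  have : Fintype P := Fintype.ofFinite P
  have hqf : Fact q.Prime := ⟨hq⟩
  let φ : A →* MulAut V := V.normalizerMonoidHom.comp (Subgroup.inclusion hAV)
  have hφfix : ∀ (a : A), a ≠ 1 → ∀ v : V, φ a v = v → v = 1 := by
    intro a ha v hv
    exact eq_one_of_fixed V (a : G) (hAV a.2) (hfpf a a.2 (fun h => ha (Subtype.ext h))) v hv
  have hQbot : Q ≠ ⊥ := by
    rw [← Subgroup.one_lt_card_iff_ne_bot, hQc]
    exact hq.one_lt
  have hPbot : P ≠ ⊥ := by
    rw [← Subgroup.one_lt_card_iff_ne_bot, hPc]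
    exact hp.one_lt
  obtain ⟨⟨x, hxQ⟩, hx1'⟩ := (Subgroup.ne_bot_iff_exists_ne_one.mp hQbot)
  obtain ⟨⟨c0, hcP⟩, hc1'⟩ := (Subgroup.ne_bot_iff_exists_ne_one.mp hPbot)
  have hx1 : x ≠ 1 := fun h => hx1' (Subtype.ext h)
  have hc1 : c0 ≠ 1 := fun h => hc1' (Subtype.ext h)
  have hQnorm : ∀ u : V, normS φ Q u = 1 := fun u => hφfix x hx1 _ (normS_fixed φ Q x hxQ u)
  have hPnorm : ∀ z ∈ Q, ∀ u : V, ∏ c : P, φ (z * c * z⁻¹) u = 1 := by
    intro z _ u
    apply hφfix (z * c0 * z⁻¹) _ _ (normS_conj_fixed φ P z c0 hcP u)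
    intro h
    apply hc1
    have : c0 = z⁻¹ * (z * c0 * z⁻¹) * z := by group
    rw [this, h]
    group
  have hpow := frob_avg φ Q P (fun c _ x hx => hQn.conj_mem x hx c) hC hQnorm hPnorm
  have hpow' : ∀ v ∈ V, v ^ q = 1 := by
    intro v hv
    have h1 := hpow ⟨v, hv⟩
    rw [← Nat.card_eq_fintype_card, hQc] at h1
    have h2 := congrArg Subtype.val h1
    simpa using h2
  have hxq : (x : G) ^ q = 1 := by
    have h1 : (⟨x, hxQ⟩ : Q) ^ Nat.card Q = 1 := pow_card_eq_one'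
    rw [hQc] at h1
    have h2 := congrArg Subtype.val (congrArg Subtype.val h1)
    simpa using h2
  exact exists_fixed_of_exponent V q (x : G) (hAV x.2) hxq hV hpow'
    (hfpf x x.2 (fun h => hx1 (Subtype.ext h)))

open scoped IsMulCommutative in
theorem isCyclic_of_fpf_pq [Finite G] (A V : Subgroup G) [IsMulCommutative V]
    (hV : V ≠ ⊥) (hAV : A ≤ Subgroup.normalizer (V : Set G))
    (hfpf : ∀ a ∈ A, a ≠ 1 → V ⊓ Subgroup.centralizer {a} = ⊥)
    (p q : ℕ) (hp : p.Prime) (hq : q.Prime) (hcard : Nat.card A = p * q) : IsCyclic A := by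
  by_cases hc : ∀ a b : A, a * b = b * a
  · have : IsMulCommutative A := ⟨⟨hc⟩⟩
    exact isCyclic_of_fpf_abelian A V hV hAV hfpf
  · exfalso
    rcases lt_trichotomy p q with h | h | h
    · exact false_of_fpf_pq A V hV hAV hfpf p q hp hq h hcard hc
    · subst h
      have hpf : Fact p.Prime := ⟨hp⟩
      exact hc (IsPGroup.isMulCommutative_of_card_eq_prime_sq (p := p)
        (by rw [hcard, pow_two])).is_comm.comm
    · exact false_of_fpf_pq A V hV hAV hfpf q p hq hp h (by rw [hcard, mul_comm]) hc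

end Concrete

end Cfsg.Agent.Lib.Helper1
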