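import Mathlib
import Cfsg.Agent.Lib.helper14.BGL.SPDefs
import Cfsg.Agent.Lib.helper14.BGL.SPDefs2
import Cfsg.Agent.Lib.Helper10.BGL.Defs
import Cfsg.Agent.Lib.Helper10.BGL.Bridge
import Cfsg.Agent.Lib.helper8.ChevBaseAll
import Cfsg.Agent.Lib.helper8.ChevBNAll
import Cfsg.Agent.Lib.helper8.ChevReflAll
import Cfsg.Agent.Lib.helper8.ChevNM
import Cfsg.Agent.Lib.helper8.ChevNgen
import Cfsg.Agent.Lib.helper8.ChevFix1
import Cfsg.Agent.Lib.helper8.ChevTits5

/-!
Project BGL (designer helper10), block SP (designer helper14) rows O2 (`spOrb_induct`) and O3 (`orbAll_induct`), VERBATIM vs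
`helper14/BGL/SPSkel.lean.txt` (helper1): the orbit inductions.
-/

set_option autoImplicit false

namespace Cfsg.Agent.Lib.helper14.BGLSP

open Cfsg.Lie Cfsg.Lie.ChevalleyDatum Cfsg.Agent.Lib.helper8 Cfsg.Agent.Lib.Helper10.BGL Matrix

universe u

variable {K : Type u} [Field K] (D : ChevalleyDatum)

/-- O2 [S-M]  induction along the orbit (strong induction on `dep.getD s 0`; model: helper8 `h8orb_all` in `ChevNgen.lean`). -/
theorem spOrb_induct {lam dep par : List ℕ} (h : spOrbChk D lam dep par = true) (Q : ℕ → Prop) (h0 : Q 0)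
    (hstep : ∀ i < D.rank, ∀ s < D.nroots, Q (D.reflectRoot i s) → Q s) : ∀ s ∈ lam, Q s := by
  unfold spOrbChk at h
  simp only [Bool.and_eq_true, Bool.or_eq_true, decide_eq_true_eq, List.all_eq_true,
    List.contains_iff_mem] at h
  obtain ⟨-, h⟩ := h
  have key : ∀ n : ℕ, ∀ s ∈ lam, dep.getD s 0 = n → Q s := by
    intro n
    induction n using Nat.strong_induction_on with
    | _ n ih =>
      intro s hs hn
      obtain ⟨⟨hlt, -⟩, h1 | ⟨⟨hp, hmem⟩, hd⟩⟩ := h s hs
      · rw [h1]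
        exact h0
      · exact hstep _ hp s hlt (ih _ (hn ▸ hd) _ hmem rfl)
  intro s hs
  exact key _ s hs rfl

/-- O3 [S-M]  every root is conjugate to a simple root: `hBN.orb` (`h8orbChk`, `h8sg_eq` with `H8Refl.lt` from `h8reflAll_spec`); model: `h8orb_all`. -/
theorem orbAll_induct (hA : H8ReflAll D) (hBN : H8BN D) (Q : ℕ → Prop) (hsimple : ∀ j < D.rank, Q (D.simple j))
    (hstep : ∀ i < D.rank, ∀ s < D.nroots, Q (D.reflectRoot i s) → Q s) : ∀ r < D.nroots, Q r := by
  obtain ⟨dep, par, h⟩ := hBN.orb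
  unfold h8orbChk at h
  simp only [Bool.and_eq_true, Bool.or_eq_true, decide_eq_true_eq, List.all_eq_true,
    List.any_eq_true, List.mem_range] at h
  obtain ⟨h256, h⟩ := h
  have key : ∀ n : ℕ, ∀ r < D.nroots, dep.getD r 0 = n → Q r := by
    intro n
    induction n using Nat.strong_induction_on with
    | _ n ih =>
      intro r hr hn
      rcases h r hr with ⟨_, j, hj, hjr⟩ | ⟨i, hp, _, hd⟩
      · rw [← hjr]
        exact hsimple j hj
      · obtain ⟨η, hR⟩ := h8reflAll_spec D hA _ hp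
        rw [h8sg_eq D _ hR.lt h256 r hr] at hd
        exact hstep _ hp r hr (ih _ (hn ▸ hd) _ (hR.lt r hr) rfl)
  intro r hr
  exact key _ r hr rfl

end Cfsg.Agent.Lib.helper14.BGLSP
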