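import Mathlib
import Cfsg.Agent.Lib.helper14.BGL.SPDefs
import Cfsg.Agent.Lib.helper14.BGL.SPDefs2
import Cfsg.Agent.Lib.Helper10.BGL.Defs
import Cfsg.Agent.Lib.Helper10.BGL.Bridge
import Cfsg.Agent.Lib.helper8.ChevBaseAll
import Cfsg.Agent.Lib.helper8.ChevBNAll
import Cfsg.Agent.Lib.helper8.ChevReflAll
import Cfsg.Agent.Lib.helper8.ChevNM
import Cfsg.Agent.Lib.helper8.ChevNgen
import Cfsg.Agent.Lib.helper8.ChevFix1
import Cfsg.Agent.Lib.helper8.ChevTits5
import Cfsg.Agent.Lib.helper14.BGLSPX0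
import Cfsg.Agent.Lib.helper14.BGLSPX1
import Cfsg.Agent.Lib.helper4.BGLSPX4
import Cfsg.Agent.Lib.helper4.BGLSPN3
import Cfsg.Agent.Lib.Helper26.BGLSPN1
import Cfsg.Agent.Lib.Helper12.BGLSPO1
import Cfsg.Agent.Lib.Lead.BGLSPO5
import Cfsg.Agent.Lib.Helper1.BGLSPO2
import Cfsg.Agent.Lib.Helper26.BGLSPC1core

/-!
Project BGL (designer helper10), block SP (designer helper14) rows C2 C3 C4 C5 (`col_hvec`, `col_he`, `col_simple`, `col_top`),
VERBATIM vs `helper14/BGL/SPSkel.lean.txt` (helper1): the columns `m' e_ρ` span everything.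
-/

set_option autoImplicit false

namespace Cfsg.Agent.Lib.helper14.BGLSP

open Cfsg.Lie Cfsg.Lie.ChevalleyDatum Cfsg.Agent.Lib.helper8 Cfsg.Agent.Lib.Helper10.BGL Matrix

universe u

variable {K : Type u} [Field K] (D : ChevalleyDatum)

/-- an entry of a list is a member -/
theorem bglspc2_getD_mem (l : List ℕ) {j : ℕ} (hj : j < l.length) : l.getD j 0 ∈ l := by
  rw [List.getD_eq_getElem _ _ hj]
  exact List.getElem_mem hj

/-- the step of the orbit inductions of block C -/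
theorem bglspc2_step {lam : List ℕ} (hT : SPTab D lam) (W : Submodule K (D.Idx → K)) (hW : StabP D (· ∈ W))
    {i : ℕ} (hi : i < D.rank) {s : ℕ} (hs : s < D.nroots) (h : re D K (D.reflectRoot i s) ∈ W) : re D K s ∈ W := by
  obtain ⟨hlt, hinv, -⟩ := refl_facts D hT.refl hi hs
  obtain ⟨η, hη, hn⟩ := n_mulVec_re (K := K) D hT.refl hi hlt
  rw [hinv] at hn
  obtain ⟨hsi, -, -, -⟩ := (spBase_spec D hT.base).2 i hi
  obtain ⟨hnsi, -, -, -⟩ := (spBase_spec D hT.base).1 _ hsi
  have h1 : D.nMat K (D.simple i) 1 *ᵥ re D K (D.reflectRoot i s) ∈ W := stabP_n D hW hsi hnsi h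
  rw [hn] at h1
  rcases hη with rfl | rfl
  · simpa using h1
  · have := W.smul_mem (-1 : K) h1
    simpa using this

section C
variable {D} {lam : List ℕ} (hT : SPTab D lam) (W : Submodule K (D.Idx → K)) (hW : StabP D (· ∈ W))
  (htop : re D K (D.nroots - 1) ∈ W)
include hT hW htop

/-- own-name copy of C1 `col_lam` (from helper26's core), so that this module does not wait for the wrapper -/
theorem bglspc2_col_lam : ∀ s ∈ lam, re D K s ∈ W :=
  bglspc1_core D hT W hW htop (fun h => spOrb_spec D h) (fun h Q h0 hstep => spOrb_induct D h Q h0 hstep)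
    (fun h => spBase_spec D h) (fun hP _ hr hnr _ hw => stabP_n D hP hr hnr hw)
    (fun hA _ hi _ hs => n_mulVec_re D hA hi hs) (fun hA _ hi _ hs => refl_facts D hA hi hs)

/-- C2 [S-M]  `x_s(1) e_{−s} = e_{−s} + h_s − e_s` (X2), `col_lam` for `s` and `−s`. -/
theorem col_hvec : ∀ s ∈ lam, hvec D K s ∈ W := by
  intro s hs
  obtain ⟨dep, par, horb⟩ := hT.orb
  obtain ⟨-, -, -, hlam⟩ := spOrb_spec D horb
  obtain ⟨hlt, hneg⟩ := hlam s hs
  obtain ⟨hnlt, hne, -, -⟩ := (spBase_spec D hT.base).1 s hlt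
  have h1 : re D K s ∈ W := bglspc2_col_lam hT W hW htop s hs
  have h2 : re D K (D.neg s) ∈ W := bglspc2_col_lam hT W hW htop _ hneg
  have h3 : D.x K s 1 *ᵥ re D K (D.neg s) ∈ W := (hW s hlt _ h2).1
  rw [x_mulVec_re_neg D hlt hnlt hne] at h3
  have h4 : hvec D K s = (re D K (D.neg s) + (1 : K) • hvec D K s - (1 : K) ^ 2 • re D K s) - re D K (D.neg s) +
      re D K s := by
    rw [one_smul, one_pow, one_smul]
    abel
  rw [h4]
  exact W.add_mem (W.sub_mem h3 h2) h1

/-- C3 [S-M]  `spY_spec`, `col_hvec`. -/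
theorem col_he {ys : List ℕ} {Y : List (List ℤ)} (hY : spYChk D lam ys Y = true) : ∀ i < D.rank, he D K i ∈ W := by
  intro i hi
  obtain ⟨hys, hsum⟩ := spY_spec (K := K) D hY
  have h1 := hsum ⟨i, hi⟩
  rw [← h1]
  apply W.sum_mem
  intro j hj
  apply W.smul_mem
  exact col_hvec hT W hW htop _ (hys _ (bglspc2_getD_mem ys (Finset.mem_range.mp hj)))

/-- C4 [S-M]  `x_{p_j}(1) h_j = h_j − 2 e_{p_j}` (X1, `spBase_spec`), `col_he`, `2 ≠ 0`. -/
theorem col_simple {ys : List ℕ} {Y : List (List ℤ)} (hY : spYChk D lam ys Y = true) (h2 : (2 : K) ≠ 0) :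
    ∀ j < D.rank, re D K (D.simple j) ∈ W := by
  intro j hj
  obtain ⟨hsj, hc, -, -⟩ := (spBase_spec D hT.base).2 j hj
  have h1 : he D K j ∈ W := col_he hT W hW htop hY j hj
  have h3 : D.x K (D.simple j) 1 *ᵥ he D K j ∈ W := (hW _ hsj _ h1).1
  rw [x_mulVec_he D hsj 1 hj, hc] at h3
  have h4 : re D K (D.simple j) = (2 : K)⁻¹ • (he D K j - (he D K j - (((2 : ℤ) : K) * 1) • re D K (D.simple j))) := by
    rw [sub_sub_cancel, smul_smul]
    have : (2 : K)⁻¹ * (((2 : ℤ) : K) * 1) = 1 := by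
      push_cast
      rw [mul_one, inv_mul_cancel₀ h2]
    rw [this, one_smul]
  rw [h4]
  exact W.smul_mem _ (W.sub_mem h1 h3)

/-- C5 [S-M]  `orbAll_induct` with `Q s := re D K s ∈ W` (step as in C1), then `W = ⊤`: every vector is the combination of its coordinates (`ext_rc_hc` / `pi_eq_sum_univ`). -/
theorem col_top {ys : List ℕ} {Y : List (List ℤ)} (hY : spYChk D lam ys Y = true) (h2 : (2 : K) ≠ 0) : W = ⊤ := by
  have hall : ∀ r < D.nroots, re D K r ∈ W :=
    orbAll_induct D hT.refl hT.bn (fun s => re D K s ∈ W) (col_simple hT W hW htop hY h2)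
      (fun i hi s hs h => bglspc2_step D hT W hW hi hs h)
  have hsingle : ∀ x : D.Idx, (Pi.single x (1 : K) : D.Idx → K) ∈ W := by
    rintro (i | s)
    · have := col_he hT W hW htop hY i.val i.isLt
      rwa [he_of_lt D i.isLt] at this
    · have := hall s.val s.isLt
      rwa [re_of_lt D s.isLt] at this
  rw [Submodule.eq_top_iff']
  intro w
  rw [← Finset.univ_sum_single w]
  apply W.sum_mem
  intro x _
  have : (Pi.single x (w x) : D.Idx → K) = w x • Pi.single x (1 : K) := by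
    rw [← Pi.single_smul, smul_eq_mul, mul_one]
  rw [this]
  exact W.smul_mem _ (hsingle x)

end C

end Cfsg.Agent.Lib.helper14.BGLSP
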