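import Mathlib
import Cfsg.Agent.Lib.helper14.BGL.SPDefs
import Cfsg.Agent.Lib.helper14.BGL.SPDefs2
import Cfsg.Agent.Lib.Helper10.BGL.Defs
import Cfsg.Agent.Lib.Helper10.BGL.Bridge
import Cfsg.Agent.Lib.helper8.ChevBaseAll
import Cfsg.Agent.Lib.helper8.ChevBNAll
import Cfsg.Agent.Lib.helper8.ChevReflAll
import Cfsg.Agent.Lib.helper8.ChevNM
import Cfsg.Agent.Lib.helper8.ChevNgen
import Cfsg.Agent.Lib.helper8.ChevFix1
import Cfsg.Agent.Lib.helper8.ChevTits5
import Cfsg.Agent.Lib.helper14.BGLSPX0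
import Cfsg.Agent.Lib.helper14.BGLSPX1
import Cfsg.Agent.Lib.helper4.BGLSPX4
import Cfsg.Agent.Lib.helper4.BGLSPN3
import Cfsg.Agent.Lib.Helper26.BGLSPN1
import Cfsg.Agent.Lib.Helper12.BGLSPO1
import Cfsg.Agent.Lib.Lead.BGLSPO5
import Cfsg.Agent.Lib.Helper1.BGLSPO2
import Cfsg.Agent.Lib.Helper12.BGLSPR2core

/-!
Project BGL (designer helper10), block SP (designer helper14) rows R1 R4 R5 R6 (`row_lam`, `row_hc`, `row_simple`, `row_zero`),
VERBATIM vs `helper14/BGL/SPSkel.lean.txt` (helper1): vectors `w` with `(m w)_{−ρ} = 0` for all `m`.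
-/

set_option autoImplicit false

namespace Cfsg.Agent.Lib.helper14.BGLSP

open Cfsg.Lie Cfsg.Lie.ChevalleyDatum Cfsg.Agent.Lib.helper8 Cfsg.Agent.Lib.Helper10.BGL Matrix

universe u

variable {K : Type u} [Field K] (D : ChevalleyDatum)

/-- an entry of a list is a member -/
theorem bglspr1_getD_mem (l : List ℕ) {j : ℕ} (hj : j < l.length) : l.getD j 0 ∈ l := by
  rw [List.getD_eq_getElem _ _ hj]
  exact List.getElem_mem hj

/-- the coordinates of the zero vector -/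
theorem bglspr1_rc_zero (s : ℕ) : rc D (0 : D.Idx → K) s = 0 := by
  unfold rc
  split_ifs <;> rfl

/-- the step of the orbit inductions of block R -/
theorem bglspr1_step {lam : List ℕ} (hT : SPTab D lam) {P : (D.Idx → K) → Prop} (hP : StabP D P)
    {i : ℕ} (hi : i < D.rank) {s : ℕ} (hs : s < D.nroots)
    (h : ∀ w, P w → rc D w (D.reflectRoot i s) = 0) : ∀ w, P w → rc D w s = 0 := by
  intro w hw
  obtain ⟨hlt, hinv, -⟩ := refl_facts D hT.refl hi hs
  obtain ⟨η, hη, hn⟩ := n_mulVec_rc (K := K) D hT.refl hi hlt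
  obtain ⟨hsi, -, -, -⟩ := (spBase_spec D hT.base).2 i hi
  obtain ⟨hnsi, -, -, -⟩ := (spBase_spec D hT.base).1 _ hsi
  have h1 : P (D.nMat K (D.simple i) 1 *ᵥ w) := stabP_n D hP hsi hnsi hw
  have h2 := h _ h1
  rw [hn w, hinv] at h2
  rcases hη with rfl | rfl
  · simpa using h2
  · simpa using h2

section R
variable {D} {lam : List ℕ} (hT : SPTab D lam) {P : (D.Idx → K) → Prop} (hP : StabP D P)
  (h0 : ∀ w, P w → rc D w 0 = 0)
include hT hP h0

/-- R1 [M]  `Q s := ∀ w, P w → rc D w s = 0`; step: `rc (n_i w) s = ± rc w (w_i s)` (`n_mulVec_rc`, `stabP_n`); `spOrb_induct`. -/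
theorem row_lam : ∀ s ∈ lam, ∀ w, P w → rc D w s = 0 := by
  obtain ⟨dep, par, horb⟩ := hT.orb
  exact spOrb_induct D horb (fun s => ∀ w, P w → rc D w s = 0) h0
    (fun i hi s hs h => bglspr1_step D hT hP hi hs h)

/-- own-name copy of R2 `row_alpha` (from helper12's core), so that this module does not wait for the wrapper -/
theorem bglspr1_row_alpha : ∀ s ∈ lam, ∀ w, P w → alpha D s w = 0 := by
  obtain ⟨dep, par, horb⟩ := hT.orb
  exact bglspr2_core hP (spOrb_spec D horb).2.2.2 (spBase_spec D hT.base).1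
    (fun hr hne hself t w => x_mulVec_self D hr hne hself t w) (row_lam hT hP h0)

/-- R4 [S-M]  `spX_spec`, `row_alpha`, `d ≠ 0`. -/
theorem row_hc {xs : List ℕ} {X : List (List ℤ)} {d : ℤ} (hX : spXChk D lam xs X d = true) (hd : ((d : ℤ) : K) ≠ 0) :
    ∀ w, P w → ∀ i : Fin D.rank, w (Sum.inl i) = 0 := by
  intro w hw i
  obtain ⟨hxs, hsum⟩ := spX_spec (K := K) D hX
  have h1 := hsum w i
  have h2 : ∑ j ∈ Finset.range xs.length, (((X.getD i.val []).getD j 0 : ℤ) : K) * alpha D (xs.getD j 0) w = 0 := by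
    apply Finset.sum_eq_zero
    intro j hj
    rw [bglspr1_row_alpha hT hP h0 _ (hxs _ (bglspr1_getD_mem xs (Finset.mem_range.mp hj))) w hw, mul_zero]
  rw [h2] at h1
  rcases mul_eq_zero.mp h1.symm with h | h
  · exact absurd h hd
  · exact h

/-- R5 [S-M]  X3 for `r = −p_j`, `t = 1`: `0 = (x_{−p_j}(1) w)_j = w_j − w_{p_j}` (`cor D (D.neg (D.simple j)) j = -1`, `D.neg (D.neg p_j) = p_j`: `spBase_spec`; `row_hc` twice). -/
theorem row_simple {xs : List ℕ} {X : List (List ℤ)} {d : ℤ} (hX : spXChk D lam xs X d = true) (hd : ((d : ℤ) : K) ≠ 0) :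
    ∀ j < D.rank, ∀ w, P w → rc D w (D.simple j) = 0 := by
  intro j hj w hw
  obtain ⟨hsj, -, -, hcor⟩ := (spBase_spec D hT.base).2 j hj
  obtain ⟨hnsj, -, hnn, -⟩ := (spBase_spec D hT.base).1 _ hsj
  obtain ⟨-, hne, -, -⟩ := (spBase_spec D hT.base).1 _ hnsj
  have h1 : P (D.x K (D.neg (D.simple j)) 1 *ᵥ w) := (hP _ hnsj w hw).1
  have h2 := row_hc hT hP h0 hX hd _ h1 ⟨j, hj⟩
  have h3 := row_hc hT hP h0 hX hd w hw ⟨j, hj⟩
  rw [x_mulVec_inl D hnsj hne 1 w ⟨j, hj⟩, h3, hcor, hnn] at h2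
  have h4 : ((((-1 : ℤ)) : K)) * 1 * rc D w (D.simple j) = - rc D w (D.simple j) := by
    push_cast
    ring
  rw [zero_add, h4, neg_eq_zero] at h2
  exact h2

/-- R6 [S-M]  `orbAll_induct` with `Q s := ∀ w, P w → rc D w s = 0` (step as in R1), `row_hc`, `ext_rc_hc`. -/
theorem row_zero {xs : List ℕ} {X : List (List ℤ)} {d : ℤ} (hX : spXChk D lam xs X d = true) (hd : ((d : ℤ) : K) ≠ 0) :
    ∀ w, P w → w = 0 := by
  have hall : ∀ r < D.nroots, ∀ w, P w → rc D w r = 0 :=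
    orbAll_induct D hT.refl hT.bn (fun s => ∀ w, P w → rc D w s = 0) (row_simple hT hP h0 hX hd)
      (fun i hi s hs h => bglspr1_step D hT hP hi hs h)
  intro w hw
  apply ext_rc_hc D
  · intro i
    rw [row_hc hT hP h0 hX hd w hw i]
    rfl
  · intro s hs
    rw [hall s hs w hw, bglspr1_rc_zero]

end R

end Cfsg.Agent.Lib.helper14.BGLSP
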