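import Mathlib
import Cfsg.Agent.Lib.Helper18.BLK.Defs

set_option autoImplicit false

namespace Cfsg.Agent.Lib.Helper18.BLK

universe u

theorem blkh1_mem_Z_nat {G : Type*} [Group G] [Finite G] (z₀ w : G)
    (hw : w ∈ Subgroup.zpowers z₀) : ∃ a : ℕ, w = z₀ ^ a := by
  rw [← mem_powers_iff_mem_zpowers, Submonoid.mem_powers_iff] at hw
  obtain ⟨a, ha⟩ := hw
  exact ⟨a, ha.symm⟩

theorem blkh1_solve (p : ℕ) [Fact p.Prime] (a b : ℕ) (hb : ¬ p ∣ b) :
    ∃ t : ℕ, p ∣ a + b * t := by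
  have hb' : (b : ZMod p) ≠ 0 := by
    intro h
    exact hb ((ZMod.natCast_eq_zero_iff b p).mp h)
  refine ⟨(-(a : ZMod p) * (b : ZMod p)⁻¹).val, ?_⟩
  rw [← ZMod.natCast_eq_zero_iff]
  push_cast
  rw [ZMod.natCast_zmod_val]
  field_simp
  ring

theorem blkh1_Z_central {G : Type*} [Group G] {p : ℕ} {E : Subgroup G} {z₀ : G}
    (B : Base p E z₀) (w : G) (hw : w ∈ Subgroup.zpowers z₀) : w ∈ Subgroup.center G := by
  have h : Subgroup.zpowers z₀ ≤ Subgroup.center G :=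
    (Subgroup.zpowers_le).mpr B.z₀c
  exact h hw

theorem blkh1_Z_le_E {G : Type*} [Group G] {p : ℕ} {E : Subgroup G} {z₀ : G}
    (B : Base p E z₀) (w : G) (hw : w ∈ Subgroup.zpowers z₀) : w ∈ E := by
  have h : Subgroup.zpowers z₀ ≤ E := (Subgroup.zpowers_le).mpr B.z₀E
  exact h hw

theorem blkh1_E_le_C {G : Type*} [Group G] {p : ℕ} {E : Subgroup G} {z₀ : G}
    (B : Base p E z₀) (e : G) (he : e ∈ E) : e ∈ Subgroup.centralizer (E : Set G) := by
  rw [Subgroup.mem_centralizer_iff]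
  intro f hf
  exact B.cE f hf e he

theorem blkh1_pow_eq_one_of_dvd {G : Type*} [Group G] {p : ℕ} {E : Subgroup G} {z₀ : G}
    (B : Base p E z₀) (k : ℕ) (hk : p ∣ k) : z₀ ^ k = 1 := by
  rw [← orderOf_dvd_iff_pow_eq_one, B.z₀o]
  exact hk

theorem blkh1_dvd_of_pow_eq_one {G : Type*} [Group G] {p : ℕ} {E : Subgroup G} {z₀ : G}
    (B : Base p E z₀) (k : ℕ) (hk : z₀ ^ k = 1) : p ∣ k := by
  rw [← B.z₀o]
  exact orderOf_dvd_of_pow_eq_one hk

theorem blkh1_central_comm {G : Type*} [Group G] {p : ℕ} {E : Subgroup G} {z₀ : G}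
    (B : Base p E z₀) (w : G) (hw : w ∈ Subgroup.zpowers z₀) (g : G) : Commute g w := by
  have h := Subgroup.mem_center_iff.mp (blkh1_Z_central B w hw) g
  exact h

end Cfsg.Agent.Lib.Helper18.BLK
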