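import Mathlib
import Cfsg.Agent.Lib.Helper18.BLK.Defs
import Cfsg.Agent.Lib.Helper1.BLKUtil
import Cfsg.Agent.Lib.Helper20.BLKS0
import Cfsg.Agent.Lib.Helper18.BLKS567

set_option autoImplicit false

namespace Cfsg.Agent.Lib.Helper18.BLK

universe u

theorem Base.blkh1_exists_commuting_u_aux {G : Type u} [Group G] [Finite G] {p : ℕ} [Fact p.Prime]
    {E : Subgroup G} {z₀ : G} (B : Base p E z₀) (u₁ : G)
    (hu : u₁ ∈ Subgroup.centralizer (E : Set G)) (hup : u₁ ^ p = z₀)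
    (hS3 : ∀ e ∈ E, (u₁ * e) ^ p = u₁ ^ p * e ^ p)
    (hS7 : ∀ e ∈ E, ∀ g : G, rc (u₁ * e) g = rc u₁ g * rc e g)
    (hα : ∀ g : G, rc u₁ g ∈ Subgroup.zpowers z₀) (g : G)
    (hg : g ∉ Subgroup.centralizer (E : Set G)) :
    ∃ u ∈ Subgroup.centralizer (E : Set G), u ^ p = z₀ ∧ u * g = g * u := by
  obtain ⟨e₁, he₁, he₁z⟩ := B.exists_e1
  obtain ⟨a, ha⟩ := blkh1_mem_Z_nat z₀ _ (hα g)
  obtain ⟨b, hb⟩ := blkh1_mem_Z_nat z₀ _ (B.rc_mem_Z e₁ he₁ g)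
  have hne : rc e₁ g ≠ 1 := B.rc_ne_one e₁ he₁ he₁z g hg
  have hpb : ¬ p ∣ b := by
    intro hd
    apply hne
    rw [hb]
    exact blkh1_pow_eq_one_of_dvd B b hd
  obtain ⟨t, ht⟩ := blkh1_solve p a b hpb
  have hetE : e₁ ^ t ∈ E := Subgroup.pow_mem _ he₁ t
  have hetC : e₁ ^ t ∈ Subgroup.centralizer (E : Set G) := blkh1_E_le_C B _ hetE
  refine ⟨u₁ * e₁ ^ t, Subgroup.mul_mem _ hu hetC, ?_, ?_⟩
  · rw [hS3 _ hetE, hup, B.eE _ hetE, mul_one]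
  · rw [← rc_eq_one_iff]
    rw [hS7 _ hetE g]
    have hcomm : Commute e₁ (rc e₁ g) :=
      blkh1_central_comm B _ (B.rc_mem_Z e₁ he₁ g) e₁
    rw [rc_pow_left_of_commute e₁ g hcomm t, ha, hb, ← pow_mul, ← pow_add]
    exact blkh1_pow_eq_one_of_dvd B _ ht

theorem Base.blkh1_S3 {G : Type u} [Group G] [Finite G] {p : ℕ} [Fact p.Prime]
    {E : Subgroup G} {z₀ : G} (B : Base p E z₀) (u₁ : G)
    (hu : u₁ ∈ Subgroup.centralizer (E : Set G)) (hup : u₁ ^ p = z₀) :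
    ∀ e ∈ E, (u₁ * e) ^ p = u₁ ^ p * e ^ p := by
  intro e he
  exact B.pow_mul_C u₁ e hu (blkh1_E_le_C B e he) (by rw [hup]; exact B.z₀E)
    (by rw [B.eE e he]; exact E.one_mem)

theorem Base.blkh1_S7 {G : Type u} [Group G] [Finite G] {p : ℕ} [Fact p.Prime]
    {E : Subgroup G} {z₀ : G} (B : Base p E z₀) (u₁ : G)
    (hu : u₁ ∈ Subgroup.centralizer (E : Set G)) (hup : u₁ ^ p = z₀) :
    ∀ e ∈ E, ∀ g : G, rc (u₁ * e) g = rc u₁ g * rc e g := by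
  intro e he g
  have h1 := B.rc_DZ u₁ hu hup 1 e he g
  rw [pow_one, pow_one] at h1
  exact h1

theorem Base.exists_commuting_u {G : Type u} [Group G] [Finite G] {p : ℕ} [Fact p.Prime]
    {E : Subgroup G} {z₀ : G} (B : Base p E z₀) (u₁ : G)
    (hu : u₁ ∈ Subgroup.centralizer (E : Set G)) (hup : u₁ ^ p = z₀)
    (hα : ∀ g : G, rc u₁ g ∈ Subgroup.zpowers z₀) (g : G)
    (hg : g ∉ Subgroup.centralizer (E : Set G)) :
    ∃ u ∈ Subgroup.centralizer (E : Set G), u ^ p = z₀ ∧ u * g = g * u :=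
  B.blkh1_exists_commuting_u_aux u₁ hu hup (B.blkh1_S3 u₁ hu hup) (B.blkh1_S7 u₁ hu hup) hα g hg

end Cfsg.Agent.Lib.Helper18.BLK
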