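import Mathlib
import Cfsg.Agent.Lib.Helper18.BLK.Defs
import Cfsg.Agent.Lib.Helper1.BLKUtil
import Cfsg.Agent.Lib.Helper1.BLKAL1

set_option autoImplicit false

namespace Cfsg.Agent.Lib.Helper18.BLK

universe u

theorem Base.blkh1_mem_C_of_pow_mem_Z_aux {G : Type u} [Group G] [Finite G] {p : ℕ} [Fact p.Prime]
    {E : Subgroup G} {z₀ : G} (B : Base p E z₀) (u₁ : G)
    (hu : u₁ ∈ Subgroup.centralizer (E : Set G)) (hup : u₁ ^ p = z₀)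
    (hS3 : ∀ e ∈ E, (u₁ * e) ^ p = u₁ ^ p * e ^ p)
    (hS7 : ∀ e ∈ E, ∀ g : G, rc (u₁ * e) g = rc u₁ g * rc e g)
    (hα : ∀ g : G, rc u₁ g ∈ Subgroup.zpowers z₀) (hI : ∀ x : G, x ^ p = 1 → x ∈ E)
    (v : G) (hv : v ^ p ∈ Subgroup.zpowers z₀) : v ∈ Subgroup.centralizer (E : Set G) := by
  by_contra hvC
  obtain ⟨u, huC, hup', hcomm⟩ := B.blkh1_exists_commuting_u_aux u₁ hu hup hS3 hS7 hα v hvC
  obtain ⟨j, hj⟩ := blkh1_mem_Z_nat z₀ _ hv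
  obtain ⟨q, hq⟩ : ∃ q, p = q + 1 :=
    Nat.exists_eq_succ_of_ne_zero (Fact.out : p.Prime).ne_zero
  have hpk : p ∣ j + q * j := ⟨j, by rw [hq]; ring⟩
  have hc : Commute v (u ^ (q * j)) := (show Commute u v from hcomm).symm.pow_right _
  have h1 : (v * u ^ (q * j)) ^ p = 1 := by
    rw [hc.mul_pow, hj, ← pow_mul, mul_comm (q * j) p, pow_mul, hup', ← pow_add]
    exact blkh1_pow_eq_one_of_dvd B _ hpk
  have h2 : v * u ^ (q * j) ∈ Subgroup.centralizer (E : Set G) :=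
    blkh1_E_le_C B _ (hI _ h1)
  have h3 : u ^ (q * j) ∈ Subgroup.centralizer (E : Set G) := Subgroup.pow_mem _ huC _
  apply hvC
  have h4 := Subgroup.mul_mem _ h2 (Subgroup.inv_mem _ h3)
  simpa using h4

theorem Base.mem_C_of_pow_mem_Z {G : Type u} [Group G] [Finite G] {p : ℕ} [Fact p.Prime]
    {E : Subgroup G} {z₀ : G} (B : Base p E z₀) (u₁ : G)
    (hu : u₁ ∈ Subgroup.centralizer (E : Set G)) (hup : u₁ ^ p = z₀)
    (hα : ∀ g : G, rc u₁ g ∈ Subgroup.zpowers z₀) (hI : ∀ x : G, x ^ p = 1 → x ∈ E)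
    (v : G) (hv : v ^ p ∈ Subgroup.zpowers z₀) : v ∈ Subgroup.centralizer (E : Set G) :=
  B.blkh1_mem_C_of_pow_mem_Z_aux u₁ hu hup (B.blkh1_S3 u₁ hu hup) (B.blkh1_S7 u₁ hu hup) hα hI
    v hv

end Cfsg.Agent.Lib.Helper18.BLK
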