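import Mathlib
import Cfsg.Agent.Lib.Helper18.BLK.Defs
import Cfsg.Agent.Lib.Helper1.BLKUtil
import Cfsg.Agent.Lib.Helper20.BLKS0
import Cfsg.Agent.Lib.Helper18.BLKS567

set_option autoImplicit false

namespace Cfsg.Agent.Lib.Helper18.BLK

universe u

theorem Base.blkh1_exists_outside_aux {G : Type u} [Group G] [Finite G] {p : ℕ} [Fact p.Prime]
    {E : Subgroup G} {z₀ : G} (B : Base p E z₀) (u₁ : G)
    (hS6 : ∀ g : G, rc u₁ g ∈ E)
    (h : ∃ g : G, rc u₁ g ∉ Subgroup.zpowers z₀) :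
    ∃ g : G, g ∉ Subgroup.centralizer (E : Set G) ∧ rc u₁ g ∉ Subgroup.zpowers z₀ := by
  obtain ⟨g, hg⟩ := h
  by_cases hgC : g ∈ Subgroup.centralizer (E : Set G)
  swap
  · exact ⟨g, hgC, hg⟩
  obtain ⟨e₁, he₁, he₁z⟩ := B.exists_e1
  have hnc : e₁ ∉ Subgroup.center G := fun hc => he₁z (B.cent e₁ he₁ hc)
  rw [Subgroup.mem_center_iff] at hnc
  push Not at hnc
  obtain ⟨k, hk⟩ := hnc
  have hkC : k ∉ Subgroup.centralizer (E : Set G) := by
    intro hc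
    rw [Subgroup.mem_centralizer_iff] at hc
    exact hk (hc e₁ he₁).symm
  by_cases hk2 : rc u₁ k ∈ Subgroup.zpowers z₀
  swap
  · exact ⟨k, hkC, hk2⟩
  refine ⟨g * k, ?_, ?_⟩
  · intro hc
    apply hkC
    have h1 := Subgroup.mul_mem _ (Subgroup.inv_mem _ hgC) hc
    simpa using h1
  · rw [rc_mul_right]
    have hrE : rc u₁ g ∈ E := hS6 g
    rw [conj_eq (rc u₁ g) k]
    have h4 : rc (rc u₁ g) k ∈ Subgroup.zpowers z₀ := B.rc_mem_Z (rc u₁ g) hrE k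
    intro hmem
    apply hg
    have h5 : rc u₁ g * rc (rc u₁ g) k ∈ Subgroup.zpowers z₀ := by
      have h := Subgroup.mul_mem _ (Subgroup.inv_mem _ hk2) hmem
      simpa using h
    have h6 := Subgroup.mul_mem _ h5 (Subgroup.inv_mem _ h4)
    simpa using h6

theorem Base.exists_outside {G : Type u} [Group G] [Finite G] {p : ℕ} [Fact p.Prime]
    {E : Subgroup G} {z₀ : G} (B : Base p E z₀) (u₁ : G)
    (hu : u₁ ∈ Subgroup.centralizer (E : Set G)) (hup : u₁ ^ p = z₀)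
    (h : ∃ g : G, rc u₁ g ∉ Subgroup.zpowers z₀) :
    ∃ g : G, g ∉ Subgroup.centralizer (E : Set G) ∧ rc u₁ g ∉ Subgroup.zpowers z₀ :=
  B.blkh1_exists_outside_aux u₁ (fun g => B.rc_u1_mem_E u₁ hu hup g) h

end Cfsg.Agent.Lib.Helper18.BLK
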