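import Mathlib
import Cfsg.Agent.Lib.Helper28.BP2.Defs
import Cfsg.Agent.Lib.helper4.BP2U2
import Cfsg.Agent.S2455

/-!
# BP2 rows C3 (`orderOf_pr_uS`) and D5 (`prod_conj_odd`), verbatim vs `Helper28/BP2/Skel.lean.txt`.
-/

set_option autoImplicit false

namespace Cfsg.Agent.Lib.Helper28.BP2

open Cfsg.Agent.Lib.helper14

universe u v w

section StepC

variable {F : Type u} [Field F] [Fintype F]

/-- powers of `uS`. -/
theorem bp2c3_uS_pow (α : F) (n : ℕ) : (uS α) ^ n = uS ((n : F) * α) := by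
  induction n with
  | zero => simp [uS_zero]
  | succ k ih =>
    rw [pow_succ, ih, uS_mul]
    congr 1
    push_cast
    ring

/-- `pr (uS α) ≠ 1` for `α ≠ 0`. -/
theorem bp2c3_pr_uS_ne_one (α : F) (hα : α ≠ 0) : pr F (uS α) ≠ 1 := by
  intro h
  rw [← map_one (pr F), pr_eq_iff] at h
  rcases h with h | h
  · have := congrArg (fun g : SL2 F => (g : Matrix (Fin 2) (Fin 2) F) 0 1) h
    simp [uS_coe] at this
    exact hα this
  · have := congrArg (fun g : SL2 F => (g : Matrix (Fin 2) (Fin 2) F) 0 1) h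
    simp [uS_coe, Matrix.SpecialLinearGroup.coe_neg] at this
    exact hα this

/-- **C3**. -/
theorem orderOf_pr_uS (p : ℕ) [Fact p.Prime] [CharP F p] (α : F) (hα : α ≠ 0) :
    orderOf (pr F (uS α)) = p := by
  apply orderOf_eq_prime
  · rw [← map_pow, bp2c3_uS_pow, CharP.cast_eq_zero F p, zero_mul, uS_zero, map_one]
  · exact bp2c3_pr_uS_ne_one α hα

end StepC

section StepD

variable {F : Type u} [Field F] [Fintype F]

/-- **D5**  (= S2455 with `g := a`). -/
theorem prod_conj_odd (p : ℕ) [Fact p.Prime] [CharP F p] (hp : p ≠ 2) (h5 : 5 ≤ Fintype.card F)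
    (a : PSL2 F) (h2 : 2 < orderOf a) (hpa : ¬ p ∣ orderOf a) :
    ∃ u v : PSL2 F, a = (u * a * u⁻¹) * (v * a * v⁻¹) := by
  have ha1 : a ≠ 1 := by
    intro h
    rw [h, orderOf_one] at h2
    omega
  exact Cfsg.Agent.S2455.result p hp h5 a h2 hpa a ha1

end StepD

end Cfsg.Agent.Lib.Helper28.BP2
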