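import Mathlib
import Cfsg.Agent.Lib.Helper28.BP2.Defs
import Cfsg.Agent.Lib.helper4.BP2U2
import Cfsg.Agent.Lib.helper15.BP2T7
import Cfsg.Agent.Lib.Helper26.BP2T3
import Cfsg.Agent.Lib.Helper1.BP2C3

/-!
# BP2 row C9a (`not_binS_three_nine`): core on the statement of C1 (`order_p_conj` at `p = 3`).
-/

set_option autoImplicit false

namespace Cfsg.Agent.Lib.Helper28.BP2

open Cfsg.Agent.Lib.helper14

universe u v w

section StepC

variable {F : Type u} [Field F]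

/-- entries of a product with `uS` on the left. -/
theorem bp2c9a_uS_mul_apply (t : F) (Z : SL2 F) (j : Fin 2) :
    ((uS t * Z : SL2 F) : Matrix (Fin 2) (Fin 2) F) 0 j =
      (Z : Matrix (Fin 2) (Fin 2) F) 0 j + t * (Z : Matrix (Fin 2) (Fin 2) F) 1 j ∧
    ((uS t * Z : SL2 F) : Matrix (Fin 2) (Fin 2) F) 1 j = (Z : Matrix (Fin 2) (Fin 2) F) 1 j := by
  rw [Matrix.SpecialLinearGroup.coe_mul, uS_coe]
  simp [Matrix.mul_apply, Fin.sum_univ_two]

/-- entries of a product with `uS` on the right. -/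
theorem bp2c9a_mul_uS_apply (t : F) (Z : SL2 F) (i : Fin 2) :
    ((Z * uS t : SL2 F) : Matrix (Fin 2) (Fin 2) F) i 0 = (Z : Matrix (Fin 2) (Fin 2) F) i 0 ∧
    ((Z * uS t : SL2 F) : Matrix (Fin 2) (Fin 2) F) i 1 =
      (Z : Matrix (Fin 2) (Fin 2) F) i 0 * t + (Z : Matrix (Fin 2) (Fin 2) F) i 1 := by
  rw [Matrix.SpecialLinearGroup.coe_mul, uS_coe]
  simp [Matrix.mul_apply, Fin.sum_univ_two]

/-- `pr (uS α) ≠ 1` for `α ≠ 0` (no finiteness needed). -/
theorem bp2c9a_pr_uS_ne_one (α : F) (hα : α ≠ 0) : pr F (uS α) ≠ 1 := by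
  intro h
  rw [← map_one (pr F), pr_eq_iff] at h
  rcases h with h | h
  · have := congrArg (fun g : SL2 F => (g : Matrix (Fin 2) (Fin 2) F) 0 1) h
    simp [uS_coe] at this
    exact hα this
  · have := congrArg (fun g : SL2 F => (g : Matrix (Fin 2) (Fin 2) F) 0 1) h
    simp [uS_coe, Matrix.SpecialLinearGroup.coe_neg] at this
    exact hα this

/-- an element of `PU F` is `pr (uS t)`. -/
theorem bp2c9a_mem_PU {h : PSL2 F} (hh : h ∈ PU F) : ∃ t : F, h = pr F (uS t) := by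
  obtain ⟨g, hg, rfl⟩ := hh
  obtain ⟨t, rfl⟩ := (mem_US g).1 hg
  exact ⟨t, rfl⟩

/-- if `Z` is not upper triangular, `PU F ∩ (pr Z) (PU F) (pr Z)⁻¹ = 1` (characteristic `≠ 2`). -/
theorem bp2c9a_inter_trivial (h2 : (2 : F) ≠ 0) (Z : SL2 F)
    (hZ : (Z : Matrix (Fin 2) (Fin 2) F) 1 0 ≠ 0) {h : PSL2 F} (hh : h ∈ PU F)
    (hh' : (pr F Z)⁻¹ * h * pr F Z ∈ PU F) : h = 1 := by
  obtain ⟨t, rfl⟩ := bp2c9a_mem_PU hh
  obtain ⟨t', ht'⟩ := bp2c9a_mem_PU hh'
  have h1 : pr F (uS t * Z) = pr F (Z * uS t') := by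
    rw [map_mul, map_mul, ← ht']
    group
  rcases (pr_eq_iff _ _).1 h1 with h3 | h3
  · have e := congrArg (fun g : SL2 F => (g : Matrix (Fin 2) (Fin 2) F) 0 0) h3
    simp only [(bp2c9a_uS_mul_apply t Z 0).1, (bp2c9a_mul_uS_apply t' Z 0).1] at e
    have ht : t = 0 := by
      have : t * (Z : Matrix (Fin 2) (Fin 2) F) 1 0 = 0 := by linear_combination e
      rcases mul_eq_zero.1 this with h | h
      · exact h
      · exact absurd h hZ
    rw [ht, uS_zero, map_one]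
  · exfalso
    have e := congrArg (fun g : SL2 F => (g : Matrix (Fin 2) (Fin 2) F) 1 0) h3
    simp only [(bp2c9a_uS_mul_apply t Z 0).2, Matrix.SpecialLinearGroup.coe_neg, Matrix.neg_apply,
      (bp2c9a_mul_uS_apply t' Z 1).1] at e
    have : (2 : F) * (Z : Matrix (Fin 2) (Fin 2) F) 1 0 = 0 := by linear_combination e
    rcases mul_eq_zero.1 this with h | h
    · exact h2 h
    · exact hZ h

/-- the witness: in characteristic 3 with `i ^ 2 = -1`, `zpowers (pr (uS α))` is not binary. -/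
theorem bp2c9a_witness (h3 : (3 : F) = 0) (i : F) (hi : i * i = -1) (α : F) (hα : α ≠ 0) :
    ¬ BinS (Subgroup.zpowers (pr F (uS α))) := by
  have h2 : (2 : F) ≠ 0 := by
    intro h
    have h1 : (1 : F) = 0 := by linear_combination h3 - h
    exact one_ne_zero h1
  have hi0 : i ≠ 0 := by
    intro h
    rw [h, mul_zero] at hi
    have : (1 : F) = 0 := by linear_combination hi
    exact one_ne_zero this
  have hαi : α * α⁻¹ = 1 := mul_inv_cancel₀ hα
  set γ : F := -α⁻¹ with hγ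
  -- the conjugating matrices
  let X : SL2 F := ⟨!![i, -(i * α); -(i * α⁻¹), 0], by
    rw [Matrix.det_fin_two_of]
    linear_combination (-(i * i)) * hαi - hi⟩
  let Y : SL2 F := ⟨!![0, -(i * α); -(i * α⁻¹), 0], by
    rw [Matrix.det_fin_two_of]
    linear_combination (-(i * i)) * hαi - hi⟩
  have hX10 : (X : Matrix (Fin 2) (Fin 2) F) 1 0 ≠ 0 := by
    show -(i * α⁻¹) ≠ 0
    exact neg_ne_zero.2 (mul_ne_zero hi0 (inv_ne_zero hα))
  have hY10 : (Y : Matrix (Fin 2) (Fin 2) F) 1 0 ≠ 0 := by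
    show -(i * α⁻¹) ≠ 0
    exact neg_ne_zero.2 (mul_ne_zero hi0 (inv_ne_zero hα))
  have hle : Subgroup.zpowers (pr F (uS α)) ≤ PU F := by
    rw [Subgroup.zpowers_le]
    exact ⟨uS α, uS_mem α, rfl⟩
  -- `M X = -(X uS α)`
  have hMX : uS α * lS γ * X = -(X * uS α) := by
    apply Subtype.ext
    rw [Matrix.SpecialLinearGroup.coe_neg, Matrix.SpecialLinearGroup.coe_mul,
      Matrix.SpecialLinearGroup.coe_mul, Matrix.SpecialLinearGroup.coe_mul, uS_coe, lS_coe]
    show !![1, α; 0, 1] * !![1, 0; γ, 1] * !![i, -(i * α); -(i * α⁻¹), 0] =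
      -(!![i, -(i * α); -(i * α⁻¹), 0] * !![1, α; 0, 1])
    ext a b
    fin_cases a <;> fin_cases b <;>
      simp [Matrix.mul_apply, Fin.sum_univ_two, hγ]
    · linear_combination (-2 * i) * hαi
    · left
      linear_combination (-1 : F) * hαi
    · linear_combination (-(i * α⁻¹)) * h3
    · ring
  -- `lS (-γ) Y = Y uS α`
  have hLY : lS (-γ) * Y = Y * uS α := by
    apply Subtype.ext
    rw [Matrix.SpecialLinearGroup.coe_mul, Matrix.SpecialLinearGroup.coe_mul, uS_coe, lS_coe]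
    show !![1, 0; -γ, 1] * !![0, -(i * α); -(i * α⁻¹), 0] =
      !![0, -(i * α); -(i * α⁻¹), 0] * !![1, α; 0, 1]
    ext a b
    fin_cases a <;> fin_cases b <;>
      simp [Matrix.mul_apply, Fin.sum_univ_two, hγ]
    · ring
  refine not_binS_of_triple (Subgroup.zpowers (pr F (uS α))) (pr F (uS α))
    (pr F (uS α * lS γ)) (pr F (lS (-γ))) (pr F X) (pr F Y) (Subgroup.mem_zpowers _) ?_ ?_ ?_ ?_
  · -- `x⁻¹ b x = a`
    have : (pr F X)⁻¹ * pr F (uS α * lS γ) * pr F X = pr F (uS α) := by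
      have h1 : pr F (uS α * lS γ * X) = pr F (X * uS α) :=
        (pr_eq_iff _ _).2 (Or.inr hMX)
      rw [map_mul, map_mul (pr F) X] at h1
      rw [mul_assoc, h1]
      group
    rw [this]
    exact Subgroup.mem_zpowers _
  · have : (pr F Y)⁻¹ * pr F (lS (-γ)) * pr F Y = pr F (uS α) := by
      have h1 : pr F (lS (-γ) * Y) = pr F (Y * uS α) := by rw [hLY]
      rw [map_mul, map_mul (pr F) Y] at h1
      rw [mul_assoc, h1]
      group
    rw [this]
    exact Subgroup.mem_zpowers _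
  · rw [← map_mul, mul_assoc, lS_mul, add_neg_cancel, lS_zero, mul_one]
  · intro h₁ h₂ hh₁ hh₁' hh₂ hh₂'
    have e1 : h₁ = 1 := bp2c9a_inter_trivial h2 X hX10 (hle hh₁) (hle hh₁')
    have e2 : h₂ = 1 := bp2c9a_inter_trivial h2 Y hY10 (hle hh₂) (hle hh₂')
    rw [e1, e2, mul_one]
    exact bp2c9a_pr_uS_ne_one α hα

/-- C9a core: `hC1` = the statement of C1 (`order_p_conj`) at `p = 3`. -/
theorem bp2c9a_core [Fintype F] [CharP F 3] (hq : Fintype.card F = 9)
    (hC1 : ∀ g : PSL2 F, orderOf g = 3 → ∃ (x : PSL2 F) (α : F), α ≠ 0 ∧ g = x * pr F (uS α) * x⁻¹)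
    (H : Subgroup (PSL2 F)) (hH : Nat.card H = 3) : ¬ BinS H := by
  classical
  have h3 : (3 : F) = 0 := by
    have := CharP.cast_eq_zero F 3
    exact_mod_cast this
  obtain ⟨i, hi⟩ : ∃ i : F, i * i = -1 := by
    have : IsSquare (-1 : F) := by
      rw [FiniteField.isSquare_neg_one_iff, hq]
      decide
    obtain ⟨i, hi⟩ := this
    exact ⟨i, hi.symm⟩
  haveI : Finite H := Nat.finite_of_card_ne_zero (by rw [hH]; norm_num)
  -- a generator
  obtain ⟨a₀, ha₀⟩ : ∃ a₀ : H, a₀ ≠ 1 := by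
    haveI : Nontrivial H := Finite.one_lt_card_iff_nontrivial.1 (by rw [hH]; norm_num)
    exact exists_ne 1
  have ha₀' : (a₀ : PSL2 F) ≠ 1 := fun h => ha₀ (Subtype.ext h)
  have hord : orderOf (a₀ : PSL2 F) = 3 := by
    have hdvd : orderOf (a₀ : PSL2 F) ∣ 3 := hH ▸ Subgroup.orderOf_dvd_natCard H a₀.2
    rcases (Nat.Prime.eq_one_or_self_of_dvd Nat.prime_three _ hdvd) with h | h
    · exact absurd (orderOf_eq_one_iff.1 h) ha₀'
    · exact h
  have hHz : Subgroup.zpowers (a₀ : PSL2 F) = H := by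
    apply Subgroup.eq_of_le_of_card_ge
    · rw [Subgroup.zpowers_le]
      exact a₀.2
    · rw [Nat.card_zpowers, hord, hH]
  obtain ⟨x₀, α, hα, hx₀⟩ := hC1 a₀ hord
  have hmap : (Subgroup.zpowers (pr F (uS α))).map (MulAut.conj x₀).toMonoidHom = H := by
    rw [MonoidHom.map_zpowers, ← hHz]
    congr 1
    rw [hx₀]
    rfl
  rw [← hmap, binS_conj]
  exact bp2c9a_witness h3 i hi α hα

end StepC

end Cfsg.Agent.Lib.Helper28.BP2
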