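import Mathlib
import Cfsg.Agent.Lib.Helper28.BP2.Defs
import Cfsg.Agent.Lib.Helper1.BP2C9acore
import Cfsg.Agent.Lib.Helper13.BP2C1

/-!
# BP2 row C9a (`not_binS_three_nine`), verbatim vs `Helper28/BP2/Skel.lean.txt`.
-/

set_option autoImplicit false

namespace Cfsg.Agent.Lib.Helper28.BP2

open Cfsg.Agent.Lib.helper14

universe u v w

section StepC

variable {F : Type u} [Field F] [Fintype F]

/-- a field with 9 elements has characteristic 3. -/
theorem bp2c9a_charP_three (hq : Fintype.card F = 9) : CharP F 3 := by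
  obtain ⟨p, hp⟩ := CharP.exists F
  haveI := hp
  haveI : Fact p.Prime := ⟨CharP.char_is_prime F p⟩
  obtain ⟨n, hpn, hn⟩ := FiniteField.card F p
  rw [hq] at hn
  have hdvd : p ∣ 3 ^ 2 := by
    have hn0 : (n : ℕ) ≠ 0 := n.ne_zero
    have : p ∣ p ^ (n : ℕ) := dvd_pow_self p hn0
    rw [← hn] at this
    exact this
  have h3 : p = 3 := (Nat.prime_dvd_prime_iff_eq hpn Nat.prime_three).1 (hpn.dvd_of_dvd_pow hdvd)
  rw [← h3]
  exact hp

/-- **C9a**. -/
theorem not_binS_three_nine (hq : Fintype.card F = 9) (H : Subgroup (PSL2 F))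
    (hH : Nat.card H = 3) : ¬ BinS H := by
  haveI : CharP F 3 := bp2c9a_charP_three hq
  haveI : Fact (Nat.Prime 3) := ⟨Nat.prime_three⟩
  exact bp2c9a_core hq (fun g hg => order_p_conj 3 g hg) H hH

end StepC

end Cfsg.Agent.Lib.Helper28.BP2
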