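import Mathlib
import Cfsg.Agent.Lib.helper7.BR.Defs

set_option autoImplicit false
set_option linter.unusedVariables false
set_option linter.unusedSectionVars false

namespace Cfsg.Agent.Lib.helper7.BR

open Classical
open Cfsg.Agent.Lib.Helper25

universe u

variable {G : Type u} [Group G] [Fintype G] {p : ℕ} [Fact p.Prime] {P : Sylow p G} {q t : ℕ}
  {Xp Xm Y : Finset (Cfsg.IrrCharacter G)} {H : Subgroup G}

theorem q_even (hS : Setting p P q t) (hD : CharData p P q t Xp Xm Y) : Even q := by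
  have hp := hS.prime
  have hqt := hS.qt
  have hq := hS.hq
  have ht := hS.ht
  have hcount := hD.count
  rcases hp.eq_two_or_odd with h2 | hodd
  · exfalso
    rw [h2] at hqt
    have : q * t = 1 := hqt
    have h3 : 2 * 3 ≤ q * t := Nat.mul_le_mul hq ht
    omega
  · have heven : Even (q * t) := by
      rw [hqt]
      have h2 : 2 ≤ p := hp.two_le
      rw [Nat.even_iff]
      omega
    rcases Nat.even_mul.mp heven with h | h
    · exact h
    · rw [← hcount]
      exact Even.add (Even.mul_left h _) (by decide)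

theorem brend1_sq_of_notMem (τ : G) (hτ : orderOf τ = 2)
    (g : G) (hc : IsConj τ g) : g * g = 1 := by
  obtain ⟨c, hc⟩ := isConj_iff.mp hc
  have hτ2 : τ * τ = 1 := by
    have := pow_orderOf_eq_one τ
    rwa [hτ, pow_two] at this
  rw [← hc]
  calc c * τ * c⁻¹ * (c * τ * c⁻¹) = c * (τ * τ) * c⁻¹ := by group
    _ = 1 := by rw [hτ2]; group

theorem brend1_exists_invol (hS : Setting p P q t) (hD : CharData p P q t Xp Xm Y)
    (hH : Compl P q H) : ∃ τ : G, τ ∈ H ∧ orderOf τ = 2 := by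
  have hqe := q_even hS hD
  have hdvd : 2 ∣ Nat.card ↥H := by
    rw [hH.card]
    exact even_iff_two_dvd.mp hqe
  obtain ⟨τ', hτ'⟩ := exists_prime_orderOf_dvd_card' 2 hdvd
  exact ⟨(τ' : G), τ'.2, by rw [Subgroup.orderOf_coe]; exact hτ'⟩

theorem brend1_q_eq_two_core (hS : Setting p P q t)
    (hD : CharData p P q t Xp Xm Y) (hH : Compl P q H) (hL : Nat.card ↥(nrmH H) = t * q)
    (hINV : ∀ τ : G, τ ∈ H → orderOf τ = 2 → ∀ g : G, g ∈ nrmH H → g ∉ H → IsConj τ g) :
    q = 2 := by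
  obtain ⟨τ, hτH, hτ⟩ := brend1_exists_invol hS hD hH
  have hsq : ∀ g ∈ nrmH H, g ∉ H → g * g = 1 :=
    fun g hg hgH => brend1_sq_of_notMem τ hτ g (hINV τ hτH hτ g hg hgH)
  have hHL : H ≤ nrmH H := Subgroup.le_normalizer
  have hq := hS.hq
  have ht := hS.ht
  have hcardH : (H : Set G).ncard = q := by
    rw [← hH.card]
    exact (Nat.card_coe_set_eq (H : Set G)).symm
  have hcardL : ((nrmH H : Subgroup G) : Set G).ncard = t * q := by
    rw [← hL]
    exact (Nat.card_coe_set_eq ((nrmH H : Subgroup G) : Set G)).symm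
  have hex1 : ∃ g₁, g₁ ∈ nrmH H ∧ g₁ ∉ H := by
    by_contra hcon
    push Not at hcon
    have hsub : ((nrmH H : Subgroup G) : Set G) ⊆ (H : Set G) := fun g hg => hcon g hg
    have := Set.ncard_le_ncard hsub (Set.toFinite _)
    rw [hcardH, hcardL] at this
    have h3 : 3 * q ≤ t * q := Nat.mul_le_mul_right q ht
    omega
  obtain ⟨g₁, hg₁, hg₁H⟩ := hex1
  have hex2 : ∃ g₂, g₂ ∈ nrmH H ∧ g₂ ∉ H ∧ g₁ * g₂ ∉ H := by
    by_contra hcon
    push Not at hcon
    have hsub : ((nrmH H : Subgroup G) : Set G) ⊆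
        (H : Set G) ∪ (fun h => g₁⁻¹ * h) '' (H : Set G) := by
      intro g hg
      by_cases hgH : g ∈ H
      · exact Or.inl hgH
      · right
        refine ⟨g₁ * g, hcon g hg hgH, ?_⟩
        show g₁⁻¹ * (g₁ * g) = g
        group
    have h1 := Set.ncard_le_ncard hsub (Set.toFinite _)
    have h2 := Set.ncard_union_le (H : Set G) ((fun h => g₁⁻¹ * h) '' (H : Set G))
    have h3 := Set.ncard_image_le (f := fun h => g₁⁻¹ * h) (Set.toFinite (H : Set G))
    rw [hcardL] at h1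
    rw [hcardH] at h2 h3
    have h4 : 3 * q ≤ t * q := Nat.mul_le_mul_right q ht
    omega
  obtain ⟨g₂, hg₂, hg₂H, hg₁₂⟩ := hex2
  have hinvert : ∀ g ∈ nrmH H, g ∉ H → ∀ h ∈ H, g * h * g⁻¹ = h⁻¹ := by
    intro g hg hgH h hh
    have hgh : g * h ∈ nrmH H := Subgroup.mul_mem _ hg (hHL hh)
    have hghH : g * h ∉ H := by
      intro hcon
      apply hgH
      have : g = (g * h) * h⁻¹ := by group
      rw [this]
      exact H.mul_mem hcon (H.inv_mem hh)
    have e1 := hsq g hg hgH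
    have e2 := hsq (g * h) hgh hghH
    have hginv : g⁻¹ = g := inv_eq_of_mul_eq_one_left e1
    rw [hginv]
    have : g * h * g = h⁻¹ * (h * (g * h * (g * h)) * h⁻¹) := by group
    rw [this, e2]
    group
  have hexp : ∀ h ∈ H, h * h = 1 := by
    intro h hh
    have hg₁₂L : g₁ * g₂ ∈ nrmH H := Subgroup.mul_mem _ hg₁ hg₂
    have e1 := hinvert (g₁ * g₂) hg₁₂L hg₁₂ h hh
    have e2 := hinvert g₂ hg₂ hg₂H h hh
    have e3 := hinvert g₁ hg₁ hg₁H h⁻¹ (H.inv_mem hh)
    have e4 : g₁ * g₂ * h * (g₁ * g₂)⁻¹ = h := by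
      calc g₁ * g₂ * h * (g₁ * g₂)⁻¹ = g₁ * (g₂ * h * g₂⁻¹) * g₁⁻¹ := by group
        _ = g₁ * h⁻¹ * g₁⁻¹ := by rw [e2]
        _ = h := by rw [e3, inv_inv]
    rw [e4] at e1
    calc h * h = h * h⁻¹ := by rw [← e1]
      _ = 1 := mul_inv_cancel h
  have hcyc := hH.cyc
  obtain ⟨g0, hg0⟩ := hcyc.exists_generator
  have hord : orderOf g0 = q := by
    rw [orderOf_eq_card_of_forall_mem_zpowers hg0, hH.card]
  have hg02 : g0 ^ 2 = 1 := by
    apply Subtype.ext
    rw [pow_two]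
    exact hexp (g0 : G) g0.2
  have hdvd : q ∣ 2 := by
    rw [← hord]
    exact orderOf_dvd_of_pow_eq_one hg02
  have := Nat.le_of_dvd (by norm_num) hdvd
  omega

end Cfsg.Agent.Lib.helper7.BR
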