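import Mathlib
import Cfsg.Agent.Lib.helper7.BR.Defs

set_option autoImplicit false
set_option linter.unusedVariables false
set_option linter.unusedSectionVars false

namespace Cfsg.Agent.Lib.helper7.BR

open Classical
open Cfsg.Agent.Lib.Helper25

universe u

variable {G : Type u} [Group G] [Fintype G] {p : ℕ} [Fact p.Prime] {P : Sylow p G} {q t : ℕ}
  {Xp Xm Y : Finset (Cfsg.IrrCharacter G)} {H : Subgroup G}

theorem brfrob3_coprime (hS : Setting p P q t) : Nat.Coprime q p := by
  have hp := hS.prime
  have hqt := hS.qt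
  have hq := hS.hq
  have ht := hS.ht
  have hqlt : q < p := by
    have h1 : q * 1 ≤ q * t := Nat.mul_le_mul_left q (by omega)
    have : 2 ≤ p := hp.two_le
    omega
  rw [Nat.coprime_comm, Nat.Prime.coprime_iff_not_dvd hp]
  intro hdvd
  have := Nat.le_of_dvd (by omega) hdvd
  omega

theorem compl_of_le (hS : Setting p P q t) (H : Subgroup G) (hle : H ≤ nrm P)
    (hcard : Nat.card ↥H = q) : Compl P q H := by
  refine ⟨hle, hcard, ?_⟩
  have hcop := brfrob3_coprime hS
  have hcycP : IsCyclic ↥(P : Subgroup G) := isCyclic_of_prime_card hS.cardP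
  have hprime : Fact (Nat.card ↥(P : Subgroup G)).Prime := ⟨by rw [hS.cardP]; exact hS.prime⟩
  let ψ : ↥H →* MulAut ↥(P : Subgroup G) :=
    (P : Subgroup G).normalizerMonoidHom.comp (Subgroup.inclusion hle)
  have hψ : Function.Injective ψ := by
    rw [injective_iff_map_eq_one]
    intro h hh
    have hk : (Subgroup.inclusion hle h) ∈ (P : Subgroup G).normalizerMonoidHom.ker :=
      MonoidHom.mem_ker.mpr hh
    rw [Subgroup.normalizerMonoidHom_ker, Subgroup.mem_subgroupOf] at hk
    have hP : (h : G) ∈ (P : Subgroup G) := by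
      have : (h : G) ∈ cen P := hk
      rwa [hS.cent] at this
    have ho1 : orderOf (h : G) ∣ q := by
      rw [← hcard, Subgroup.orderOf_coe]
      exact orderOf_dvd_natCard h
    have ho2 : orderOf (h : G) ∣ p := by
      have := orderOf_dvd_natCard (⟨(h : G), hP⟩ : ↥(P : Subgroup G))
      rw [hS.cardP] at this
      rwa [← Subgroup.orderOf_coe] at this
    have ho : orderOf (h : G) = 1 := Nat.eq_one_of_dvd_coprimes hcop ho1 ho2
    apply Subtype.ext
    exact orderOf_eq_one_iff.mp ho
  have hcycA : IsCyclic (MulAut ↥(P : Subgroup G)) :=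
    isCyclic_of_injective (IsCyclic.mulAutMulEquiv ↥(P : Subgroup G)).toMonoidHom
      (IsCyclic.mulAutMulEquiv ↥(P : Subgroup G)).injective
  exact isCyclic_of_injective ψ hψ

end Cfsg.Agent.Lib.helper7.BR
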