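import Mathlib
import Cfsg.Agent.Lib.helper7.BR.Defs
import Cfsg.Agent.Lib.Helper1.BRFROB1
import Cfsg.Agent.Lib.Helper13.BRFROB0

set_option autoImplicit false
set_option linter.unusedVariables false
set_option linter.unusedSectionVars false

namespace Cfsg.Agent.Lib.helper7.BR

open Classical
open Cfsg.Agent.Lib.Helper25

universe u

variable {G : Type u} [Group G] [Fintype G] {p : ℕ} [Fact p.Prime] {P : Sylow p G} {q t : ℕ}
  {Xp Xm Y : Finset (Cfsg.IrrCharacter G)} {H : Subgroup G}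

theorem brfrob4_card_conjSub (y : G) (K : Subgroup G) : Nat.card ↥(conjSub y K) = Nat.card ↥K := by
  unfold conjSub
  exact Subgroup.card_map_of_injective (MulAut.conj y).injective

theorem compl_conj (hS : Setting p P q t) {H' : Subgroup G} (hH : Compl P q H)
    (hH' : Compl P q H') : ∃ y ∈ (P : Subgroup G), H' = conjSub y H := by
  have hcyc := hH'.cyc
  obtain ⟨g, hg⟩ := hcyc.exists_generator
  have hgN : (g : G) ∈ nrm P := hH'.le g.2
  obtain ⟨y₀, hy₀, h₁, hh₁, hgeq⟩ := frob_prod hS hH (g : G) hgN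
  have hfin : Finite ↥H' := inferInstance
  have hnt : Nontrivial ↥H' := by
    rw [← Finite.one_lt_card_iff_nontrivial, hH'.card]
    exact hS.hq
  have hg1 : g ≠ 1 := by
    intro e
    obtain ⟨z, hz⟩ := exists_ne (1 : ↥H')
    apply hz
    have := hg z
    rw [e, Subgroup.zpowers_one_eq_bot, Subgroup.mem_bot] at this
    exact this
  have hh₁1 : h₁ ≠ 1 := by
    intro e
    apply hg1
    apply Subtype.ext
    have hgP : (g : G) ∈ (P : Subgroup G) := by
      rw [hgeq, e, mul_one]
      exact hy₀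
    exact compl_inf hS hH' (g : G) g.2 hgP
  have hh₁N : h₁ ∈ nrm P := hH.le hh₁
  have hh₁P : h₁ ∉ (P : Subgroup G) := fun hP => hh₁1 (compl_inf hS hH h₁ hh₁ hP)
  obtain ⟨y, hy, hyeq⟩ := frob_coset hS h₁ hh₁N hh₁P y₀ hy₀
  refine ⟨y, hy, ?_⟩
  have hgc : (g : G) ∈ conjSub y H := by
    rw [mem_conjSub, hgeq, hyeq]
    have : y⁻¹ * (y * h₁ * y⁻¹) * y = h₁ := by group
    rw [this]
    exact hh₁
  have hle : H' ≤ conjSub y H := by
    intro z hz
    obtain ⟨k, hk⟩ := Subgroup.mem_zpowers_iff.mp (hg ⟨z, hz⟩)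
    have hz_eq : z = (g : G) ^ k := by
      have := congrArg Subtype.val hk
      simpa using this.symm
    rw [hz_eq]
    exact Subgroup.zpow_mem _ hgc k
  have hfin2 : Finite ↥(conjSub y H) := inferInstance
  apply Subgroup.eq_of_le_of_card_ge hle
  rw [brfrob4_card_conjSub, hH.card, hH'.card]

end Cfsg.Agent.Lib.helper7.BR
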