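import Mathlib
import Cfsg.Agent.Lib.helper7.BR.Defs
import Cfsg.Agent.Lib.Helper1.BRFROB1
import Cfsg.Agent.Lib.Helper13.BRFROB0

set_option autoImplicit false
set_option linter.unusedVariables false
set_option linter.unusedSectionVars false

namespace Cfsg.Agent.Lib.helper7.BR

open Classical
open Cfsg.Agent.Lib.Helper25

universe u

variable {G : Type u} [Group G] [Fintype G] {p : ℕ} [Fact p.Prime] {P : Sylow p G} {q t : ℕ}
  {Xp Xm Y : Finset (Cfsg.IrrCharacter G)} {H : Subgroup G}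

theorem compl_inter (hS : Setting p P q t) (hH : Compl P q H) (y : G) (hy : y ∈ (P : Subgroup G))
    (h : G) (hh : h ∈ H) (hh1 : h ≠ 1) (hyh : y * h * y⁻¹ ∈ H) : y = 1 := by
  have hhN : h ∈ nrm P := hH.le hh
  have hhP : h ∉ (P : Subgroup G) := fun hP => hh1 (compl_inf hS hH h hh hP)
  have hcH : y * h * y⁻¹ * h⁻¹ ∈ H := H.mul_mem hyh (H.inv_mem hh)
  have hcP : y * h * y⁻¹ * h⁻¹ ∈ (P : Subgroup G) := by
    have h1 : h * y⁻¹ * h⁻¹ ∈ (P : Subgroup G) :=
      (Subgroup.mem_normalizer_iff.mp hhN y⁻¹).mp (Subgroup.inv_mem _ hy)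
    have : y * h * y⁻¹ * h⁻¹ = y * (h * y⁻¹ * h⁻¹) := by group
    rw [this]
    exact Subgroup.mul_mem _ hy h1
  have hc1 := compl_inf hS hH _ hcH hcP
  have hcomm : y * h = h * y := by
    calc y * h = (y * h * y⁻¹ * h⁻¹) * (h * y) := by group
      _ = h * y := by rw [hc1, one_mul]
  exact frob_cent hS h hhN hhP y hy hcomm

theorem compl_normalizer (hS : Setting p P q t) (hH : Compl P q H) (x : G) (hx : x ∈ nrm P)
    (hxH : x ∈ nrmH H) : x ∈ H := by
  obtain ⟨y, hy, h', hh', rfl⟩ := frob_prod hS hH x hx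
  have hfin : Finite ↥H := inferInstance
  have hnt : Nontrivial ↥H := by
    rw [← Finite.one_lt_card_iff_nontrivial, hH.card]
    exact hS.hq
  obtain ⟨h0, hh0⟩ := exists_ne (1 : ↥H)
  have hh01 : (h0 : G) ≠ 1 := fun e => hh0 (Subtype.ext e)
  have h1 : (y * h') * (h'⁻¹ * (h0 : G) * h') * (y * h')⁻¹ ∈ H :=
    (Subgroup.mem_normalizer_iff.mp hxH _).mp
      (H.mul_mem (H.mul_mem (H.inv_mem hh') h0.2) hh')
  have h2 : y * (h0 : G) * y⁻¹ ∈ H := by
    have : (y * h') * (h'⁻¹ * (h0 : G) * h') * (y * h')⁻¹ = y * (h0 : G) * y⁻¹ := by group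
    rwa [this] at h1
  have hy1 := compl_inter hS hH y hy (h0 : G) h0.2 hh01 h2
  rw [hy1, one_mul]
  exact hh'

end Cfsg.Agent.Lib.helper7.BR
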