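import Mathlib
import Cfsg.Agent.Lib.helper7.BR.Defs
import Cfsg.Agent.Lib.Helper1.BRFROB1
import Cfsg.Agent.Lib.Helper1.BREND1core

set_option autoImplicit false
set_option linter.unusedVariables false
set_option linter.unusedSectionVars false

namespace Cfsg.Agent.Lib.helper7.BR

open Classical
open Cfsg.Agent.Lib.Helper25

universe u

variable {G : Type u} [Group G] [Fintype G] {p : ℕ} [Fact p.Prime] {P : Sylow p G} {q t : ℕ}
  {Xp Xm Y : Finset (Cfsg.IrrCharacter G)} {H : Subgroup G}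

theorem brend2_index_odd (hS : Setting p P 2 t) (L : Subgroup G) (hL : Nat.card ↥L = t * 2) :
    ¬ 2 ∣ L.index := by
  have hqt := hS.qt
  have ht := hS.ht
  have hp := hS.prime
  obtain ⟨s, rfl⟩ : ∃ s, t = s + 3 := ⟨t - 3, by omega⟩
  have hp2 : 2 ≤ p := hp.two_le
  have hpe : p = 2 * s + 7 := by omega
  have h1 := Subgroup.card_mul_index L
  have h2 := Subgroup.card_mul_index (nrm P)
  rw [hS.cardN, hS.index] at h2
  rw [hL, ← h2, hpe] at h1
  have h3 : s + 3 - 1 = s + 2 := by omega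
  rw [h3] at h1
  have h4 : (s + 3) * 2 * L.index = (s + 3) * 2 * ((2 * s + 7) * (2 * s + 5)) := by
    rw [h1]
    ring
  have h5 : L.index = (2 * s + 7) * (2 * s + 5) :=
    Nat.eq_of_mul_eq_mul_left (by omega) h4
  rw [h5]
  have hodd : Odd ((2 * s + 7) * (2 * s + 5)) :=
    Nat.odd_mul.mpr ⟨⟨s + 3, by ring⟩, ⟨s + 2, by ring⟩⟩
  intro hdvd
  exact (Nat.not_even_iff_odd.mpr hodd) (even_iff_two_dvd.mpr hdvd)

theorem brend2_sylow_core (hS : Setting p P q t)
    (hD : CharData p P q t Xp Xm Y) (hq : q = 2) (hH : Compl P q H)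
    (hL : Nat.card ↥(nrmH H) = t * q)
    (hINV : ∀ τ : G, τ ∈ H → orderOf τ = 2 → ∀ g : G, g ∈ nrmH H → g ∉ H → IsConj τ g)
    (hCEN : ∀ τ : G, τ ∈ H → orderOf τ = 2 → Subgroup.centralizer ({τ} : Set G) = nrmH H)
    (hLP : ∀ x : G, x ∈ nrmH H → x ∈ (P : Subgroup G) → x = 1) :
    ∃ (T : Sylow 2 G) (τ : G), orderOf τ = 2 ∧ τ ∈ (T : Subgroup G) ∧
      Nat.card ↥(T : Subgroup G) = p - 1 ∧
      Subgroup.centralizer ({τ} : Set G) = (T : Subgroup G) ∧
      (∀ g ∈ (T : Subgroup G), g ^ 2 = 1) ∧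
      (∀ g ∈ (T : Subgroup G), g ≠ 1 → IsConj τ g) ∧
      ¬ (T : Subgroup G).Normal := by
  subst hq
  obtain ⟨τ, hτH, hτ⟩ := brend1_exists_invol hS hD hH
  have hcen := hCEN τ hτH hτ
  have hHL : H ≤ nrmH H := Subgroup.le_normalizer
  have hτ2 : τ * τ = 1 := by
    have := pow_orderOf_eq_one τ
    rwa [hτ, pow_two] at this
  have hτ1 : τ ≠ 1 := by
    intro e
    rw [e, orderOf_one] at hτ
    omega
  have hHel : ∀ h ∈ H, h = 1 ∨ h = τ := by
    intro h hh
    obtain ⟨z, _, hzu⟩ := (Nat.card_eq_two_iff' (1 : ↥H)).mp hH.card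
    by_cases h1 : h = 1
    · exact Or.inl h1
    · right
      have e1 : (⟨h, hh⟩ : ↥H) = z := hzu _ (fun e => h1 (congrArg Subtype.val e))
      have e2 : (⟨τ, hτH⟩ : ↥H) = z := hzu _ (fun e => hτ1 (congrArg Subtype.val e))
      exact congrArg Subtype.val (e1.trans e2.symm)
  have hsqL : ∀ g ∈ nrmH H, g * g = 1 := by
    intro g hg
    by_cases hgH : g ∈ H
    · rcases hHel g hgH with e | e
      · rw [e, one_mul]
      · rw [e]; exact hτ2
    · exact brend1_sq_of_notMem τ hτ g (hINV τ hτH hτ g hg hgH)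
  have hconjL : ∀ g ∈ nrmH H, g ≠ 1 → IsConj τ g := by
    intro g hg hg1
    by_cases hgH : g ∈ H
    · rcases hHel g hgH with e | e
      · exact absurd e hg1
      · rw [e]
    · exact hINV τ hτH hτ g hg hgH
  have hpg : IsPGroup 2 ↥(nrmH H) := by
    intro g
    refine ⟨1, ?_⟩
    apply Subtype.ext
    rw [pow_one, pow_two]
    exact hsqL (g : G) g.2
  have hidx : ¬ 2 ∣ (nrmH H).index := brend2_index_odd hS (nrmH H) hL
  refine ⟨hpg.toSylow hidx, τ, hτ, hHL hτH, ?_, hcen, ?_, hconjL, ?_⟩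
  · show Nat.card ↥(nrmH H) = p - 1
    rw [hL, ← hS.qt, mul_comm]
  · intro g hg
    rw [pow_two]
    exact hsqL g hg
  · intro hnormal
    have hnormal' : (nrmH H).Normal := hnormal
    have hτN : τ ∈ nrm P := hH.le hτH
    have hτP : τ ∉ (P : Subgroup G) := fun hP => hτ1 (hLP τ (hHL hτH) hP)
    have hfin : Finite ↥(P : Subgroup G) := inferInstance
    have hnt : Nontrivial ↥(P : Subgroup G) := by
      rw [← Finite.one_lt_card_iff_nontrivial, hS.cardP]
      exact hS.prime.one_lt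
    obtain ⟨x, hx⟩ := exists_ne (1 : ↥(P : Subgroup G))
    apply hx
    apply Subtype.ext
    have hcL : (x : G) * τ * (x : G)⁻¹ * τ⁻¹ ∈ nrmH H :=
      Subgroup.mul_mem _ (hnormal'.conj_mem τ (hHL hτH) (x : G))
        (Subgroup.inv_mem _ (hHL hτH))
    have hcP : (x : G) * τ * (x : G)⁻¹ * τ⁻¹ ∈ (P : Subgroup G) := by
      have h1 : τ * (x : G)⁻¹ * τ⁻¹ ∈ (P : Subgroup G) :=
        (Subgroup.mem_normalizer_iff.mp hτN _).mp (Subgroup.inv_mem _ x.2)
      have : (x : G) * τ * (x : G)⁻¹ * τ⁻¹ = (x : G) * (τ * (x : G)⁻¹ * τ⁻¹) := by group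
      rw [this]
      exact Subgroup.mul_mem _ x.2 h1
    have hc1 := hLP _ hcL hcP
    have hcomm : (x : G) * τ = τ * (x : G) := by
      calc (x : G) * τ = ((x : G) * τ * (x : G)⁻¹ * τ⁻¹) * (τ * (x : G)) := by group
        _ = τ * (x : G) := by rw [hc1, one_mul]
    exact frob_cent hS τ hτN hτP (x : G) x.2 hcomm

end Cfsg.Agent.Lib.helper7.BR
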