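import Mathlib
import Cfsg.Agent.Lib.helper7.BR.Defs
import Cfsg.Agent.Lib.Helper13.BRTWO
import Cfsg.Agent.Lib.Helper13.BRLSTR1
import Cfsg.Agent.Lib.Helper28.BRLSTR4
import Cfsg.Agent.Lib.helper7.BR.CEN
import Cfsg.Agent.Lib.helper7.BR.INV
import Cfsg.Agent.Lib.Helper1.BREND2core

set_option autoImplicit false
set_option linter.unusedVariables false
set_option linter.unusedSectionVars false

namespace Cfsg.Agent.Lib.helper7.BR

open Classical
open Cfsg.Agent.Lib.Helper25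

universe u

variable {G : Type u} [Group G] [Fintype G] {p : ℕ} [Fact p.Prime] {P : Sylow p G} {q t : ℕ}
  {Xp Xm Y : Finset (Cfsg.IrrCharacter G)} {H : Subgroup G}

theorem sylow_two_structure [Fintype (Cfsg.IrrCharacter G)] (hS : Setting p P q t)
    (hD : CharData p P q t Xp Xm Y) (hq : q = 2) :
    ∃ (T : Sylow 2 G) (τ : G), orderOf τ = 2 ∧ τ ∈ (T : Subgroup G) ∧
      Nat.card ↥(T : Subgroup G) = p - 1 ∧
      Subgroup.centralizer ({τ} : Set G) = (T : Subgroup G) ∧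
      (∀ g ∈ (T : Subgroup G), g ^ 2 = 1) ∧
      (∀ g ∈ (T : Subgroup G), g ≠ 1 → IsConj τ g) ∧
      ¬ (T : Subgroup G).Normal := by
  obtain ⟨H, hH⟩ := exists_compl hS hD
  exact brend2_sylow_core hS hD hq hH (card_nrmH hS hD hH)
    (fun τ hτH hτ g hg hgH => nrmH_involutions hS hD hH τ hτH hτ g hg hgH)
    (fun τ hτH hτ => (involution_values hS hD hH τ hτH hτ).1)
    (fun x hx hxP => nrmH_inf_P hS hH x hx hxP)

end Cfsg.Agent.Lib.helper7.BR
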