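import Mathlib
import Cfsg.Agent.Lib.helper7.BR.Defs
import Cfsg.Agent.Lib.helper6.PGLSL
import Cfsg.Agent.S1230

set_option autoImplicit false
set_option linter.unusedVariables false
set_option linter.unusedSectionVars false

namespace Cfsg.Agent.Lib.helper7.BR

open Classical
open Cfsg.Agent.Lib.Helper25
open scoped Pointwise

universe u

variable {G : Type u} [Group G] [Fintype G] {p : ℕ} [Fact p.Prime] {P : Sylow p G} {q t : ℕ}
  {Xp Xm Y : Finset (Cfsg.IrrCharacter G)} {H : Subgroup G}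

theorem brend3_conj_into (T : Sylow 2 G) (u : G) (hu : orderOf u = 2) :
    ∃ g : G, g * u * g⁻¹ ∈ (T : Subgroup G) := by
  have hpg : IsPGroup 2 ↥(Subgroup.zpowers u) :=
    IsPGroup.of_card (n := 1) (by rw [Nat.card_zpowers, hu, pow_one])
  obtain ⟨Q, hQ⟩ := hpg.exists_le_sylow
  obtain ⟨g, hg⟩ := MulAction.exists_smul_eq G Q T
  refine ⟨g, ?_⟩
  rw [← hg]
  show g * u * g⁻¹ ∈ MulAut.conj g • (Q : Subgroup G)
  exact Subgroup.smul_mem_pointwise_smul u (MulAut.conj g) (Q : Subgroup G)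
    (hQ (Subgroup.mem_zpowers u))

theorem brend3_comm_of_sq {a b : G} (ha : a ^ 2 = 1) (hb : b ^ 2 = 1) (hab : (a * b) ^ 2 = 1) :
    a * b = b * a := by
  have ha' : a⁻¹ = a := by
    rw [inv_eq_iff_mul_eq_one, ← pow_two]
    exact ha
  have hb' : b⁻¹ = b := by
    rw [inv_eq_iff_mul_eq_one, ← pow_two]
    exact hb
  have h1 : (a * b)⁻¹ = a * b := by
    rw [inv_eq_iff_mul_eq_one, ← pow_two]
    exact hab
  rw [mul_inv_rev, ha', hb'] at h1
  exact h1.symm

theorem brend3_plus_core (hS : Setting p P q t) (hq : q = 2)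
    (hsyl : ∃ (T : Sylow 2 G) (τ : G), orderOf τ = 2 ∧ τ ∈ (T : Subgroup G) ∧
      Nat.card ↥(T : Subgroup G) = p - 1 ∧
      Subgroup.centralizer ({τ} : Set G) = (T : Subgroup G) ∧
      (∀ g ∈ (T : Subgroup G), g ^ 2 = 1) ∧
      (∀ g ∈ (T : Subgroup G), g ≠ 1 → IsConj τ g) ∧
      ¬ (T : Subgroup G).Normal) :
    ∃ (m : ℕ) (F : Type) (_ : Field F) (_ : Fintype F), Fintype.card F = 2 ^ m ∧ p = 2 ^ m + 1 ∧
      3 < p ∧ Nonempty (G ≃* Matrix.SpecialLinearGroup (Fin 2) F) ∧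
      Nonempty (G ≃* Matrix.ProjectiveSpecialLinearGroup (Fin 2) F) := by
  obtain ⟨T, τ, hτ, hτT, hcardT, hcen, hexp, hconj, hnn⟩ := hsyl
  have hp6 : 6 ≤ p - 1 := by
    have := hS.qt
    have ht := hS.ht
    rw [hq] at this
    omega
  have hnc : ¬ IsCyclic ↥(T : Subgroup G) := by
    intro hc
    obtain ⟨g0, hg0⟩ := hc.exists_generator
    have hord : orderOf g0 = p - 1 := by
      rw [orderOf_eq_card_of_forall_mem_zpowers hg0, hcardT]
    have h2 : g0 ^ 2 = 1 := by
      apply Subtype.ext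
      rw [Subgroup.coe_pow]
      exact hexp (g0 : G) g0.2
    have hdvd := orderOf_dvd_of_pow_eq_one h2
    rw [hord] at hdvd
    have := Nat.le_of_dvd (by norm_num) hdvd
    omega
  have hC : ∀ u : G, orderOf u = 2 →
      IsMulCommutative ↥(Subgroup.centralizer ({u} : Set G)) ∧
        ∀ c ∈ Subgroup.centralizer ({u} : Set G), c ^ 2 = 1 := by
    intro u hu
    have hu1 : u ≠ 1 := by
      intro e
      rw [e, orderOf_one] at hu
      omega
    obtain ⟨g, hg⟩ := brend3_conj_into T u hu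
    have hne : g * u * g⁻¹ ≠ 1 := by
      intro e
      apply hu1
      calc u = g⁻¹ * (g * u * g⁻¹) * g := by group
        _ = 1 := by rw [e]; group
    obtain ⟨c, hc⟩ := isConj_iff.mp (hconj _ hg hne)
    have hud : u = (g⁻¹ * c) * τ * (g⁻¹ * c)⁻¹ := by
      calc u = g⁻¹ * (g * u * g⁻¹) * g := by group
        _ = g⁻¹ * (c * τ * c⁻¹) * g := by rw [hc]
        _ = (g⁻¹ * c) * τ * (g⁻¹ * c)⁻¹ := by group
    set d := g⁻¹ * c with hd
    have hexpu : ∀ x ∈ Subgroup.centralizer ({u} : Set G), x ^ 2 = 1 := by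
      intro x hx
      have hxu : u * x = x * u := (Subgroup.mem_centralizer_iff.mp hx) u rfl
      have hmem : d⁻¹ * x * d ∈ (T : Subgroup G) := by
        rw [← hcen, Subgroup.mem_centralizer_iff]
        intro y hy
        rw [Set.mem_singleton_iff] at hy
        rw [hy]
        have e1 : τ = d⁻¹ * u * d := by
          rw [hud]
          group
        rw [e1]
        calc d⁻¹ * u * d * (d⁻¹ * x * d) = d⁻¹ * (u * x) * d := by group
          _ = d⁻¹ * (x * u) * d := by rw [hxu]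
          _ = d⁻¹ * x * d * (d⁻¹ * u * d) := by group
      have h2 := hexp _ hmem
      rw [pow_two] at h2
      rw [pow_two]
      calc x * x = d * ((d⁻¹ * x * d) * (d⁻¹ * x * d)) * d⁻¹ := by group
        _ = 1 := by rw [h2]; group
    refine ⟨⟨⟨fun a b => Subtype.ext ?_⟩⟩, hexpu⟩
    exact brend3_comm_of_sq (hexpu _ a.2) (hexpu _ b.2)
      (hexpu _ (Subgroup.mul_mem _ a.2 b.2))
  obtain ⟨F, instF, instFin, hcardF, ⟨e⟩⟩ := Cfsg.Agent.S1230.result T hnc hnn hC
  obtain ⟨n, hn⟩ := (IsPGroup.iff_card (p := 2)).mp T.2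
  have hn' : p - 1 = 2 ^ n := by rw [← hcardT]; exact hn
  have hn0 : n ≠ 0 := by
    intro e0
    rw [e0, pow_zero] at hn'
    omega
  have h2F : (2 : F) = 0 := by
    have hF : ((Fintype.card F : ℕ) : F) = 0 := Nat.cast_card_eq_zero F
    rw [hcardF, hn] at hF
    push_cast at hF
    exact (pow_eq_zero_iff hn0).mp hF
  have e2 : Matrix.ProjectiveSpecialLinearGroup (Fin 2) F ≃* Matrix.SpecialLinearGroup (Fin 2) F := by
    unfold Matrix.ProjectiveSpecialLinearGroup
    exact (QuotientGroup.quotientMulEquivOfEq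
      (Cfsg.Agent.Lib.helper6.PGLSL.center_SL2_bot h2F)).trans QuotientGroup.quotientBot
  refine ⟨n, F, instF, instFin, ?_, ?_, ?_, ⟨e.trans e2⟩, ⟨e⟩⟩
  · rw [hcardF, hn]
  · omega
  · omega

end Cfsg.Agent.Lib.helper7.BR
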