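import Mathlib
import Cfsg.Agent.Lib.helper7.BR.Defs

set_option autoImplicit false
set_option linter.unusedVariables false
set_option linter.unusedSectionVars false

namespace Cfsg.Agent.Lib.helper7.BR

open Classical
open Cfsg.Agent.Lib.Helper25

universe u

variable {G : Type u} [Group G] [Fintype G] {p : ℕ} [Fact p.Prime] {P : Sylow p G} {q t : ℕ}
  {Xp Xm Y : Finset (Cfsg.IrrCharacter G)} {H : Subgroup G}

theorem brinv_sq_of_conj {τ x : G} (hτ : orderOf τ = 2) (hx : IsConj τ x) : x * x = 1 := by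
  obtain ⟨c, hc⟩ := isConj_iff.mp hx
  have hτ2 : τ * τ = 1 := by
    have := pow_orderOf_eq_one τ
    rwa [hτ, pow_two] at this
  rw [← hc]
  calc c * τ * c⁻¹ * (c * τ * c⁻¹) = c * (τ * τ) * c⁻¹ := by group
    _ = 1 := by rw [hτ2]; group

theorem brinv_cyclic_invol (K : Subgroup G) (hK : IsCyclic ↥K) {a b : G} (ha : a ∈ K) (hb : b ∈ K)
    (ha2 : a * a = 1) (hb2 : b * b = 1) (ha1 : a ≠ 1) (hb1 : b ≠ 1) : a = b := by
  by_contra hab
  have hle := IsCyclic.card_pow_eq_one_le (α := ↥K) (n := 2) (by norm_num)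
  have hsub : ({1, ⟨a, ha⟩, ⟨b, hb⟩} : Finset ↥K) ⊆
      Finset.univ.filter (fun x : ↥K => x ^ 2 = 1) := by
    intro z hz
    rw [Finset.mem_filter]
    refine ⟨Finset.mem_univ _, ?_⟩
    simp only [Finset.mem_insert, Finset.mem_singleton] at hz
    rcases hz with rfl | rfl | rfl
    · exact one_pow 2
    · apply Subtype.ext
      rw [Subgroup.coe_pow, pow_two]
      exact ha2
    · apply Subtype.ext
      rw [Subgroup.coe_pow, pow_two]
      exact hb2
  have hcard : ({1, ⟨a, ha⟩, ⟨b, hb⟩} : Finset ↥K).card = 3 := by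
    rw [Finset.card_insert_of_notMem, Finset.card_insert_of_notMem, Finset.card_singleton]
    · rw [Finset.mem_singleton]
      intro e
      exact hab (congrArg Subtype.val e)
    · simp only [Finset.mem_insert, Finset.mem_singleton, not_or]
      refine ⟨fun e => ha1 (congrArg Subtype.val e).symm, fun e => hb1 (congrArg Subtype.val e).symm⟩
  have := Finset.card_le_card hsub
  omega

theorem brinv_core (hS : Setting p P q t) (hH : Compl P q H) (τ : G) (hτH : τ ∈ H)
    (hτ : orderOf τ = 2)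
    (hCNT : Nat.card {pr : G × G // IsConj τ pr.1 ∧ IsConj τ pr.2 ∧ pr.1 * pr.2 = τ} =
      (t - 1) * q)
    (hCEN : Subgroup.centralizer ({τ} : Set G) = nrmH H)
    (hL : Nat.card ↥(nrmH H) = t * q)
    (g : G) (hg : g ∈ nrmH H) (hgH : g ∉ H) : IsConj τ g := by
  have hτ2 : τ * τ = 1 := by
    have := pow_orderOf_eq_one τ
    rwa [hτ, pow_two] at this
  have hτ1 : τ ≠ 1 := by
    intro e
    rw [e, orderOf_one] at hτ
    omega
  have hHL : H ≤ nrmH H := Subgroup.le_normalizer
  have hmem : ∀ pr : {pr : G × G // IsConj τ pr.1 ∧ IsConj τ pr.2 ∧ pr.1 * pr.2 = τ},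
      pr.1.1 ∈ (((nrmH H : Subgroup G) : Set G) \ (H : Set G)) := by
    rintro ⟨⟨x, y⟩, hx, hy, hxy⟩
    have hx2 : x * x = 1 := brinv_sq_of_conj hτ hx
    have hy2 : y * y = 1 := brinv_sq_of_conj hτ hy
    have hxinv : x⁻¹ = x := inv_eq_of_mul_eq_one_left hx2
    have hyinv : y⁻¹ = y := inv_eq_of_mul_eq_one_left hy2
    have hxy' : x * y = τ := hxy
    have hyx : y * x = x * y := by
      have h1 : (x * y) * (x * y) = 1 := by rw [hxy']; exact hτ2
      have h2 : (x * y)⁻¹ = x * y := inv_eq_of_mul_eq_one_left h1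
      rw [mul_inv_rev, hxinv, hyinv] at h2
      exact h2
    have hy1 : y ≠ 1 := by
      intro e
      obtain ⟨c, hc⟩ := isConj_iff.mp hy
      apply hτ1
      calc τ = c⁻¹ * (c * τ * c⁻¹) * c := by group
        _ = 1 := by rw [hc, e]; group
    have hx1 : x ≠ 1 := by
      intro e
      obtain ⟨c, hc⟩ := isConj_iff.mp hx
      apply hτ1
      calc τ = c⁻¹ * (c * τ * c⁻¹) * c := by group
        _ = 1 := by rw [hc, e]; group
    refine ⟨?_, ?_⟩
    · show x ∈ nrmH H
      rw [← hCEN, Subgroup.mem_centralizer_iff]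
      intro z hz
      rw [Set.mem_singleton_iff] at hz
      rw [hz, ← hxy']
      calc x * y * x = x * (y * x) := by group
        _ = x * (x * y) := by rw [hyx]
    · show x ∉ H
      intro hxH
      have hxτ : x = τ := brinv_cyclic_invol H hH.cyc hxH hτH hx2 hτ2 hx1 hτ1
      apply hy1
      calc y = x⁻¹ * (x * y) := by group
        _ = 1 := by rw [hxy', hxτ]; group
  let f : {pr : G × G // IsConj τ pr.1 ∧ IsConj τ pr.2 ∧ pr.1 * pr.2 = τ} →
      ↥(((nrmH H : Subgroup G) : Set G) \ (H : Set G)) := fun pr => ⟨pr.1.1, hmem pr⟩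
  have hinj : Function.Injective f := by
    rintro ⟨⟨x, y⟩, hx, hy, hxy⟩ ⟨⟨x', y'⟩, hx', hy', hxy'⟩ e
    have e1 : x = x' := congrArg Subtype.val e
    have hxy1 : x * y = τ := hxy
    have hxy2 : x' * y' = τ := hxy'
    have e2 : y = y' := by
      calc y = x⁻¹ * (x * y) := by group
        _ = x'⁻¹ * (x' * y') := by rw [hxy1, hxy2, e1]
        _ = y' := by group
    apply Subtype.ext
    exact Prod.ext e1 e2
  have hcard : Nat.card ↥(((nrmH H : Subgroup G) : Set G) \ (H : Set G)) = (t - 1) * q := by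
    rw [Nat.card_coe_set_eq, Set.ncard_sdiff (fun z hz => hHL hz) (Set.toFinite _)]
    have h1 : ((nrmH H : Subgroup G) : Set G).ncard = t * q := by
      rw [← hL]
      exact (Nat.card_coe_set_eq _).symm
    have h2 : (H : Set G).ncard = q := by
      rw [← hH.card]
      exact (Nat.card_coe_set_eq _).symm
    rw [h1, h2, Nat.sub_mul, one_mul]
  have hbij := hinj.bijective_of_nat_card_le (by rw [hcard, hCNT])
  obtain ⟨pr, hpr⟩ := hbij.2 ⟨g, hg, hgH⟩
  have : pr.1.1 = g := congrArg Subtype.val hpr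
  rw [← this]
  exact pr.2.1

end Cfsg.Agent.Lib.helper7.BR
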