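import Mathlib
import Cfsg.Agent.Lib.helper7.BR.Defs

set_option autoImplicit false
set_option linter.unusedVariables false
set_option linter.unusedSectionVars false

namespace Cfsg.Agent.Lib.helper7.BR

open Classical
open Cfsg.Agent.Lib.Helper25

universe u

variable {G : Type u} [Group G] [Fintype G] {p : ℕ} [Fact p.Prime]

theorem relIndex_ne_one (hperf : commutator G = ⊤) (P : Sylow p G)
    (hP : Nat.card ↥(P : Subgroup G) = p) : (cen P).relIndex (nrm P) ≠ 1 := by
  intro h1
  rw [Subgroup.relIndex_eq_one] at h1
  have hP' : Subgroup.normalizer ((P : Subgroup G) : Set G) ≤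
      Subgroup.centralizer ((P : Subgroup G) : Set G) := h1
  have hcomp := MonoidHom.ker_transferSylow_isComplement' P hP'
  have hcomm : ∀ a b : ↥(P : Subgroup G), a * b = b * a := by
    intro a b
    exact Subtype.ext (hP' (Subgroup.le_normalizer b.2) a a.2)
  have hker : (MonoidHom.transferSylow P hP').ker = ⊤ := by
    rw [eq_top_iff, ← hperf, commutator_eq_closure, Subgroup.closure_le]
    rintro g ⟨a, b, rfl⟩
    rw [SetLike.mem_coe, MonoidHom.mem_ker, map_commutatorElement, commutatorElement_def,
      hcomm ((MonoidHom.transferSylow P hP') a) ((MonoidHom.transferSylow P hP') b)]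
    group
  rw [hker, Subgroup.isComplement'_top_left] at hcomp
  rw [hcomp, Subgroup.card_bot] at hP
  have := (Fact.out : p.Prime).two_le
  omega

end Cfsg.Agent.Lib.helper7.BR
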