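import Mathlib
import Cfsg.Agent.Lib.helper3.BSZ.Defs

/-!
# Project BSZ, rows E01 (`nu_two_invol`), E02 (`nu_no_odd`), E03 (`nu_invol_of_ne_bot`),
E05 (`nu_invol_card`), E06 (`nu_fiber`), verbatim vs `helper3/BSZ/Skel.lean.txt`.
-/

set_option autoImplicit false

namespace Cfsg.Agent.Lib.helper3.BSZ

open Cfsg Cfsg.Agent.Lib.helper3

variable {F : Type*} [Field F] [Fintype F] {m : ℕ}

/-- E01 [S] -/
theorem nu_two_invol (hF : Fintype.card F = 2 ^ (2 * m + 1)) (hm : 1 ≤ m) {U : Subgroup (Sz F m)}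
    (hU : IsTorus m U) {z z' : Sz F m} (hz : z ∈ Subgroup.normalizer (U : Set (Sz F m))) (hz1 : z ≠ 1)
    (hz2 : z * z = 1) (hz' : z' ∈ Subgroup.normalizer (U : Set (Sz F m))) (hz'1 : z' ≠ 1) (hz'2 : z' * z' = 1)
    (hc : z * z' = z' * z) : z = z' := by
  by_contra hne
  have hfin : Finite (Sz F m) := finite_Sz hF hm
  have hmem : z * z' ∈ U := invol_mul_mem_torus hF hm hU hz hz1 hz2 hz' hz'1 hz'2
  have hsq : (z * z') ^ 2 = 1 := by
    rw [pow_two]
    calc z * z' * (z * z') = z * (z' * z) * z' := by group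
      _ = z * (z * z') * z' := by rw [hc]
      _ = (z * z) * (z' * z') := by group
      _ = 1 := by rw [hz2, hz'2, mul_one]
  have hne1 : z * z' ≠ 1 := by
    intro h
    apply hne
    have h1 : z' = z⁻¹ := by
      rw [eq_inv_iff_mul_eq_one, ← hc]
      exact h
    have h2 : z⁻¹ = z := by
      rw [inv_eq_iff_mul_eq_one]
      exact hz2
    rw [h1, h2]
  have hord : orderOf (z * z') = 2 := orderOf_eq_prime hsq hne1
  have hdvd : 2 ∣ Nat.card U := hord ▸ Subgroup.orderOf_dvd_natCard U hmem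
  have hodd := odd_card_torus hm hU
  rw [Nat.odd_iff] at hodd
  omega

/-- E02 [S] -/
theorem nu_no_odd (hF : Fintype.card F = 2 ^ (2 * m + 1)) (hm : 1 ≤ m) {U U' : Subgroup (Sz F m)}
    (hU : IsTorus m U) (hU' : IsTorus m U') (hne : U ≠ U') {x : Sz F m}
    (hx : x ∈ Subgroup.normalizer (U : Set (Sz F m))) (hx' : x ∈ Subgroup.normalizer (U' : Set (Sz F m)))
    (hodd : Odd (orderOf x)) : x = 1 := by
  by_contra hx1
  exact hne (torus_unique hF hm hU hU' (mem_torus_of_odd hF hm hU hx hodd)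
    (mem_torus_of_odd hF hm hU' hx' hodd) hx1)

/-- E03 [S-M] -/
theorem nu_invol_of_ne_bot (hF : Fintype.card F = 2 ^ (2 * m + 1)) (hm : 1 ≤ m) {U : Subgroup (Sz F m)}
    (hU : IsTorus m U) (K : Subgroup (Sz F m)) (hK : K ≤ Subgroup.normalizer (U : Set (Sz F m))) (hne : K ≠ ⊥)
    (hodd : ∀ x ∈ K, Odd (orderOf x) → x = 1) : ∃ t' ∈ K, t' ≠ 1 ∧ t' * t' = 1 := by
  have hfin : Finite (Sz F m) := finite_Sz hF hm
  obtain ⟨k, hk1⟩ := (Subgroup.ne_bot_iff_exists_ne_one).1 hne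
  have hk1' : (k : Sz F m) ≠ 1 := fun h => hk1 (Subtype.ext h)
  have hk4U : (k : Sz F m) ^ 4 ∈ U := pow_four_mem_torus hF hm hU (hK k.2)
  have hk4 : (k : Sz F m) ^ 4 = 1 := by
    apply hodd _ (K.pow_mem k.2 4)
    exact Odd.of_dvd_nat (odd_card_torus hm hU) (Subgroup.orderOf_dvd_natCard U hk4U)
  by_cases hk2 : (k : Sz F m) * k = 1
  · exact ⟨k, k.2, hk1', hk2⟩
  · refine ⟨(k : Sz F m) * k, K.mul_mem k.2 k.2, hk2, ?_⟩
    calc (k : Sz F m) * k * (k * k) = (k : Sz F m) ^ 4 := by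
          simp only [pow_succ, pow_zero, one_mul, mul_assoc]
      _ = 1 := hk4

/-- E05 [S-M] -/
theorem nu_invol_card (hF : Fintype.card F = 2 ^ (2 * m + 1)) (hm : 1 ≤ m) {U : Subgroup (Sz F m)}
    (hU : IsTorus m U) :
    Nat.card {t' : Sz F m // t' ∈ Subgroup.normalizer (U : Set (Sz F m)) ∧ t' ≠ 1 ∧ t' * t' = 1} ≤ Nat.card U := by
  have hfin : Finite (Sz F m) := finite_Sz hF hm
  by_cases hex : Nonempty {t' : Sz F m // t' ∈ Subgroup.normalizer (U : Set (Sz F m)) ∧ t' ≠ 1 ∧ t' * t' = 1}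
  · obtain ⟨⟨t₀, ht₀N, ht₀1, ht₀2⟩⟩ := hex
    have hmem : ∀ t' : {t' : Sz F m // t' ∈ Subgroup.normalizer (U : Set (Sz F m)) ∧ t' ≠ 1 ∧ t' * t' = 1},
        t₀ * (t' : Sz F m) ∈ U := by
      rintro ⟨t', ht'N, ht'1, ht'2⟩
      exact invol_mul_mem_torus hF hm hU ht₀N ht₀1 ht₀2 ht'N ht'1 ht'2
    apply Nat.card_le_card_of_injective
      (fun t' : {t' : Sz F m // t' ∈ Subgroup.normalizer (U : Set (Sz F m)) ∧ t' ≠ 1 ∧ t' * t' = 1} =>
        (⟨t₀ * (t' : Sz F m), hmem t'⟩ : U))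
    intro a b hab
    have h := congrArg Subtype.val hab
    simp only at h
    exact Subtype.ext (mul_left_cancel h)
  · rw [not_nonempty_iff] at hex
    rw [Nat.card_of_isEmpty]
    exact Nat.zero_le _

/-- E06 [S-M] -/
theorem nu_fiber (hF : Fintype.card F = 2 ^ (2 * m + 1)) (hm : 1 ≤ m) {U' : Subgroup (Sz F m)}
    (hU' : IsTorus m U') {s t' v v' : Sz F m} (hs1 : s ≠ 1) (hs2 : s * s = 1) (ht1 : t' ≠ 1) (ht2 : t' * t' = 1)
    (hne : t' ≠ s)
    (h1 : s ∈ Subgroup.normalizer ((cj U' v : Subgroup (Sz F m)) : Set (Sz F m)))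
    (h2 : t' ∈ Subgroup.normalizer ((cj U' v : Subgroup (Sz F m)) : Set (Sz F m)))
    (h3 : s ∈ Subgroup.normalizer ((cj U' v' : Subgroup (Sz F m)) : Set (Sz F m)))
    (h4 : t' ∈ Subgroup.normalizer ((cj U' v' : Subgroup (Sz F m)) : Set (Sz F m))) :
    v⁻¹ * v' ∈ Subgroup.normalizer (U' : Set (Sz F m)) := by
  have hT : IsTorus m (cj U' v) := hU'.map_conj v
  have hT' : IsTorus m (cj U' v') := hU'.map_conj v'
  have hm1 : s * t' ∈ cj U' v := invol_mul_mem_torus hF hm hT h1 hs1 hs2 h2 ht1 ht2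
  have hm2 : s * t' ∈ cj U' v' := invol_mul_mem_torus hF hm hT' h3 hs1 hs2 h4 ht1 ht2
  have hst : s * t' ≠ 1 := by
    intro h
    apply hne
    have h5 : t' = s⁻¹ := by
      rw [eq_inv_iff_mul_eq_one]
      have : t' * s = s⁻¹ * (s * t') * s := by group
      rw [this, h]
      group
    have h6 : s⁻¹ = s := by
      rw [inv_eq_iff_mul_eq_one]
      exact hs2
    rw [h5, h6]
  have heq : cj U' v = cj U' v' := torus_unique hF hm hT hT' hm1 hm2 hst
  apply mem_normalizer_of_map_conj_eq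
  have h7 : (cj U' v').map (MulAut.conj v⁻¹).toMonoidHom = (cj U' v).map (MulAut.conj v⁻¹).toMonoidHom := by
    rw [heq]
  rw [map_conj_map_conj, map_conj_map_conj, inv_mul_cancel] at h7
  rw [h7]
  ext x
  simp
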