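import Mathlib
import Cfsg.Agent.Lib.helper3.BSZ.Defs
import Cfsg.Agent.Lib.Helper1.BSZE01
import Cfsg.Agent.Lib.helper17.BSZA03

/-!
# Project BSZ, rows E11 (`nu_std`) and E12 (`nu_case`): cores on the statements of E07, E08, E09, E10.
-/

set_option autoImplicit false

namespace Cfsg.Agent.Lib.helper3.BSZ

open Cfsg Cfsg.Agent.Lib.helper3

/-- conjugating `H ≤ N(U)`. -/
theorem bsze11_cj_le_normalizer {G : Type*} [Group G] {H U : Subgroup G}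
    (hHU : H ≤ Subgroup.normalizer (U : Set G)) (g : G) :
    cj H g ≤ Subgroup.normalizer ((cj U g : Subgroup G) : Set G) := by
  intro x hx
  rw [mem_map_conj_iff] at hx
  have hn := hHU hx
  rw [Subgroup.mem_normalizer_iff] at hn ⊢
  intro y
  rw [mem_map_conj_iff, mem_map_conj_iff, hn (g⁻¹ * y * g)]
  have : g⁻¹ * x * g * (g⁻¹ * y * g) * (g⁻¹ * x * g)⁻¹ = g⁻¹ * (x * y * x⁻¹) * g := by group
  rw [this]

variable {F : Type*} [Field F] [Fintype F] {m : ℕ}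

/-- E11 core: `hE07`, `hE08`, `hE09`, `hE10` are the statements of rows E07 (at this `U`, `H`),
E08, E09, E10. -/
theorem bsze11_core (hF : Fintype.card F = 2 ^ (2 * m + 1)) (hm : 1 ≤ m) {U : Subgroup (Sz F m)}
    (hU : IsTorus m U)
    (H : Subgroup (Sz F m)) (hHU : H ≤ Subgroup.normalizer (U : Set (Sz F m))) {b₀ : F} (hb₀ : b₀ ≠ 0)
    (ht : gT hF 0 b₀ ∈ H)
    (hE07 : BinH H → ∀ {b₁ : F}, b₁ ≠ 0 → b₁ ≠ b₀ → ∀ {d : Sz F m},
      d * gT hF 0 b₀ * d⁻¹ = gT hF 0 b₁ → ∀ v : Sz F m, v ∈ Qs hF →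
      ∃ t' ∈ H, t' ≠ 1 ∧ t' * t' = 1 ∧ (v * d)⁻¹ * t' * (v * d) ∈ H)
    (hE08 : ∀ {U' : Subgroup (Sz F m)}, IsTorus m U' → ∀ {s : Sz F m}, s ≠ 1 → s * s = 1 → s ∉ H →
      (∀ v ∈ Qs hF, s ∈ Subgroup.normalizer ((cj U' v : Subgroup (Sz F m)) : Set (Sz F m))) →
      (∀ v ∈ Qs hF, ∃ t' ∈ H, t' ≠ 1 ∧ t' * t' = 1 ∧
        t' ∈ Subgroup.normalizer ((cj U' v : Subgroup (Sz F m)) : Set (Sz F m))) →
      (2 ^ (2 * m + 1)) ^ 2 ≤ 4 * Nat.card U)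
    (hE09 : 4 * (2 ^ (2 * m + 1) + 2 ^ (m + 1) + 1) < (2 ^ (2 * m + 1)) ^ 2)
    (hE10 : Nat.card U ≤ 2 ^ (2 * m + 1) + 2 ^ (m + 1) + 1) : ¬ BinH H := by
  classical
  intro hB
  -- a third value `b₁`
  obtain ⟨b₁, hb₁0, hb₁⟩ : ∃ b₁ : F, b₁ ≠ 0 ∧ b₁ ≠ b₀ := by
    by_contra hcon
    push_neg at hcon
    have hsub : (Finset.univ : Finset F) ⊆ {0, b₀} := by
      intro x _
      by_cases hx : x = 0
      · simp [hx]
      · simp [hcon x hx]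
    have h1 := Finset.card_le_card hsub
    rw [Finset.card_univ, hF] at h1
    have h2 : ({0, b₀} : Finset F).card ≤ 2 := Finset.card_le_two
    have h3 : 2 ^ 3 ≤ 2 ^ (2 * m + 1) := Nat.pow_le_pow_right (by norm_num) (by omega)
    omega
  set t := gT hF 0 b₀ with htdef
  set s := gT hF 0 b₁ with hsdef
  have ht1 : t ≠ 1 := gT_zero_ne_one hF hb₀
  have hs1 : s ≠ 1 := gT_zero_ne_one hF hb₁0
  have ht2 : t * t = 1 := gT_zero_sq hF b₀
  have hs2 : s * s = 1 := gT_zero_sq hF b₁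
  have hsH : s ∉ H := by
    intro hs
    have hc : s * t = t * s := gT_central hF 0 b₁ b₀
    have := nu_two_invol hF hm hU (hHU hs) hs1 hs2 (hHU ht) ht1 ht2 hc
    exact hb₁ (gT_injective hF this).2
  obtain ⟨d, hd⟩ := cj_gT_zero hF hb₀ hb₁0
  have hd' : d * t * d⁻¹ = s := hd.symm
  have hU' : IsTorus m (cj U d) := hU.map_conj d
  have hcjU : ∀ v : Sz F m, cj (cj U d) v = cj U (v * d) := fun v => map_conj_map_conj v d U
  have hsU' : ∀ v ∈ Qs hF, s ∈ Subgroup.normalizer ((cj (cj U d) v : Subgroup (Sz F m)) : Set (Sz F m)) := by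
    intro v hv
    rw [hcjU v]
    apply bsze11_cj_le_normalizer hHU (v * d)
    rw [mem_map_conj_iff]
    obtain ⟨a, b, rfl⟩ := (mem_Qs hF).1 hv
    have hc : gT hF a b * s = s * gT hF a b := gT_central hF a b b₁
    have : (gT hF a b * d)⁻¹ * s * (gT hF a b * d) = t := by
      have h1 : (gT hF a b * d)⁻¹ * s * (gT hF a b * d) =
          d⁻¹ * ((gT hF a b)⁻¹ * (s * gT hF a b)) * d := by group
      rw [h1, ← hc, ← hd']
      group
    rw [this]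
    exact ht
  have hmeet : ∀ v ∈ Qs hF, ∃ t' ∈ H, t' ≠ 1 ∧ t' * t' = 1 ∧
      t' ∈ Subgroup.normalizer ((cj (cj U d) v : Subgroup (Sz F m)) : Set (Sz F m)) := by
    intro v hv
    obtain ⟨t', ht'H, ht'1, ht'2, ht'c⟩ := hE07 hB hb₁0 hb₁ hd' v hv
    refine ⟨t', ht'H, ht'1, ht'2, ?_⟩
    rw [hcjU v]
    apply bsze11_cj_le_normalizer hHU (v * d)
    rw [mem_map_conj_iff]
    exact ht'c
  have h8 := hE08 hU' hs1 hs2 hsH hsU' hmeet
  omega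

/-- E12 core: `hE11` is the statement of row E11. -/
theorem bsze12_core (hF : Fintype.card F = 2 ^ (2 * m + 1)) (hm : 1 ≤ m) {U : Subgroup (Sz F m)}
    (hU : IsTorus m U)
    (H : Subgroup (Sz F m)) (hHU : H ≤ Subgroup.normalizer (U : Set (Sz F m))) {t : Sz F m} (ht : t ∈ H)
    (ht1 : t ≠ 1) (ht2 : t * t = 1)
    (hE11 : ∀ {U : Subgroup (Sz F m)}, IsTorus m U → ∀ H : Subgroup (Sz F m),
      H ≤ Subgroup.normalizer (U : Set (Sz F m)) → ∀ {b₀ : F}, b₀ ≠ 0 → gT hF 0 b₀ ∈ H → ¬ BinH H) :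
    ¬ BinH H := by
  intro hB
  obtain ⟨x, b, hb, hx⟩ := invol_eq_conj hF hm ht1 ht2
  have hB' : BinH (cj H x⁻¹) := (binary_conj H x⁻¹).1 hB
  refine hE11 (hU.map_conj x⁻¹) (cj H x⁻¹) (bsze11_cj_le_normalizer hHU x⁻¹) hb ?_ hB'
  rw [mem_map_conj_iff, inv_inv, ← hx]
  exact ht

end Cfsg.Agent.Lib.helper3.BSZ
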