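import Mathlib
import Cfsg.Agent.Lib.helper3.BSZ.Defs
import Cfsg.Agent.Lib.Helper1.BSZE01
import Cfsg.Agent.Lib.Helper1.BSZE11core
import Cfsg.Agent.Lib.helper3.BSZE07core
import Cfsg.Agent.Lib.helper3.BSZE08
import Cfsg.Agent.Lib.helper6.BSZA04
import Cfsg.Agent.Lib.helper17.BSZC01

/-!
# Project BSZ, rows E11 (`nu_std`) and E12 (`nu_case`), verbatim vs `helper3/BSZ/Skel.lean.txt`.
(E07 enters through helper3's `nu_meet_core`, so the file does not wait for the verbatim `nu_meet`.)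
-/

set_option autoImplicit false

namespace Cfsg.Agent.Lib.helper3.BSZ

open Cfsg Cfsg.Agent.Lib.helper3

variable {F : Type*} [Field F] [Fintype F] {m : ℕ}

/-- E11 [M] (cites E01, E07, E08, E09, E10) -/
theorem nu_std (hF : Fintype.card F = 2 ^ (2 * m + 1)) (hm : 1 ≤ m) {U : Subgroup (Sz F m)} (hU : IsTorus m U)
    (H : Subgroup (Sz F m)) (hHU : H ≤ Subgroup.normalizer (U : Set (Sz F m))) {b₀ : F} (hb₀ : b₀ ≠ 0)
    (ht : gT hF 0 b₀ ∈ H) : ¬ BinH H :=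
  bsze11_core hF hm hU H hHU hb₀ ht
    (fun hB _ hb₁ hne _ hd v hv =>
      nu_meet_core hF hm (fun H hB a b g₁ g₂ g₃ h1 h2 h3 hp => three_point H hB a b g₁ g₂ g₃ h1 h2 h3 hp)
        (fun hU => fun hz hz1 hz2 hz' hz'1 hz'2 hc => nu_two_invol hF hm hU hz hz1 hz2 hz' hz'1 hz'2 hc)
        (fun hU hU' hne => fun hx hx' hodd => nu_no_odd hF hm hU hU' hne hx hx' hodd)
        (fun hU K hK hne hodd => nu_invol_of_ne_bot hF hm hU K hK hne hodd)
        hU H hHU hB hb₀ hb₁ hne ht hd v hv)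
    (fun hU' _ hs1 hs2 hsH hsU' hmeet => nu_count hF hm hU hU' H hHU hs1 hs2 hsH hsU' hmeet)
    (nu_arith hm) (card_torus_le hU)

/-- E12 [S-M] (cites A03, E11) -/
theorem nu_case (hF : Fintype.card F = 2 ^ (2 * m + 1)) (hm : 1 ≤ m) {U : Subgroup (Sz F m)} (hU : IsTorus m U)
    (H : Subgroup (Sz F m)) (hHU : H ≤ Subgroup.normalizer (U : Set (Sz F m))) {t : Sz F m} (ht : t ∈ H)
    (ht1 : t ≠ 1) (ht2 : t * t = 1) : ¬ BinH H :=
  bsze12_core hF hm hU H hHU ht ht1 ht2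
    (fun hU H hHU _ hb₀ ht => nu_std hF hm hU H hHU hb₀ ht)

end Cfsg.Agent.Lib.helper3.BSZ
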