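import Mathlib
import Cfsg.Prelude.Def_Characters
import Cfsg.Prelude.Def_Blocks
import Cfsg.Prelude.Def_Local
import Cfsg.Agent.Lib.Helper25.CharLinear
import Cfsg.Agent.Lib.Helper25.CharAbelian
import Cfsg.Agent.Lib.Helper24.KleinOrder1
import Cfsg.Agent.Lib.helper6.BTPERF
import Cfsg.Agent.Lib.helper23.BRPERF
import Cfsg.Agent.Lib.helper2.CharInt

set_option autoImplicit false
set_option linter.unusedVariables false
set_option linter.unusedSectionVars false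

namespace Cfsg.Agent.Lib.Helper13.BT3

open Classical
open scoped ComplexConjugate
open Cfsg.Agent.Lib.Helper25 Cfsg.Agent.Lib.Helper24

universe u

variable {G : Type u} [Group G] [Fintype G]

theorem p1_degree [IsSimpleGroup G] (hnc : ¬ ∀ x y : G, x * y = y * x) (ζ : Cfsg.IrrCharacter G)
    (hζ : (ζ : G → ℂ) ≠ (fun _ => 1)) :
    2 ≤ Cfsg.charDegree (ζ : G → ℂ) ∧ Cfsg.charDegree (ζ : G → ℂ) ∣ Nat.card G := by
  have hperf := Cfsg.Agent.Lib.Helper13.BT.perfect_of_simple hnc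
  have hne : ζ ≠ trivIrr G := by
    intro h
    apply hζ
    rw [h]
    rfl
  obtain ⟨d, hd2, hd⟩ := Cfsg.Agent.Lib.helper7.BR.deg_ge_two hperf ζ hne
  obtain ⟨hc, -⟩ := charDegree_irr ζ
  obtain ⟨m, -, hm, hmdvd⟩ := Cfsg.Agent.Lib.helper2.irr_degree_dvd_card ζ
  have e1 : Cfsg.charDegree (ζ : G → ℂ) = d := by
    have : ((Cfsg.charDegree (ζ : G → ℂ) : ℕ) : ℂ) = (d : ℂ) := by rw [hc, hd]
    exact_mod_cast this
  have e2 : Cfsg.charDegree (ζ : G → ℂ) = m := by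
    have : ((Cfsg.charDegree (ζ : G → ℂ) : ℕ) : ℂ) = (m : ℂ) := by rw [hc, hm]
    exact_mod_cast this
  exact ⟨by rw [e1]; exact hd2, by rw [e2]; exact hmdvd⟩

end Cfsg.Agent.Lib.Helper13.BT3
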