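import Mathlib
import Cfsg.Prelude.Def_Characters
import Cfsg.Prelude.Def_Blocks
import Cfsg.Prelude.Def_Local
import Cfsg.Agent.Lib.Helper25.CharLinear
import Cfsg.Agent.Lib.Helper24.KleinOrder1
import Cfsg.Agent.S4479

set_option autoImplicit false
set_option linter.unusedVariables false
set_option linter.unusedSectionVars false
set_option linter.style.haveILetI false

namespace Cfsg.Agent.Lib.Helper13.BT3

open Classical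
open scoped ComplexConjugate
open Cfsg.Agent.Lib.Helper25 Cfsg.Agent.Lib.Helper24

universe u

variable {G : Type u} [Group G] [Fintype G]

theorem bt3p1form_no_normal [IsSimpleGroup G] (hnc : ¬ ∀ x y : G, x * y = y * x) (g₀ : ℕ) (hg₀ : Odd g₀)
    (hG : Nat.card G = 4 * g₀) : ¬ ∃ N : Subgroup G, N.Normal ∧ Nat.card N = g₀ := by
  rintro ⟨N, hN, hcard⟩
  rcases hN.eq_bot_or_eq_top with h | h
  · rw [h, Subgroup.card_bot] at hcard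
    rw [← hcard] at hG
    apply hnc
    have h4 : Nat.card G = 2 ^ 2 := by rw [hG]; norm_num
    haveI : Fact (Nat.Prime 2) := ⟨Nat.prime_two⟩
    intro x y
    exact (IsPGroup.isMulCommutative_of_card_eq_prime_sq h4).is_comm.comm x y
  · rw [h, Subgroup.card_top, hG] at hcard
    obtain ⟨k, hk⟩ := hg₀
    omega

theorem p1_formula [IsSimpleGroup G] (hnc : ¬ ∀ x y : G, x * y = y * x) (M : Ideal Cfsg.AlgInt)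
    (hM : Cfsg.IsPModular 2 M) (g₀ : ℕ) (hg₀ : Odd g₀) (hG : Nat.card G = 4 * g₀) (P : Sylow 2 G) (J : G)
    (hJ : J ∈ (P : Subgroup G)) (hJ2 : orderOf J = 2) (ζ₂ ζ₃ ζ₄ : Cfsg.IrrCharacter G) (ε : ℤ)
    (hε : ε = 1 ∨ ε = -1)
    (hB : Cfsg.principalBlock M G = {χ : Cfsg.IrrCharacter G |
      (χ : G → ℂ) = (fun _ => 1) ∨ χ = ζ₂ ∨ χ = ζ₃ ∨ χ = ζ₄})
    (hdist : (ζ₂ : G → ℂ) ≠ (fun _ => 1) ∧ (ζ₃ : G → ℂ) ≠ (fun _ => 1) ∧ (ζ₄ : G → ℂ) ≠ (fun _ => 1) ∧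
      ζ₂ ≠ ζ₃ ∧ ζ₂ ≠ ζ₄ ∧ ζ₃ ≠ ζ₄)
    (hval : (ζ₂ : G → ℂ) J = ((1 : ℤ) : ℂ) ∧ (ζ₃ : G → ℂ) J = (ε : ℂ) ∧ (ζ₄ : G → ℂ) J = ((-1 : ℤ) : ℂ))
    (h2 : 2 ≤ Cfsg.charDegree (ζ₂ : G → ℂ)) (h3 : 2 ≤ Cfsg.charDegree (ζ₃ : G → ℂ))
    (h4 : 2 ≤ Cfsg.charDegree (ζ₄ : G → ℂ)) :
    ((4 * g₀ : ℕ) : ℤ) * (((Cfsg.charDegree (ζ₂ : G → ℂ) : ℤ) + 1) * ((Cfsg.charDegree (ζ₃ : G → ℂ) : ℤ) + ε) *
        ((Cfsg.charDegree (ζ₄ : G → ℂ) : ℤ) - 1)) *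
        (Nat.card ↥(Subgroup.centralizer ((P : Subgroup G) : Set G)) : ℤ) ^ 2 =
      8 * ((Cfsg.charDegree (ζ₂ : G → ℂ) : ℤ) * Cfsg.charDegree (ζ₃ : G → ℂ) * Cfsg.charDegree (ζ₄ : G → ℂ)) *
        (Nat.card ↥(Subgroup.centralizer ({J} : Set G)) : ℤ) ^ 3 := by
  have hQ := Cfsg.Agent.S4479.result M hM g₀ hg₀ hG (bt3p1form_no_normal hnc g₀ hg₀ hG) P J hJ hJ2 ζ₂ ζ₃ ζ₄
    1 ε (-1) hB hdist ⟨Or.inl rfl, hε, Or.inr rfl⟩ hval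
  set x₂ := Cfsg.charDegree (ζ₂ : G → ℂ) with hx₂
  set x₃ := Cfsg.charDegree (ζ₃ : G → ℂ) with hx₃
  set x₄ := Cfsg.charDegree (ζ₄ : G → ℂ) with hx₄
  set cP := Nat.card ↥(Subgroup.centralizer ((P : Subgroup G) : Set G)) with hcP
  set cJ := Nat.card ↥(Subgroup.centralizer ({J} : Set G)) with hcJ
  have hcP0 : (cP : ℚ) ≠ 0 := by
    have : 0 < cP := Nat.card_pos
    exact_mod_cast this.ne'
  have hd2 : ((x₂ : ℚ) + ((1 : ℤ) : ℚ)) ≠ 0 := by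
    have : (0 : ℚ) < (x₂ : ℚ) + ((1 : ℤ) : ℚ) := by
      have : (0 : ℚ) ≤ (x₂ : ℚ) := Nat.cast_nonneg _
      push_cast
      linarith
    exact this.ne'
  have hd3 : ((x₃ : ℚ) + (ε : ℚ)) ≠ 0 := by
    have h3' : (2 : ℚ) ≤ (x₃ : ℚ) := by exact_mod_cast h3
    rcases hε with rfl | rfl
    · push_cast; intro h; linarith
    · push_cast; intro h; linarith
  have hd4 : ((x₄ : ℚ) + ((-1 : ℤ) : ℚ)) ≠ 0 := by
    have h4' : (2 : ℚ) ≤ (x₄ : ℚ) := by exact_mod_cast h4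
    push_cast
    intro h
    linarith
  have key : ((4 * g₀ : ℕ) : ℚ) * (((x₂ : ℚ) + 1) * ((x₃ : ℚ) + (ε : ℚ)) * ((x₄ : ℚ) - 1)) * (cP : ℚ) ^ 2 =
      8 * ((x₂ : ℚ) * x₃ * x₄) * (cJ : ℚ) ^ 3 := by
    rw [← hG, hQ]
    have e1 : ((x₂ : ℚ) + ((1 : ℤ) : ℚ)) = (x₂ : ℚ) + 1 := by push_cast; ring
    have e4 : ((x₄ : ℚ) + ((-1 : ℤ) : ℚ)) = (x₄ : ℚ) - 1 := by push_cast; ring
    rw [e1] at hd2
    rw [e4] at hd4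
    rw [e1, e4]
    field_simp
  exact_mod_cast key

end Cfsg.Agent.Lib.Helper13.BT3
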