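import Mathlib
import Cfsg.Agent.Lib.helper7.Br.Defs
import Cfsg.Agent.S0133

set_option autoImplicit false
set_option linter.unusedSectionVars false
set_option linter.unusedVariables false
set_option linter.style.haveILetI false

namespace Cfsg.Agent.Lib.Helper1.Br

open Cfsg.Agent.Lib.helper7 Cfsg.Agent.Lib.helper7.Br Cfsg.Agent.Lib.Helper25
open scoped ComplexConjugate

variable {G : Type*} [Group G] [Fintype G] [DecidableEq G]

noncomputable def crep (C : ConjClasses G) : G := Quotient.out C

theorem mk_crep (C : ConjClasses G) : ConjClasses.mk (crep C) = C := Quotient.out_eq C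

theorem exists_conj_crep (g : G) : ∃ u : G, u * crep (ConjClasses.mk g) * u⁻¹ = g := by
  have h := mk_crep (ConjClasses.mk g)
  rw [ConjClasses.mk_eq_mk_iff_isConj, isConj_iff] at h
  exact h

theorem sum_class_collect {R : Type*} [CommSemiring R] (f : G → R) (y : ConjClasses G → R) :
    ∑ C : ConjClasses G, (∑ h : G, if ConjClasses.mk h = C then f h else 0) * y C =
      ∑ h : G, f h * y (ConjClasses.mk h) := by
  simp only [Finset.sum_mul]
  rw [Finset.sum_comm]
  refine Finset.sum_congr rfl fun h _ => ?_
  rw [Finset.sum_eq_single (ConjClasses.mk h)]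
  · rw [if_pos rfl]
  · intro C _ hC
    rw [if_neg (fun h' => hC h'.symm), zero_mul]
  · intro h'
    exact absurd (Finset.mem_univ _) h'

noncomputable def cenMat (B : Set (Cfsg.IrrCharacter G)) :
    Matrix (ConjClasses G) (ConjClasses G) ℂ :=
  fun C' C => ∑ h : G, if ConjClasses.mk h = C then Cfsg.blockCoeff B (crep C' * h⁻¹) else 0

section cplx

variable [Fintype (Cfsg.IrrCharacter G)]

theorem h7_coef_smul (s : ℂ) (c : Cfsg.IrrCharacter G → ℂ) (g : G) :
    h7_coef (s • c) g = s * h7_coef c g := by
  unfold h7_coef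
  rw [mul_left_comm]
  congr 1
  rw [Finset.mul_sum]
  refine Finset.sum_congr rfl fun χ _ => ?_
  rw [Pi.smul_apply, smul_eq_mul, mul_assoc]

noncomputable def phiL : (Cfsg.IrrCharacter G → ℂ) →ₗ[ℂ] (ConjClasses G → ℂ) where
  toFun c := fun C => h7_coef c (crep C)
  map_add' c d := by
    funext C
    simp only [Pi.add_apply]
    exact h7_coef_add c d _
  map_smul' s c := by
    funext C
    simp only [Pi.smul_apply, smul_eq_mul, RingHom.id_apply]
    exact h7_coef_smul s c _

theorem phiL_apply (c : Cfsg.IrrCharacter G → ℂ) (C : ConjClasses G) :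
    phiL c C = h7_coef c (crep C) := rfl

theorem h7_coef_crep (c : Cfsg.IrrCharacter G → ℂ) (g : G) :
    h7_coef c (crep (ConjClasses.mk g)) = h7_coef c g := by
  obtain ⟨u, hu⟩ := exists_conj_crep g
  conv_rhs => rw [← hu]
  rw [h7_coef_conj]

theorem phiL_injective : Function.Injective (phiL (G := G)) := by
  rw [← LinearMap.ker_eq_bot, LinearMap.ker_eq_bot']
  intro c hc
  funext χ
  have h0 : ∀ g : G, h7_coef c g = 0 := by
    intro g
    rw [← h7_coef_crep]
    exact congrFun hc (ConjClasses.mk g)
  have h1 := h7_coef_eval c χ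
  simp only [h0, zero_mul, Finset.sum_const_zero] at h1
  have h2 := irr_one_ne_zero χ
  rcases mul_eq_zero.mp h1.symm with h | h
  · exact h
  · exact absurd h h2

theorem phiL_surjective : Function.Surjective (phiL (G := G)) := by
  have hfr : Module.finrank ℂ (Cfsg.IrrCharacter G → ℂ) =
      Module.finrank ℂ (ConjClasses G → ℂ) := by
    rw [Module.finrank_pi, Module.finrank_pi, ← Nat.card_eq_fintype_card,
      ← Nat.card_eq_fintype_card]
    exact Cfsg.Agent.S0133.result
  exact (LinearMap.injective_iff_surjective_of_finrank_eq_finrank hfr).mp phiL_injective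

noncomputable def indB (B : Set (Cfsg.IrrCharacter G)) : Cfsg.IrrCharacter G → ℂ := by
  classical
  exact fun χ => if χ ∈ B then (1 : ℂ) else 0

theorem cenMat_phiL (B : Set (Cfsg.IrrCharacter G)) (c : Cfsg.IrrCharacter G → ℂ) :
    (cenMat B).mulVec (phiL c) = phiL (indB B * c) := by
  classical
  funext C'
  rw [phiL_apply, h7_coef_mul]
  show ∑ C : ConjClasses G, cenMat B C' C * phiL c C = _
  unfold cenMat
  simp only [phiL_apply]
  rw [sum_class_collect (fun h => Cfsg.blockCoeff B (crep C' * h⁻¹))
    (fun C => h7_coef c (crep C))]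
  refine Finset.sum_congr rfl fun h _ => ?_
  rw [h7_coef_crep]
  congr 1
  unfold indB
  exact (h7_coef_indicator B _).symm

theorem indB_idem (B : Set (Cfsg.IrrCharacter G)) : indB B * indB B = indB B := by
  classical
  funext χ
  unfold indB
  simp only [Pi.mul_apply]
  split_ifs <;> simp

theorem cenMat_mulVecLin_comp (B : Set (Cfsg.IrrCharacter G)) :
    (cenMat B).mulVecLin ∘ₗ phiL =
      phiL ∘ₗ (Matrix.diagonal (indB B)).mulVecLin := by
  classical
  apply LinearMap.ext
  intro c
  rw [LinearMap.comp_apply, LinearMap.comp_apply, Matrix.mulVecLin_apply, Matrix.mulVecLin_apply,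
    cenMat_phiL]
  congr 1
  funext χ
  rw [Matrix.mulVec_diagonal, Pi.mul_apply]

theorem cenMat_rank (B : Set (Cfsg.IrrCharacter G)) : (cenMat B).rank = Nat.card B := by
  classical
  have hsurj : LinearMap.range (phiL (G := G)) = ⊤ := LinearMap.range_eq_top.mpr phiL_surjective
  let φe : (Cfsg.IrrCharacter G → ℂ) ≃ₗ[ℂ] (ConjClasses G → ℂ) :=
    LinearEquiv.ofBijective phiL ⟨phiL_injective, phiL_surjective⟩
  have h1 : LinearMap.range (cenMat B).mulVecLin =
      Submodule.map (φe : (Cfsg.IrrCharacter G → ℂ) →ₗ[ℂ] (ConjClasses G → ℂ))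
        (LinearMap.range (Matrix.diagonal (indB B)).mulVecLin) := by
    rw [← LinearMap.range_comp_of_range_eq_top (cenMat B).mulVecLin hsurj, cenMat_mulVecLin_comp,
      LinearMap.range_comp]
    rfl
  unfold Matrix.rank
  rw [h1, LinearEquiv.finrank_map_eq]
  have h2 := Matrix.rank_diagonal (indB B)
  unfold Matrix.rank at h2
  rw [h2, ← Nat.card_eq_fintype_card]
  apply Nat.card_congr
  refine Equiv.subtypeEquivRight fun χ => ?_
  unfold indB
  by_cases h : χ ∈ B
  · simp [h]
  · simp [h]

theorem cenMat_idem (B : Set (Cfsg.IrrCharacter G)) : cenMat B * cenMat B = cenMat B := by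
  classical
  have h1 : ((cenMat B).mulVecLin ∘ₗ (cenMat B).mulVecLin) ∘ₗ phiL = (cenMat B).mulVecLin ∘ₗ phiL := by
    rw [LinearMap.comp_assoc, cenMat_mulVecLin_comp, ← LinearMap.comp_assoc, cenMat_mulVecLin_comp,
      LinearMap.comp_assoc, ← Matrix.mulVecLin_mul, Matrix.diagonal_mul_diagonal]
    congr 3
    funext χ
    exact congrFun (indB_idem B) χ
  have h2 : (cenMat B).mulVecLin ∘ₗ (cenMat B).mulVecLin = (cenMat B).mulVecLin := by
    apply LinearMap.ext
    intro y
    obtain ⟨c, rfl⟩ := phiL_surjective y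
    exact LinearMap.congr_fun h1 c
  rw [← Matrix.mulVecLin_mul, ← Matrix.toLin'_apply', ← Matrix.toLin'_apply'] at h2
  exact Matrix.toLin'.injective h2

end cplx

section modp

variable {M : Ideal Cfsg.AlgInt}

theorem cenMat_mem (hMp : M.IsPrime) (B : Set (Cfsg.IrrCharacter G)) (hB : Cfsg.IsPBlock M B)
    (C' C : ConjClasses G) : Cfsg.MemLocalRing M (cenMat B C' C) := by
  unfold cenMat
  apply h7_memLocalRing_sum hMp
  intro h _
  split_ifs
  · exact blockCoeff_mem hMp B hB _
  · exact h7_memLocalRing_zero hMp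

theorem cenMat_map (hMp : M.IsPrime) (B : Set (Cfsg.IrrCharacter G)) (hB : Cfsg.IsPBlock M B)
    (C' C : ConjClasses G) :
    (cenMat B).map (h7_res M hMp) C' C =
      ∑ h : G, if ConjClasses.mk h = C then eBar hMp B (crep C' * h⁻¹) else 0 := by
  rw [Matrix.map_apply]
  unfold cenMat
  rw [h7_res_sum hMp]
  · refine Finset.sum_congr rfl fun h _ => ?_
    split_ifs
    · rfl
    · exact h7_res_zero hMp
  · intro h _
    split_ifs
    · exact blockCoeff_mem hMp B hB _
    · exact h7_memLocalRing_zero hMp

variable {F : Type*} [Field F]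

noncomputable def delta (h : G) : GA F G := fun g => if g = h then 1 else 0

theorem class_of_central (x : GA F G) (hx : ∀ y : GA F G, y * x = x * y) (g h : G) :
    x (h * g * h⁻¹) = x g := by
  have h1 := congrFun (hx (delta h)) (h * g)
  rw [GA.mul_apply, GA.mul_apply'] at h1
  rw [Finset.sum_eq_single h, Finset.sum_eq_single h] at h1
  · unfold delta at h1
    rw [if_pos rfl, one_mul, mul_one] at h1
    rw [← h1]
    congr 1
    group
  · intro k _ hk
    unfold delta
    rw [if_neg hk, mul_zero]
  · intro h'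
    exact absurd (Finset.mem_univ _) h'
  · intro k _ hk
    unfold delta
    rw [if_neg hk, zero_mul]
  · intro h'
    exact absurd (Finset.mem_univ _) h'

theorem class_crep (x : GA F G) (hx : ∀ g h : G, x (h * g * h⁻¹) = x g) (g : G) :
    x (crep (ConjClasses.mk g)) = x g := by
  obtain ⟨u, hu⟩ := exists_conj_crep g
  conv_rhs => rw [← hu]
  rw [hx]

theorem mulVec_cenMat_map (hMp : M.IsPrime) (B : Set (Cfsg.IrrCharacter G))
    (hB : Cfsg.IsPBlock M B) (v : ConjClasses G → h7_resRing M hMp) (C' : ConjClasses G) :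
    ((cenMat B).map (h7_res M hMp)).mulVec v C' =
      ∑ h : G, eBar hMp B (crep C' * h⁻¹) * v (ConjClasses.mk h) := by
  show ∑ C : ConjClasses G, (cenMat B).map (h7_res M hMp) C' C * v C = _
  simp only [cenMat_map hMp B hB]
  exact sum_class_collect (fun h => eBar hMp B (crep C' * h⁻¹)) v

theorem finrank_center_blockAlg (hMp : M.IsPrime)
    (B : Set (Cfsg.IrrCharacter G)) (hB : Cfsg.IsPBlock M B)
    (hRK : ∀ E : Matrix (ConjClasses G) (ConjClasses G) ℂ, E * E = E →
      (∀ i j, Cfsg.MemLocalRing M (E i j)) → (E.map (h7_res M hMp)).rank = E.rank) :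
    Module.finrank (h7_resRing M hMp)
      (Subalgebra.center (h7_resRing M hMp) (BlockAlg hMp B hB)) = Nat.card B := by
  classical
  haveI : Fintype (Cfsg.IrrCharacter G) := Fintype.ofFinite _
  have he := eBar_idem hMp B hB
  have hcen : ∀ z : ↥(Subalgebra.center (h7_resRing M hMp) (BlockAlg hMp B hB)),
      ∀ y : GA (h7_resRing M hMp) G, y * cval he z.1 = cval he z.1 * y := by
    intro z y
    have h1 := Subalgebra.mem_center_iff.mp z.2 (toBlock hMp B hB y)
    have h2 := congrArg (cval he) h1
    rw [cval_mul, cval_mul, cval_toBlock] at h2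
    have h3 := (cval_mem he z.1).1
    have h4 := (cval_mem he z.1).2
    calc y * cval he z.1 = y * (eBar hMp B * cval he z.1) := by rw [h3]
      _ = (eBar hMp B * y) * cval he z.1 := by rw [← mul_assoc, ← eBar_central hMp B y]
      _ = cval he z.1 * (eBar hMp B * y) := h2
      _ = cval he z.1 * y := by rw [← mul_assoc, h4]
  have hclass : ∀ z : ↥(Subalgebra.center (h7_resRing M hMp) (BlockAlg hMp B hB)),
      ∀ g h : G, cval he z.1 (h * g * h⁻¹) = cval he z.1 g :=
    fun z g h => class_of_central _ (hcen z) g h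
  let ψ : ↥(Subalgebra.center (h7_resRing M hMp) (BlockAlg hMp B hB)) →ₗ[h7_resRing M hMp]
      (ConjClasses G → h7_resRing M hMp) :=
    { toFun := fun z C => cval he z.1 (crep C)
      map_add' := fun z w => by
        funext C
        rfl
      map_smul' := fun c z => by
        funext C
        rfl }
  have hψ : ∀ z C, ψ z C = cval he z.1 (crep C) := fun z C => rfl
  have hinj : Function.Injective ψ := by
    intro z z' hz
    apply Subtype.ext
    apply cval_injective he
    apply GA.ext
    intro g
    rw [← class_crep _ (hclass z) g, ← class_crep _ (hclass z') g]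
    exact congrFun hz (ConjClasses.mk g)
  have hrange : LinearMap.range ψ =
      LinearMap.range ((cenMat B).map (h7_res M hMp)).mulVecLin := by
    apply le_antisymm
    · rintro y ⟨z, rfl⟩
      refine ⟨ψ z, ?_⟩
      funext C'
      rw [Matrix.mulVecLin_apply, mulVec_cenMat_map hMp B hB]
      simp only [hψ]
      have h1 : ∀ h : G, eBar hMp B (crep C' * h⁻¹) * cval he z.1 (crep (ConjClasses.mk h)) =
          eBar hMp B (crep C' * h⁻¹) * cval he z.1 h := by
        intro h
        rw [class_crep _ (hclass z) h]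
      rw [Finset.sum_congr rfl (fun h _ => h1 h), ← GA.mul_apply', (cval_mem he z.1).1]
    · rintro y ⟨y', rfl⟩
      let w : GA (h7_resRing M hMp) G := fun g => y' (ConjClasses.mk g)
      have hwclass : ∀ g h : G, w (h * g * h⁻¹) = w g := by
        intro g h
        show y' _ = y' _
        congr 1
        rw [ConjClasses.mk_eq_mk_iff_isConj, isConj_iff]
        exact ⟨h⁻¹, by group⟩
      have hwc : ∀ u : GA (h7_resRing M hMp) G, w * u = u * w :=
        GA.central_of_class w hwclass
      have hxc : ∀ u : GA (h7_resRing M hMp) G, u * (eBar hMp B * w) = (eBar hMp B * w) * u := by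
        intro u
        rw [← mul_assoc, ← eBar_central hMp B u, mul_assoc, ← hwc u, mul_assoc]
      have h1 : eBar hMp B * (eBar hMp B * w) = eBar hMp B * w := by
        rw [← mul_assoc, he.eq]
      have h2 : (eBar hMp B * w) * eBar hMp B = eBar hMp B * w := by
        rw [← hxc, h1]
      refine ⟨⟨cmk he (eBar hMp B * w) h1 h2, ?_⟩, ?_⟩
      · rw [Subalgebra.mem_center_iff]
        intro b
        apply cval_injective he
        rw [cval_mul, cval_mul, cval_cmk]
        exact hxc _
      · funext C'
        rw [Matrix.mulVecLin_apply, mulVec_cenMat_map hMp B hB, hψ]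
        show (eBar hMp B * w) (crep C') = _
        rw [GA.mul_apply']
  calc Module.finrank (h7_resRing M hMp)
        (Subalgebra.center (h7_resRing M hMp) (BlockAlg hMp B hB))
      = Module.finrank (h7_resRing M hMp) (LinearMap.range ψ) :=
        (LinearMap.finrank_range_of_inj hinj).symm
    _ = ((cenMat B).map (h7_res M hMp)).rank := by
        rw [hrange]
        rfl
    _ = (cenMat B).rank := hRK _ (cenMat_idem B) (cenMat_mem hMp B hB)
    _ = Nat.card B := cenMat_rank B

end modp

end Cfsg.Agent.Lib.Helper1.Br
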