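import Mathlib
import Cfsg.Agent.Lib.helper7.R1.Defs
import Cfsg.Agent.Lib.helper7.BlockCover
import Cfsg.Agent.Lib.Helper25.CharOrth
import Cfsg.Prelude.Def_BrauerPairs
import Cfsg.Prelude.Def_BlockRank

set_option autoImplicit false

namespace Cfsg.Agent.Lib.Helper1.R1

open Cfsg.Agent.Lib.helper7 Cfsg.Agent.Lib.helper7.Br Cfsg.Agent.Lib.helper7.R1
open scoped ComplexConjugate

section bridge

variable {G : Type*} [Group G] [Fintype G]
variable {M : Ideal Cfsg.AlgInt}

open Classical in
theorem delta_decomp {p : ℕ} [Fact p.Prime] (hM : Cfsg.IsPModular p M) (s : G)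
    (hs : Cfsg.IsPRegular p s)
    (hint : ∀ (χ : Cfsg.IrrCharacter G) (s : G) (P : Subgroup G), (∀ u ∈ P, Commute s u) →
      IsIntegral ℤ ((Nat.card P : ℂ)⁻¹ * ∑ᶠ u : P, (χ : G → ℂ) (s * (u : G)))) :
    ∃ c : Cfsg.IrrCharacter G → ℂ, (∀ χ, Cfsg.MemLocalRing M (c χ)) ∧
      ∀ t : G, Cfsg.IsPRegular p t →
        ∑ᶠ χ : Cfsg.IrrCharacter G, c χ * (χ : G → ℂ) t = if IsConj s t then 1 else 0 := by
  have hp : p.Prime := Fact.out
  have hMp : M.IsPrime := hM.2.1.isPrime
  let _ : Fintype (Cfsg.IrrCharacter G) := Fintype.ofFinite _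
  obtain ⟨C, hC⟩ : ∃ C : Subgroup G, C = Subgroup.centralizer ({s} : Set G) := ⟨_, rfl⟩
  obtain ⟨Q⟩ : Nonempty (Sylow p ↥C) := inferInstance
  obtain ⟨P, hPdef⟩ : ∃ P : Subgroup G, P = (Q : Subgroup ↥C).map C.subtype := ⟨_, rfl⟩
  have hPC : P ≤ C := by
    rw [hPdef]
    exact Subgroup.map_subtype_le _
  have hPcomm : ∀ u ∈ P, Commute s u := by
    intro u hu
    have h1 := hPC hu
    rw [hC, Subgroup.mem_centralizer_iff] at h1
    exact h1 s (Set.mem_singleton s)
  have hPord : ∀ u ∈ P, ∃ k : ℕ, orderOf u = p ^ k := by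
    intro u hu
    rw [hPdef] at hu
    obtain ⟨v, hv, rfl⟩ := hu
    obtain ⟨k, hk⟩ := (IsPGroup.iff_orderOf.1 Q.isPGroup') ⟨v, hv⟩
    refine ⟨k, ?_⟩
    rw [Subgroup.orderOf_mk] at hk
    rw [← hk]
    exact (Subgroup.orderOf_coe v)
  have hcardP : Nat.card P = Nat.card (Q : Subgroup ↥C) := by
    rw [hPdef]
    exact Subgroup.card_map_of_injective C.subtype_injective
  obtain ⟨m, hm⟩ : ∃ m : ℕ, m = (Q : Subgroup ↥C).index := ⟨_, rfl⟩
  have hmcop : m.Coprime p := by
    rw [hm]
    exact ((Nat.Prime.coprime_iff_not_dvd hp).2 Q.not_dvd_index).symm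
  have hCcard : Nat.card C = Nat.card P * m := by
    rw [hcardP, hm]
    exact ((Q : Subgroup ↥C).card_mul_index).symm
  have hP0 : (Nat.card P : ℂ) ≠ 0 := by
    have : 0 < Nat.card P := Nat.card_pos
    exact_mod_cast this.ne'
  have hm0 : (m : ℂ) ≠ 0 := by
    have : m ≠ 0 := by
      rw [hm]
      exact Subgroup.index_ne_zero_of_finite
    exact_mod_cast this
  refine ⟨fun χ => (m : ℂ)⁻¹ * conj ((Nat.card P : ℂ)⁻¹ * ∑ᶠ u : P, (χ : G → ℂ) (s * (u : G))),
    ?_, ?_⟩
  · intro χ
    apply h7_memLocalRing_mul hMp (h7_memLocalRing_inv_natCast hM m hmcop)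
    apply h7_memLocalRing_of_isIntegral hMp
    exact map_isIntegral_int (starRingEnd ℂ) (hint χ s P hPcomm)
  · intro t ht
    rw [finsum_eq_sum_of_fintype]
    have hkey : ∀ u : P, ∑ χ : Cfsg.IrrCharacter G,
        (χ : G → ℂ) t * conj ((χ : G → ℂ) (s * (u : G))) =
        if (u : G) = 1 then (if IsConj s t then (Nat.card C : ℂ) else 0) else 0 := by
      intro u
      rw [Cfsg.Agent.Lib.Helper25.irr_column_orthogonality]
      by_cases hu1 : (u : G) = 1
      · rw [if_pos hu1, hu1, mul_one, hC]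
      · rw [if_neg hu1]
        apply if_neg
        intro hconj
        apply hu1
        obtain ⟨k, hk⟩ := hPord u u.2
        have hord : orderOf (s * (u : G)) = orderOf t := by
          obtain ⟨g, hg⟩ := isConj_iff.1 hconj
          rw [← hg]
          have h : SemiconjBy g (s * (u : G)) (g * (s * (u : G)) * g⁻¹) := by
            unfold SemiconjBy
            group
          exact h.orderOf_eq g
        have hcop : (orderOf s).Coprime (orderOf (u : G)) := by
          rw [hk]
          apply Nat.Coprime.pow_right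
          exact ((Nat.Prime.coprime_iff_not_dvd hp).2 hs).symm
        rw [(hPcomm u u.2).orderOf_mul_eq_mul_orderOf_of_coprime hcop] at hord
        have hk0 : k = 0 := by
          by_contra hk0
          apply ht
          rw [← hord, hk]
          exact Dvd.dvd.mul_left (dvd_pow_self p hk0) _
        rw [hk0, pow_zero] at hk
        exact orderOf_eq_one_iff.1 hk
    have hsum : ∀ χ : Cfsg.IrrCharacter G,
        ((m : ℂ)⁻¹ * conj ((Nat.card P : ℂ)⁻¹ * ∑ᶠ u : P, (χ : G → ℂ) (s * (u : G)))) *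
          (χ : G → ℂ) t =
        (m : ℂ)⁻¹ * (Nat.card P : ℂ)⁻¹ *
          ∑ u : P, (χ : G → ℂ) t * conj ((χ : G → ℂ) (s * (u : G))) := by
      intro χ
      rw [finsum_eq_sum_of_fintype, map_mul, map_sum, map_inv₀, Complex.conj_natCast,
        Finset.mul_sum, Finset.mul_sum, Finset.mul_sum, Finset.sum_mul]
      apply Finset.sum_congr rfl
      intro u _
      ring
    simp only [hsum]
    rw [← Finset.mul_sum, Finset.sum_comm]
    simp only [hkey]
    rw [Finset.sum_eq_single (1 : ↥P)]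
    · rw [if_pos (by rfl)]
      by_cases hc : IsConj s t
      · rw [if_pos hc, if_pos hc, hCcard]
        push_cast
        field_simp
      · rw [if_neg hc, if_neg hc, mul_zero]
    · intro u _ hu
      apply if_neg
      intro h
      apply hu
      exact Subtype.ext h
    · intro h
      exact absurd (Finset.mem_univ _) h

end bridge

end Cfsg.Agent.Lib.Helper1.R1
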