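import Mathlib
import Cfsg.Prelude.Def_Solvable
import Cfsg.Prelude.Def_Characters
import Cfsg.Agent.Lib.Helper19.Frobenius
import Cfsg.Agent.Lib.helper7.Induction
import Cfsg.Agent.Lib.helper2.CharInd
import Cfsg.Agent.Lib.Helper11.VirtChar
import Cfsg.Agent.Lib.Helper25.CharLinear
import Cfsg.Agent.Lib.Helper25.PermReal

set_option autoImplicit false

namespace Cfsg.Agent.Lib.Helper1

open Cfsg.Agent.Lib.helper7 Cfsg.Agent.Lib.helper2 Cfsg.Agent.Lib.Helper25 Cfsg.Agent.Lib.Helper11
open Cfsg.Agent.Lib.Helper19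
open scoped ComplexConjugate Pointwise

variable {G : Type*} [Group G]

theorem frob_conj_mem_iff (H : Subgroup G) (hH : Cfsg.IsFrobeniusComplement H) {h : G}
    (hh : h ∈ H) (h1 : h ≠ 1) (x : G) : x⁻¹ * h * x ∈ H ↔ x ∈ H := by
  constructor
  · intro hx
    by_contra hxH
    have h2 := hH.2.2 x hxH
    have h3 : h ∈ H ⊓ MulAut.conj x • H := ⟨hh, (mem_conj_smul_iff' x H h).mpr hx⟩
    rw [h2] at h3
    exact h1 (Subgroup.mem_bot.mp h3)
  · intro hx
    exact H.mul_mem (H.mul_mem (H.inv_mem hx) hh) hx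

theorem frob_indFun_mem [Fintype G] (H : Subgroup G) (hH : Cfsg.IsFrobeniusComplement H)
    (ψ : H → ℂ) (hψ : Cfsg.IsClassFunction H ψ) (h : H) (h1 : h ≠ 1) :
    Cfsg.indFun H ψ (h : G) = ψ h := by
  classical
  have : Fintype H := Fintype.ofFinite H
  unfold Cfsg.indFun
  have hNne : (Nat.card H : ℂ) ≠ 0 := by
    exact_mod_cast (Nat.card_pos (α := H)).ne'
  have h1' : (h : G) ≠ 1 := fun e => h1 (Subtype.ext e)
  have hext : ∀ x : G, Cfsg.extendByZero H ψ (x⁻¹ * (h : G) * x) = if x ∈ H then ψ h else 0 := by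
    intro x
    by_cases hx : x ∈ H
    · rw [if_pos hx]
      have hmem : x⁻¹ * (h : G) * x ∈ H := (frob_conj_mem_iff H hH h.2 h1' x).mpr hx
      rw [h7_extendByZero_mem _ _ _ hmem]
      have := hψ h (⟨x, hx⟩⁻¹)
      rw [← this]
      congr 1
      apply Subtype.ext
      simp
    · rw [if_neg hx]
      apply h7_extendByZero_not_mem
      intro hmem
      exact hx ((frob_conj_mem_iff H hH h.2 h1' x).mp hmem)
  simp_rw [hext]
  rw [h7_sum_subgroup H (fun _ => ψ h), Finset.sum_const, Finset.card_univ, nsmul_eq_mul,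
    ← Nat.card_eq_fintype_card, ← mul_assoc, inv_mul_cancel₀ hNne, one_mul]

theorem frob_indFun_kernel [Fintype G] (H : Subgroup G) (ψ : H → ℂ) (g : G) (hg1 : g ≠ 1)
    (hg : g ∈ Cfsg.frobeniusKernel H) : Cfsg.indFun H ψ g = 0 := by
  unfold Cfsg.indFun
  have hext : ∀ x : G, Cfsg.extendByZero H ψ (x⁻¹ * g * x) = 0 := by
    intro x
    apply h7_extendByZero_not_mem
    intro hmem
    rcases hg with h | h
    · exact hg1 h
    · exact h x ((mem_conj_smul_iff' x H g).mpr hmem)
  simp_rw [hext]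
  simp

noncomputable def frobStar [Fintype G] (H : Subgroup G) (θ : H → ℂ) : G → ℂ :=
  Cfsg.indFun H (fun h => θ h - θ 1) + fun _ => θ 1

theorem frobStar_coe [Fintype G] (H : Subgroup G) (hH : Cfsg.IsFrobeniusComplement H)
    (θ : H → ℂ) (hθ : Cfsg.IsClassFunction H θ) (h : H) : frobStar H θ (h : G) = θ h := by
  unfold frobStar
  simp only [Pi.add_apply]
  by_cases h1 : h = 1
  · subst h1
    rw [Subgroup.coe_one, h7_indFun_one]
    simp
  · rw [frob_indFun_mem H hH _ _ h h1]
    · ring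
    · intro a b
      simp only
      rw [hθ a b]

theorem frobStar_kernel [Fintype G] (H : Subgroup G) (θ : H → ℂ) (g : G)
    (hg : g ∈ Cfsg.frobeniusKernel H) : frobStar H θ g = θ 1 := by
  unfold frobStar
  simp only [Pi.add_apply]
  by_cases h1 : g = 1
  · subst h1
    rw [h7_indFun_one]
    simp
  · rw [frob_indFun_kernel H _ g h1 hg, zero_add]

theorem frobStar_classFunction [Fintype G] (H : Subgroup G) (θ : H → ℂ) :
    Cfsg.IsClassFunction G (frobStar H θ) := by
  intro g h
  unfold frobStar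
  simp only [Pi.add_apply]
  rw [h7_indFun_conj]

theorem extendByZero_sub (H : Subgroup G) (a b : H → ℂ) (y : G) :
    Cfsg.extendByZero H (a - b) y = Cfsg.extendByZero H a y - Cfsg.extendByZero H b y := by
  by_cases hy : y ∈ H
  · rw [h7_extendByZero_mem _ _ _ hy, h7_extendByZero_mem _ _ _ hy, h7_extendByZero_mem _ _ _ hy]
    rfl
  · rw [h7_extendByZero_not_mem _ _ _ hy, h7_extendByZero_not_mem _ _ _ hy,
      h7_extendByZero_not_mem _ _ _ hy, sub_zero]

theorem extendByZero_smul (H : Subgroup G) (c : ℂ) (a : H → ℂ) (y : G) :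
    Cfsg.extendByZero H (c • a) y = c * Cfsg.extendByZero H a y := by
  by_cases hy : y ∈ H
  · rw [h7_extendByZero_mem _ _ _ hy, h7_extendByZero_mem _ _ _ hy]
    rfl
  · rw [h7_extendByZero_not_mem _ _ _ hy, h7_extendByZero_not_mem _ _ _ hy, mul_zero]

theorem indFun_sub [Fintype G] (H : Subgroup G) (a b : H → ℂ) :
    Cfsg.indFun H (a - b) = Cfsg.indFun H a - Cfsg.indFun H b := by
  funext g
  unfold Cfsg.indFun
  simp only [Pi.sub_apply, extendByZero_sub, Finset.sum_sub_distrib, mul_sub]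

theorem indFun_smul [Fintype G] (H : Subgroup G) (c : ℂ) (a : H → ℂ) :
    Cfsg.indFun H (c • a) = c • Cfsg.indFun H a := by
  funext g
  unfold Cfsg.indFun
  simp only [Pi.smul_apply, extendByZero_smul, smul_eq_mul, ← Finset.mul_sum]
  ring

theorem isCharacter_const_one (G : Type*) [Group G] : Cfsg.IsCharacter G (fun _ => (1 : ℂ)) :=
  isCharacter_of_irr (trivIrr G)

theorem frobStar_genChar [Fintype G] (H : Subgroup G) (θ : H → ℂ) (hθ : Cfsg.IsCharacter H θ) :
    Cfsg.IsGeneralizedCharacter G (frobStar H θ) := by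
  obtain ⟨n, hn⟩ := isCharacter_one_eq_nat hθ
  refine ⟨Cfsg.indFun H θ + (n : ℂ) • (fun _ => (1 : ℂ)),
    (n : ℂ) • Cfsg.indFun H (fun _ => (1 : ℂ)), ?_, ?_, ?_⟩
  · exact isCharacter_add (isCharacter_indFun H θ hθ)
      (isCharacter_natCast_smul (isCharacter_const_one G) n)
  · exact isCharacter_natCast_smul (isCharacter_indFun H _ (isCharacter_const_one H)) n
  · unfold frobStar
    have e : (fun h : H => θ h - θ 1) = θ - (n : ℂ) • (fun _ => (1 : ℂ)) := by
      funext h
      simp [hn]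
    rw [e, indFun_sub, indFun_smul, hn]
    funext g
    simp only [Pi.add_apply, Pi.sub_apply, Pi.smul_apply, smul_eq_mul, mul_one]
    ring

theorem classInner_const_irr [Fintype G] (c : ℂ) (θ : Cfsg.IrrCharacter G)
    (hθ : θ ≠ trivIrr G) : Cfsg.classInner (fun _ : G => c) (θ : G → ℂ) = 0 := by
  have e : (fun _ : G => c) = c • ((trivIrr G : Cfsg.IrrCharacter G) : G → ℂ) := by
    funext g
    simp
  rw [e, classInner_smul_left, irr_classInner, if_neg (Ne.symm hθ), mul_zero]

theorem classInner_irr_const [Fintype G] (c : ℂ) (θ : Cfsg.IrrCharacter G)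
    (hθ : θ ≠ trivIrr G) : Cfsg.classInner (θ : G → ℂ) (fun _ : G => c) = 0 := by
  rw [Cfsg.Agent.Lib.helper2.classInner_conj_symm, classInner_const_irr c θ hθ, map_zero]

theorem classInner_const_const [Fintype G] (c d : ℂ) :
    Cfsg.classInner (fun _ : G => c) (fun _ : G => d) = c * conj d := by
  unfold Cfsg.classInner
  have hG : (Nat.card G : ℂ) ≠ 0 := by exact_mod_cast Nat.card_pos.ne'
  simp only [Finset.sum_const, Finset.card_univ, nsmul_eq_mul, ← Nat.card_eq_fintype_card]
  field_simp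

theorem frobStar_norm [Fintype G] (H : Subgroup G) (hH : Cfsg.IsFrobeniusComplement H)
    (θ : Cfsg.IrrCharacter H) (hθ : θ ≠ trivIrr H) :
    Cfsg.classInner (frobStar H (θ : H → ℂ)) (frobStar H (θ : H → ℂ)) = 1 := by
  classical
  have : Fintype H := Fintype.ofFinite H
  have hcl : Cfsg.IsClassFunction H (θ : H → ℂ) :=
    isCharacter_isClassFunction (isCharacter_of_irr θ)
  obtain ⟨n, hn0, hn⟩ := irr_one_eq_finrank θ
  have hres : (fun h : H => frobStar H (θ : H → ℂ) (h : G)) = (θ : H → ℂ) := by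
    funext h
    exact frobStar_coe H hH _ hcl h
  have hψ : (fun h : H => (θ : H → ℂ) h - (θ : H → ℂ) 1) =
      (θ : H → ℂ) - (fun _ : H => (θ : H → ℂ) 1) := rfl
  have hA : Cfsg.classInner (Cfsg.indFun H (fun h => (θ : H → ℂ) h - (θ : H → ℂ) 1))
      (frobStar H (θ : H → ℂ)) = 1 := by
    rw [h7_frobenius_reciprocity H _ _ (frobStar_classFunction H _), hres, hψ,
      Cfsg.Agent.Lib.Helper25.classInner_sub_left, irr_classInner, if_pos rfl,
      classInner_const_irr _ θ hθ, sub_zero]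
  have hB : Cfsg.classInner (frobStar H (θ : H → ℂ)) (fun _ : G => (1 : ℂ)) = 0 := by
    unfold frobStar
    rw [classInner_add_left, h7_frobenius_reciprocity H _ _ (fun _ _ => rfl), hψ,
      Cfsg.Agent.Lib.Helper25.classInner_sub_left, classInner_irr_const _ θ hθ,
      classInner_const_const, classInner_const_const]
    simp
  have hC : Cfsg.classInner (fun _ : G => (θ : H → ℂ) 1) (frobStar H (θ : H → ℂ)) = 0 := by
    have e : (fun _ : G => (θ : H → ℂ) 1) = ((θ : H → ℂ) 1) • (fun _ : G => (1 : ℂ)) := by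
      funext g
      simp
    rw [e, classInner_smul_left, Cfsg.Agent.Lib.helper2.classInner_conj_symm, hB, map_zero, mul_zero]
  have hsplit : Cfsg.classInner (frobStar H (θ : H → ℂ)) (frobStar H (θ : H → ℂ)) =
      Cfsg.classInner (Cfsg.indFun H (fun h => (θ : H → ℂ) h - (θ : H → ℂ) 1))
        (frobStar H (θ : H → ℂ)) +
      Cfsg.classInner (fun _ : G => (θ : H → ℂ) 1) (frobStar H (θ : H → ℂ)) := by
    conv_lhs => arg 1; unfold frobStar
    rw [classInner_add_left]
  rw [hsplit, hA, hC, add_zero]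

theorem frobStar_irr [Fintype G] (H : Subgroup G) (hH : Cfsg.IsFrobeniusComplement H)
    (θ : Cfsg.IrrCharacter H) (hθ : θ ≠ trivIrr H) :
    ∃ η : Cfsg.IrrCharacter G, frobStar H (θ : H → ℂ) = (η : G → ℂ) := by
  obtain ⟨ε, η, hε, he⟩ := genChar_norm_one _ (frobStar_genChar H _ (isCharacter_of_irr θ))
    (frobStar_norm H hH θ hθ)
  refine ⟨η, ?_⟩
  rcases hε with h | h
  · rw [he, h]
    simp
  · exfalso
    obtain ⟨n, hn0, hn⟩ := irr_one_eq_finrank θ
    obtain ⟨m, hm0, hm⟩ := irr_one_eq_finrank η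
    have h1 : frobStar H (θ : H → ℂ) 1 = (θ : H → ℂ) 1 :=
      frobStar_kernel H _ 1 (one_mem_frobeniusKernel H)
    rw [he, h, hn] at h1
    simp only [Pi.smul_apply, smul_eq_mul, hm] at h1
    have h2 : ((n + m : ℕ) : ℂ) = 0 := by
      push_cast
      rw [← h1]
      push_cast
      ring
    have h3 : n + m = 0 := by exact_mod_cast h2
    omega

theorem mem_frobeniusKernel_iff_star [Fintype G] (H : Subgroup G)
    (hH : Cfsg.IsFrobeniusComplement H) (g : G) :
    g ∈ Cfsg.frobeniusKernel H ↔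
      ∀ θ : Cfsg.IrrCharacter H, θ ≠ trivIrr H →
        frobStar H (θ : H → ℂ) g = (θ : H → ℂ) 1 := by
  constructor
  · intro hg θ _
    exact frobStar_kernel H _ g hg
  · intro hall
    by_contra hg
    have hg1 : g ≠ 1 := fun h => hg (Or.inl h)
    have hex : ∃ x : G, g ∈ MulAut.conj x • H := by
      by_contra hne
      push Not at hne
      exact hg (Or.inr hne)
    obtain ⟨x, hx⟩ := hex
    rw [mem_conj_smul_iff'] at hx
    have hirr : ∀ χ : Cfsg.IrrCharacter H,
        (χ : H → ℂ) (⟨x⁻¹ * g * x, hx⟩ : H) = (χ : H → ℂ) 1 := by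
      intro χ
      by_cases hχ : χ = trivIrr H
      · rw [hχ]
        simp
      · have h1 := frobStar_coe H hH (χ : H → ℂ)
          (isCharacter_isClassFunction (isCharacter_of_irr χ)) ⟨x⁻¹ * g * x, hx⟩
        rw [← h1]
        have h2 := frobStar_classFunction H (χ : H → ℂ) g x⁻¹
        rw [inv_inv] at h2
        change frobStar H (χ : H → ℂ) (x⁻¹ * g * x) = _
        rw [h2]
        exact hall χ hχ
    have hconj := isConj_of_irr_eq (⟨x⁻¹ * g * x, hx⟩ : H) 1 hirr
    have h1 : (⟨x⁻¹ * g * x, hx⟩ : H) = 1 := by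
      rw [isConj_one_right] at hconj
      exact hconj
    have h2 : x⁻¹ * g * x = 1 := congrArg Subtype.val h1
    apply hg1
    have : g = x * (x⁻¹ * g * x) * x⁻¹ := by group
    rw [this, h2]
    group

theorem frobenius_kernel_mul [Finite G] (H : Subgroup G) (hH : Cfsg.IsFrobeniusComplement H)
    {a b : G} (ha : a ∈ Cfsg.frobeniusKernel H) (hb : b ∈ Cfsg.frobeniusKernel H) :
    a * b ∈ Cfsg.frobeniusKernel H := by
  have : Fintype G := Fintype.ofFinite G
  rw [mem_frobeniusKernel_iff_star H hH] at ha hb ⊢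
  intro θ hθ
  obtain ⟨η, hη⟩ := frobStar_irr H hH θ hθ
  have h1 : frobStar H (θ : H → ℂ) 1 = (θ : H → ℂ) 1 :=
    frobStar_kernel H _ 1 (one_mem_frobeniusKernel H)
  have hb' := hb θ hθ
  have ha' := ha θ hθ
  rw [hη] at h1 hb' ha' ⊢
  rw [irr_mul_of_ker η a b (hb'.trans h1.symm)]
  exact ha'

theorem frobenius_kernel_inv [Finite G] (H : Subgroup G)
    {a : G} (ha : a ∈ Cfsg.frobeniusKernel H) : a⁻¹ ∈ Cfsg.frobeniusKernel H := by
  rcases ha with h | h
  · left
    rw [h, inv_one]
  · right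
    intro g hg
    apply h g
    have := (MulAut.conj g • H).inv_mem hg
    rwa [inv_inv] at this

theorem frobenius_kernel_conj (H : Subgroup G)
    {a : G} (ha : a ∈ Cfsg.frobeniusKernel H) (x : G) :
    x * a * x⁻¹ ∈ Cfsg.frobeniusKernel H := by
  rcases ha with h | h
  · left
    rw [h]
    group
  · right
    intro g hg
    apply h (x⁻¹ * g)
    rw [mem_conj_smul_iff'] at hg ⊢
    have e : (x⁻¹ * g)⁻¹ * a * (x⁻¹ * g) = g⁻¹ * (x * a * x⁻¹) * g := by group
    rw [e]
    exact hg

theorem frobenius_theorem [Finite G] (H : Subgroup G) (hH : Cfsg.IsFrobeniusComplement H) :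
    ∃ N : Subgroup G, (N : Set G) = Cfsg.frobeniusKernel H ∧ N.Normal ∧
      Subgroup.IsComplement' N H := by
  let N : Subgroup G :=
    { carrier := Cfsg.frobeniusKernel H
      one_mem' := one_mem_frobeniusKernel H
      mul_mem' := fun ha hb => frobenius_kernel_mul H hH ha hb
      inv_mem' := fun ha => frobenius_kernel_inv H ha }
  have hN : (N : Set G) = Cfsg.frobeniusKernel H := rfl
  refine ⟨N, hN, ⟨fun a ha x => frobenius_kernel_conj H ha x⟩, ?_⟩
  apply Subgroup.isComplement'_of_card_mul_and_disjoint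
  · have h1 : Nat.card N = H.index := card_frobeniusKernel H hH
    rw [h1, mul_comm]
    exact H.card_mul_index
  · rw [Subgroup.disjoint_def]
    intro x hxN hxH
    exact mem_frobeniusKernel_of_mem H hxH hxN

end Cfsg.Agent.Lib.Helper1
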