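import Mathlib
import Cfsg.Agent.Lib.Helper1.FrobeniusThm

set_option autoImplicit false

namespace Cfsg.Agent.Lib.Helper1

open Cfsg.Agent.Lib.Helper19
open scoped Pointwise

variable {G : Type*} [Group G]

theorem frob_inv_mul_mem (H : Subgroup G) (hH : Cfsg.IsFrobeniusComplement H) {x a b : G}
    (hx : x ≠ 1) (ha : x ∈ MulAut.conj a • H) (hb : x ∈ MulAut.conj b • H) : a⁻¹ * b ∈ H := by
  rw [mem_conj_smul_iff'] at ha hb
  have hw1 : a⁻¹ * x * a ≠ 1 := by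
    intro h
    apply hx
    have : x = a * (a⁻¹ * x * a) * a⁻¹ := by group
    rw [this, h]
    group
  have e : (a⁻¹ * b)⁻¹ * (a⁻¹ * x * a) * (a⁻¹ * b) = b⁻¹ * x * b := by group
  exact (frob_conj_mem_iff H hH ha hw1 (a⁻¹ * b)).mp (e ▸ hb)

theorem not_mem_kernel_iff (H : Subgroup G) (x : G) :
    x ∉ Cfsg.frobeniusKernel H ↔ x ≠ 1 ∧ ∃ g : G, x ∈ MulAut.conj g • H := by
  unfold Cfsg.frobeniusKernel
  simp only [Set.mem_setOf_eq, not_or, not_forall, not_not]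

theorem sub_frobenius (H : Subgroup G) (hH : Cfsg.IsFrobeniusComplement H) (H₀ : Subgroup G)
    (hno : ∀ g : G, ¬ H₀ ≤ MulAut.conj g • H) (g : G)
    (hne : (MulAut.conj g • H).subgroupOf H₀ ≠ ⊥) :
    Cfsg.IsFrobeniusComplement ((MulAut.conj g • H).subgroupOf H₀) := by
  refine ⟨hne, ?_, ?_⟩
  · intro h
    rw [Subgroup.subgroupOf_eq_top] at h
    exact hno g h
  · intro y hy
    rw [eq_bot_iff]
    rintro z ⟨hz1, hz2⟩
    rw [Subgroup.mem_bot]
    by_contra hz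
    have hz1' : (z : G) ∈ MulAut.conj g • H := hz1
    have hz2' : z ∈ MulAut.conj y • (MulAut.conj g • H).subgroupOf H₀ := hz2
    rw [mem_conj_smul_iff'] at hz2'
    have hz3 : (y : G)⁻¹ * (z : G) * (y : G) ∈ MulAut.conj g • H := hz2'
    have hz4 : (z : G) ∈ MulAut.conj ((y : G) * g) • H := by
      rw [mem_conj_smul_iff'] at hz3 ⊢
      have e : ((y : G) * g)⁻¹ * (z : G) * ((y : G) * g) =
          g⁻¹ * ((y : G)⁻¹ * (z : G) * (y : G)) * g := by group
      rw [e]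
      exact hz3
    have hzG : (z : G) ≠ 1 := fun h => hz (Subtype.ext h)
    have h5 := frob_inv_mul_mem H hH hzG hz1' hz4
    apply hy
    change (y : G) ∈ MulAut.conj g • H
    rw [mem_conj_smul_iff']
    have e : g⁻¹ * (y : G) * g = g⁻¹ * ((y : G) * g) := by group
    rw [e]
    exact h5

theorem exists_ne_one_of_one_lt_card {α : Type*} [One α] (S : Set α) [Finite S]
    (h : 1 < Nat.card S) : ∃ y ∈ S, y ≠ 1 := by
  by_contra hcon
  push Not at hcon
  have : Subsingleton S := ⟨fun a b => Subtype.ext ((hcon a a.2).trans (hcon b b.2).symm)⟩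
  have := Finite.card_le_one_iff_subsingleton.mpr this
  omega

theorem le_conj_of_inf_kernel [Finite G] (H : Subgroup G) (hH : Cfsg.IsFrobeniusComplement H)
    (H₀ : Subgroup G) (hdis : ∀ x ∈ H₀, x ∈ Cfsg.frobeniusKernel H → x = 1) :
    ∃ g : G, H₀ ≤ MulAut.conj g • H := by
  classical
  by_contra hno
  push Not at hno
  have hbot : H₀ ≠ ⊥ := by
    intro h
    apply hno 1
    rw [h]
    exact bot_le
  obtain ⟨⟨h₀, hh₀⟩, hh₀1'⟩ := Subgroup.ne_bot_iff_exists_ne_one.mp hbot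
  have hh₀1 : h₀ ≠ 1 := fun h => hh₀1' (Subtype.ext h)
  have hconj : ∀ x ∈ H₀, x ≠ 1 → ∃ g : G, x ∈ MulAut.conj g • H := by
    intro x hx hx1
    have h1 : x ∉ Cfsg.frobeniusKernel H := fun h => hx1 (hdis x hx h)
    exact ((not_mem_kernel_iff H x).mp h1).2
  obtain ⟨g₀, hg₀⟩ := hconj h₀ hh₀ hh₀1
  have hD₀ne : (MulAut.conj g₀ • H).subgroupOf H₀ ≠ ⊥ := by
    intro h
    have h1 : (⟨h₀, hh₀⟩ : H₀) ∈ (MulAut.conj g₀ • H).subgroupOf H₀ := hg₀
    rw [h, Subgroup.mem_bot] at h1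
    exact hh₀1' h1
  have hF₀ := sub_frobenius H hH H₀ hno g₀ hD₀ne
  have hcard₀ := card_frobeniusKernel _ hF₀
  have hidx₀ : 1 < ((MulAut.conj g₀ • H).subgroupOf H₀).index := by
    have h1 : ((MulAut.conj g₀ • H).subgroupOf H₀).index ≠ 1 := by
      rw [Ne, Subgroup.index_eq_one]
      exact hF₀.2.1
    have h2 : ((MulAut.conj g₀ • H).subgroupOf H₀).index ≠ 0 := Subgroup.index_ne_zero_of_finite
    omega
  obtain ⟨y, hyK, hy1⟩ := exists_ne_one_of_one_lt_card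
    (Cfsg.frobeniusKernel ((MulAut.conj g₀ • H).subgroupOf H₀)) (hcard₀ ▸ hidx₀)
  have hyG1 : (y : G) ≠ 1 := fun h => hy1 (Subtype.ext h)
  obtain ⟨g₁, hg₁⟩ := hconj (y : G) y.2 hyG1
  have hD₁ne : (MulAut.conj g₁ • H).subgroupOf H₀ ≠ ⊥ := by
    intro h
    have h1 : y ∈ (MulAut.conj g₁ • H).subgroupOf H₀ := hg₁
    rw [h, Subgroup.mem_bot] at h1
    exact hy1 h1
  have hF₁ := sub_frobenius H hH H₀ hno g₁ hD₁ne
  have hcard₁ := card_frobeniusKernel _ hF₁
  have hincl : (Cfsg.frobeniusKernel ((MulAut.conj g₀ • H).subgroupOf H₀))ᶜ ⊆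
      Cfsg.frobeniusKernel ((MulAut.conj g₁ • H).subgroupOf H₀) \ {1} := by
    intro z hz
    rw [Set.mem_compl_iff, not_mem_kernel_iff] at hz
    obtain ⟨hz1, a, ha⟩ := hz
    refine ⟨?_, hz1⟩
    by_contra hzK
    rw [not_mem_kernel_iff] at hzK
    obtain ⟨_, b, hb⟩ := hzK
    rw [mem_conj_smul_iff'] at ha hb
    have ha' : (a : G)⁻¹ * (z : G) * (a : G) ∈ MulAut.conj g₀ • H := ha
    have hb' : (b : G)⁻¹ * (z : G) * (b : G) ∈ MulAut.conj g₁ • H := hb
    have hza : (z : G) ∈ MulAut.conj ((a : G) * g₀) • H := by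
      rw [mem_conj_smul_iff'] at ha' ⊢
      have e : ((a : G) * g₀)⁻¹ * (z : G) * ((a : G) * g₀) =
          g₀⁻¹ * ((a : G)⁻¹ * (z : G) * (a : G)) * g₀ := by group
      rw [e]; exact ha'
    have hzb : (z : G) ∈ MulAut.conj ((b : G) * g₁) • H := by
      rw [mem_conj_smul_iff'] at hb' ⊢
      have e : ((b : G) * g₁)⁻¹ * (z : G) * ((b : G) * g₁) =
          g₁⁻¹ * ((b : G)⁻¹ * (z : G) * (b : G)) * g₁ := by group
      rw [e]; exact hb'
    have hzG : (z : G) ≠ 1 := fun h => hz1 (Subtype.ext h)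
    have ht := frob_inv_mul_mem H hH hzG hza hzb
    have hy' : g₁⁻¹ * (y : G) * g₁ ∈ H := (mem_conj_smul_iff' g₁ H _).mp hg₁
    have hyK' : y ∉ Cfsg.frobeniusKernel ((MulAut.conj g₀ • H).subgroupOf H₀) := by
      rw [not_mem_kernel_iff]
      refine ⟨hy1, b⁻¹ * a, ?_⟩
      rw [mem_conj_smul_iff']
      change (((b⁻¹ * a)⁻¹ * y * (b⁻¹ * a) : H₀) : G) ∈ MulAut.conj g₀ • H
      rw [mem_conj_smul_iff']
      have e : g₀⁻¹ * (((b⁻¹ * a)⁻¹ * y * (b⁻¹ * a) : H₀) : G) * g₀ =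
          (((a : G) * g₀)⁻¹ * ((b : G) * g₁)) * (g₁⁻¹ * (y : G) * g₁) *
            (((a : G) * g₀)⁻¹ * ((b : G) * g₁))⁻¹ := by
        simp only [Subgroup.coe_mul, Subgroup.coe_inv]
        group
      rw [e]
      exact H.mul_mem (H.mul_mem ht hy') (H.inv_mem ht)
    exact hyK' hyK
  have hfin : (Cfsg.frobeniusKernel ((MulAut.conj g₁ • H).subgroupOf H₀) \ {1}).Finite :=
    Set.toFinite _
  have hle := Set.ncard_le_ncard hincl hfin
  have hone₁ : (1 : H₀) ∈ Cfsg.frobeniusKernel ((MulAut.conj g₁ • H).subgroupOf H₀) :=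
    one_mem_frobeniusKernel _
  rw [Set.ncard_diff_singleton_of_mem hone₁, Set.ncard_compl, ← Nat.card_coe_set_eq,
    ← Nat.card_coe_set_eq, hcard₀, hcard₁] at hle
  have hm₀ := ((MulAut.conj g₀ • H).subgroupOf H₀).card_mul_index
  have hm₁ := ((MulAut.conj g₁ • H).subgroupOf H₀).card_mul_index
  have hc₀ : 1 < Nat.card ((MulAut.conj g₀ • H).subgroupOf H₀) :=
    (Subgroup.one_lt_card_iff_ne_bot _).mpr hD₀ne
  have hc₁ : 1 < Nat.card ((MulAut.conj g₁ • H).subgroupOf H₀) :=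
    (Subgroup.one_lt_card_iff_ne_bot _).mpr hD₁ne
  have hi₁ : 0 < ((MulAut.conj g₁ • H).subgroupOf H₀).index :=
    Nat.pos_of_ne_zero Subgroup.index_ne_zero_of_finite
  have h2i₀ : 2 * ((MulAut.conj g₀ • H).subgroupOf H₀).index ≤ Nat.card H₀ := by nlinarith
  have h2i₁ : 2 * ((MulAut.conj g₁ • H).subgroupOf H₀).index ≤ Nat.card H₀ := by nlinarith
  omega

theorem normal_le_or_kernel_le [Finite G] (H : Subgroup G) (hH : Cfsg.IsFrobeniusComplement H)
    (N : Subgroup G) (hN : (N : Set G) = Cfsg.frobeniusKernel H) [hNn : N.Normal]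
    (M : Subgroup G) [hMn : M.Normal] : M ≤ N ∨ N ≤ M := by
  by_cases hMN : M ≤ N
  · exact Or.inl hMN
  right
  rw [SetLike.not_le_iff_exists] at hMN
  obtain ⟨m, hmM, hmN⟩ := hMN
  have hmK : m ∉ Cfsg.frobeniusKernel H := by
    rw [← hN]; exact hmN
  obtain ⟨hm1, g, hg⟩ := (not_mem_kernel_iff H m).mp hmK
  rw [mem_conj_smul_iff'] at hg
  have hhM : g⁻¹ * m * g ∈ M := by
    have := hMn.conj_mem m hmM g⁻¹
    simpa using this
  have hh1 : g⁻¹ * m * g ≠ 1 := by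
    intro h
    apply hm1
    have : m = g * (g⁻¹ * m * g) * g⁻¹ := by group
    rw [this, h]
    group
  obtain ⟨h, hh_def⟩ : ∃ h, h = g⁻¹ * m * g := ⟨_, rfl⟩
  rw [← hh_def] at hg hhM hh1
  let f : N → N := fun n => ⟨(n : G) * h * (n : G)⁻¹ * h⁻¹, by
    have h1 := hNn.conj_mem _ (N.inv_mem n.2) h
    have e : (n : G) * h * (n : G)⁻¹ * h⁻¹ = (n : G) * (h * (n : G)⁻¹ * h⁻¹) := by group
    rw [e]
    exact N.mul_mem n.2 h1⟩
  have hfinj : Function.Injective f := by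
    intro a b hab
    have h3 : (a : G) * h * (a : G)⁻¹ * h⁻¹ = (b : G) * h * (b : G)⁻¹ * h⁻¹ :=
      congrArg Subtype.val hab
    have h4 : (a : G) * h * (a : G)⁻¹ = (b : G) * h * (b : G)⁻¹ := mul_right_cancel h3
    have h5 : ((b : G)⁻¹ * a)⁻¹ * h * ((b : G)⁻¹ * a) = h := by
      calc ((b : G)⁻¹ * a)⁻¹ * h * ((b : G)⁻¹ * a)
          = (a : G)⁻¹ * ((b : G) * h * (b : G)⁻¹) * a := by group
        _ = (a : G)⁻¹ * ((a : G) * h * (a : G)⁻¹) * a := by rw [h4]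
        _ = h := by group
    have hkN : (b : G)⁻¹ * a ∈ N := N.mul_mem (N.inv_mem b.2) a.2
    have hkK : (b : G)⁻¹ * a ∈ Cfsg.frobeniusKernel H := by
      rw [← hN]; exact hkN
    have hkH : (b : G)⁻¹ * a ∈ H := by
      apply (frob_conj_mem_iff H hH hg hh1 _).mp
      rw [h5]
      exact hg
    have hk1 := mem_frobeniusKernel_of_mem H hkH hkK
    apply Subtype.ext
    have : (a : G) = (b : G) * ((b : G)⁻¹ * a) := by group
    rw [this, hk1, mul_one]
  have hfsurj : Function.Surjective f := Finite.surjective_of_injective hfinj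
  intro n hn
  obtain ⟨n', hn'⟩ := hfsurj ⟨n, hn⟩
  have h6 : n = (n' : G) * h * (n' : G)⁻¹ * h⁻¹ := (congrArg Subtype.val hn').symm
  rw [h6]
  exact M.mul_mem (hMn.conj_mem h hhM n') (M.inv_mem hhM)

theorem frob_le_conj_of_card_le [Finite G] (H H₀ : Subgroup G)
    (hH : Cfsg.IsFrobeniusComplement H) (hH₀ : Cfsg.IsFrobeniusComplement H₀)
    (hle : Nat.card H₀ ≤ Nat.card H) : ∃ g : G, MulAut.conj g • H₀ ≤ H := by
  obtain ⟨N, hN, hNn, _⟩ := frobenius_theorem H hH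
  obtain ⟨N₀, hN₀, hN₀n, _⟩ := frobenius_theorem H₀ hH₀
  have hcN : Nat.card N = H.index := by
    have := card_frobeniusKernel H hH
    rw [← hN] at this
    exact this
  have hcN₀ : Nat.card N₀ = H₀.index := by
    have := card_frobeniusKernel H₀ hH₀
    rw [← hN₀] at this
    exact this
  have hidx : H.index ≤ H₀.index := by
    have h1 := H.card_mul_index
    have h2 := H₀.card_mul_index
    have h3 : 0 < Nat.card H₀ := Nat.card_pos
    by_contra hlt
    push Not at hlt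
    have : Nat.card H₀ * H₀.index < Nat.card H * H.index := by
      calc Nat.card H₀ * H₀.index < Nat.card H₀ * H.index := Nat.mul_lt_mul_of_pos_left hlt h3
        _ ≤ Nat.card H * H.index := Nat.mul_le_mul_right _ hle
    omega
  have hNN₀ : N ≤ N₀ := by
    rcases normal_le_or_kernel_le H₀ hH₀ N₀ hN₀ N with h | h
    · exact h
    · have : N₀ = N := Subgroup.eq_of_le_of_card_ge h (by rw [hcN, hcN₀]; exact hidx)
      rw [this]
  have hdis : ∀ x ∈ H₀, x ∈ Cfsg.frobeniusKernel H → x = 1 := by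
    intro x hx hxK
    have h1 : x ∈ N := by
      have : x ∈ (N : Set G) := by rw [hN]; exact hxK
      exact this
    have h2 : x ∈ Cfsg.frobeniusKernel H₀ := by
      rw [← hN₀]
      exact hNN₀ h1
    exact mem_frobeniusKernel_of_mem H₀ hx h2
  obtain ⟨g, hg⟩ := le_conj_of_inf_kernel H hH H₀ hdis
  refine ⟨g⁻¹, ?_⟩
  intro x hx
  rw [mem_conj_smul_iff', inv_inv] at hx
  have h1 := hg hx
  rw [mem_conj_smul_iff'] at h1
  have e : g⁻¹ * (g * x * g⁻¹) * g = x := by group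
  rwa [e] at h1

end Cfsg.Agent.Lib.Helper1
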