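import Mathlib
import Cfsg.Agent.Lib.Helper1.FrobConj
import Cfsg.Agent.Lib.Helper1.FpfAction
import Cfsg.Agent.Lib.Lead.Coprime
import Cfsg.Agent.S0039

set_option autoImplicit false

namespace Cfsg.Agent.Lib.Helper1

open Cfsg.Agent.Lib.Helper19 Cfsg.Agent.S0001
open scoped Pointwise

variable {G : Type*} [Group G]

theorem isFrobeniusComplement_conj [Finite G] (H : Subgroup G)
    (hH : Cfsg.IsFrobeniusComplement H) (g : G) :
    Cfsg.IsFrobeniusComplement (MulAut.conj g • H) := by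
  refine ⟨?_, ?_, ?_⟩
  · rw [← Subgroup.one_lt_card_iff_ne_bot, card_conj]
    exact (Subgroup.one_lt_card_iff_ne_bot _).mpr hH.1
  · intro h
    have h1 := card_lt_of_ne_top H hH.2.1
    rw [← card_conj H g, h, Subgroup.card_top] at h1
    exact lt_irrefl _ h1
  · intro a ha
    rw [eq_bot_iff]
    rintro x ⟨hx1, hx2⟩
    rw [Subgroup.mem_bot]
    have hx1' : x ∈ MulAut.conj g • H := hx1
    have hx2' : x ∈ MulAut.conj a • (MulAut.conj g • H) := hx2
    rw [mem_conj_smul_iff'] at hx1' hx2'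
    rw [mem_conj_smul_iff'] at hx2'
    by_contra hx
    have hw1 : g⁻¹ * x * g ≠ 1 := by
      intro h
      apply hx
      have : x = g * (g⁻¹ * x * g) * g⁻¹ := by group
      rw [this, h]
      group
    have e : (g⁻¹ * a * g)⁻¹ * (g⁻¹ * x * g) * (g⁻¹ * a * g) = g⁻¹ * (a⁻¹ * x * a) * g := by group
    have h3 := (frob_conj_mem_iff H hH hx1' hw1 (g⁻¹ * a * g)).mp (e ▸ hx2')
    apply ha
    rw [mem_conj_smul_iff']
    exact h3

theorem exists_invariant_sylow_frob [Finite G] (H : Subgroup G)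
    (hH : Cfsg.IsFrobeniusComplement H) (N : Subgroup G)
    (hN : (N : Set G) = Cfsg.frobeniusKernel H) [hNn : N.Normal] (p : ℕ) [Fact p.Prime] :
    ∃ P : Subgroup G, P ≤ N ∧ Nat.card P = p ^ (Nat.card N).factorization p ∧
      H ≤ Subgroup.normalizer (P : Set G) := by
  obtain ⟨P₀⟩ : Nonempty (Sylow p N) := inferInstance
  have hfrat := Sylow.normalizer_sup_eq_top P₀
  have hcN : Nat.card N = H.index := by
    have := card_frobeniusKernel H hH
    rw [← hN] at this
    exact this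
  have hcop : (H.index).Coprime (Nat.card H) := index_coprime_card H hH
  have hNidx : N.index = Nat.card H := by
    have h1 := N.card_mul_index
    have h2 := H.card_mul_index
    rw [hcN] at h1
    have h3 : 0 < H.index := Nat.pos_of_ne_zero Subgroup.index_ne_zero_of_finite
    have : H.index * N.index = H.index * Nat.card H := by rw [h1, mul_comm, h2]
    exact Nat.eq_of_mul_eq_mul_left h3 this
  obtain ⟨L, hL⟩ : ∃ L : Subgroup G,
      L = Subgroup.normalizer (((P₀ : Subgroup N).map N.subtype : Subgroup G) : Set G) := ⟨_, rfl⟩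
  rw [← hL] at hfrat
  have hidxNL : (N.subgroupOf L).index = Nat.card H := by
    change N.relIndex L = _
    rw [← Subgroup.relIndex_sup_right, hfrat, Subgroup.relIndex_top_right, hNidx]
  have hcop' : (Nat.card (N.subgroupOf L)).Coprime (N.subgroupOf L).index := by
    rw [hidxNL]
    apply Nat.Coprime.coprime_dvd_left (card_subgroupOf_dvd N L)
    rw [hcN]
    exact hcop
  obtain ⟨H₂', hc⟩ := Subgroup.exists_right_complement'_of_coprime hcop'
  have hcH₂' : Nat.card H₂' = Nat.card H := by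
    rw [← hidxNL]
    exact hc.symm.index_eq_card.symm
  have hcH₂ : Nat.card (H₂'.map L.subtype) = Nat.card H := by
    rw [Subgroup.card_map_of_injective L.subtype_injective, hcH₂']
  have hH₂L : H₂'.map L.subtype ≤ L := Subgroup.map_subtype_le _
  have hdis : ∀ x ∈ H₂'.map L.subtype, x ∈ Cfsg.frobeniusKernel H → x = 1 := by
    intro x hx hxK
    have hxN : x ∈ N := by
      have : x ∈ (N : Set G) := by rw [hN]; exact hxK
      exact this
    have h1 : orderOf x ∣ Nat.card H := hcH₂ ▸ Subgroup.orderOf_dvd_natCard _ hx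
    have h2 : orderOf x ∣ H.index := hcN ▸ Subgroup.orderOf_dvd_natCard _ hxN
    have h3 : orderOf x = 1 := Nat.eq_one_of_dvd_coprimes hcop h2 h1
    exact orderOf_eq_one_iff.mp h3
  obtain ⟨g, hg⟩ := le_conj_of_inf_kernel H hH _ hdis
  have heq : H₂'.map L.subtype = MulAut.conj g • H :=
    Subgroup.eq_of_le_of_card_ge hg (by rw [card_conj, hcH₂])
  refine ⟨MulAut.conj g⁻¹ • ((P₀ : Subgroup N).map N.subtype), ?_, ?_, ?_⟩
  · intro x hx
    rw [mem_conj_smul_iff', inv_inv] at hx
    have h1 : g * x * g⁻¹ ∈ N := Subgroup.map_subtype_le _ hx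
    have h2 := hNn.conj_mem _ h1 g⁻¹
    have e : g⁻¹ * (g * x * g⁻¹) * g⁻¹⁻¹ = x := by group
    rwa [e] at h2
  · rw [card_conj, Subgroup.card_map_of_injective N.subtype_injective]
    exact P₀.card_eq_multiplicity
  · intro h hh
    have h1 : g * h * g⁻¹ ∈ L := by
      apply hH₂L
      rw [heq, mem_conj_smul_iff']
      have e : g⁻¹ * (g * h * g⁻¹) * g = h := by group
      rw [e]
      exact hh
    rw [hL, Subgroup.mem_normalizer_iff] at h1
    rw [Subgroup.mem_normalizer_iff]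
    intro x
    rw [mem_conj_smul_iff', mem_conj_smul_iff', inv_inv, h1 (g * x * g⁻¹)]
    have e : g * h * g⁻¹ * (g * x * g⁻¹) * (g * h * g⁻¹)⁻¹ = g * (h * x * h⁻¹) * g⁻¹ := by group
    rw [e]

open scoped IsMulCommutative in
theorem not_frobenius_of_complement [Finite G] (H : Subgroup G)
    (hH : Cfsg.IsFrobeniusComplement H) (H₁ : Subgroup H)
    (h₁ : Cfsg.IsFrobeniusComplement H₁) : False := by
  classical
  obtain ⟨N, hN, hNn, hNc⟩ := frobenius_theorem H hH
  have hcN : Nat.card N = H.index := by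
    have := card_frobeniusKernel H hH
    rw [← hN] at this
    exact this
  have hcop : (H.index).Coprime (Nat.card H) := index_coprime_card H hH
  have hNbot : N ≠ ⊥ := by
    intro h
    rw [h, Subgroup.card_bot] at hcN
    exact hH.2.1 (Subgroup.index_eq_one.mp hcN.symm)
  have hfpf := (Cfsg.Agent.S0039.result N H hNc hNbot hH.1).mp hH
  have hcN1 : Nat.card N ≠ 1 := by
    intro h
    exact hNbot (Subgroup.card_eq_one.mp h)
  obtain ⟨p, hp, hpN⟩ := Nat.exists_prime_and_dvd hcN1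
  have hpf : Fact p.Prime := ⟨hp⟩
  obtain ⟨P, hPN, hPc, hHP⟩ := exists_invariant_sylow_frob H hH N hN p
  have hk : 0 < (Nat.card N).factorization p :=
    hp.factorization_pos_of_dvd Nat.card_pos.ne' hpN
  have hPp : IsPGroup p P := IsPGroup.of_card hPc
  have hPnt : Nontrivial P := by
    rw [← Finite.one_lt_card_iff_nontrivial, hPc]
    exact Nat.one_lt_pow hk.ne' hp.one_lt
  have hZnt : Nontrivial (Subgroup.center P) := hPp.center_nontrivial
  have hVbot : (Subgroup.center P).map P.subtype ≠ ⊥ := by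
    intro h
    rw [Subgroup.map_eq_bot_iff_of_injective _ P.subtype_injective] at h
    exact (Subgroup.nontrivial_iff_ne_bot _).mp hZnt h
  have hVP : (Subgroup.center P).map P.subtype ≤ P := Subgroup.map_subtype_le _
  have hVN : (Subgroup.center P).map P.subtype ≤ N := hVP.trans hPN
  have hVc : IsMulCommutative ((Subgroup.center P).map P.subtype : Subgroup G) := by
    refine ⟨⟨?_⟩⟩
    rintro ⟨_, a, ha, rfl⟩ ⟨_, b, hb, rfl⟩
    apply Subtype.ext
    have := (Subgroup.mem_center_iff.mp ha) b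
    exact (congrArg Subtype.val this).symm
  have hHV : H ≤ Subgroup.normalizer (((Subgroup.center P).map P.subtype : Subgroup G) : Set G) :=
    Cfsg.Agent.Lib.Lead.le_normalizer_map_characteristic P H hHP (Subgroup.center P)
  have hfpfV : ∀ h ∈ H, h ≠ 1 →
      ((Subgroup.center P).map P.subtype : Subgroup G) ⊓ Subgroup.centralizer {h} = ⊥ := by
    intro h hh h1
    rw [eq_bot_iff, ← hfpf h hh h1]
    exact inf_le_inf_right _ hVN
  obtain ⟨N', hN', hN'n, hN'c⟩ := frobenius_theorem H₁ h₁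
  have hcN' : Nat.card N' = H₁.index := by
    have := card_frobeniusKernel H₁ h₁
    rw [← hN'] at this
    exact this
  have hN'bot : N' ≠ ⊥ := by
    intro h
    rw [h, Subgroup.card_bot] at hcN'
    exact h₁.2.1 (Subgroup.index_eq_one.mp hcN'.symm)
  have hC := (Cfsg.Agent.S0039.result N' H₁ hN'c hN'bot h₁.1).mp h₁
  have : Fintype N' := Fintype.ofFinite N'
  have : Fintype H₁ := Fintype.ofFinite H₁
  let φ : H →* MulAut ((Subgroup.center P).map P.subtype : Subgroup G) :=
    (Subgroup.normalizerMonoidHom _).comp (Subgroup.inclusion hHV)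
  have hφfix : ∀ (a : H), a ≠ 1 → ∀ v : ((Subgroup.center P).map P.subtype : Subgroup G),
      φ a v = v → v = 1 := by
    intro a ha v hv
    exact eq_one_of_fixed _ (a : G) (hHV a.2) (hfpfV a a.2 (fun h => ha (Subtype.ext h))) v hv
  obtain ⟨⟨x, hxQ⟩, hx1'⟩ := (Subgroup.ne_bot_iff_exists_ne_one.mp hN'bot)
  obtain ⟨⟨c0, hcP⟩, hc1'⟩ := (Subgroup.ne_bot_iff_exists_ne_one.mp h₁.1)
  have hx1 : x ≠ 1 := fun h => hx1' (Subtype.ext h)
  have hc1 : c0 ≠ 1 := fun h => hc1' (Subtype.ext h)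
  have hQnorm : ∀ u, normS φ N' u = 1 := fun u => hφfix x hx1 _ (normS_fixed φ N' x hxQ u)
  have hPnorm : ∀ z ∈ N', ∀ u, ∏ c : H₁, φ (z * c * z⁻¹) u = 1 := by
    intro z _ u
    apply hφfix (z * c0 * z⁻¹) _ _ (normS_conj_fixed φ H₁ z c0 hcP u)
    intro h
    apply hc1
    have : c0 = z⁻¹ * (z * c0 * z⁻¹) * z := by group
    rw [this, h]
    group
  have hC' : ∀ c ∈ H₁, c ≠ 1 → ∀ x ∈ N', x * c = c * x → x = 1 := by
    intro c hc hc1 x hx hcomm
    have h5 : x ∈ N' ⊓ Subgroup.centralizer {c} := by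
      refine ⟨hx, ?_⟩
      apply Subgroup.mem_centralizer_iff.mpr
      intro z hz
      rw [Set.mem_singleton_iff] at hz
      rw [hz]
      exact hcomm.symm
    rw [hC c hc hc1, Subgroup.mem_bot] at h5
    exact h5
  have hpow := frob_avg φ N' H₁ (fun c _ x hx => hN'n.conj_mem x hx c) hC' hQnorm hPnorm
  obtain ⟨⟨v, hvV⟩, hv1'⟩ := (Subgroup.ne_bot_iff_exists_ne_one.mp hVbot)
  have hv1 : v ≠ 1 := fun h => hv1' (Subtype.ext h)
  have h1 := hpow ⟨v, hvV⟩
  rw [← Nat.card_eq_fintype_card] at h1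
  have h2 : v ^ Nat.card N' = 1 := by
    have := congrArg Subtype.val h1
    simpa using this
  have h3 : orderOf v ∣ Nat.card N' := orderOf_dvd_of_pow_eq_one h2
  have h4 : orderOf v ∣ Nat.card H := h3.trans (Subgroup.card_subgroup_dvd_card N')
  have h5 : orderOf v ∣ H.index := hcN ▸ Subgroup.orderOf_dvd_natCard _ (hVN hvV)
  have h6 : orderOf v = 1 := Nat.eq_one_of_dvd_coprimes hcop h5 h4
  exact hv1 (orderOf_eq_one_iff.mp h6)

theorem frob_conj_aux [Finite G] (H H₀ : Subgroup G)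
    (hH : Cfsg.IsFrobeniusComplement H) (hH₀ : Cfsg.IsFrobeniusComplement H₀)
    (hle : Nat.card H₀ ≤ Nat.card H) : ∃ g : G, MulAut.conj g • H₀ = H := by
  obtain ⟨g, hg⟩ := frob_le_conj_of_card_le H H₀ hH hH₀ hle
  refine ⟨g, ?_⟩
  by_contra hne
  have hF := isFrobeniusComplement_conj H₀ hH₀ g
  apply not_frobenius_of_complement H hH ((MulAut.conj g • H₀).subgroupOf H)
  refine ⟨?_, ?_, ?_⟩
  · intro h
    rw [Subgroup.subgroupOf_eq_bot] at h
    apply hF.1
    rw [eq_bot_iff]
    intro x hx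
    exact h.le_bot ⟨hx, hg hx⟩
  · intro h
    rw [Subgroup.subgroupOf_eq_top] at h
    exact hne (le_antisymm hg h)
  · intro y hy
    rw [eq_bot_iff]
    rintro z ⟨hz1, hz2⟩
    rw [Subgroup.mem_bot]
    have hz1' : (z : G) ∈ MulAut.conj g • H₀ := hz1
    have hz2' : z ∈ MulAut.conj y • (MulAut.conj g • H₀).subgroupOf H := hz2
    rw [mem_conj_smul_iff'] at hz2'
    have hz3 : (y : G)⁻¹ * (z : G) * (y : G) ∈ MulAut.conj g • H₀ := hz2'
    have hyG : (y : G) ∉ MulAut.conj g • H₀ := hy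
    have h3 := hF.2.2 (y : G) hyG
    have h4 : (z : G) ∈ MulAut.conj g • H₀ ⊓ MulAut.conj (y : G) • (MulAut.conj g • H₀) := by
      refine ⟨hz1', ?_⟩
      have : (z : G) ∈ MulAut.conj (y : G) • (MulAut.conj g • H₀) := by
        rw [mem_conj_smul_iff']
        exact hz3
      exact this
    rw [h3, Subgroup.mem_bot] at h4
    exact Subtype.ext h4

theorem frob_conj [Finite G] (H H₀ : Subgroup G)
    (hH : Cfsg.IsFrobeniusComplement H) (hH₀ : Cfsg.IsFrobeniusComplement H₀) :
    ∃ g : G, MulAut.conj g • H₀ = H := by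
  rcases le_total (Nat.card H₀) (Nat.card H) with hle | hle
  · exact frob_conj_aux H H₀ hH hH₀ hle
  · obtain ⟨g, hg⟩ := frob_conj_aux H₀ H hH₀ hH hle
    refine ⟨g⁻¹, ?_⟩
    rw [← hg, ← mul_smul, ← map_mul, inv_mul_cancel, map_one, one_smul]

end Cfsg.Agent.Lib.Helper1
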