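import Mathlib
import Cfsg.Agent.Lib.Helper1.ConverseHall

set_option autoImplicit false

namespace Cfsg.Agent.Lib.Helper1

open scoped Pointwise

universe u

variable {G : Type*} [Group G]

def mulSubgroup (K S : Subgroup G) (h : (K : Set G) * (S : Set G) = (S : Set G) * (K : Set G)) :
    Subgroup G where
  carrier := (K : Set G) * (S : Set G)
  one_mem' := ⟨1, K.one_mem, 1, S.one_mem, by simp⟩
  mul_mem' := by
    rintro _ _ ⟨k, hk, s, hs, rfl⟩ ⟨k', hk', s', hs', rfl⟩
    have h1 : s * k' ∈ (S : Set G) * (K : Set G) := ⟨s, hs, k', hk', rfl⟩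
    rw [← h] at h1
    obtain ⟨k'', hk'', s'', hs'', h2⟩ := h1
    have h2' : k'' * s'' = s * k' := h2
    refine ⟨k * k'', K.mul_mem hk hk'', s'' * s', S.mul_mem hs'' hs', ?_⟩
    simp only
    calc k * k'' * (s'' * s') = k * (k'' * s'') * s' := by group
      _ = k * (s * k') * s' := by rw [h2']
      _ = k * s * (k' * s') := by group
  inv_mem' := by
    rintro _ ⟨k, hk, s, hs, rfl⟩
    have h1 : s⁻¹ * k⁻¹ ∈ (S : Set G) * (K : Set G) := ⟨s⁻¹, S.inv_mem hs, k⁻¹, K.inv_mem hk, rfl⟩
    rw [← h] at h1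
    simpa using h1

theorem coe_mulSubgroup (K S : Subgroup G)
    (h : (K : Set G) * (S : Set G) = (S : Set G) * (K : Set G)) :
    ((mulSubgroup K S h : Subgroup G) : Set G) = (K : Set G) * (S : Set G) := rfl

theorem card_mulSubgroup [Finite G] (K S : Subgroup G)
    (h : (K : Set G) * (S : Set G) = (S : Set G) * (K : Set G))
    (hcop : (Nat.card K).Coprime (Nat.card S)) :
    Nat.card (mulSubgroup K S h) = Nat.card K * Nat.card S := by
  have hK : K ≤ mulSubgroup K S h := fun k hk => ⟨k, hk, 1, S.one_mem, by simp⟩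
  have hS : S ≤ mulSubgroup K S h := fun s hs => ⟨1, K.one_mem, s, hs, by simp⟩
  apply Nat.le_antisymm
  · rw [← Nat.card_prod]
    apply Nat.card_le_card_of_surjective
      (fun x : K × S => (⟨(x.1 : G) * (x.2 : G), ⟨x.1, x.1.2, x.2, x.2.2, rfl⟩⟩ :
        mulSubgroup K S h))
    rintro ⟨_, ⟨k, hk, s, hs, rfl⟩⟩
    exact ⟨⟨⟨k, hk⟩, ⟨s, hs⟩⟩, rfl⟩
  · apply Nat.le_of_dvd Nat.card_pos
    exact Nat.Coprime.mul_dvd_of_dvd_of_dvd hcop (Subgroup.card_dvd_of_le hK)
      (Subgroup.card_dvd_of_le hS)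

theorem exists_prod_subgroup [Finite G] (S : ℕ → Subgroup G) (a : ℕ → ℕ)
    (hperm : ∀ q r : ℕ, (S q : Set G) * (S r : Set G) = (S r : Set G) * (S q : Set G))
    (hcard : ∀ q : ℕ, Nat.card (S q) = q ^ a q) (T : Finset ℕ) (hT : ∀ q ∈ T, q.Prime) :
    ∃ K : Subgroup G, (∀ r : ℕ, (K : Set G) * (S r : Set G) = (S r : Set G) * (K : Set G)) ∧
      Nat.card K = ∏ q ∈ T, q ^ a q := by
  classical
  induction T using Finset.induction_on with
  | empty =>
    refine ⟨⊥, ?_, by simp⟩
    intro r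
    simp
  | insert q T hqT ih =>
    obtain ⟨K, hK, hKc⟩ := ih (fun r hr => hT r (Finset.mem_insert_of_mem hr))
    have hcop : (Nat.card K).Coprime (Nat.card (S q)) := by
      rw [hKc, hcard q]
      apply Nat.Coprime.prod_left
      intro i hi
      apply Nat.Coprime.pow
      rw [Nat.coprime_primes (hT i (Finset.mem_insert_of_mem hi)) (hT q (Finset.mem_insert_self _ _))]
      intro h
      exact hqT (h ▸ hi)
    refine ⟨mulSubgroup K (S q) (hK q), ?_, ?_⟩
    · intro r
      rw [coe_mulSubgroup, mul_assoc, hperm q r, ← mul_assoc, hK r, mul_assoc]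
    · rw [card_mulSubgroup K (S q) (hK q) hcop, Finset.prod_insert hqT, hKc, hcard q, mul_comm]

theorem solvable_of_permuting_sylows {G : Type u} [Group G] [Finite G]
    (S : (p : Nat.Primes) → Sylow (p : ℕ) G)
    (hS : ∀ p q : Nat.Primes, (S p : Set G) * (S q : Set G) = (S q : Set G) * (S p : Set G)) :
    Group.IsSolvable G := by
  classical
  have hne : Nat.card G ≠ 0 := Nat.card_pos.ne'
  let S' : ℕ → Subgroup G := fun q => if h : q.Prime then (S ⟨q, h⟩ : Subgroup G) else ⊥
  have hS'p : ∀ (q : ℕ) (h : q.Prime), S' q = (S ⟨q, h⟩ : Subgroup G) := by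
    intro q h
    simp only [S', dif_pos h]
  have hS'n : ∀ (q : ℕ), ¬ q.Prime → S' q = ⊥ := by
    intro q h
    simp only [S', dif_neg h]
  have hperm : ∀ q r : ℕ, (S' q : Set G) * (S' r : Set G) = (S' r : Set G) * (S' q : Set G) := by
    intro q r
    by_cases hq : q.Prime
    · by_cases hr : r.Prime
      · rw [hS'p q hq, hS'p r hr]
        exact hS ⟨q, hq⟩ ⟨r, hr⟩
      · rw [hS'n r hr]
        simp
    · rw [hS'n q hq]
      simp
  have hcard : ∀ q : ℕ, Nat.card (S' q) = q ^ (Nat.card G).factorization q := by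
    intro q
    by_cases hq : q.Prime
    · rw [hS'p q hq]
      have : Fact q.Prime := ⟨hq⟩
      exact (S ⟨q, hq⟩).card_eq_multiplicity
    · rw [hS'n q hq, Nat.factorization_eq_zero_of_not_prime _ hq]
      simp
  apply converse_hall
  intro p hp
  obtain ⟨K, _, hKc⟩ := exists_prod_subgroup S' (fun q => (Nat.card G).factorization q) hperm hcard
    ((Nat.card G).primeFactors.erase p)
    (fun q hq => Nat.prime_of_mem_primeFactors (Finset.mem_of_mem_erase hq))
  refine ⟨K, ?_⟩
  have h1 := K.card_mul_index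
  have h2 := prod_erase_mul_pow_factorization (Nat.card G) hne p
  rw [hKc] at h1
  have hpos : 0 < ∏ q ∈ (Nat.card G).primeFactors.erase p, q ^ (Nat.card G).factorization q := by
    apply Finset.prod_pos
    intro q hq
    exact pow_pos (Nat.prime_of_mem_primeFactors (Finset.mem_of_mem_erase hq)).pos _
  exact Nat.eq_of_mul_eq_mul_left hpos (h1.trans h2.symm)

end Cfsg.Agent.Lib.Helper1
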