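import Mathlib
import Cfsg.Agent.Lib.Helper1.FrobConj2
import Cfsg.Agent.Lib.Helper29.OddCyclic
import Cfsg.Agent.Lib.Helper1.CoprimeAbelian
import Cfsg.Agent.Lib.Helper1.PermutingSylow

set_option autoImplicit false

namespace Cfsg.Agent.Lib.Helper1

open Cfsg.Agent.Lib.Helper19 Cfsg.Agent.S0001
open scoped Pointwise

variable {G : Type*} [Group G]

theorem normal_complement_eq_kernel [Finite G] (K H : Subgroup G) [hKn : K.Normal]
    (hc : Subgroup.IsComplement' K H) (hF : Cfsg.IsFrobeniusComplement H) :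
    (K : Set G) = Cfsg.frobeniusKernel H := by
  apply Set.eq_of_subset_of_ncard_le
  · intro k hk
    by_cases h1 : k = 1
    · left; exact h1
    · right
      intro g hg
      rw [mem_conj_smul_iff'] at hg
      have h2 : g⁻¹ * k * g ∈ K := by
        have := hKn.conj_mem k hk g⁻¹
        rwa [inv_inv] at this
      have h3 : g⁻¹ * k * g ∈ K ⊓ H := ⟨h2, hg⟩
      rw [hc.disjoint.eq_bot, Subgroup.mem_bot] at h3
      apply h1
      have : k = g * (g⁻¹ * k * g) * g⁻¹ := by group
      rw [this, h3]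
      group
  · have h1 := card_frobeniusKernel H hF
    rw [Nat.card_coe_set_eq] at h1
    rw [h1]
    have h2 : Nat.card K = (K : Set G).ncard := (Nat.card_coe_set_eq _)
    rw [← h2]
    have h3 := hc.card_mul
    have h4 := H.card_mul_index
    have hpos : 0 < Nat.card H := Nat.card_pos
    apply le_of_eq
    apply Nat.eq_of_mul_eq_mul_left hpos
    rw [h4, mul_comm, h3]
  · exact Set.toFinite _

theorem exists_fpf_abelian [Finite G] (K H : Subgroup G) [hKn : K.Normal]
    (hc : Subgroup.IsComplement' K H) (hK : K ≠ ⊥) (hH : H ≠ ⊥)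
    (hfpf : ∀ h ∈ H, h ≠ 1 → K ⊓ Subgroup.centralizer {h} = ⊥) :
    ∃ V : Subgroup G, IsMulCommutative V ∧ V ≠ ⊥ ∧ V ≤ K ∧
      H ≤ Subgroup.normalizer (V : Set G) ∧
      ∀ h ∈ H, h ≠ 1 → V ⊓ Subgroup.centralizer {h} = ⊥ := by
  have hF := (Cfsg.Agent.S0039.result K H hc hK hH).mpr hfpf
  have hN := normal_complement_eq_kernel K H hc hF
  have hcN1 : Nat.card K ≠ 1 := by
    intro h
    exact hK (Subgroup.card_eq_one.mp h)
  obtain ⟨p, hp, hpN⟩ := Nat.exists_prime_and_dvd hcN1
  have hpf : Fact p.Prime := ⟨hp⟩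
  obtain ⟨P, hPN, hPc, hHP⟩ := exists_invariant_sylow_frob H hF K hN p
  have hk : 0 < (Nat.card K).factorization p :=
    hp.factorization_pos_of_dvd Nat.card_pos.ne' hpN
  have hPp : IsPGroup p P := IsPGroup.of_card hPc
  have hPnt : Nontrivial P := by
    rw [← Finite.one_lt_card_iff_nontrivial, hPc]
    exact Nat.one_lt_pow hk.ne' hp.one_lt
  have hZnt : Nontrivial (Subgroup.center P) := hPp.center_nontrivial
  have hVbot : (Subgroup.center P).map P.subtype ≠ ⊥ := by
    intro h
    rw [Subgroup.map_eq_bot_iff_of_injective _ P.subtype_injective] at h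
    exact (Subgroup.nontrivial_iff_ne_bot _).mp hZnt h
  have hVP : (Subgroup.center P).map P.subtype ≤ P := Subgroup.map_subtype_le _
  have hVN : (Subgroup.center P).map P.subtype ≤ K := hVP.trans hPN
  have hVc : IsMulCommutative ((Subgroup.center P).map P.subtype : Subgroup G) := by
    refine ⟨⟨?_⟩⟩
    rintro ⟨_, a, ha, rfl⟩ ⟨_, b, hb, rfl⟩
    apply Subtype.ext
    have := (Subgroup.mem_center_iff.mp ha) b
    exact (congrArg Subtype.val this).symm
  have hHV : H ≤ Subgroup.normalizer (((Subgroup.center P).map P.subtype : Subgroup G) : Set G) :=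
    Cfsg.Agent.Lib.Lead.le_normalizer_map_characteristic P H hHP (Subgroup.center P)
  refine ⟨_, hVc, hVbot, hVN, hHV, ?_⟩
  intro h hh h1
  rw [eq_bot_iff, ← hfpf h hh h1]
  exact inf_le_inf_right _ hVN

theorem mem_zpowers_of_isCyclic {A : Type*} [Group A] [Finite A] [IsCyclic A] (r : ℕ) (hr : 0 < r)
    (x z : A) (hz : orderOf z = r) (hx : x ^ r = 1) : x ∈ Subgroup.zpowers z := by
  classical
  have := Fintype.ofFinite A
  have h1 := IsCyclic.card_pow_eq_one_le (α := A) hr
  by_contra hxz
  have h2 : insert x (Finset.image (fun i : ℕ => z ^ i) (Finset.range r)) ⊆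
      Finset.univ.filter (fun a : A => a ^ r = 1) := by
    intro a ha
    rw [Finset.mem_insert, Finset.mem_image] at ha
    rw [Finset.mem_filter]
    refine ⟨Finset.mem_univ _, ?_⟩
    rcases ha with rfl | ⟨i, _, rfl⟩
    · exact hx
    · rw [← pow_mul, mul_comm, pow_mul, ← hz, pow_orderOf_eq_one, one_pow]
  have h3 := Finset.card_le_card h2
  rw [Finset.card_insert_of_notMem, Finset.card_image_of_injOn, Finset.card_range] at h3
  · omega
  · intro i hi j hj hij
    have hi' : i ∈ Set.Iio (orderOf z) := by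
      rw [hz]; simpa using hi
    have hj' : j ∈ Set.Iio (orderOf z) := by
      rw [hz]; simpa using hj
    exact pow_injOn_Iio_orderOf hi' hj' hij
  · intro h
    rw [Finset.mem_image] at h
    obtain ⟨i, _, rfl⟩ := h
    exact hxz (Subgroup.npow_mem_zpowers z i)

theorem mem_zpowers_of_fpf [Finite G] (R V : Subgroup G) [IsMulCommutative V]
    (hV : V ≠ ⊥) (hRV : R ≤ Subgroup.normalizer (V : Set G))
    (hfpf : ∀ a ∈ R, a ≠ 1 → V ⊓ Subgroup.centralizer {a} = ⊥)
    (r : ℕ) (hr : 0 < r) (x z : G) (hxR : x ∈ R) (hzR : z ∈ R) (hcomm : x * z = z * x)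
    (hz : orderOf z = r) (hx : x ^ r = 1) : x ∈ Subgroup.zpowers z := by
  have hAc : IsMulCommutative (Subgroup.closure ({x, z} : Set G)) := by
    apply Subgroup.isMulCommutative_closure
    intro a ha b hb
    rcases ha with rfl | rfl <;> rcases hb with rfl | rfl
    · rfl
    · exact hcomm
    · exact hcomm.symm
    · rfl
  have hAR : Subgroup.closure ({x, z} : Set G) ≤ R := by
    rw [Subgroup.closure_le]
    intro a ha
    rcases ha with rfl | rfl
    · exact hxR
    · exact hzR
  have hcyc : IsCyclic (Subgroup.closure ({x, z} : Set G)) :=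
    isCyclic_of_fpf_abelian _ V hV (hAR.trans hRV) (fun a ha => hfpf a (hAR ha))
  have hxA : x ∈ Subgroup.closure ({x, z} : Set G) := Subgroup.subset_closure (by simp)
  have hzA : z ∈ Subgroup.closure ({x, z} : Set G) := Subgroup.subset_closure (by simp)
  have h1 := mem_zpowers_of_isCyclic (A := Subgroup.closure ({x, z} : Set G)) r hr ⟨x, hxA⟩ ⟨z, hzA⟩
    (by rw [← hz]; exact (Subgroup.orderOf_mk z hzA))
    (by apply Subtype.ext; simpa using hx)
  obtain ⟨k, hk⟩ := Subgroup.mem_zpowers_iff.mp h1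
  refine Subgroup.mem_zpowers_iff.mpr ⟨k, ?_⟩
  have := congrArg Subtype.val hk
  simpa using this

theorem isCyclic_pgroup_of_fpf [Finite G] (R V : Subgroup G) [IsMulCommutative V]
    (hV : V ≠ ⊥) (hRV : R ≤ Subgroup.normalizer (V : Set G))
    (hfpf : ∀ a ∈ R, a ≠ 1 → V ⊓ Subgroup.centralizer {a} = ⊥)
    (r : ℕ) [hrf : Fact r.Prime] (hr2 : r ≠ 2) (hR : IsPGroup r R) : IsCyclic R := by
  have hr : r.Prime := hrf.out
  apply Cfsg.Agent.Lib.Helper29.isCyclic_of_unique_subgroup_odd r hr2 hR
  by_cases hnt : Nontrivial R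
  swap
  · intro X Y hX _
    exfalso
    rw [not_nontrivial_iff_subsingleton] at hnt
    have : Nat.card X = 1 := Nat.card_unique
    rw [this] at hX
    exact hr.one_lt.ne hX
  have hZnt := hR.center_nontrivial
  have hZp : IsPGroup r (Subgroup.center R) := hR.to_subgroup _
  obtain ⟨k, hk⟩ := IsPGroup.iff_card.mp hZp
  have hk0 : k ≠ 0 := by
    rintro rfl
    rw [pow_zero] at hk
    have := Finite.one_lt_card_iff_nontrivial.mpr hZnt
    omega
  obtain ⟨z, hz⟩ := exists_prime_orderOf_dvd_card' (G := Subgroup.center R) r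
    (hk ▸ dvd_pow_self r hk0)
  have hzG : orderOf ((z : R) : G) = r := by
    rw [Subgroup.orderOf_coe, Subgroup.orderOf_coe]; exact hz
  suffices h : ∀ X : Subgroup R, Nat.card X = r → X = Subgroup.zpowers (z : R) by
    intro X Y hX hY
    rw [h X hX, h Y hY]
  intro X hX
  apply Subgroup.eq_of_le_of_card_ge
  · intro x hxX
    have hxr : x ^ r = 1 := by
      have h1 : (⟨x, hxX⟩ : X) ^ Nat.card X = 1 := pow_card_eq_one'
      rw [hX] at h1
      have := congrArg Subtype.val h1
      simpa using this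
    have hxrG : (x : G) ^ r = 1 := by
      have := congrArg Subtype.val hxr
      simpa using this
    have hcomm : (x : G) * ((z : R) : G) = ((z : R) : G) * (x : G) := by
      have := (Subgroup.mem_center_iff.mp z.2) x
      exact congrArg Subtype.val this
    have h1 := mem_zpowers_of_fpf R V hV hRV hfpf r hr.pos (x : G) ((z : R) : G) x.2 (z : R).2
      hcomm hzG hxrG
    obtain ⟨k, hk⟩ := Subgroup.mem_zpowers_iff.mp h1
    refine Subgroup.mem_zpowers_iff.mpr ⟨k, ?_⟩
    apply Subtype.ext
    simpa using hk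
  · rw [hX, Nat.card_zpowers, Subgroup.orderOf_coe, hz]

theorem card_sup_of_normal_coprime [Finite G] (N X : Subgroup G) [N.Normal]
    (hcop : (Nat.card N).Coprime (Nat.card X)) :
    Nat.card (N ⊔ X : Subgroup G) = Nat.card N * Nat.card X := by
  have h : (N : Set G) * (X : Set G) = (X : Set G) * (N : Set G) := by
    rw [← Subgroup.normal_mul, ← Subgroup.mul_normal, sup_comm]
  have h2 : mulSubgroup N X h = N ⊔ X := by
    apply SetLike.coe_injective
    rw [coe_mulSubgroup, Subgroup.normal_mul]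
  rw [← h2]
  exact card_mulSubgroup N X h hcop

open scoped commutatorElement in
theorem center_ne_bot_of_zgroup {Γ : Type*} [Group Γ] [Finite Γ] [Nontrivial Γ] [IsZGroup Γ]
    (hpq : ∀ (D : Subgroup Γ) (q r : ℕ), q.Prime → r.Prime → Nat.card D = q * r → IsCyclic D) :
    Subgroup.center Γ ≠ ⊥ := by
  classical
  by_cases hC : commutator Γ = ⊥
  · have hcomm : ∀ a b : Γ, a * b = b * a := by
      intro a b
      have : ⁅a, b⁆ ∈ commutator Γ :=
        Subgroup.commutator_mem_commutator (Subgroup.mem_top a) (Subgroup.mem_top b)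
      rw [hC, Subgroup.mem_bot] at this
      exact commutatorElement_eq_one_iff_mul_comm.mp this
    intro h
    have h2 : Subgroup.center Γ = ⊤ := by
      rw [eq_top_iff]
      intro g _
      rw [Subgroup.mem_center_iff]
      intro a
      exact hcomm a g
    rw [h2] at h
    exact top_ne_bot h
  · have hcop := IsZGroup.coprime_commutator_index (G := Γ)
    obtain ⟨B, hB⟩ := Subgroup.exists_right_complement'_of_coprime hcop
    have hcyc : IsCyclic (commutator Γ) := IsZGroup.isCyclic_commutator Γ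
    have hlt := IsZGroup.commutator_lt (G := Γ)
    have hBcard : (commutator Γ).index = Nat.card B := hB.symm.index_eq_card
    have hB1 : Nat.card B ≠ 1 := by
      intro h
      rw [h] at hBcard
      exact hlt.ne (Subgroup.index_eq_one.mp hBcard)
    obtain ⟨r, hr, hrB⟩ := Nat.exists_prime_and_dvd hB1
    have hrf : Fact r.Prime := ⟨hr⟩
    obtain ⟨x, hx⟩ := exists_prime_orderOf_dvd_card' (G := B) r hrB
    have hxo : orderOf (x : Γ) = r := by rw [Subgroup.orderOf_coe]; exact hx
    have hx1 : (x : Γ) ≠ 1 := by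
      intro h
      rw [h, orderOf_one] at hxo
      exact hr.one_lt.ne hxo
    have hBcomm : ∀ b ∈ B, (x : Γ) * b = b * (x : Γ) := by
      intro b hb
      have h1 : ⁅(x : Γ), b⁆ ∈ commutator Γ :=
        Subgroup.commutator_mem_commutator (Subgroup.mem_top _) (Subgroup.mem_top b)
      have h2 : ⁅(x : Γ), b⁆ ∈ B := by
        rw [commutatorElement_def]
        exact B.mul_mem (B.mul_mem (B.mul_mem x.2 hb) (B.inv_mem x.2)) (B.inv_mem hb)
      have h3 : ⁅(x : Γ), b⁆ ∈ commutator Γ ⊓ B := ⟨h1, h2⟩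
      rw [hB.disjoint.eq_bot, Subgroup.mem_bot] at h3
      exact commutatorElement_eq_one_iff_mul_comm.mp h3
    have hXcard : Nat.card (Subgroup.zpowers (x : Γ)) = r := by
      rw [Nat.card_zpowers, hxo]
    have hcopX : (Nat.card (Subgroup.zpowers (x : Γ))).Coprime (Nat.card (commutator Γ)) := by
      rw [hXcard]
      apply Nat.Coprime.symm
      apply Nat.Coprime.coprime_dvd_right _ hcop
      rw [hBcard]
      exact hrB
    have hXC : Subgroup.zpowers (x : Γ) ≤ Subgroup.normalizer ((commutator Γ : Subgroup Γ) : Set Γ) := by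
      rw [Subgroup.normalizer_eq_top]
      exact le_top
    have hdec := inf_centralizer_inf_commutator_eq_bot (Subgroup.zpowers (x : Γ)) (commutator Γ)
      hXC hcopX
    have hcomC : ⁅commutator Γ, Subgroup.zpowers (x : Γ)⁆ = ⊥ := by
      by_contra hne
      have hle : ⁅commutator Γ, Subgroup.zpowers (x : Γ)⁆ ≤ commutator Γ :=
        Subgroup.commutator_le_left _ _
      have hc1 : Nat.card ↥⁅commutator Γ, Subgroup.zpowers (x : Γ)⁆ ≠ 1 := by
        intro h
        exact hne (Subgroup.card_eq_one.mp h)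
      obtain ⟨q, hq, hqd⟩ := Nat.exists_prime_and_dvd hc1
      have hqf : Fact q.Prime := ⟨hq⟩
      obtain ⟨y, hy⟩ := exists_prime_orderOf_dvd_card'
        (G := ↥⁅commutator Γ, Subgroup.zpowers (x : Γ)⁆) q hqd
      have hyo : orderOf (y : Γ) = q := by rw [Subgroup.orderOf_coe]; exact hy
      have hyC : (y : Γ) ∈ commutator Γ := hle y.2
      have hqC : q ∣ Nat.card (commutator Γ) := by
        rw [← hyo]
        exact Subgroup.orderOf_dvd_natCard _ hyC
      have hqr : q ≠ r := by
        rintro rfl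
        have h1 : q ∣ (commutator Γ).index := hBcard ▸ hrB
        have := Nat.eq_one_of_dvd_coprimes hcop hqC h1
        exact hq.one_lt.ne this.symm
      have hconj : ∀ g : Γ, g * (y : Γ) * g⁻¹ ∈ Subgroup.zpowers (y : Γ) := by
        intro g
        have hgC : g * (y : Γ) * g⁻¹ ∈ commutator Γ :=
          Subgroup.Normal.conj_mem inferInstance _ hyC g
        have h1 := mem_zpowers_of_isCyclic (A := commutator Γ) q hq.pos
          ⟨g * (y : Γ) * g⁻¹, hgC⟩ ⟨(y : Γ), hyC⟩
          (by rw [← hyo]; exact Subgroup.orderOf_mk _ hyC)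
          (by
            apply Subtype.ext
            simp only [SubmonoidClass.mk_pow, OneMemClass.coe_one]
            rw [conj_pow, ← hyo, pow_orderOf_eq_one]
            group)
        obtain ⟨k, hk⟩ := Subgroup.mem_zpowers_iff.mp h1
        refine Subgroup.mem_zpowers_iff.mpr ⟨k, ?_⟩
        have := congrArg Subtype.val hk
        simpa using this
      have hNn : (Subgroup.zpowers (y : Γ)).Normal := by
        constructor
        intro n hn g
        obtain ⟨k, rfl⟩ := Subgroup.mem_zpowers_iff.mp hn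
        rw [← conj_zpow]
        exact Subgroup.zpow_mem _ (hconj g) k
      have hcopNX : (Nat.card (Subgroup.zpowers (y : Γ))).Coprime
          (Nat.card (Subgroup.zpowers (x : Γ))) := by
        rw [hXcard, Nat.card_zpowers, hyo]
        exact (Nat.coprime_primes hq hr).mpr hqr
      have hDcard := card_sup_of_normal_coprime (Subgroup.zpowers (y : Γ))
        (Subgroup.zpowers (x : Γ)) hcopNX
      rw [hXcard, Nat.card_zpowers, hyo] at hDcard
      have hDc := hpq _ q r hq hr hDcard
      have hxD : (x : Γ) ∈ Subgroup.zpowers (y : Γ) ⊔ Subgroup.zpowers (x : Γ) :=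
        (le_sup_right : Subgroup.zpowers (x : Γ) ≤ _) (Subgroup.mem_zpowers _)
      have hyD : (y : Γ) ∈ Subgroup.zpowers (y : Γ) ⊔ Subgroup.zpowers (x : Γ) :=
        (le_sup_left : Subgroup.zpowers (y : Γ) ≤ _) (Subgroup.mem_zpowers _)
      have hxy : (x : Γ) * (y : Γ) = (y : Γ) * (x : Γ) := by
        have := mul_comm' (⟨(x : Γ), hxD⟩ : ↥(Subgroup.zpowers (y : Γ) ⊔ Subgroup.zpowers (x : Γ)))
          ⟨(y : Γ), hyD⟩
        exact congrArg Subtype.val this
      have hyin : (y : Γ) ∈ (commutator Γ ⊓ Subgroup.centralizer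
          ((Subgroup.zpowers (x : Γ) : Subgroup Γ) : Set Γ)) ⊓
          ⁅commutator Γ, Subgroup.zpowers (x : Γ)⁆ := by
        refine ⟨⟨hyC, ?_⟩, y.2⟩
        apply Subgroup.mem_centralizer_iff.mpr
        intro z hz
        obtain ⟨k, rfl⟩ := Subgroup.mem_zpowers_iff.mp hz
        exact (Commute.zpow_left hxy k).eq
      rw [hdec, Subgroup.mem_bot] at hyin
      rw [hyin, orderOf_one] at hyo
      exact hq.one_lt.ne hyo
    have hxC : ∀ c ∈ commutator Γ, (x : Γ) * c = c * (x : Γ) := by
      intro c hc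
      have h1 : ⁅c, (x : Γ)⁆ ∈ ⁅commutator Γ, Subgroup.zpowers (x : Γ)⁆ :=
        Subgroup.commutator_mem_commutator hc (Subgroup.mem_zpowers _)
      rw [hcomC, Subgroup.mem_bot] at h1
      exact (commutatorElement_eq_one_iff_mul_comm.mp h1).symm
    intro hbot
    have hxcen : (x : Γ) ∈ Subgroup.center Γ := by
      rw [Subgroup.mem_center_iff]
      intro g
      have hg : g ∈ ((commutator Γ : Subgroup Γ) : Set Γ) * (B : Set Γ) := by
        have hmul : ((commutator Γ : Subgroup Γ) : Set Γ) * (B : Set Γ) = Set.univ :=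
          Subgroup.IsComplement.mul_eq hB
        rw [hmul]
        exact Set.mem_univ g
      obtain ⟨c, hc, b, hb, rfl⟩ := hg
      calc c * b * (x : Γ) = c * (b * (x : Γ)) := by group
        _ = c * ((x : Γ) * b) := by rw [hBcomm b hb]
        _ = (c * (x : Γ)) * b := by group
        _ = ((x : Γ) * c) * b := by rw [hxC c hc]
        _ = (x : Γ) * (c * b) := by group
    rw [hbot, Subgroup.mem_bot] at hxcen
    exact hx1 hxcen

theorem isCyclic_of_map_subtype (H : Subgroup G) (D : Subgroup H)
    (h : IsCyclic (D.map H.subtype)) : IsCyclic D :=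
  (MulEquiv.isCyclic (D.equivMapOfInjective H.subtype H.subtype_injective)).mpr h

theorem center_ne_bot_of_fpf_odd [Finite G] (H V : Subgroup G) [IsMulCommutative V]
    (hV : V ≠ ⊥) (hHV : H ≤ Subgroup.normalizer (V : Set G))
    (hfpf : ∀ a ∈ H, a ≠ 1 → V ⊓ Subgroup.centralizer {a} = ⊥) (hH : H ≠ ⊥)
    (hodd : ¬ 2 ∣ Nat.card H) : Subgroup.center H ≠ ⊥ := by
  have hnt : Nontrivial H := (Subgroup.nontrivial_iff_ne_bot H).mpr hH
  have hmapH : ∀ D : Subgroup H, D.map H.subtype ≤ H := fun D => Subgroup.map_subtype_le D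
  have hZ : IsZGroup H := by
    refine ⟨fun p hp P => ?_⟩
    have hpf : Fact p.Prime := ⟨hp⟩
    apply isCyclic_of_map_subtype H (P : Subgroup H)
    have hPp : IsPGroup p ((P : Subgroup H).map H.subtype) := P.2.map _
    by_cases hp2 : p = 2
    · subst hp2
      obtain ⟨k, hk⟩ := IsPGroup.iff_card.mp hPp
      have hk0 : k = 0 := by
        by_contra hk0
        apply hodd
        have h1 : 2 ∣ Nat.card ((P : Subgroup H).map H.subtype) := hk ▸ dvd_pow_self 2 hk0
        exact h1.trans (Subgroup.card_dvd_of_le (hmapH _))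
      rw [hk0, pow_zero] at hk
      have := (Nat.card_eq_one_iff_unique.mp hk).1
      exact isCyclic_of_subsingleton
    · exact isCyclic_pgroup_of_fpf _ V hV ((hmapH _).trans hHV)
        (fun a ha => hfpf a (hmapH _ ha)) p hp2 hPp
  apply center_ne_bot_of_zgroup
  intro D q r hq hr hD
  apply isCyclic_of_map_subtype H D
  apply isCyclic_of_fpf_pq _ V hV ((hmapH _).trans hHV) (fun a ha => hfpf a (hmapH _ ha)) q r hq hr
  rw [Subgroup.card_map_of_injective H.subtype_injective, hD]

end Cfsg.Agent.Lib.Helper1
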