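import Mathlib
import Cfsg.Agent.Lib.helper15.PSL.Defs
import Cfsg.Agent.Lib.Helper25.BHBT3
import Cfsg.Agent.Lib.Helper25.CharBound

set_option autoImplicit false
set_option linter.unusedVariables false
set_option linter.unusedSectionVars false
set_option linter.style.haveILetI false
open scoped ComplexConjugate
open Classical

namespace Cfsg.Agent.Lib.helper15.PSL

open Cfsg.Agent.Lib.helper7 Cfsg.Agent.Lib.helper7.BR Cfsg.Agent.Lib.helper2 Cfsg.Agent.Lib.Helper25
  Cfsg.Agent.Lib.Helper29 Cfsg.Agent.Lib.helper15.BH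

universe u

variable {G : Type u} [Group G] [Fintype G] {p : ℕ} [Fact p.Prime]

theorem not_all_conj (P : Sylow p G) (hP : Nat.card ↥(P : Subgroup G) = p) (χ : G → ℂ)
    (hχ : Cfsg.IsCharacter G χ) (hfaith : ∀ g : G, χ g = χ 1 → g = 1) (f : ℕ)
    (hd : χ 1 = (f : ℂ)) (hpf : 2 * f + 1 = p) (a : G) (ha : a ∈ (P : Subgroup G)) (ha1 : a ≠ 1) :
    ¬ ∀ b ∈ (P : Subgroup G), b ≠ 1 → IsConj a b := by
  intro hall
  have hp := (Fact.out : p.Prime)
  obtain ⟨n, ρ, rfl⟩ := hχ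
  have hcl : ∀ b ∈ (P : Subgroup G), b ≠ 1 → ρ.character b = ρ.character a := by
    intro b hb hb1
    obtain ⟨c, hc⟩ := isConj_iff.mp (hall b hb hb1)
    rw [← hc, Representation.char_conj]
  haveI : IsCyclic ↥(P : Subgroup G) := isCyclic_of_prime_card hP
  letI : CommGroup ↥(P : Subgroup G) := IsCyclic.commGroup
  haveI : NeZero (Monoid.exponent ↥(P : Subgroup G)) := ⟨Monoid.exponent_ne_zero_of_finite⟩
  obtain ⟨μ, hμ⟩ := CommGroup.exists_apply_ne_one_of_hasEnoughRootsOfUnity ↥(P : Subgroup G) ℂ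
    (a := ⟨a, ha⟩) (by intro h; exact ha1 (congrArg Subtype.val h))
  have hμne : μ ≠ 1 := by
    intro h
    apply hμ
    rw [h]
    rfl
  obtain ⟨k, hk⟩ := bhbt3_sum_char
    (Cfsg.Agent.Lib.helper7.BD.twistRep (ρ.comp (P : Subgroup G).subtype : Representation ℂ ↥(P : Subgroup G) (Fin n → ℂ)) μ)
  have hsum : ∑ x : ↥(P : Subgroup G), ((μ x : ℂˣ) : ℂ) * ρ.character (x : G) =
      (Nat.card ↥(P : Subgroup G) : ℂ) * k := by
    rw [← hk]
    refine Finset.sum_congr rfl fun x _ => ?_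
    show _ = LinearMap.trace ℂ _
      (Cfsg.Agent.Lib.helper7.BD.twistRep (ρ.comp (P : Subgroup G).subtype : Representation ℂ ↥(P : Subgroup G) (Fin n → ℂ)) μ x)
    rw [Cfsg.Agent.Lib.helper7.BD.twistRep_apply, map_smul, smul_eq_mul]
    rfl
  have hμsum : ∑ x : ↥(P : Subgroup G), ((μ x : ℂˣ) : ℂ) = 0 :=
    Cfsg.Agent.Lib.Helper11.sum_linChar_eq_zero μ hμne
  set c : ℂ := ρ.character a with hc
  have hsplit : ∑ x : ↥(P : Subgroup G), ((μ x : ℂˣ) : ℂ) * ρ.character (x : G) =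
      ρ.character 1 - c := by
    have h1 : ∀ x : ↥(P : Subgroup G), ((μ x : ℂˣ) : ℂ) * ρ.character (x : G) =
        ((μ x : ℂˣ) : ℂ) * c + (if x = 1 then ρ.character 1 - c else 0) := by
      intro x
      by_cases hx : x = 1
      · rw [if_pos hx, hx, map_one, Units.val_one]
        simp
      · rw [if_neg hx, add_zero, hcl (x : G) x.2 (fun h => hx (Subtype.ext h))]
    rw [Finset.sum_congr rfl (fun x _ => h1 x), Finset.sum_add_distrib, ← Finset.sum_mul, hμsum,
      zero_mul, zero_add, Finset.sum_ite_eq' Finset.univ (1 : ↥(P : Subgroup G)),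
      if_pos (Finset.mem_univ _)]
  rw [hsplit, hP, hd] at hsum
  have hnorm : ‖c‖ ≤ (f : ℝ) := by
    have h1 := norm_char_le ρ a
    have h2 : (Module.finrank ℂ (Fin n → ℂ) : ℂ) = (f : ℂ) := by
      rw [← Representation.char_one ρ, hd]
    have h3 : (Module.finrank ℂ (Fin n → ℂ) : ℝ) = (f : ℝ) := by exact_mod_cast h2
    rw [h3] at h1
    exact h1
  have hceq : c = (f : ℂ) - (p : ℂ) * (k : ℂ) := by
    rw [← hsum]
    ring
  have hk0 : k = 0 := by
    by_contra hk0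
    have hk1 : 1 ≤ k := Nat.one_le_iff_ne_zero.mpr hk0
    have hre : c.re = (f : ℝ) - (p : ℝ) * (k : ℝ) := by
      rw [hceq]
      simp
    have h2 : -(f : ℝ) ≤ c.re := by
      have := Complex.abs_re_le_norm c
      have h3 := abs_le.mp (this.trans hnorm)
      exact h3.1
    have hpf' : (p : ℝ) = 2 * (f : ℝ) + 1 := by exact_mod_cast hpf.symm
    have hk1' : (1 : ℝ) ≤ (k : ℝ) := by exact_mod_cast hk1
    have hp0 : (0 : ℝ) < (p : ℝ) := by exact_mod_cast hp.pos
    nlinarith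
  rw [hk0, Nat.cast_zero, mul_zero, sub_zero] at hceq
  apply ha1
  apply hfaith
  rw [hd, ← hceq]

end Cfsg.Agent.Lib.helper15.PSL
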