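import Mathlib
import Cfsg.Agent.Lib.helper15.PSL.Defs
import Cfsg.Agent.Lib.Helper13.PSLEXB
import Cfsg.Agent.Lib.helper23.BRCLS

set_option autoImplicit false
set_option linter.unusedVariables false
set_option linter.unusedSectionVars false
set_option linter.style.haveILetI false
open scoped ComplexConjugate
open Classical

namespace Cfsg.Agent.Lib.helper15.PSL

open Cfsg.Agent.Lib.helper7 Cfsg.Agent.Lib.helper7.BR Cfsg.Agent.Lib.helper2 Cfsg.Agent.Lib.Helper25
  Cfsg.Agent.Lib.Helper29 Cfsg.Agent.Lib.helper15.BH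

universe u

variable {G : Type u} [Group G] [Fintype G] {p : ℕ} [Fact p.Prime]

theorem psll4b_two_classes (P : Sylow p G) (hP : Nat.card ↥(P : Subgroup G) = p) (f : ℕ)
    (hpf : 2 * f + 1 = p) (hrel : (cen P).relIndex (nrm P) = f)
    (a b : G) (ha : a ∈ (P : Subgroup G)) (ha1 : a ≠ 1) (hb : b ∈ (P : Subgroup G)) (hb1 : b ≠ 1)
    (hab : ¬ IsConj a b) (c : G) (hc : c ∈ (P : Subgroup G)) (hc1 : c ≠ 1) :
    IsConj a c ∨ IsConj b c := by
  by_contra hcon
  push Not at hcon
  set A : Finset ↥(P : Subgroup G) := (Finset.univ : Finset ↥(P : Subgroup G)).filter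
    (fun x : ↥(P : Subgroup G) => IsConj a (x : G)) with hA
  set B : Finset ↥(P : Subgroup G) := (Finset.univ : Finset ↥(P : Subgroup G)).filter
    (fun x : ↥(P : Subgroup G) => IsConj b (x : G)) with hB
  set N : Finset ↥(P : Subgroup G) := (Finset.univ : Finset ↥(P : Subgroup G)).filter
    (fun x : ↥(P : Subgroup G) => (x : G) ≠ 1) with hN
  have hAc : A.card = f := by rw [hA, pslexb_card P hP a ha ha1, hrel]
  have hBc : B.card = f := by rw [hB, pslexb_card P hP b hb hb1, hrel]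
  have hNc : N.card = p - 1 := pslexb_card_ne_one P hP
  have hdisj : Disjoint A B := by
    rw [Finset.disjoint_left]
    intro x hxA hxB
    rw [hA, Finset.mem_filter] at hxA
    rw [hB, Finset.mem_filter] at hxB
    exact hab (hxA.2.trans hxB.2.symm)
  have hsub : A ∪ B ⊆ N.erase ⟨c, hc⟩ := by
    intro x hx
    rw [Finset.mem_union] at hx
    rw [Finset.mem_erase, hN, Finset.mem_filter]
    rcases hx with hx | hx
    · rw [hA, Finset.mem_filter] at hx
      refine ⟨?_, Finset.mem_univ _, ?_⟩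
      · intro h
        apply hcon.1
        rw [h] at hx
        exact hx.2
      · intro h
        apply ha1
        have := hx.2
        rw [h] at this
        exact (isConj_one_left.mp this)
    · rw [hB, Finset.mem_filter] at hx
      refine ⟨?_, Finset.mem_univ _, ?_⟩
      · intro h
        apply hcon.2
        rw [h] at hx
        exact hx.2
      · intro h
        apply hb1
        have := hx.2
        rw [h] at this
        exact (isConj_one_left.mp this)
  have hcN : (⟨c, hc⟩ : ↥(P : Subgroup G)) ∈ N := by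
    rw [hN, Finset.mem_filter]
    exact ⟨Finset.mem_univ _, hc1⟩
  have h1 := Finset.card_le_card hsub
  rw [Finset.card_union_of_disjoint hdisj, Finset.card_erase_of_mem hcN, hAc, hBc, hNc] at h1
  have hp2 := (Fact.out : p.Prime).two_le
  omega

theorem frattini_cen (K : Subgroup G) [K.Normal] (P : Sylow p G) (hPK : (P : Subgroup G) ≤ K)
    (hP : Nat.card ↥(P : Subgroup G) = p) (f : ℕ) (hpf : 2 * f + 1 = p)
    (hrelK : (cen (P.subtype hPK : Sylow p ↥K)).relIndex (nrm (P.subtype hPK : Sylow p ↥K)) = f)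
    (hnot : ∀ a ∈ (P : Subgroup G), a ≠ 1 → ¬ ∀ b ∈ (P : Subgroup G), b ≠ 1 → IsConj a b) :
    ∀ g : G, ∃ k ∈ K, ∃ c ∈ cen P, g = k * c := by
  have hp := (Fact.out : p.Prime)
  set PK : Sylow p ↥K := P.subtype hPK with hPKdef
  have hmemPK : ∀ x : ↥K, x ∈ (PK : Subgroup ↥K) ↔ (x : G) ∈ (P : Subgroup G) := by
    intro x
    rw [hPKdef, Sylow.coe_subtype, Subgroup.mem_subgroupOf]
  have hcardPK : Nat.card ↥(PK : Subgroup ↥K) = p := by
    rw [hPKdef, Sylow.coe_subtype]
    rw [Nat.card_congr (Subgroup.subgroupOfEquivOfLe hPK).toEquiv, hP]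
  have hKconj : ∀ a ∈ (P : Subgroup G), a ≠ 1 → ∀ b ∈ (P : Subgroup G), IsConj a b →
      ∃ k ∈ K, k * a * k⁻¹ = b := by
    intro a ha ha1 b hb hab
    by_contra hcon
    push Not at hcon
    have hb1 : b ≠ 1 := by
      intro h
      rw [h] at hab
      exact ha1 (isConj_one_left.mp hab)
    apply hnot a ha ha1
    intro c hc hc1
    have haK : (⟨a, hPK ha⟩ : ↥K) ∈ (PK : Subgroup ↥K) := (hmemPK _).mpr ha
    have hbK : (⟨b, hPK hb⟩ : ↥K) ∈ (PK : Subgroup ↥K) := (hmemPK _).mpr hb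
    have hcK : (⟨c, hPK hc⟩ : ↥K) ∈ (PK : Subgroup ↥K) := (hmemPK _).mpr hc
    have hnab : ¬ IsConj (⟨a, hPK ha⟩ : ↥K) ⟨b, hPK hb⟩ := by
      intro h
      obtain ⟨k, hk⟩ := isConj_iff.mp h
      apply hcon (k : G) k.2
      have := congrArg Subtype.val hk
      simpa using this
    have h2 := psll4b_two_classes PK hcardPK f hpf hrelK ⟨a, hPK ha⟩ ⟨b, hPK hb⟩ haK
      (fun h => ha1 (congrArg Subtype.val h)) hbK (fun h => hb1 (congrArg Subtype.val h)) hnab
      ⟨c, hPK hc⟩ hcK (fun h => hc1 (congrArg Subtype.val h))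
    rcases h2 with h2 | h2
    · obtain ⟨k, hk⟩ := isConj_iff.mp h2
      rw [isConj_iff]
      refine ⟨(k : G), ?_⟩
      have := congrArg Subtype.val hk
      simpa using this
    · obtain ⟨k, hk⟩ := isConj_iff.mp h2
      have h3 : IsConj b c := by
        rw [isConj_iff]
        refine ⟨(k : G), ?_⟩
        have := congrArg Subtype.val hk
        simpa using this
      exact hab.trans h3
  have hmap : ((PK : Subgroup ↥K).map K.subtype) = (P : Subgroup G) := by
    rw [hPKdef, Sylow.coe_subtype, Subgroup.subgroupOf_map_subtype]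
    exact inf_eq_left.mpr hPK
  have hfrat := Sylow.normalizer_sup_eq_top PK
  rw [hmap] at hfrat
  obtain ⟨a, ha1⟩ : ∃ a : ↥(P : Subgroup G), a ≠ 1 := by
    haveI : Nontrivial ↥(P : Subgroup G) := by
      rw [← Finite.one_lt_card_iff_nontrivial, hP]
      exact hp.one_lt
    exact exists_ne 1
  have ha1' : (a : G) ≠ 1 := fun h => ha1 (Subtype.ext h)
  intro g
  have hg : g ∈ (Subgroup.normalizer ((P : Subgroup G) : Set G)) ⊔ K := by
    rw [hfrat]
    exact Subgroup.mem_top g
  rw [sup_comm] at hg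
  have hg' : g ∈ ((K ⊔ Subgroup.normalizer ((P : Subgroup G) : Set G) : Subgroup G) : Set G) := hg
  rw [Subgroup.normal_mul] at hg'
  obtain ⟨k, hk, n, hn, rfl⟩ := Set.mem_mul.mp hg'
  have hna : n * (a : G) * n⁻¹ ∈ (P : Subgroup G) :=
    (Subgroup.mem_normalizer_iff.mp hn (a : G)).mp a.2
  obtain ⟨k', hk', hk'a⟩ := hKconj (a : G) a.2 ha1' (n * (a : G) * n⁻¹) hna
    (isConj_iff.mpr ⟨n, rfl⟩)
  refine ⟨k * k', K.mul_mem hk hk', k'⁻¹ * n, ?_, by group⟩
  rw [← centralizer_eq_cen P hP (a : G) a.2 ha1', Subgroup.mem_centralizer_singleton_iff]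
  have h4 : (a : G) = k'⁻¹ * (n * (a : G) * n⁻¹) * k' := by
    rw [← hk'a]
    group
  calc k'⁻¹ * n * (a : G) = k'⁻¹ * (n * (a : G) * n⁻¹) * n := by group
    _ = (k'⁻¹ * (n * (a : G) * n⁻¹) * k') * (k'⁻¹ * n) := by group
    _ = (a : G) * (k'⁻¹ * n) := by rw [← h4]

end Cfsg.Agent.Lib.helper15.PSL
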