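import Mathlib
import Cfsg.Agent.Lib.helper15.PSL.Defs

set_option autoImplicit false
set_option linter.unusedVariables false
set_option linter.unusedSectionVars false
open scoped ComplexConjugate
open Classical

namespace Cfsg.Agent.Lib.helper15.PSL

open Cfsg.Agent.Lib.helper7 Cfsg.Agent.Lib.helper7.BR Cfsg.Agent.Lib.helper2 Cfsg.Agent.Lib.Helper25
  Cfsg.Agent.Lib.Helper29 Cfsg.Agent.Lib.helper15.BH

universe u

theorem psll5_core {G : Type u} [Group G] (K : Subgroup G)
    (hcover : ∀ g : G, ∃ k ∈ K, ∃ z ∈ Subgroup.center G, g = k * z) :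
    Nonempty ((G ⧸ Subgroup.center G) ≃* (↥K ⧸ Subgroup.center ↥K)) := by
  let φ : ↥K →* G ⧸ Subgroup.center G := (QuotientGroup.mk' (Subgroup.center G)).comp K.subtype
  have hsurj : Function.Surjective φ := by
    intro q
    obtain ⟨g, rfl⟩ := QuotientGroup.mk'_surjective (Subgroup.center G) q
    obtain ⟨k, hk, z, hz, rfl⟩ := hcover g
    refine ⟨⟨k, hk⟩, ?_⟩
    change (QuotientGroup.mk' (Subgroup.center G)) k = (QuotientGroup.mk' (Subgroup.center G)) (k * z)
    rw [QuotientGroup.mk'_eq_mk']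
    exact ⟨z, hz, rfl⟩
  have hker : φ.ker = Subgroup.center ↥K := by
    ext k
    rw [MonoidHom.mem_ker]
    change (QuotientGroup.mk' (Subgroup.center G)) (k : G) = 1 ↔ _
    rw [QuotientGroup.mk'_apply, QuotientGroup.eq_one_iff, Subgroup.mem_center_iff,
      Subgroup.mem_center_iff]
    constructor
    · intro h k'
      apply Subtype.ext
      simpa using h (k' : G)
    · intro h g
      obtain ⟨k', hk', z, hz, rfl⟩ := hcover g
      have h1 : (k' : G) * (k : G) = (k : G) * k' := by
        have := h ⟨k', hk'⟩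
        simpa using congrArg Subtype.val this
      have h2 : z * (k : G) = (k : G) * z := (Subgroup.mem_center_iff.mp hz (k : G)).symm
      calc k' * z * (k : G) = k' * ((k : G) * z) := by rw [mul_assoc, h2]
        _ = (k' * (k : G)) * z := by rw [mul_assoc]
        _ = ((k : G) * k') * z := by rw [h1]
        _ = (k : G) * (k' * z) := by rw [mul_assoc]
  have e1 : (↥K ⧸ φ.ker) ≃* (G ⧸ Subgroup.center G) :=
    QuotientGroup.quotientKerEquivOfSurjective φ hsurj
  have e2 : (↥K ⧸ φ.ker) ≃* (↥K ⧸ Subgroup.center ↥K) :=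
    QuotientGroup.quotientMulEquivOfEq hker
  exact ⟨e1.symm.trans e2⟩

variable {G : Type u} [Group G] [Fintype G] {p : ℕ} [Fact p.Prime]

theorem quotient_center_iso (K : Subgroup G)
    (hcover : ∀ g : G, ∃ k ∈ K, ∃ z ∈ Subgroup.center G, g = k * z) :
    Nonempty ((G ⧸ Subgroup.center G) ≃* (↥K ⧸ Subgroup.center ↥K)) :=
  psll5_core K hcover

end Cfsg.Agent.Lib.helper15.PSL
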