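import Mathlib
import Cfsg.Prelude.Def_Characters
import Cfsg.Prelude.Def_Blocks
import Cfsg.Agent.Lib.Helper25.CharLinear
import Cfsg.Agent.Lib.Helper29.LeoOrbit
import Cfsg.Agent.Lib.helper7.BR.Defs
import Cfsg.Agent.Lib.Helper13.BT.Defs
import Cfsg.Agent.Lib.helper15.BH.Main
import Cfsg.Agent.Lib.helper15.PSL.Main4
import Cfsg.Agent.Lib.helper6.P2OddD
import Cfsg.Agent.Lib.helper8.Burnside

set_option autoImplicit false
set_option linter.unusedVariables false
set_option linter.unusedSectionVars false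
set_option linter.style.haveILetI false

namespace Cfsg.Agent.Lib.Helper13.BT

open Classical
open scoped ComplexConjugate
open Cfsg.Agent.Lib.Helper25 Cfsg.Agent.Lib.Helper29
open Cfsg.Agent.Lib.helper7.BR

universe u

variable {G : Type u} [Group G] [Fintype G] {p : ℕ} [Fact p.Prime]

theorem btcasep_core [IsSimpleGroup G] (hnc : ¬ ∀ x y : G, x * y = y * x) (P : Sylow p G)
    (hP : Nat.card ↥(P : Subgroup G) = p) (e : ℕ) (he : (cen P).relIndex (nrm P) = e) (h1 : 1 < e)
    (h2 : e + 1 < p) (θ : Cfsg.IrrCharacter G) (hθ : leoDeg θ = e)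
    (hfaith : ∀ g : G, (θ : G → ℂ) g = (θ : G → ℂ) 1 → g = 1) : Nat.card G < p ^ 3 := by
  have hp : p.Prime := Fact.out
  have hG0 : Nat.card G ≠ 0 := Nat.card_pos.ne'
  have hdiv : p ∣ Nat.card G := by
    rw [← hP]
    exact Subgroup.card_subgroup_dvd_card _
  have hsq : ¬ p ^ 2 ∣ Nat.card G := by
    intro h
    have h3 := P.card_eq_multiplicity
    rw [hP] at h3
    have h4 : 2 ≤ (Nat.card G).factorization p := (hp.pow_dvd_iff_le_factorization hG0).mp h
    have h5 : p ^ 1 = p ^ (Nat.card G).factorization p := by rw [pow_one]; exact h3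
    have h6 := Nat.pow_right_injective hp.two_le h5
    omega
  have hnn : ∀ H : Subgroup G, H.Normal → Nat.card H ≠ p := by
    intro H hH hcard
    rcases hH.eq_bot_or_eq_top with h | h
    · rw [h, Subgroup.card_bot] at hcard
      exact hp.one_lt.ne hcard
    · rw [h, Subgroup.card_top] at hcard
      haveI : Fact p.Prime := ⟨hp⟩
      haveI : IsCyclic G := isCyclic_of_prime_card hcard
      apply hnc
      intro x y
      exact IsCyclic.commGroup.mul_comm x y
  have hchar : Cfsg.IsCharacter G (θ : G → ℂ) := by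
    obtain ⟨n, ρ, _, h⟩ := θ.2
    exact ⟨n, ρ, h⟩
  have hcd : Cfsg.charDegree (θ : G → ℂ) = e := by
    unfold Cfsg.charDegree
    rw [leoDeg_spec, hθ]
    simp
  have hle := Cfsg.Agent.Lib.helper15.BH.s4503_main p hp hdiv hsq hnn (θ : G → ℂ) hchar hfaith
  rw [hcd] at hle
  have hedvd : e ∣ p - 1 := by
    rw [← he]
    exact Cfsg.Agent.Lib.helper8.h8_relIndex_centralizer_normalizer_dvd_prime p hp (P : Subgroup G) hP
  obtain ⟨k, hk⟩ := hedvd
  have hk2 : 2 ≤ k := by
    by_contra hcon
    have : k = 0 ∨ k = 1 := by omega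
    rcases this with h | h
    · rw [h, mul_zero] at hk; omega
    · rw [h, mul_one] at hk; omega
  have hep : 2 * e + 1 = p := by
    have : e * 2 ≤ e * k := Nat.mul_le_mul_left e hk2
    omega
  have hiso := Cfsg.Agent.Lib.helper15.PSL.psl_main p hp hdiv hsq hnn (θ : G → ℂ) hchar hfaith
    (by rw [hcd]; exact hep)
  obtain ⟨φ⟩ := hiso
  have hZ : Subgroup.center G = ⊥ := by
    rcases (inferInstance : (Subgroup.center G).Normal).eq_bot_or_eq_top with h | h
    · exact h
    · exfalso
      apply hnc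
      intro x y
      have hx : x ∈ Subgroup.center G := by rw [h]; trivial
      exact ((Subgroup.mem_center_iff.mp hx) y).symm
  have hcardG : Nat.card G = Nat.card (Matrix.ProjectiveSpecialLinearGroup (Fin 2) (ZMod p)) := by
    rw [← Nat.card_congr φ.toEquiv]
    have h3 := Subgroup.card_eq_card_quotient_mul_card_subgroup (Subgroup.center G)
    rw [hZ, Subgroup.card_bot, mul_one] at h3
    rw [h3, hZ]
  have hodd : Odd (Fintype.card (ZMod p)) := by
    rw [ZMod.card]
    rw [← hep]
    exact ⟨e, rfl⟩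
  have h3 := Cfsg.Agent.Lib.helper6.P2Odd.two_mul_card_psl2 (F := ZMod p) hodd
  rw [ZMod.card, ← hcardG] at h3
  have hp1 : 1 ≤ p ^ 2 := Nat.one_le_pow _ _ hp.pos
  have h4 : p * (p ^ 2 - 1) < p * p ^ 2 :=
    Nat.mul_lt_mul_of_pos_left (by omega) hp.pos
  have h5 : p * p ^ 2 = p ^ 3 := by ring
  omega

end Cfsg.Agent.Lib.Helper13.BT
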