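import Mathlib
import Cfsg.Prelude.Def_Characters
import Cfsg.Prelude.Def_Blocks
import Cfsg.Agent.Lib.Helper25.CharLinear
import Cfsg.Agent.Lib.Helper29.LeoOrbit
import Cfsg.Agent.Lib.helper7.BR.Defs
import Cfsg.Agent.Lib.Helper13.BT.Defs
import Cfsg.Agent.Lib.Helper1.BTCASEPcore
import Cfsg.Agent.Lib.Helper21.BTFAITH

set_option autoImplicit false
set_option linter.unusedVariables false
set_option linter.unusedSectionVars false

namespace Cfsg.Agent.Lib.Helper13.BT

open Classical
open scoped ComplexConjugate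
open Cfsg.Agent.Lib.Helper25 Cfsg.Agent.Lib.Helper29
open Cfsg.Agent.Lib.helper7.BR

universe u

variable {G : Type u} [Group G] [Fintype G] {p : ℕ} [Fact p.Prime]

theorem case_plus [IsSimpleGroup G] (hnc : ¬ ∀ x y : G, x * y = y * x) (P : Sylow p G)
    (hP : Nat.card ↥(P : Subgroup G) = p) (e : ℕ) (he : (cen P).relIndex (nrm P) = e) (h1 : 1 < e)
    (h2 : e + 1 < p) (θ : Cfsg.IrrCharacter G) (hθ : leoDeg θ = e) : Nat.card G < p ^ 3 := by
  have hne : θ ≠ trivIrr G := by
    intro h
    have h3 := leoDeg_spec θ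
    rw [h, trivIrr_apply, ← h, hθ] at h3
    have h4 : (1 : ℕ) = e := by exact_mod_cast h3
    omega
  exact btcasep_core hnc P hP e he h1 h2 θ hθ (fun g hg => faithful_of_simple θ hne g hg)

end Cfsg.Agent.Lib.Helper13.BT
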