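import Mathlib
import Cfsg.Prelude.Def_Characters
import Cfsg.Prelude.Def_Blocks
import Cfsg.Agent.Lib.Helper25.CharLinear
import Cfsg.Agent.Lib.Helper29.LeoOrbit
import Cfsg.Agent.Lib.helper7.BR.Defs
import Cfsg.Agent.Lib.Helper13.BT.Defs
import Cfsg.Agent.Lib.Helper25.BHE1
import Cfsg.Agent.Lib.helper23.PSLDEGSUM
import Cfsg.Agent.Lib.helper7.CharMul
import Cfsg.Agent.Lib.helper2.BergerG1
import Cfsg.Agent.Lib.helper2.CharNat

set_option autoImplicit false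
set_option linter.unusedVariables false
set_option linter.unusedSectionVars false
set_option linter.style.haveILetI false

namespace Cfsg.Agent.Lib.Helper13.BT

open Classical
open scoped ComplexConjugate
open Cfsg.Agent.Lib.Helper25 Cfsg.Agent.Lib.Helper29
open Cfsg.Agent.Lib.helper7.BR

universe u

variable {G : Type u} [Group G] [Fintype G] {p : ℕ} [Fact p.Prime]

theorem bte1b_char (χ : Cfsg.IrrCharacter G) : Cfsg.IsCharacter G (χ : G → ℂ) := by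
  obtain ⟨n, ρ, _, h⟩ := χ.2
  exact ⟨n, ρ, h⟩

theorem bte1b_prod_char (θ θ' : Cfsg.IrrCharacter G) :
    Cfsg.IsCharacter G (fun g => (θ : G → ℂ) g * conj ((θ' : G → ℂ) g)) :=
  Cfsg.Agent.Lib.helper7.h7_isCharacter_mul (bte1b_char θ)
    (Cfsg.Agent.Lib.helper2.bg_isCharacter_conj (bte1b_char θ'))

theorem degree_bounds {P : Sylow p G} {f : ℕ} {X Y : Finset (Cfsg.IrrCharacter G)}
    {a : Cfsg.IrrCharacter G → ℤ} (hB : PB3 p f P X Y a (-1)) (hpf : 2 * f + 1 = p)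
    (hdegY : ∀ η ∈ Y, leoDeg η = f + 1) :
    ∑ ξ ∈ X.filter (fun ξ => a ξ = 1), leoDeg ξ ≤ (f + 1) ^ 2 ∧
      ∑ ξ ∈ X.filter (fun ξ => a ξ = -1), leoDeg ξ ≤ (f + 1) ^ 2 := by
  have hp : p.Prime := Fact.out
  have hf0 : 0 < f := by
    rcases Nat.eq_zero_or_pos f with h | h
    · subst h
      have := hp.two_le
      omega
    · exact h
  have hY2 : Y.card = 2 := by
    have h1 := hB.cardY
    have h2 : Y.card * f = 2 * f := by omega
    exact Nat.eq_of_mul_eq_mul_right hf0 h2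
  obtain ⟨θ, θ', hne, hYeq⟩ := Finset.card_eq_two.mp hY2
  have hθ : θ ∈ Y := by rw [hYeq]; simp
  have hθ' : θ' ∈ Y := by rw [hYeq]; simp
  have hreg : ∀ g : G, ¬ p ∣ orderOf g → (θ' : G → ℂ) g = (θ : G → ℂ) g :=
    fun g hg => hB.agree θ' hθ' θ hθ g hg
  have hdiff : ∀ ξ ∈ X,
      Cfsg.classInner (fun g => (θ : G → ℂ) g * conj ((θ : G → ℂ) g)) (ξ : G → ℂ) -
      Cfsg.classInner (fun g => (θ : G → ℂ) g * conj ((θ' : G → ℂ) g)) (ξ : G → ℂ) = (a ξ : ℂ) := by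
    intro ξ hξ
    have := Cfsg.Agent.Lib.helper15.BH.inner_diff_of_const_sing p θ θ' hne.symm hreg (ξ : G → ℂ) (a ξ : ℂ)
      (fun g hg => hB.valX ξ hξ g hg)
    rw [this]
    simp
  have hW := bte1b_prod_char θ θ
  have hW' := bte1b_prod_char θ θ'
  have hθ1 : (θ : G → ℂ) 1 = ((f + 1 : ℕ) : ℂ) := by
    rw [← hdegY θ hθ]; exact leoDeg_spec θ
  have hθ'1 : (θ' : G → ℂ) 1 = ((f + 1 : ℕ) : ℂ) := by
    rw [← hdegY θ' hθ']; exact leoDeg_spec θ'
  have hd : (fun g => (θ : G → ℂ) g * conj ((θ : G → ℂ) g)) 1 = (((f + 1) ^ 2 : ℕ) : ℂ) := by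
    simp only [hθ1, Complex.conj_natCast]
    push_cast
    ring
  have hd' : (fun g => (θ : G → ℂ) g * conj ((θ' : G → ℂ) g)) 1 = (((f + 1) ^ 2 : ℕ) : ℂ) := by
    simp only [hθ1, hθ'1, Complex.conj_natCast]
    push_cast
    ring
  refine ⟨?_, ?_⟩
  · apply Cfsg.Agent.Lib.helper15.PSL.degree_sum_le hW _ _ _ hd
    intro ξ hξ
    obtain ⟨hξX, hξa⟩ := Finset.mem_filter.mp hξ
    obtain ⟨m, hm⟩ := Cfsg.Agent.Lib.helper2.classInner_character_nat hW (bte1b_char ξ)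
    obtain ⟨m', hm'⟩ := Cfsg.Agent.Lib.helper2.classInner_character_nat hW' (bte1b_char ξ)
    have h1 := hdiff ξ hξX
    rw [hm, hm', hξa] at h1
    rw [hm]
    intro h0
    have hm0 : m = 0 := by exact_mod_cast h0
    subst hm0
    have h2 : ((0 : ℕ) : ℂ) - (m' : ℂ) = ((-(m' : ℤ) : ℤ) : ℂ) := by push_cast; ring
    rw [h2] at h1
    have h3 : -(m' : ℤ) = 1 := by exact_mod_cast h1
    omega
  · apply Cfsg.Agent.Lib.helper15.PSL.degree_sum_le hW' _ _ _ hd'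
    intro ξ hξ
    obtain ⟨hξX, hξa⟩ := Finset.mem_filter.mp hξ
    obtain ⟨m, hm⟩ := Cfsg.Agent.Lib.helper2.classInner_character_nat hW (bte1b_char ξ)
    obtain ⟨m', hm'⟩ := Cfsg.Agent.Lib.helper2.classInner_character_nat hW' (bte1b_char ξ)
    have h1 := hdiff ξ hξX
    rw [hm, hm', hξa] at h1
    rw [hm']
    intro h0
    have hm0 : m' = 0 := by exact_mod_cast h0
    subst hm0
    have h2 : (m : ℂ) - ((0 : ℕ) : ℂ) = (((m : ℤ) : ℤ) : ℂ) := by push_cast; ring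
    rw [h2] at h1
    have h3 : (m : ℤ) = -1 := by exact_mod_cast h1
    omega

end Cfsg.Agent.Lib.Helper13.BT
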