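import Mathlib
import Cfsg.Prelude.Def_Characters
import Cfsg.Prelude.Def_Blocks
import Cfsg.Agent.Lib.Helper25.CharLinear
import Cfsg.Agent.Lib.Helper29.LeoOrbit
import Cfsg.Agent.Lib.helper7.BR.Defs
import Cfsg.Agent.Lib.Helper13.BT.Defs
import Cfsg.Agent.Lib.Helper25.CharOrth
import Cfsg.Agent.Lib.helper23.BRCLS
import Cfsg.Agent.Lib.Helper10.BRVAN1

set_option autoImplicit false
set_option linter.unusedVariables false
set_option linter.unusedSectionVars false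
set_option linter.style.haveILetI false

namespace Cfsg.Agent.Lib.Helper13.BT

open Classical
open scoped ComplexConjugate
open Cfsg.Agent.Lib.Helper25 Cfsg.Agent.Lib.Helper29
open Cfsg.Agent.Lib.helper7.BR

universe u

variable {G : Type u} [Group G] [Fintype G] {p : ℕ} [Fact p.Prime]

theorem btvan_col [Fintype (Cfsg.IrrCharacter G)] {P : Sylow p G} (hP : Nat.card ↥(P : Subgroup G) = p)
    (hcen : cen P = (P : Subgroup G)) (x : G) (hx : x ∈ (P : Subgroup G)) (hx1 : x ≠ 1) :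
    ∑ χ : Cfsg.IrrCharacter G, Complex.normSq ((χ : G → ℂ) x) = (p : ℝ) := by
  have h := irr_column_orthogonality (G := G) x x
  rw [if_pos (IsConj.refl x), centralizer_eq_cen P hP x hx hx1, hcen, hP] at h
  have h2 : ∑ χ : Cfsg.IrrCharacter G, (χ : G → ℂ) x * conj ((χ : G → ℂ) x) =
      ((∑ χ : Cfsg.IrrCharacter G, Complex.normSq ((χ : G → ℂ) x) : ℝ) : ℂ) := by
    push_cast
    apply Finset.sum_congr rfl
    intro χ _
    exact Complex.mul_conj _
  rw [h2] at h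
  exact_mod_cast h

theorem van_rest {P : Sylow p G} (hP : Nat.card ↥(P : Subgroup G) = p) (hcen : cen P = (P : Subgroup G))
    {e : ℕ} {X Y : Finset (Cfsg.IrrCharacter G)} {a : Cfsg.IrrCharacter G → ℤ} (hB : PB3 p e P X Y a (-1))
    (z : ℕ) (hz : z + e = p) (hdegY : ∀ η ∈ Y, leoDeg η = z) (ξ : Cfsg.IrrCharacter G) (hX : ξ ∉ X)
    (hY : ξ ∉ Y) (x : G) (hx : x ∈ (P : Subgroup G)) (hx1 : x ≠ 1) : (ξ : G → ℂ) x = 0 := by
  haveI : Fintype (Cfsg.IrrCharacter G) := Fintype.ofFinite _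
  have hp : p.Prime := Fact.out
  set rest : Finset (Cfsg.IrrCharacter G) := Finset.univ \ (X ∪ Y) with hrest
  have hξ : ξ ∈ rest := by
    rw [hrest, Finset.mem_sdiff, Finset.mem_union]
    exact ⟨Finset.mem_univ _, fun h => h.elim hX hY⟩
  have hsplit : ∀ f : Cfsg.IrrCharacter G → ℝ,
      ∑ χ : Cfsg.IrrCharacter G, f χ = ∑ ψ ∈ rest, f ψ + (∑ χ ∈ X, f χ + ∑ θ ∈ Y, f θ) := by
    intro f
    rw [← Finset.sum_sdiff (Finset.subset_univ (X ∪ Y)), Finset.sum_union hB.disj]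
  set R : ↥(P : Subgroup G) → ℝ := fun y => ∑ ψ ∈ rest, Complex.normSq ((ψ : G → ℂ) (y : G)) with hR
  have hRnn : ∀ y, 0 ≤ R y := fun y => Finset.sum_nonneg (fun ψ _ => Complex.normSq_nonneg _)
  set S : Finset ↥(P : Subgroup G) := (Finset.univ : Finset ↥(P : Subgroup G)).erase 1 with hSdef
  have hScard : (S.card : ℝ) = (p : ℝ) - 1 := by
    rw [hSdef, Finset.card_erase_of_mem (Finset.mem_univ _), Finset.card_univ,
      ← Nat.card_eq_fintype_card, hP, Nat.cast_sub hp.one_le, Nat.cast_one]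
  have hord : ∀ y ∈ S, p ∣ orderOf ((y : ↥(P : Subgroup G)) : G) := by
    intro y hy
    have hy1 : y ≠ 1 := (Finset.mem_erase.mp hy).1
    have h1 : orderOf y ∣ p := by
      have := orderOf_dvd_natCard y
      rwa [hP] at this
    have h2 : orderOf y ≠ 1 := fun h => hy1 (orderOf_eq_one_iff.mp h)
    have h3 : orderOf y = p := ((Nat.dvd_prime hp).mp h1).resolve_left h2
    rw [← Subgroup.orderOf_coe] at h3
    rw [h3]
  have hE : ∀ y ∈ S, (p : ℝ) = R y + ((e : ℝ) + ∑ θ ∈ Y, Complex.normSq ((θ : G → ℂ) (y : G))) := by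
    intro y hy
    have hy1 : (y : G) ≠ 1 := by
      intro h
      exact (Finset.mem_erase.mp hy).1 (Subtype.ext h)
    have h1 := btvan_col hP hcen (y : G) y.2 hy1
    rw [hsplit] at h1
    have hXs : ∑ χ ∈ X, Complex.normSq ((χ : G → ℂ) (y : G)) = (X.card : ℝ) := by
      have hone : ∀ χ ∈ X, Complex.normSq ((χ : G → ℂ) (y : G)) = 1 := by
        intro χ hχ
        rw [hB.valX χ hχ (y : G) (hord y hy)]
        rcases hB.a_pm χ hχ with h | h <;> rw [h] <;> simp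
      rw [Finset.sum_congr rfl hone, Finset.sum_const, nsmul_eq_mul, mul_one]
    rw [hXs, hB.cardX] at h1
    rw [← h1]
  have hYlow : ∀ θ ∈ Y, (z : ℝ) * (e : ℝ) ≤ ∑ y ∈ S, Complex.normSq ((θ : G → ℂ) (y : G)) := by
    intro θ hθ
    have hchar : Cfsg.IsCharacter G (θ : G → ℂ) := by
      obtain ⟨n, ρ, _, h⟩ := θ.2
      exact ⟨n, ρ, h⟩
    have hd : (θ : G → ℂ) 1 = (z : ℂ) := by
      rw [← hdegY θ hθ]
      exact (leoDeg_spec θ)
    have h1 := sum_normSq_ge P hP (θ : G → ℂ) hchar z hd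
    have h2 : ∑ y ∈ S, Complex.normSq ((θ : G → ℂ) (y : G)) =
        ∑ y : ↥(P : Subgroup G), Complex.normSq ((θ : G → ℂ) (y : G)) -
          Complex.normSq ((θ : G → ℂ) ((1 : ↥(P : Subgroup G)) : G)) := by
      rw [hSdef, ← Finset.add_sum_erase Finset.univ _ (Finset.mem_univ (1 : ↥(P : Subgroup G)))]
      ring
    have h3 : Complex.normSq ((θ : G → ℂ) ((1 : ↥(P : Subgroup G)) : G)) = (z : ℝ) ^ 2 := by
      rw [Subgroup.coe_one, hd, Complex.normSq_natCast]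
      ring
    rw [h2, h3]
    have hpz : (p : ℝ) = (z : ℝ) + (e : ℝ) := by
      rw [← hz]; push_cast; ring
    have h4 : ((p * z : ℕ) : ℝ) = (p : ℝ) * (z : ℝ) := by push_cast; ring
    rw [h4, hpz] at h1
    nlinarith [h1]
  have hsum : ((p : ℝ) - 1) * (p : ℝ) = ∑ y ∈ S, R y + (((p : ℝ) - 1) * (e : ℝ) +
      ∑ y ∈ S, ∑ θ ∈ Y, Complex.normSq ((θ : G → ℂ) (y : G))) := by
    have h0 : ∑ y ∈ S, (p : ℝ) = ∑ y ∈ S, (R y + ((e : ℝ) +
        ∑ θ ∈ Y, Complex.normSq ((θ : G → ℂ) (y : G)))) := Finset.sum_congr rfl hE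
    rw [Finset.sum_const, Finset.sum_add_distrib, Finset.sum_add_distrib, Finset.sum_const,
      nsmul_eq_mul, nsmul_eq_mul, hScard] at h0
    exact h0
  have hcomm : ∑ y ∈ S, ∑ θ ∈ Y, Complex.normSq ((θ : G → ℂ) (y : G)) =
      ∑ θ ∈ Y, ∑ y ∈ S, Complex.normSq ((θ : G → ℂ) (y : G)) := Finset.sum_comm
  rw [hcomm] at hsum
  have hYsum : (Y.card : ℝ) * ((z : ℝ) * (e : ℝ)) ≤
      ∑ θ ∈ Y, ∑ y ∈ S, Complex.normSq ((θ : G → ℂ) (y : G)) := by
    have := Finset.sum_le_sum hYlow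
    rw [Finset.sum_const, nsmul_eq_mul] at this
    exact this
  have hYe : (Y.card : ℝ) * (e : ℝ) = (p : ℝ) - 1 := by
    have := hB.cardY
    rw [← Nat.cast_mul, this, Nat.cast_sub hp.one_le, Nat.cast_one]
  have hpz : (p : ℝ) = (z : ℝ) + (e : ℝ) := by
    rw [← hz]; push_cast; ring
  have hRsum : ∑ y ∈ S, R y ≤ 0 := by
    have e1 : (Y.card : ℝ) * ((z : ℝ) * (e : ℝ)) = ((p : ℝ) - 1) * (z : ℝ) := by
      rw [← hYe]; ring
    rw [e1] at hYsum
    nlinarith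
  have hR0 : ∀ y ∈ S, R y = 0 :=
    (Finset.sum_eq_zero_iff_of_nonneg (fun y _ => hRnn y)).mp
      (le_antisymm hRsum (Finset.sum_nonneg (fun y _ => hRnn y)))
  have hxS : (⟨x, hx⟩ : ↥(P : Subgroup G)) ∈ S := by
    rw [hSdef, Finset.mem_erase]
    exact ⟨fun h => hx1 (congrArg Subtype.val h), Finset.mem_univ _⟩
  have h0 : ∑ ψ' ∈ rest, Complex.normSq ((ψ' : G → ℂ) x) = 0 := hR0 _ hxS
  have h1 := (Finset.sum_eq_zero_iff_of_nonneg
    (fun (ψ' : Cfsg.IrrCharacter G) _ => Complex.normSq_nonneg ((ψ' : G → ℂ) x))).mp h0 ξ hξ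
  exact Complex.normSq_eq_zero.mp h1

end Cfsg.Agent.Lib.Helper13.BT
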