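import Mathlib
import Cfsg.Prelude.Def_Solvable
import Cfsg.Agent.Lib.Helper1.Cores
import Cfsg.Agent.Lib.Helper1.Fusion
import Cfsg.Agent.Lib.Helper1.AbelianHall

set_option autoImplicit false

namespace Cfsg.Agent.Lib.Helper1

open scoped Pointwise commutatorElement

variable {G : Type*} [Group G]

theorem exists_conj_mem_sylow_of_le [Finite G] {p : ℕ} [Fact p.Prime] (P : Sylow p G)
    (B C : Subgroup G) (hPC : (P : Subgroup G) ≤ C) (hB : IsPGroup p B) (hBC : B ≤ C) :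
    ∃ c ∈ C, ∀ b ∈ B, c * b * c⁻¹ ∈ (P : Subgroup G) := by
  have hB' : IsPGroup p (B.subgroupOf C) := hB.comap_of_injective C.subtype C.subtype_injective
  obtain ⟨T, hT⟩ := hB'.exists_le_sylow
  obtain ⟨c, hc⟩ := MulAction.exists_smul_eq C T (P.subtype hPC)
  refine ⟨c, c.2, ?_⟩
  intro b hb
  have hb2 : (⟨b, hBC hb⟩ : C) ∈ (T : Subgroup C) := hT hb
  have h3 : c * ⟨b, hBC hb⟩ * c⁻¹ ∈ c • T := by
    rw [mem_sylow_smul_iff]
    have : c⁻¹ * (c * ⟨b, hBC hb⟩ * c⁻¹) * c = ⟨b, hBC hb⟩ := by group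
    rw [this]; exact hb2
  rw [hc] at h3
  have h4 : c * ⟨b, hBC hb⟩ * c⁻¹ ∈ ((P.subtype hPC : Sylow p C) : Subgroup C) := h3
  rw [Sylow.coe_subtype, Subgroup.mem_subgroupOf] at h4
  exact h4

theorem sylow_isMulCommutative_of_conj [Finite G] {p : ℕ} [Fact p.Prime] (S P : Sylow p G)
    (hS : IsMulCommutative S) : IsMulCommutative (P : Subgroup G) := by
  obtain ⟨g, hg⟩ := MulAction.exists_smul_eq G S P
  have hS' : IsMulCommutative (S : Subgroup G) := hS
  have := isMulCommutative_conj_smul (S : Subgroup G) g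
  rw [← hg, Sylow.coe_subgroup_smul]
  exact this

theorem le_normalizer_of_le_of_comm (P D : Subgroup G) (hP : IsMulCommutative P) (hD : D ≤ P) :
    P ≤ Subgroup.normalizer (D : Set G) := by
  refine le_trans ?_ (Subgroup.centralizer_le_normalizer _)
  intro x hx
  rw [Subgroup.mem_centralizer_iff]
  intro d hd
  have := (isMulCommutative_iff.mp hP) ⟨d, hD hd⟩ ⟨x, hx⟩
  exact congrArg Subtype.val this

theorem brodkey_aux [Finite G] {p : ℕ} [Fact p.Prime] (S : Sylow p G) (hS : IsMulCommutative S)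
    (P Q : Sylow p G)
    (hmin : ∀ P' Q' : Sylow p G, Nat.card ((P : Subgroup G) ⊓ Q : Subgroup G) ≤
      Nat.card ((P' : Subgroup G) ⊓ Q' : Subgroup G))
    (R : Sylow p G) : (P : Subgroup G) ⊓ Q ≤ R := by
  set D := (P : Subgroup G) ⊓ Q with hD
  set N := Subgroup.normalizer (D : Set G) with hN
  have hPc := sylow_isMulCommutative_of_conj S P hS
  have hQc := sylow_isMulCommutative_of_conj S Q hS
  have hPN : (P : Subgroup G) ≤ N := le_normalizer_of_le_of_comm _ D hPc inf_le_left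
  have hQN : (Q : Subgroup G) ≤ N := le_normalizer_of_le_of_comm _ D hQc inf_le_right
  have hRN : IsPGroup p ((R : Subgroup G) ⊓ N : Subgroup G) := R.2.to_le inf_le_left
  obtain ⟨c, hcN, hc⟩ := exists_conj_mem_sylow_of_le P ((R : Subgroup G) ⊓ N) N hPN hRN inf_le_right
  have h1 : ((c • R : Sylow p G) : Subgroup G) ⊓ Q ≤ D := by
    intro x hx
    obtain ⟨hxR, hxQ⟩ := hx
    refine ⟨?_, hxQ⟩
    have hxR' : x ∈ (c • R : Sylow p G) := hxR
    rw [mem_sylow_smul_iff] at hxR'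
    have hxN : x ∈ N := hQN hxQ
    have hcxN : c⁻¹ * x * c ∈ N := N.mul_mem (N.mul_mem (N.inv_mem hcN) hxN) hcN
    have := hc (c⁻¹ * x * c) ⟨hxR', hcxN⟩
    have e : c * (c⁻¹ * x * c) * c⁻¹ = x := by group
    rwa [e] at this
  have h2 : ((c • R : Sylow p G) : Subgroup G) ⊓ Q = D :=
    Subgroup.eq_of_le_of_card_ge h1 (hmin (c • R) Q)
  have h3 : D ≤ ((c • R : Sylow p G) : Subgroup G) := by
    rw [← h2]; exact inf_le_left
  intro d hd
  have hcd : c * d * c⁻¹ ∈ D := (Subgroup.mem_normalizer_iff.mp hcN d).mp hd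
  have h4 := h3 hcd
  have h5 : c * d * c⁻¹ ∈ (c • R : Sylow p G) := h4
  rw [mem_sylow_smul_iff] at h5
  have e : c⁻¹ * (c * d * c⁻¹) * c = d := by group
  rwa [e] at h5

theorem brodkey [Finite G] (p : ℕ) [Fact p.Prime] (S : Sylow p G) (hS : IsMulCommutative S)
    (hOp : Cfsg.pCore p G = ⊥) :
    ∃ g : G, (S : Subgroup G) ⊓ MulAut.conj g • (S : Subgroup G) = ⊥ := by
  obtain ⟨⟨P, Q⟩, hmin⟩ := Finite.exists_min
    (fun PQ : Sylow p G × Sylow p G => Nat.card ((PQ.1 : Subgroup G) ⊓ PQ.2 : Subgroup G))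
  have hmin' : ∀ P' Q' : Sylow p G, Nat.card ((P : Subgroup G) ⊓ Q : Subgroup G) ≤
      Nat.card ((P' : Subgroup G) ⊓ Q' : Subgroup G) := fun P' Q' => hmin (P', Q')
  have hD : (P : Subgroup G) ⊓ Q = ⊥ := by
    rw [eq_bot_iff, ← hOp, pCore_eq_iInf_sylow]
    exact le_iInf (fun R => brodkey_aux S hS P Q hmin' R)
  obtain ⟨a, ha⟩ := MulAction.exists_smul_eq G S P
  obtain ⟨b, hb⟩ := MulAction.exists_smul_eq G S Q
  refine ⟨a⁻¹ * b, ?_⟩
  have h1 : MulAut.conj a • ((S : Subgroup G) ⊓ MulAut.conj (a⁻¹ * b) • (S : Subgroup G)) =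
      (P : Subgroup G) ⊓ Q := by
    rw [Subgroup.smul_inf, smul_smul, ← map_mul, mul_inv_cancel_left, ← ha, ← hb,
      Sylow.coe_subgroup_smul, Sylow.coe_subgroup_smul]
  rw [hD] at h1
  have h2 := congrArg (fun K => MulAut.conj a⁻¹ • K) h1
  simp only [smul_smul, ← map_mul, inv_mul_cancel, map_one, one_smul, Subgroup.smul_bot] at h2
  exact h2

end Cfsg.Agent.Lib.Helper1
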