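import Mathlib
import Cfsg.Agent.Lib.Helper1.AbelianHall

set_option autoImplicit false

namespace Cfsg.Agent.Lib.Helper1

open scoped Pointwise commutatorElement IsMulCommutative

variable {G : Type*} [Group G]

theorem mem_normalizer_of_conj_smul_eq (H : Subgroup G) (n : G) (h : MulAut.conj n • H = H) :
    n ∈ Subgroup.normalizer (H : Set G) := by
  rw [Subgroup.mem_normalizer_iff]
  intro x
  have h1 : n * x * n⁻¹ ∈ MulAut.conj n • H ↔ x ∈ H := by
    rw [mem_conj_smul_iff]
    have : n⁻¹ * (n * x * n⁻¹) * n = x := by group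
    rw [this]
  rw [h] at h1
  exact h1.symm

theorem abelian_hall_fusion [Finite G] (H : Subgroup G) (hH : IsMulCommutative H)
    (hHall : (Nat.card H).Coprime H.index) (x g : G) (hx : x ∈ H) (hy : g * x * g⁻¹ ∈ H) :
    ∃ n ∈ Subgroup.normalizer (H : Set G), n * x * n⁻¹ = g * x * g⁻¹ := by
  set y := g * x * g⁻¹ with hydef
  set C := Subgroup.centralizer ({y} : Set G) with hCdef
  have hHC : H ≤ C := by
    intro h hh
    rw [hCdef, Subgroup.mem_centralizer_singleton_iff]
    have := (isMulCommutative_iff.mp hH) ⟨h, hh⟩ ⟨y, hy⟩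
    exact congrArg Subtype.val this
  have hH'C : MulAut.conj g • H ≤ C := by
    intro h hh
    rw [mem_conj_smul_iff] at hh
    rw [hCdef, Subgroup.mem_centralizer_singleton_iff]
    have h1 := (isMulCommutative_iff.mp hH) ⟨g⁻¹ * h * g, hh⟩ ⟨x, hx⟩
    have h2 : g⁻¹ * h * g * x = x * (g⁻¹ * h * g) := congrArg Subtype.val h1
    calc h * y = g * (g⁻¹ * h * g * x) * g⁻¹ := by rw [hydef]; group
      _ = g * (x * (g⁻¹ * h * g)) * g⁻¹ := by rw [h2]
      _ = y * h := by rw [hydef]; group
  have e1 : Nat.card (H.subgroupOf C) = Nat.card H :=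
    Cfsg.Agent.S0001.card_subgroupOf_of_le hHC
  have e2 : Nat.card ((MulAut.conj g • H).subgroupOf C) = Nat.card (MulAut.conj g • H : Subgroup G) :=
    Cfsg.Agent.S0001.card_subgroupOf_of_le hH'C
  have hHall' : (Nat.card (H.subgroupOf C)).Coprime (H.subgroupOf C).index := by
    rw [e1]
    exact Nat.Coprime.coprime_dvd_right (Subgroup.relIndex_dvd_index_of_le hHC) hHall
  have hc' : IsMulCommutative (MulAut.conj g • H : Subgroup G) := isMulCommutative_conj_smul H g
  obtain ⟨l, hl⟩ := abelian_hall_le_conj (H.subgroupOf C) ((MulAut.conj g • H).subgroupOf C)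
    inferInstance inferInstance (by rw [e1, e2, Cfsg.Agent.S0001.card_conj]) hHall'
  have h3 : MulAut.conj g • H ≤ MulAut.conj (l : G) • H :=
    hallProp_subgroup_transfer C H (MulAut.conj g • H) hHC hH'C l hl
  have h4 : MulAut.conj g • H = MulAut.conj (l : G) • H := by
    apply Subgroup.eq_of_le_of_card_ge h3
    rw [Cfsg.Agent.S0001.card_conj, Cfsg.Agent.S0001.card_conj]
  have h5 : MulAut.conj ((l : G)⁻¹ * g) • H = H := by
    rw [map_mul, mul_smul, h4, smul_smul, ← map_mul, inv_mul_cancel, map_one, one_smul]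
  refine ⟨(l : G)⁻¹ * g, mem_normalizer_of_conj_smul_eq H _ h5, ?_⟩
  have hl' : (l : G) * y = y * l := by
    have h6 : (l : G) ∈ Subgroup.centralizer ({y} : Set G) := l.2
    exact Subgroup.mem_centralizer_singleton_iff.mp h6
  calc (l : G)⁻¹ * g * x * ((l : G)⁻¹ * g)⁻¹ = (l : G)⁻¹ * y * l := by rw [hydef]; group
    _ = (l : G)⁻¹ * (y * l) := by group
    _ = (l : G)⁻¹ * (l * y) := by rw [hl']
    _ = y := by group

theorem hall_normal_complement [Finite G] (H : Subgroup G)
    (hHall : Nat.Coprime (Nat.card H) H.index)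
    (h : Subgroup.normalizer (H : Set G) ≤ Subgroup.centralizer (H : Set G)) :
    ∃ N : Subgroup G, N.Normal ∧ N.IsComplement' H := by
  have hH : IsMulCommutative H :=
    Subgroup.le_centralizer_iff_isMulCommutative.mp (Subgroup.le_normalizer.trans h)
  set T := MonoidHom.transfer (MonoidHom.id H) with hT
  have hpow : ∀ x : H, T (x : G) = x ^ H.index := by
    intro x
    have key : ∀ (k : ℕ) (g₀ : G), g₀⁻¹ * (x : G) ^ k * g₀ ∈ H →
        g₀⁻¹ * (x : G) ^ k * g₀ = (x : G) ^ k := by
      intro k g₀ hmem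
      have hxk : (x : G) ^ k ∈ H := H.pow_mem x.2 k
      have hmem' : g₀⁻¹ * (x : G) ^ k * g₀⁻¹⁻¹ ∈ H := by rwa [inv_inv]
      obtain ⟨n, hn, hnx⟩ := abelian_hall_fusion H hH hHall ((x : G) ^ k) g₀⁻¹ hxk hmem'
      have hnc := h hn
      rw [Subgroup.mem_centralizer_iff] at hnc
      have h1 : n * (x : G) ^ k * n⁻¹ = (x : G) ^ k := by
        rw [← hnc _ hxk]; group
      rw [inv_inv] at hnx
      rw [← hnx, h1]
    have := MonoidHom.transfer_eq_pow (MonoidHom.id H) (x : G) key
    rw [hT, this]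
    apply Subtype.ext
    simp
  have hinj : Function.Injective (fun x : H => T (x : G)) := by
    have hhom : ∀ a b : H, T ((a * b : H) : G) = T (a : G) * T (b : G) := by
      intro a b
      rw [Subgroup.coe_mul, map_mul]
    intro a b hab
    have h1 : T ((a * b⁻¹ : H) : G) = 1 := by
      rw [hhom]
      have hab' : T (a : G) = T (b : G) := hab
      rw [hab', ← hhom, mul_inv_cancel, Subgroup.coe_one, map_one]
    rw [hpow] at h1
    have h2 : orderOf (a * b⁻¹) ∣ H.index := orderOf_dvd_of_pow_eq_one h1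
    have h3 : orderOf (a * b⁻¹) ∣ Nat.card H := orderOf_dvd_natCard _
    have h4 : orderOf (a * b⁻¹) = 1 := Nat.eq_one_of_dvd_coprimes hHall h3 h2
    rw [orderOf_eq_one_iff] at h4
    exact mul_inv_eq_one.mp h4
  have hsurjH : Function.Surjective (fun x : H => T (x : G)) :=
    Finite.injective_iff_surjective.mp hinj
  have hsurj : Function.Surjective T := by
    intro y
    obtain ⟨x, hx⟩ := hsurjH y
    exact ⟨x, hx⟩
  have hidx : T.ker.index = Nat.card H := by
    rw [Subgroup.index_ker, MonoidHom.range_eq_top.mpr hsurj, Subgroup.card_top]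
  have hcardker : Nat.card T.ker = H.index := by
    have e1 := T.ker.card_mul_index
    have e2 := H.card_mul_index
    rw [hidx] at e1
    have hpos : 0 < Nat.card H := Nat.card_pos
    have : Nat.card T.ker * Nat.card H = H.index * Nat.card H := by
      rw [e1, mul_comm, e2]
    exact Nat.eq_of_mul_eq_mul_right hpos this
  refine ⟨T.ker, inferInstance, ?_⟩
  apply Subgroup.isComplement'_of_coprime
  · rw [hcardker, mul_comm]; exact H.card_mul_index
  · rw [hcardker]; exact hHall.symm

end Cfsg.Agent.Lib.Helper1
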