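import Mathlib
import Cfsg.Agent.Lib.Helper22.C3L.Defs
import Cfsg.Agent.Lib.Helper24.C3LGEN

set_option autoImplicit false
set_option linter.unusedVariables false
set_option linter.unusedSectionVars false

namespace Cfsg.Agent.Lib.Helper22.C3L

open Module

variable {F K V : Type*} [Field F] [Field K] [Algebra F K] [AddCommGroup V] [Module F V] [Module K V]
  [IsScalarTower F K V]

def c3ld1a_T (K : Type*) [Field K] [Algebra F K] [Module K V] [IsScalarTower F K V]
    (H : Subgroup (V ≃ₗ[F] V)) (z : V) (φ : Module.Dual F V) : Prop :=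
  (∀ a : K, φ (a • z) = 0) ∧ ∀ h : φ z = 0, LinearEquiv.transvection h ∈ H

theorem c3ld1a_T_z {H : Subgroup (V ≃ₗ[F] V)} {z : V} {φ : Module.Dual F V}
    (h : c3ld1a_T K H z φ) : φ z = 0 := by
  have := h.1 1
  rwa [one_smul] at this

theorem c3ld1a_T_zero (H : Subgroup (V ≃ₗ[F] V)) (z : V) : c3ld1a_T K H z 0 := by
  refine ⟨fun a => rfl, fun h => ?_⟩
  have : LinearEquiv.transvection h = 1 := by
    ext x
    simp
  rw [this]
  exact H.one_mem

theorem c3ld1a_T_add {H : Subgroup (V ≃ₗ[F] V)} {z : V} {φ φ' : Module.Dual F V}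
    (h1 : c3ld1a_T K H z φ) (h2 : c3ld1a_T K H z φ') : c3ld1a_T K H z (φ + φ') := by
  have hz1 := c3ld1a_T_z h1
  have hz2 := c3ld1a_T_z h2
  refine ⟨fun a => by rw [LinearMap.add_apply, h1.1, h2.1, add_zero], fun h => ?_⟩
  have hm := H.mul_mem (h1.2 hz1) (h2.2 hz2)
  have : LinearEquiv.transvection h = LinearEquiv.transvection hz1 * LinearEquiv.transvection hz2 := by
    ext x
    simp only [LinearEquiv.mul_apply, LinearEquiv.transvection.coe_apply,
      LinearMap.transvection.apply, map_add, map_smul, hz1, LinearMap.add_apply, add_smul,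
      add_zero, zero_smul]
    abel
  rw [this]
  exact hm

theorem c3ld1a_T_neg {H : Subgroup (V ≃ₗ[F] V)} {z : V} {φ : Module.Dual F V}
    (h1 : c3ld1a_T K H z φ) : c3ld1a_T K H z (-φ) := by
  have hz1 := c3ld1a_T_z h1
  refine ⟨fun a => by rw [LinearMap.neg_apply, h1.1, neg_zero], fun h => ?_⟩
  have hm := H.inv_mem (h1.2 hz1)
  rw [LinearEquiv.transvection.inv_eq' hz1 h] at hm
  exact hm

theorem c3ld1a_T_sum {H : Subgroup (V ≃ₗ[F] V)} {z : V} {ι : Type*} (s : Finset ι)
    (f : ι → Module.Dual F V) (h : ∀ i ∈ s, c3ld1a_T K H z (f i)) :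
    c3ld1a_T K H z (∑ i ∈ s, f i) := by
  classical
  induction s using Finset.induction_on with
  | empty => rw [Finset.sum_empty]; exact c3ld1a_T_zero H z
  | insert a s ha ih =>
    rw [Finset.sum_insert ha]
    exact c3ld1a_T_add (h a (Finset.mem_insert_self a s))
      (ih (fun i hi => h i (Finset.mem_insert_of_mem hi)))

theorem c3ld1a_T_conj {H : Subgroup (V ≃ₗ[F] V)} {z : V} {φ : Module.Dual F V}
    (h1 : c3ld1a_T K H z φ) {g : V ≃ₗ[F] V} (hg : g ∈ H) (hgz : ∀ a : K, g (a • z) = a • z) :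
    c3ld1a_T K H z (φ ∘ₗ (g.symm : V →ₗ[F] V)) := by
  have hz1 := c3ld1a_T_z h1
  have hsymm : ∀ a : K, g.symm (a • z) = a • z := by
    intro a
    rw [LinearEquiv.symm_apply_eq, hgz]
  refine ⟨fun a => ?_, fun h => ?_⟩
  · rw [LinearMap.comp_apply, LinearEquiv.coe_coe, hsymm, h1.1]
  · have hm := H.mul_mem (H.mul_mem hg (h1.2 hz1)) (H.inv_mem hg)
    have hgz1 : g z = z := by
      have := hgz 1
      rwa [one_smul] at this
    have : LinearEquiv.transvection h = g * LinearEquiv.transvection hz1 * g⁻¹ := by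
      ext x
      simp only [LinearEquiv.mul_apply, LinearEquiv.transvection.coe_apply,
        LinearMap.transvection.apply, map_add, map_smul, hgz1, LinearMap.comp_apply,
        LinearEquiv.coe_coe]
      rw [← LinearEquiv.mul_apply, mul_inv_cancel]
      rfl
    rw [this]
    exact hm

theorem c3ld1a_T_comp_sub {H : Subgroup (V ≃ₗ[F] V)} {z : V} {φ : Module.Dual F V}
    (h1 : c3ld1a_T K H z φ) {G : V ≃ₗ[F] V} (hG : G ∈ H) (hGz : ∀ a : K, G (a • z) = a • z) :
    c3ld1a_T K H z (φ ∘ₗ (G : V →ₗ[F] V) - φ) := by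
  have hinv : ∀ a : K, G⁻¹ (a • z) = a • z := by
    intro a
    have : G⁻¹ (a • z) = G.symm (a • z) := rfl
    rw [this, LinearEquiv.symm_apply_eq, hGz]
  have h2 := c3ld1a_T_conj h1 (H.inv_mem hG) hinv
  have h3 : (φ ∘ₗ ((G⁻¹).symm : V →ₗ[F] V)) = φ ∘ₗ (G : V →ₗ[F] V) := rfl
  rw [h3] at h2
  rw [sub_eq_add_neg]
  exact c3ld1a_T_add h2 (c3ld1a_T_neg h1)

theorem c3ld1a_key
    (hktv : ∀ {ψ : Module.Dual K V} {y : V} (h : ψ y = 0),
      (LinearEquiv.transvection h).restrictScalars F ∈ C1 F K V)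
    {H : Subgroup (V ≃ₗ[F] V)} (hC : C1 F K V ≤ H) {z : V} {φ : Module.Dual F V}
    (h1 : c3ld1a_T K H z φ) (ψ : Module.Dual K V) (y : V) (hy : ψ y = 0) (hz : ψ z = 0) :
    c3ld1a_T K H z
      ((φ ∘ₗ (LinearMap.toSpanSingleton K V y).restrictScalars F) ∘ₗ ψ.restrictScalars F) := by
  have hG := hC (hktv hy)
  have hGz : ∀ a : K, ((LinearEquiv.transvection hy).restrictScalars F) (a • z) = a • z := by
    intro a
    simp [LinearMap.transvection.apply, hz]
  have h2 := c3ld1a_T_comp_sub h1 hG hGz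
  convert h2 using 1
  ext x
  simp [LinearMap.transvection.apply]

theorem c3ld1a_claim_a [FiniteDimensional F K]
    (hktv : ∀ {ψ : Module.Dual K V} {y : V} (h : ψ y = 0),
      (LinearEquiv.transvection h).restrictScalars F ∈ C1 F K V)
    {H : Subgroup (V ≃ₗ[F] V)} (hC : C1 F K V ≤ H) {z : V} {φ₀ : Module.Dual F V}
    (h1 : c3ld1a_T K H z φ₀) (ψ : Module.Dual K V) (hz : ψ z = 0) (y₀ : V) (hy₀ : ψ y₀ = 0)
    (k₀ : K) (hk₀ : φ₀ (k₀ • y₀) ≠ 0) (lam : K →ₗ[F] F) :
    c3ld1a_T K H z (lam ∘ₗ ψ.restrictScalars F) := by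
  let Φ : K →ₗ[F] (K →ₗ[F] F) := LinearMap.mk₂ F (fun c k => φ₀ ((k * c) • y₀))
    (fun c c' k => by rw [mul_add, add_smul, map_add])
    (fun r c k => by rw [mul_smul_comm, smul_assoc, map_smul])
    (fun c k k' => by rw [add_mul, add_smul, map_add])
    (fun r c k => by rw [smul_mul_assoc, smul_assoc, map_smul])
  have hΦ : ∀ c k, Φ c k = φ₀ ((k * c) • y₀) := fun c k => rfl
  have hinj : Function.Injective Φ := by
    rw [injective_iff_map_eq_zero]
    intro c hc
    by_contra hne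
    apply hk₀
    have h2 := LinearMap.congr_fun hc (k₀ * c⁻¹)
    rw [hΦ, inv_mul_cancel_right₀ hne] at h2
    exact h2
  have hfr : finrank F K = finrank F (K →ₗ[F] F) := (Subspace.dual_finrank_eq (K := F) (V := K)).symm
  have hsurj : Function.Surjective Φ :=
    (LinearMap.injective_iff_surjective_of_finrank_eq_finrank hfr).1 hinj
  obtain ⟨c, hc⟩ := hsurj lam
  have hy : ψ (c • y₀) = 0 := by rw [map_smul, hy₀, smul_zero]
  have h2 := c3ld1a_key hktv hC h1 ψ (c • y₀) hy hz
  convert h2 using 1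
  ext x
  simp only [LinearMap.comp_apply, LinearMap.restrictScalars_apply, LinearMap.toSpanSingleton_apply]
  rw [← hc, hΦ, mul_smul]

theorem c3ld1a_claim [FiniteDimensional F K] [FiniteDimensional K V] (hm : 3 ≤ finrank K V)
    (hktv : ∀ {ψ : Module.Dual K V} {y : V} (h : ψ y = 0),
      (LinearEquiv.transvection h).restrictScalars F ∈ C1 F K V)
    {H : Subgroup (V ≃ₗ[F] V)} (hC : C1 F K V ≤ H) {z : V} {φ₀ : Module.Dual F V}
    (hφ : φ₀ ≠ 0) (h1 : c3ld1a_T K H z φ₀) (ψ : Module.Dual K V) (hψz : ψ z = 0)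
    (lam : K →ₗ[F] F) :
    c3ld1a_T K H z (lam ∘ₗ ψ.restrictScalars F) := by
  obtain ⟨e, he⟩ : ∃ e, φ₀ e ≠ 0 := by
    by_contra h
    push Not at h
    exact hφ (LinearMap.ext h)
  have hS : ∃ u, u ∉ Submodule.span K ({z, e} : Set V) := by
    by_contra hcon
    push Not at hcon
    have htop : Submodule.span K ({z, e} : Set V) = ⊤ := eq_top_iff.2 (fun x _ => hcon x)
    have h2 : finrank K (Submodule.span K ({z, e} : Set V)) ≤ 2 := by
      classical
      have h3 := finrank_span_finset_le_card (R := K) ({z, e} : Finset V)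
      rw [Set.finrank, Finset.coe_pair] at h3
      exact h3.trans Finset.card_le_two
    rw [htop, finrank_top] at h2
    omega
  obtain ⟨u, hu⟩ := hS
  have hez : e ∈ Submodule.span K ({z, e} : Set V) := Submodule.subset_span (by simp)
  have hzz : z ∈ Submodule.span K ({z, e} : Set V) := Submodule.subset_span (by simp)
  obtain ⟨u', hu'S, k', hu'W⟩ : ∃ u', u' ∉ Submodule.span K ({z, e} : Set V) ∧
      ∃ k : K, φ₀ (k • u') ≠ 0 := by
    by_cases hW : ∀ k : K, φ₀ (k • u) = 0
    · refine ⟨u + e, ?_, 1, ?_⟩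
      · intro hmem
        apply hu
        have := Submodule.sub_mem _ hmem hez
        rwa [add_sub_cancel_right] at this
      · rw [one_smul, map_add]
        have := hW 1
        rw [one_smul] at this
        rw [this, zero_add]
        exact he
    · push Not at hW
      obtain ⟨k, hk⟩ := hW
      exact ⟨u, hu, k, hk⟩
  have he' : e ∉ Submodule.span K ({z, u'} : Set V) := by
    intro hmem
    rw [Submodule.mem_span_pair] at hmem
    obtain ⟨a, b, hab⟩ := hmem
    by_cases hb : b = 0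
    · apply he
      rw [← hab, hb, zero_smul, add_zero]
      exact h1.1 a
    · apply hu'S
      have : u' = b⁻¹ • (e - a • z) := by
        rw [← hab, add_sub_cancel_left, smul_smul, inv_mul_cancel₀ hb, one_smul]
      rw [this]
      exact Submodule.smul_mem _ _ (Submodule.sub_mem _ hez (Submodule.smul_mem _ _ hzz))
  obtain ⟨ε, hεe, hεS⟩ := Submodule.exists_le_ker_of_notMem he'
  have hεz : ε z = 0 := hεS (Submodule.subset_span (by simp))
  have hεu : ε u' = 0 := hεS (Submodule.subset_span (by simp))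
  have A1 := c3ld1a_claim_a hktv hC h1 ((ψ e / ε e) • ε)
    (by rw [LinearMap.smul_apply, hεz, smul_zero]) u'
    (by rw [LinearMap.smul_apply, hεu, smul_zero]) k' hu'W lam
  have A2 := c3ld1a_claim_a hktv hC h1 (ψ - (ψ e / ε e) • ε)
    (by rw [LinearMap.sub_apply, LinearMap.smul_apply, hεz, smul_zero, hψz, sub_zero]) e
    (by rw [LinearMap.sub_apply, LinearMap.smul_apply, smul_eq_mul, div_mul_cancel₀ _ hεe, sub_self])
    1 (by rwa [one_smul]) lam
  have A3 := c3ld1a_T_add A1 A2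
  convert A3 using 1
  ext x
  simp only [LinearMap.comp_apply, LinearMap.restrictScalars_apply, LinearMap.add_apply,
    LinearMap.sub_apply, LinearMap.smul_apply]
  rw [← map_add, add_sub_cancel]

theorem c3ld1a_core [FiniteDimensional F K] [FiniteDimensional K V] (hm : 3 ≤ finrank K V)
    (hktv : ∀ {ψ : Module.Dual K V} {y : V} (h : ψ y = 0),
      (LinearEquiv.transvection h).restrictScalars F ∈ C1 F K V)
    (H : Subgroup (V ≃ₗ[F] V))
    (hC : C1 F K V ≤ H) {φ₀ : Module.Dual F V} {z : V} (h0 : φ₀ z = 0) (hz : z ≠ 0) (hφ : φ₀ ≠ 0)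
    (hK : ∀ a : K, φ₀ (a • z) = 0) (hmem : LinearEquiv.transvection h0 ∈ H) :
    ∀ (φ : Module.Dual F V) (h : φ z = 0), (∀ a : K, φ (a • z) = 0) → LinearEquiv.transvection h ∈ H := by
  intro φ h hφK
  have h1 : c3ld1a_T K H z φ₀ := ⟨hK, fun _ => hmem⟩
  have hzbot : z ∉ (⊥ : Submodule K V) := by simpa using hz
  obtain ⟨f, hfz, -⟩ := Submodule.exists_le_ker_of_notMem hzbot
  have hζ : ((f z)⁻¹ • f) z = 1 := by
    rw [LinearMap.smul_apply, smul_eq_mul, inv_mul_cancel₀ hfz]
  generalize (f z)⁻¹ • f = ζ at hζ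
  let b := Module.finBasis K V
  have hT : c3ld1a_T K H z (∑ i, (φ ∘ₗ (LinearMap.toSpanSingleton K V (b i)).restrictScalars F) ∘ₗ
      (b.coord i - (b.coord i z) • ζ).restrictScalars F) :=
    c3ld1a_T_sum _ _ (fun i _ => c3ld1a_claim hm hktv hC hφ h1 _
      (by rw [LinearMap.sub_apply, LinearMap.smul_apply, hζ, smul_eq_mul, mul_one, sub_self]) _)
  have hEq : φ = ∑ i, (φ ∘ₗ (LinearMap.toSpanSingleton K V (b i)).restrictScalars F) ∘ₗ
      (b.coord i - (b.coord i z) • ζ).restrictScalars F := by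
    ext x
    simp only [LinearMap.sum_apply, LinearMap.comp_apply, LinearMap.restrictScalars_apply,
      LinearMap.toSpanSingleton_apply, LinearMap.sub_apply, LinearMap.smul_apply, smul_eq_mul,
      Basis.coord_apply]
    rw [← map_sum]
    have h2 : ∑ i, (b.repr x i - b.repr z i * ζ x) • b i = x - ζ x • z := by
      simp only [sub_smul, Finset.sum_sub_distrib]
      rw [b.sum_repr x]
      congr 1
      conv_rhs => rw [← b.sum_repr z, Finset.smul_sum]
      apply Finset.sum_congr rfl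
      intro i _
      rw [smul_smul, mul_comm]
    rw [h2, map_sub, hφK, sub_zero]
  rw [← hEq] at hT
  exact hT.2 h

theorem d1a [FiniteDimensional F K] [FiniteDimensional K V] (hm : 3 ≤ finrank K V) (H : Subgroup (V ≃ₗ[F] V))
    (hC : C1 F K V ≤ H) {φ₀ : Module.Dual F V} {z : V} (h0 : φ₀ z = 0) (hz : z ≠ 0) (hφ : φ₀ ≠ 0)
    (hK : ∀ a : K, φ₀ (a • z) = 0) (hmem : LinearEquiv.transvection h0 ∈ H) :
    ∀ (φ : Module.Dual F V) (h : φ z = 0), (∀ a : K, φ (a • z) = 0) → LinearEquiv.transvection h ∈ H :=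
  c3ld1a_core hm (fun h => ktv_mem h) H hC h0 hz hφ hK hmem

end Cfsg.Agent.Lib.Helper22.C3L
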