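import Mathlib
import Cfsg.Agent.Lib.Helper22.C3L.Defs
import Cfsg.Agent.Lib.Helper24.C3LGEN
import Cfsg.Agent.Lib.Helper1.C3LD1A
import Cfsg.Agent.Lib.Helper13.C3LN1

set_option autoImplicit false
set_option linter.unusedVariables false
set_option linter.unusedSectionVars false

namespace Cfsg.Agent.Lib.Helper22.C3L

open Module

variable {F K V : Type*} [Field F] [Field K] [Algebra F K] [AddCommGroup V] [Module F V] [Module K V]
  [IsScalarTower F K V]

theorem c3ld1b_dil [FiniteDimensional F K] [FiniteDimensional K V] (π : Module.Dual K V) {w : V} (hπ : π w = 1) {k : K}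
    (hk : Algebra.norm F k = 1) :
    ∃ d ∈ C1 F K V, ∀ x, d x = x + π x • (k - 1) • w := by
  have hk0 : k ≠ 0 := by
    rintro rfl
    rw [Algebra.norm_zero] at hk
    exact zero_ne_one hk
  have e1 : 1 + π ((k - 1) • w) = k := by
    rw [map_smul, hπ, smul_eq_mul, mul_one]
    ring
  have hu : IsUnit (1 + π ((k - 1) • w)) := by
    rw [e1]
    exact isUnit_iff_ne_zero.mpr hk0
  have e2 : ((LinearEquiv.dilatransvection hu : V ≃ₗ[K] V) : V →ₗ[K] V) =
      LinearMap.transvection π ((k - 1) • w) := by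
    ext x
    rw [LinearEquiv.coe_coe, LinearEquiv.dilatransvection.apply, LinearMap.transvection.apply]
  refine ⟨(LinearEquiv.dilatransvection hu).restrictScalars F, ?_, ?_⟩
  · rw [mem_C1]
    refine ⟨fun a x => ?_, ?_⟩
    · rw [LinearEquiv.restrictScalars_apply, LinearEquiv.restrictScalars_apply, map_smul]
    · apply Units.ext
      rw [c3lgen_det, e2, LinearMap.transvection.det, e1, hk, Units.val_one]
  · intro x
    rw [LinearEquiv.restrictScalars_apply, LinearEquiv.dilatransvection.apply]

theorem c3ld1b_core [FiniteDimensional F K] [FiniteDimensional K V]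
    (hn1 : AddSubgroup.closure {k : K | Algebra.norm F k = 1} = ⊤) (hm : finrank K V = 2)
    (H : Subgroup (V ≃ₗ[F] V)) (hC : C1 F K V ≤ H) {φ₀ : Module.Dual F V} {z : V} (h0 : φ₀ z = 0) (hz : z ≠ 0)
    (hφ : φ₀ ≠ 0) (hK : ∀ a : K, φ₀ (a • z) = 0) (hmem : LinearEquiv.transvection h0 ∈ H) :
    ∀ (φ : Module.Dual F V) (h : φ z = 0), (∀ a : K, φ (a • z) = 0) → LinearEquiv.transvection h ∈ H := by
  intro φ h hφK
  have h1 : c3ld1a_T K H z φ₀ := ⟨hK, fun _ => hmem⟩
  have hS : ∃ w, w ∉ Submodule.span K ({z} : Set V) := by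
    by_contra hcon
    push Not at hcon
    have htop : Submodule.span K ({z} : Set V) = ⊤ := eq_top_iff.2 (fun x _ => hcon x)
    have h2 : finrank K (Submodule.span K ({z} : Set V)) = 1 := finrank_span_singleton hz
    rw [htop, finrank_top] at h2
    omega
  obtain ⟨w, hw⟩ := hS
  obtain ⟨f, hfw, hfS⟩ := Submodule.exists_le_ker_of_notMem hw
  have hfz : f z = 0 := hfS (Submodule.subset_span rfl)
  obtain ⟨π, hπw, hπz⟩ : ∃ π : Module.Dual K V, π w = 1 ∧ π z = 0 :=
    ⟨(f w)⁻¹ • f, by rw [LinearMap.smul_apply, smul_eq_mul, inv_mul_cancel₀ hfw],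
      by rw [LinearMap.smul_apply, hfz, smul_zero]⟩
  have hker : LinearMap.ker π = Submodule.span K ({z} : Set V) := by
    symm
    apply Submodule.eq_of_le_of_finrank_eq
    · rw [Submodule.span_singleton_le_iff_mem]
      exact hπz
    · rw [finrank_span_singleton hz]
      have h3 := LinearMap.finrank_range_add_finrank_ker π
      have h4 : LinearMap.range π = ⊤ := by
        rw [LinearMap.range_eq_top]
        intro b
        exact ⟨b • w, by rw [map_smul, hπw, smul_eq_mul, mul_one]⟩
      rw [h4, finrank_top, finrank_self, hm] at h3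
      omega
  have hdec : ∀ x : V, ∃ a : K, x = π x • w + a • z := by
    intro x
    have h3 : x - π x • w ∈ LinearMap.ker π := by
      rw [LinearMap.mem_ker, map_sub, map_smul, hπw, smul_eq_mul, mul_one, sub_self]
    rw [hker, Submodule.mem_span_singleton] at h3
    obtain ⟨a, ha⟩ := h3
    exact ⟨a, by rw [ha]; abel⟩
  have hred : ∀ θ : Module.Dual F V, (∀ a : K, θ (a • z) = 0) → ∀ x, θ x = θ (π x • w) := by
    intro θ hθ x
    obtain ⟨a, ha⟩ := hdec x
    conv_lhs => rw [ha, map_add, hθ, add_zero]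
  let Φ : K →ₗ[F] (K →ₗ[F] F) := LinearMap.mk₂ F (fun c b => φ₀ ((b * c) • w))
    (fun c c' b => by rw [mul_add, add_smul, map_add])
    (fun r c b => by rw [mul_smul_comm, smul_assoc, map_smul])
    (fun c b b' => by rw [add_mul, add_smul, map_add])
    (fun r c b => by rw [smul_mul_assoc, smul_assoc, map_smul])
  have hΦ : ∀ c b, Φ c b = φ₀ ((b * c) • w) := fun c b => rfl
  have hT : ∀ c : K, c3ld1a_T K H z (Φ c ∘ₗ π.restrictScalars F) := by
    have hone : Φ 1 ∘ₗ π.restrictScalars F = φ₀ := by
      ext x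
      rw [LinearMap.comp_apply, LinearMap.restrictScalars_apply, hΦ, mul_one]
      exact (hred φ₀ hK x).symm
    have hnorm : ∀ k : K, Algebra.norm F k = 1 → c3ld1a_T K H z (Φ k ∘ₗ π.restrictScalars F) := by
      intro k hk
      obtain ⟨d, hdC, hd⟩ := c3ld1b_dil (F := F) π hπw hk
      have hdz : ∀ a : K, d (a • z) = a • z := by
        intro a
        rw [hd, map_smul, hπz, smul_zero, zero_smul, add_zero]
      have h2 := c3ld1a_T_comp_sub h1 (hC hdC) hdz
      have h3 := c3ld1a_T_add h2 h1
      convert h3 using 1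
      ext x
      simp only [LinearMap.comp_apply, LinearMap.restrictScalars_apply,
        LinearEquiv.coe_coe, hd, hΦ, map_add, sub_add_cancel]
      rw [hred φ₀ hK x, ← map_add]
      congr 1
      rw [smul_smul, ← add_smul]
      congr 1
      ring
    let A : AddSubgroup K :=
      { carrier := {c | c3ld1a_T K H z (Φ c ∘ₗ π.restrictScalars F)}
        zero_mem' := by
          show c3ld1a_T K H z (Φ 0 ∘ₗ π.restrictScalars F)
          rw [map_zero, LinearMap.zero_comp]
          exact c3ld1a_T_zero H z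
        add_mem' := by
          intro c c' hc hc'
          show c3ld1a_T K H z (Φ (c + c') ∘ₗ π.restrictScalars F)
          rw [map_add, LinearMap.add_comp]
          exact c3ld1a_T_add hc hc'
        neg_mem' := by
          intro c hc
          show c3ld1a_T K H z (Φ (-c) ∘ₗ π.restrictScalars F)
          rw [map_neg, LinearMap.neg_comp]
          exact c3ld1a_T_neg hc }
    have hA : AddSubgroup.closure {k : K | Algebra.norm F k = 1} ≤ A := by
      rw [AddSubgroup.closure_le]
      intro k hk
      exact hnorm k hk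
    intro c
    have : c ∈ A := hA (by rw [hn1]; exact AddSubgroup.mem_top c)
    exact this
  have hinj : Function.Injective Φ := by
    rw [injective_iff_map_eq_zero]
    intro c hc
    by_contra hne
    apply hφ
    ext x
    rw [hred φ₀ hK x, LinearMap.zero_apply]
    have h2 := LinearMap.congr_fun hc (π x * c⁻¹)
    rw [hΦ, inv_mul_cancel_right₀ hne] at h2
    exact h2
  have hfr : finrank F K = finrank F (K →ₗ[F] F) := (Subspace.dual_finrank_eq (K := F) (V := K)).symm
  have hsurj : Function.Surjective Φ :=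
    (LinearMap.injective_iff_surjective_of_finrank_eq_finrank hfr).1 hinj
  obtain ⟨c, hc⟩ := hsurj (φ ∘ₗ (LinearMap.toSpanSingleton K V w).restrictScalars F)
  have hEq : φ = Φ c ∘ₗ π.restrictScalars F := by
    ext x
    rw [hred φ hφK x, hc]
    rfl
  have h4 := hT c
  rw [← hEq] at h4
  exact h4.2 h

theorem d1b [Finite K] [FiniteDimensional K V] (hr : 2 ≤ finrank F K) (hm : finrank K V = 2)
    (H : Subgroup (V ≃ₗ[F] V)) (hC : C1 F K V ≤ H) {φ₀ : Module.Dual F V} {z : V} (h0 : φ₀ z = 0) (hz : z ≠ 0)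
    (hφ : φ₀ ≠ 0) (hK : ∀ a : K, φ₀ (a • z) = 0) (hmem : LinearEquiv.transvection h0 ∈ H) :
    ∀ (φ : Module.Dual F V) (h : φ z = 0), (∀ a : K, φ (a • z) = 0) → LinearEquiv.transvection h ∈ H :=
  c3ld1b_core (n1 hr) hm H hC h0 hz hφ hK hmem

end Cfsg.Agent.Lib.Helper22.C3L
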