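import Mathlib
import Cfsg.Agent.Lib.Helper22.C3L.Defs

set_option autoImplicit false
set_option linter.unusedVariables false
set_option linter.unusedSectionVars false

namespace Cfsg.Agent.Lib.Helper22.C3L

open Module

variable {F K V : Type*} [Field F] [Field K] [Algebra F K] [AddCommGroup V] [Module F V] [Module K V]
  [IsScalarTower F K V]

theorem c3ld2_exists_W [FiniteDimensional F K] [FiniteDimensional K V] (hm : 2 ≤ finrank K V)
    (φ : Module.Dual F V) : ∃ y : V, y ≠ 0 ∧ ∀ a : K, φ (a • y) = 0 := by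
  have : FiniteDimensional F V := Module.Finite.trans K V
  let Θ : V →ₗ[F] (K →ₗ[F] F) := LinearMap.mk₂ F (fun y a => φ (a • y))
    (fun y y' a => by rw [smul_add, map_add])
    (fun r y a => by rw [smul_comm a r y, map_smul])
    (fun y a a' => by rw [add_smul, map_add])
    (fun r y a => by rw [smul_assoc, map_smul])
  have hΘ : ∀ y a, Θ y a = φ (a • y) := fun y a => rfl
  have h1 := LinearMap.finrank_range_add_finrank_ker Θ
  have h2 : finrank F (LinearMap.range Θ) ≤ finrank F K := by
    have := Submodule.finrank_le (LinearMap.range Θ)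
    rwa [Subspace.dual_finrank_eq] at this
  have h3 : finrank F V = finrank F K * finrank K V := (Module.finrank_mul_finrank F K V).symm
  have h4 : 0 < finrank F K := Module.finrank_pos
  have h5 : 0 < finrank F (LinearMap.ker Θ) := by
    have : 2 * finrank F K ≤ finrank F K * finrank K V := by
      rw [mul_comm]
      exact Nat.mul_le_mul_left _ hm
    omega
  obtain ⟨⟨y, hy⟩, hy0⟩ := Module.finrank_pos_iff_exists_ne_zero.1 h5
  refine ⟨y, fun h => hy0 (Subtype.ext h), fun a => ?_⟩
  rw [← hΘ, LinearMap.mem_ker.1 hy, LinearMap.zero_apply]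

theorem c3ld2_comm {φ φ₁ : Module.Dual F V} {v v' : V} (h : φ v = 0) (h' : φ v' = 0)
    (h1 : φ₁ v = 0) (h1' : φ₁ v' = 1) :
    LinearEquiv.transvection h =
      LinearEquiv.transvection h1 * LinearEquiv.transvection h' *
        (LinearEquiv.transvection h1)⁻¹ * (LinearEquiv.transvection h')⁻¹ := by
  have hn1 : φ₁ (-v) = 0 := by rw [map_neg, h1, neg_zero]
  have hn' : φ (-v') = 0 := by rw [map_neg, h', neg_zero]
  rw [LinearEquiv.transvection.inv_eq h1 hn1, LinearEquiv.transvection.inv_eq h' hn']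
  ext x
  simp only [LinearEquiv.mul_apply, LinearEquiv.transvection.coe_apply,
    LinearMap.transvection.apply, map_add, map_smul, map_neg, h, h', h1, h1', smul_neg]
  module

theorem d2 [FiniteDimensional F K] [FiniteDimensional K V] (hm : 2 ≤ finrank K V) (H : Subgroup (V ≃ₗ[F] V))
    (hD : AllTv2 K H) : AllTv H := by
  intro φ v h
  by_cases hv : v = 0
  · subst hv
    have : LinearEquiv.transvection h = 1 := by
      ext x
      simp
    rw [this]
    exact H.one_mem
  obtain ⟨y, hy0, hyW⟩ := c3ld2_exists_W (K := K) hm φ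
  by_cases hyv : y ∈ Kl F K v
  · obtain ⟨a, rfl⟩ := (mem_Kl F K).1 hyv
    have ha : a ≠ 0 := by
      rintro rfl
      exact hy0 (zero_smul K v)
    apply hD v hv φ h
    intro b
    have := hyW (b * a⁻¹)
    rwa [smul_smul, inv_mul_cancel_right₀ ha] at this
  · obtain ⟨f, hfy, hfS⟩ := Submodule.exists_le_ker_of_notMem hyv
    have hφ₁ : ∃ φ₁ : Module.Dual F V, φ₁ y = 1 ∧ ∀ a : K, φ₁ (a • v) = 0 := by
      refine ⟨(f y)⁻¹ • f, ?_, fun a => ?_⟩
      · rw [LinearMap.smul_apply, smul_eq_mul, inv_mul_cancel₀ hfy]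
      · rw [LinearMap.smul_apply, LinearMap.mem_ker.1 (hfS (smul_mem_Kl F K a v)), smul_zero]
    obtain ⟨φ₁, hφ₁y, hφ₁v⟩ := hφ₁
    have h1 : φ₁ v = 0 := by
      have := hφ₁v 1
      rwa [one_smul] at this
    have h' : φ y = 0 := by
      have := hyW 1
      rwa [one_smul] at this
    have hA := hD v hv φ₁ h1 hφ₁v
    have hB := hD y hy0 φ h' hyW
    rw [c3ld2_comm h h' h1 hφ₁y]
    exact H.mul_mem (H.mul_mem (H.mul_mem hA hB) (H.inv_mem hA)) (H.inv_mem hB)

end Cfsg.Agent.Lib.Helper22.C3L
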