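import Mathlib
import Cfsg.Agent.Lib.Helper22.C3L.Defs

set_option autoImplicit false
set_option linter.unusedVariables false
set_option linter.unusedSectionVars false

namespace Cfsg.Agent.Lib.Helper22.C3L

open Module

variable {F K V : Type*} [Field F] [Field K] [Algebra F K] [AddCommGroup V] [Module F V] [Module K V]
  [IsScalarTower F K V]

theorem c3lstepb_two_pow (n : ℕ) (hn : 3 ≤ n) : n < 2 ^ (n - 1) := by
  obtain ⟨k, rfl⟩ : ∃ k, n = k + 3 := ⟨n - 3, by omega⟩
  induction k with
  | zero => norm_num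
  | succ k ih =>
    have h1 : k + 1 + 3 - 1 = (k + 3 - 1) + 1 := by omega
    rw [h1, pow_succ]
    have := ih (by omega)
    omega

theorem c3lstepb_arith {q r : ℕ} (hq : 2 ≤ q) (hr : 2 ≤ r) (h : ¬ (q = 2 ∧ r = 2)) :
    r < q ^ (r - 1) * (q - 1) := by
  by_cases hq2 : q = 2
  · subst hq2
    have hr3 : 3 ≤ r := by
      by_contra hlt
      exact h ⟨rfl, by omega⟩
    have := c3lstepb_two_pow r hr3
    simpa using this
  · have hq3 : 3 ≤ q := by omega
    have h1 : r - 1 < q ^ (r - 1) := Nat.lt_pow_self (by omega)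
    have h2 : 2 ≤ q - 1 := by omega
    calc r ≤ (r - 1) * 2 := by omega
      _ < q ^ (r - 1) * 2 := Nat.mul_lt_mul_of_pos_right h1 (by norm_num)
      _ ≤ q ^ (r - 1) * (q - 1) := Nat.mul_le_mul_left _ h2

theorem c3lstepb_pow (g : V →ₗ[F] V) {d₀ : V} (hd : g d₀ = d₀) {a b : K}
    (hab : ∀ c : K, g (a • c • d₀) = b • g (c • d₀)) (n : ℕ) : g (a ^ n • d₀) = b ^ n • d₀ := by
  induction n with
  | zero => rw [pow_zero, pow_zero, one_smul]; exact hd
  | succ n ih => rw [pow_succ', mul_smul, hab, ih, pow_succ', mul_smul]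

theorem c3lstepb_aeval (g : V →ₗ[F] V) {d₀ : V} (hd : g d₀ = d₀) {a b : K}
    (hab : ∀ c : K, g (a • c • d₀) = b • g (c • d₀)) (p : Polynomial F) :
    g (Polynomial.aeval a p • d₀) = Polynomial.aeval b p • d₀ := by
  rw [Polynomial.aeval_eq_sum_range, Polynomial.aeval_eq_sum_range, Finset.sum_smul,
    Finset.sum_smul, map_sum]
  apply Finset.sum_congr rfl
  intro i _
  rw [smul_assoc, map_smul, c3lstepb_pow g hd hab, smul_assoc]

theorem c3lstepb_root [FiniteDimensional F K] (g : V →ₗ[F] V) {d₀ : V} (hd0 : d₀ ≠ 0) (hd : g d₀ = d₀)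
    {a b : K} (hab : ∀ c : K, g (a • c • d₀) = b • g (c • d₀)) :
    b ∈ (minpoly F a).rootSet K := by
  rw [Polynomial.mem_rootSet]
  refine ⟨minpoly.ne_zero (Algebra.IsIntegral.isIntegral a), ?_⟩
  have h1 := c3lstepb_aeval g hd hab (minpoly F a)
  rw [minpoly.aeval, zero_smul, map_zero] at h1
  rcases smul_eq_zero.1 h1.symm with h2 | h2
  · exact h2
  · exact absurd h2 hd0

theorem c3lstepb_count [Finite F] [FiniteDimensional F V] (L D : Submodule F V) (hDL : D < L) :
    Nat.card F ^ (finrank F L - 1) * (Nat.card F - 1) ≤ ((L : Set V) \ (D : Set V)).ncard := by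
  have hfinV : Finite V := Module.finite_of_finite F
  have h1 : ((L : Set V) \ (D : Set V)).ncard = (L : Set V).ncard - (D : Set V).ncard :=
    Set.ncard_sdiff (le_of_lt hDL) (Set.toFinite _)
  have hL : (L : Set V).ncard = Nat.card F ^ finrank F L := by
    rw [← Module.natCard_eq_pow_finrank (K := F) (V := L)]
    rfl
  have hD : (D : Set V).ncard = Nat.card F ^ finrank F D := by
    rw [← Module.natCard_eq_pow_finrank (K := F) (V := D)]
    rfl
  have hlt : finrank F D < finrank F L := Submodule.finrank_lt_finrank_of_lt hDL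
  have hq : 1 ≤ Nat.card F := Nat.card_pos
  have hle : Nat.card F ^ finrank F D ≤ Nat.card F ^ (finrank F L - 1) :=
    Nat.pow_le_pow_right hq (by omega)
  have hsplit : Nat.card F ^ finrank F L = Nat.card F ^ (finrank F L - 1) * Nat.card F := by
    rw [← pow_succ]
    congr 1
    omega
  rw [h1, hL, hD, hsplit, Nat.mul_sub, mul_one]
  omega

end Cfsg.Agent.Lib.Helper22.C3L
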