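import Mathlib
import Cfsg.Agent.Lib.Helper22.C3L.Defs
import Cfsg.Agent.Lib.Helper10.C3O.Defs

set_option autoImplicit false
set_option linter.unusedVariables false
set_option linter.unusedSectionVars false

namespace Cfsg.Agent.Lib.Helper10.C3O

open Module Cfsg.Agent.Lib.Helper22.C3L

variable {F K V : Type*} [Field F] [Field K] [Algebra F K] [AddCommGroup V] [Module F V] [Module K V]
  [IsScalarTower F K V]

theorem c3obgood_sigma [FiniteDimensional F K] (g : V →ₗ[F] V) {d₀ : V} (hd0 : d₀ ≠ 0)
    (hd : g d₀ = d₀)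
    (hnorm : ∀ a : K, ∃ b : K, ∀ c : K, g (a • c • d₀) = b • g (c • d₀)) :
    ∃ σ : K ≃ₐ[F] K, ∀ k : K, g (k • d₀) = σ k • d₀ := by
  choose s hs using hnorm
  have hs1 : ∀ k : K, g (k • d₀) = s k • d₀ := by
    intro k
    have := hs k 1
    rwa [one_smul, hd] at this
  have hinj : ∀ x y : K, x • d₀ = y • d₀ → x = y := by
    intro x y hxy
    have h0 : (x - y) • d₀ = 0 := by rw [sub_smul, hxy, sub_self]
    rcases smul_eq_zero.mp h0 with h | h
    · exact sub_eq_zero.mp h
    · exact absurd h hd0
  have hmul : ∀ x y : K, s (x * y) = s x * s y := by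
    intro x y
    apply hinj
    rw [← hs1, mul_smul, hs x y, hs1, mul_smul]
  have hadd : ∀ x y : K, s (x + y) = s x + s y := by
    intro x y
    apply hinj
    rw [← hs1, add_smul, map_add, hs1, hs1, add_smul]
  have hone : s 1 = 1 := by
    apply hinj
    rw [← hs1, one_smul, hd]
  have hzero : s 0 = 0 := by
    apply hinj
    rw [← hs1, zero_smul, map_zero]
  have halg : ∀ c : F, s (algebraMap F K c) = algebraMap F K c := by
    intro c
    apply hinj
    rw [← hs1, algebraMap_smul, map_smul, hd]
  let τ : K →ₐ[F] K :=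
    { toFun := s
      map_one' := hone
      map_mul' := hmul
      map_zero' := hzero
      map_add' := hadd
      commutes' := halg }
  refine ⟨AlgEquiv.ofBijective τ (AlgHom.bijective τ), fun k => ?_⟩
  rw [hs1 k]
  rfl

theorem c3obgood_tr [FiniteDimensional F K] (hr : (finrank F K : F) ≠ 0) (σ : K ≃ₐ[F] K) (α : K) :
    σ α ≠ α + 1 := by
  intro h
  have h1 := Algebra.trace_eq_of_algEquiv σ α
  rw [h, map_add] at h1
  have h2 : Algebra.trace F K (1 : K) = (finrank F K : F) := by
    have := Algebra.trace_algebraMap (S := K) (1 : F)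
    rw [map_one] at this
    rw [this]
    simp
  rw [h2] at h1
  apply hr
  linear_combination h1

theorem c3obgood_nm [FiniteDimensional F K] (h2 : (2 : F) ≠ 0) (hr : (finrank F K).Prime)
    (hr0 : (finrank F K : F) = 0) (σ : K ≃ₐ[F] K) (α : K) (hα : α ≠ 0) :
    σ α ≠ (2 : F) • α := by
  intro h
  have h1 := Algebra.norm_eq_of_algEquiv σ α
  rw [h, Algebra.smul_def, map_mul, Algebra.norm_algebraMap] at h1
  have hN : Algebra.norm F α ≠ 0 := Algebra.norm_ne_zero_iff.mpr hα
  have h3 : (2 : F) ^ finrank F K = 1 := by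
    have h4 : ((2 : F) ^ finrank F K - 1) * Algebra.norm F α = 0 := by
      rw [sub_mul, h1, one_mul, sub_self]
    rcases mul_eq_zero.mp h4 with h5 | h5
    · exact sub_eq_zero.mp h5
    · exact absurd h5 hN
  have : Fact (finrank F K).Prime := ⟨hr⟩
  have : CharP F (finrank F K) := by
    have hchar := CharP.exists F
    obtain ⟨p, hp⟩ := hchar
    have hdvd : p ∣ finrank F K := (CharP.cast_eq_zero_iff F p _).mp hr0
    rcases (Nat.dvd_prime hr).mp hdvd with h | h
    · exfalso
      subst h
      exact CharP.char_ne_one F 1 rfl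
    · rw [← h]
      exact hp
  have h6 : (2 : F) ^ finrank F K = 2 := by
    have : ((1 : F) + 1) ^ finrank F K = 1 ^ finrank F K + 1 ^ finrank F K :=
      add_pow_char (1 : F) 1 (finrank F K)
    rw [one_pow, one_add_one_eq_two] at this
    exact this
  rw [h6] at h3
  have : (1 : F) = 0 := by
    have h7 : (1 : F) + 1 = 1 := by rw [one_add_one_eq_two]; exact h3
    linear_combination h7
  exact one_ne_zero this

end Cfsg.Agent.Lib.Helper10.C3O
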