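import Mathlib
import Cfsg.Agent.Lib.Helper22.C3L.Defs
import Cfsg.Agent.Lib.Helper10.C3O.Defs
import Cfsg.Agent.Lib.helper2.C3OFSG
import Cfsg.Agent.Lib.helper3.C3OPERP
import Cfsg.Agent.Lib.Helper10.C3OUORBO
import Cfsg.Agent.Lib.Helper1.C3LSTEPB
import Cfsg.Agent.Lib.Helper1.C3OBGOODa

set_option autoImplicit false
set_option linter.unusedVariables false
set_option linter.unusedSectionVars false

namespace Cfsg.Agent.Lib.Helper10.C3O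

open Module Cfsg.Agent.Lib.Helper22.C3L

variable {F K V : Type*} [Field F] [Field K] [Algebra F K] [AddCommGroup V] [Module F V] [Module K V]
  [IsScalarTower F K V]

theorem c3obgood_sing (B : V →ₗ[K] V →ₗ[K] K) {u : V} (hu0 : B u u = 0) {x y : V}
    (hx : x ∈ Kl F K u) (hy : y ∈ Kl F K u) : B x y = 0 := by
  obtain ⟨a, rfl⟩ := (mem_Kl F K).mp hx
  obtain ⟨b, rfl⟩ := (mem_Kl F K).mp hy
  rw [map_smul, map_smul, LinearMap.smul_apply, hu0, smul_zero, smul_zero]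

theorem c3obgood_sing_map (B : V →ₗ[K] V →ₗ[K] K) {h : V ≃ₗ[F] V} (hh : h ∈ Of F B) {u : V}
    (hu0 : B u u = 0) {x y : V} (hx : x ∈ (Kl F K u).map (h : V →ₗ[F] V))
    (hy : y ∈ (Kl F K u).map (h : V →ₗ[F] V)) : tf F B x y = 0 := by
  obtain ⟨x0, hx0, rfl⟩ := hx
  obtain ⟨y0, hy0, rfl⟩ := hy
  have := hh x0 y0
  simp only [LinearEquiv.coe_coe]
  rw [this, tf_def, c3obgood_sing B hu0 hx0 hy0, map_zero]

theorem c3obgood_move [Finite K] [FiniteDimensional K V] (h2 : (2 : F) ≠ 0)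
    (B : V →ₗ[K] V →ₗ[K] K) (hBs : ∀ x y, B x y = B y x) (hBn : ∀ x, x ≠ 0 → ∃ y, B x y ≠ 0)
    (H : Subgroup (V ≃ₗ[F] V)) (hH : H ≤ Of F B) (hC : OmB F B ≤ H) {h : V ≃ₗ[F] V} (hh : h ∈ H)
    {u : V} (hu0 : B u u = 0) {y z : V}
    (hy1 : ∀ x' ∈ (Kl F K u).map (h : V →ₗ[F] V), tf F B y x' = 0)
    (hy2 : y ∉ (Kl F K u).map (h : V →ₗ[F] V)) (hz : z ∈ (Kl F K u).map (h : V →ₗ[F] V)) :
    ∃ ρ ∈ H, (∀ x ∈ (Kl F K u).map (h : V →ₗ[F] V), ρ x = x) ∧ ρ y = y + z := by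
  have : Finite F := Finite.of_injective (algebraMap F K) (algebraMap F K).injective
  have : FiniteDimensional F K := Module.Finite.of_finite
  have : Algebra.IsSeparable F K := inferInstance
  have hhO := hH hh
  have hB1 : B (h.symm y) u = 0 := by
    rw [hBs, perp_iff (F := F)]
    intro k
    have h1 := hhO (k • u) (h.symm y)
    rw [LinearEquiv.apply_symm_apply] at h1
    rw [← h1, c3ofsg_symm B hBs]
    exact hy1 _ ⟨k • u, smul_mem_Kl F K k u, rfl⟩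
  have hB2 : h.symm y ∉ Kl F K u := by
    intro hc
    apply hy2
    exact ⟨h.symm y, hc, by simp⟩
  obtain ⟨z0, hz0, rfl⟩ := hz
  obtain ⟨ρ₁, hρ₁, hfix, hmv⟩ := o_u_orb h2 B hBs hBn hu0 hB1 hB2 hz0
  refine ⟨h * ρ₁ * h⁻¹, H.mul_mem (H.mul_mem hh (hC hρ₁)) (H.inv_mem hh), ?_, ?_⟩
  · rintro x ⟨x0, hx0, rfl⟩
    simp only [LinearEquiv.coe_coe, LinearEquiv.mul_apply]
    have : (h⁻¹ : V ≃ₗ[F] V) (h x0) = x0 := by
      show h.symm (h x0) = x0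
      simp
    rw [this, hfix x0 hx0]
  · simp only [LinearEquiv.coe_coe, LinearEquiv.mul_apply]
    have : (h⁻¹ : V ≃ₗ[F] V) y = h.symm y := rfl
    rw [this, hmv, map_add, LinearEquiv.apply_symm_apply]


theorem c3obgood_g [Finite K] [FiniteDimensional K V] (h2 : (2 : F) ≠ 0)
    (B : V →ₗ[K] V →ₗ[K] K) (hBs : ∀ x y, B x y = B y x) (hBn : ∀ x, x ≠ 0 → ∃ y, B x y ≠ 0)
    (H : Subgroup (V ≃ₗ[F] V)) (hH : H ≤ Of F B) (hC : OmB F B ≤ H) {h : V ≃ₗ[F] V} (hh : h ∈ H)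
    {u₁ u₂ : V} (hu1 : B u₁ u₁ = 0) (hu2 : B u₂ u₂ = 0) {a z' b : V}
    (ha : a ∈ Kl F K u₁) (ha' : a ∉ (Kl F K u₂).map (h : V →ₗ[F] V))
    (hap : ∀ x' ∈ (Kl F K u₂).map (h : V →ₗ[F] V), tf F B a x' = 0)
    (hz1 : z' ∈ (Kl F K u₂).map (h : V →ₗ[F] V)) (hz2 : ∀ x ∈ Kl F K u₁, tf F B z' x = 0)
    (hz3 : z' ∉ Kl F K u₁)
    (hb1 : b ∈ Kl F K u₁) (hb2 : b ∉ (Kl F K u₂).map (h : V →ₗ[F] V))
    (hb3 : ∀ x' ∈ (Kl F K u₂).map (h : V →ₗ[F] V), tf F B b x' = 0) :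
    ∃ g ∈ H, (∀ d ∈ Kl F K u₁ ⊓ (Kl F K u₂).map (h : V →ₗ[F] V), g d = d) ∧ g a = b := by
  have : Finite F := Finite.of_injective (algebraMap F K) (algebraMap F K).injective
  have : FiniteDimensional F K := Module.Finite.of_finite
  have : Algebra.IsSeparable F K := inferInstance
  have hhO := hH hh
  obtain ⟨ρ', hρ', hfix', hmv'⟩ := c3obgood_move h2 B hBs hBn H hH hC hh hu2 hap ha' hz1
  have hBy : B (a + z') u₁ = 0 := by
    rw [map_add, LinearMap.add_apply, c3obgood_sing B hu1 ha (self_mem_Kl F K u₁), zero_add, hBs,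
      perp_iff (F := F)]
    intro k
    rw [c3ofsg_symm B hBs]
    exact hz2 _ (smul_mem_Kl F K k u₁)
  have hy2 : a + z' ∉ Kl F K u₁ := by
    intro hc
    apply hz3
    have := (Kl F K u₁).sub_mem hc ha
    rwa [add_sub_cancel_left] at this
  obtain ⟨ρ, hρ, hfix, hmv⟩ := o_u_orb h2 B hBs hBn hu1 hBy hy2 ((Kl F K u₁).sub_mem hb1 ha)
  have hmv2 : ρ (a + z') = b + z' := by
    rw [hmv]
    abel
  have hy1'' : ∀ x' ∈ (Kl F K u₂).map (h : V →ₗ[F] V), tf F B (b + z') x' = 0 := by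
    intro x' hx'
    rw [c3ofsg_add_left, hb3 x' hx', c3obgood_sing_map B hhO hu2 hz1 hx', add_zero]
  have hy2'' : b + z' ∉ (Kl F K u₂).map (h : V →ₗ[F] V) := by
    intro hc
    apply hb2
    have := ((Kl F K u₂).map (h : V →ₗ[F] V)).sub_mem hc hz1
    rwa [add_sub_cancel_right] at this
  obtain ⟨ρ'', hρ'', hfix'', hmv''⟩ := c3obgood_move h2 B hBs hBn H hH hC hh hu2 hy1'' hy2''
    (((Kl F K u₂).map (h : V →ₗ[F] V)).neg_mem hz1)
  refine ⟨ρ'' * ρ * ρ', H.mul_mem (H.mul_mem hρ'' (hC hρ)) hρ', ?_, ?_⟩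
  · intro d hd
    rw [LinearEquiv.mul_apply, LinearEquiv.mul_apply, hfix' d hd.2, hfix d hd.1, hfix'' d hd.2]
  · rw [LinearEquiv.mul_apply, LinearEquiv.mul_apply, hmv', hmv2, hmv'']
    abel


theorem c3obgood_Kl_eq {u d₀ : V} (hd : d₀ ∈ Kl F K u) (hd0 : d₀ ≠ 0) : Kl F K d₀ = Kl F K u := by
  obtain ⟨β, rfl⟩ := (mem_Kl F K).mp hd
  have hβ : β ≠ 0 := by
    intro h
    apply hd0
    rw [h, zero_smul]
  ext x
  rw [mem_Kl, mem_Kl]
  constructor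
  · rintro ⟨k, rfl⟩
    exact ⟨k * β, by rw [mul_smul]⟩
  · rintro ⟨k, rfl⟩
    exact ⟨k * β⁻¹, by rw [mul_smul, smul_smul β⁻¹, inv_mul_cancel₀ hβ, one_smul]⟩

theorem c3obgood_final [Finite K] [FiniteDimensional K V] (hr : (finrank F K).Prime) (h2 : (2 : F) ≠ 0)
    (B : V →ₗ[K] V →ₗ[K] K) (H : Subgroup (V ≃ₗ[F] V)) {u₁ d₀ a : V}
    (hu1 : B u₁ u₁ = 0) (hd : d₀ ∈ Kl F K u₁) (hd0 : d₀ ≠ 0) (ha : a ∈ Kl F K u₁) (ha0 : a ≠ 0)
    (hg : ∀ b : V, (b = a + d₀ ∧ (finrank F K : F) ≠ 0) ∨ (b = (2 : F) • a ∧ (finrank F K : F) = 0) →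
      ∃ g ∈ H, g d₀ = d₀ ∧ g a = b ∧ (Kl F K u₁).map (g : V →ₗ[F] V) ≤ Kl F K u₁) :
    StepBOut B H := by
  have : Finite F := Finite.of_injective (algebraMap F K) (algebraMap F K).injective
  have : FiniteDimensional F K := Module.Finite.of_finite
  have hKl := c3obgood_Kl_eq hd hd0
  have hBd : B d₀ d₀ = 0 := c3obgood_sing B hu1 hd hd
  obtain ⟨α, hα⟩ := (mem_Kl F K).mp (hKl ▸ ha)
  have hα0 : α ≠ 0 := by
    intro h
    apply ha0
    rw [← hα, h, zero_smul]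
  have hinj : ∀ x y : K, x • d₀ = y • d₀ → x = y := by
    intro x y hxy
    have h0 : (x - y) • d₀ = 0 := by rw [sub_smul, hxy, sub_self]
    rcases smul_eq_zero.mp h0 with h | h
    · exact sub_eq_zero.mp h
    · exact absurd h hd0
  have key : ∀ b : V, (∃ g ∈ H, g d₀ = d₀ ∧ g a = b ∧
      (Kl F K u₁).map (g : V →ₗ[F] V) ≤ Kl F K u₁) →
      (∀ σ : K ≃ₐ[F] K, σ α • d₀ ≠ b) → StepBOut B H := by
    rintro b ⟨g, hgH, hgd, hga, hgl⟩ hσ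
    refine ⟨g, hgH, d₀, hd0, hBd, fun c => ?_, ?_⟩
    · have h1 : g (c • d₀) ∈ Kl F K d₀ := by
        rw [hKl]
        apply hgl
        exact ⟨c • d₀, hKl ▸ smul_mem_Kl F K c d₀, rfl⟩
      obtain ⟨b', hb'⟩ := (mem_Kl F K).mp h1
      exact ⟨b', hb'.symm⟩
    · by_contra hcon
      push Not at hcon
      obtain ⟨σ, hσ'⟩ := c3obgood_sigma (g : V →ₗ[F] V) hd0 hgd hcon
      apply hσ σ
      have := hσ' α
      rw [hα] at this
      rw [← this]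
      exact hga
  by_cases hr0 : (finrank F K : F) = 0
  · apply key ((2 : F) • a) (hg _ (Or.inr ⟨rfl, hr0⟩))
    intro σ hσ
    have h1 : σ α • d₀ = ((2 : F) • α) • d₀ := by
      rw [hσ, ← hα, smul_assoc]
    exact c3obgood_nm h2 hr hr0 σ α hα0 (hinj _ _ h1)
  · apply key (a + d₀) (hg _ (Or.inl ⟨rfl, hr0⟩))
    intro σ hσ
    have h1 : σ α • d₀ = (α + 1) • d₀ := by
      rw [hσ, ← hα, add_smul, one_smul]
    exact c3obgood_tr hr0 σ α (hinj _ _ h1)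


theorem c3obgood_core [Finite K] [FiniteDimensional K V] (h2 : (2 : F) ≠ 0) (hr : (finrank F K).Prime)
    (B : V →ₗ[K] V →ₗ[K] K) (hBs : ∀ x y, B x y = B y x) (hBn : ∀ x, x ≠ 0 → ∃ y, B x y ≠ 0)
    (hpair : ∀ (L L' P P' : Submodule F V), finrank F L = finrank F L' →
      (∀ x, x ∈ P ↔ x ∈ L ∧ ∀ y ∈ L', tf F B x y = 0) →
      (∀ x, x ∈ P' ↔ x ∈ L' ∧ ∀ y ∈ L, tf F B x y = 0) → finrank F P = finrank F P')
    (H : Subgroup (V ≃ₗ[F] V)) (hH : H ≤ Of F B) (hC : OmB F B ≤ H) {h : V ≃ₗ[F] V} {u₁ u₂ : V}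
    (hc : Conf B H h u₁ u₂)
    (hmax : ∀ (h' : V ≃ₗ[F] V) (u₁' u₂' : V), Conf B H h' u₁' u₂' → dl F K h' u₁' u₂' ≤ dl F K h u₁ u₂)
    (hD : Kl F K u₁ ⊓ (Kl F K u₂).map (h : V →ₗ[F] V) ≠ ⊥) {a : V} (ha : a ∈ Kl F K u₁)
    (ha' : a ∉ (Kl F K u₂).map (h : V →ₗ[F] V))
    (hap : ∀ x' ∈ (Kl F K u₂).map (h : V →ₗ[F] V), tf F B a x' = 0) : StepBOut B H := by
  obtain ⟨hh, hu1n, hu2n, hu1, hu2, hnle⟩ := hc
  have : Finite F := Finite.of_injective (algebraMap F K) (algebraMap F K).injective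
  have : FiniteDimensional F K := Module.Finite.of_finite
  have : FiniteDimensional F V := Module.Finite.trans K V
  have hhO := hH hh
  let P : Submodule F V :=
    { carrier := {x | x ∈ Kl F K u₁ ∧ ∀ y ∈ (Kl F K u₂).map (h : V →ₗ[F] V), tf F B x y = 0}
      add_mem' := by
        rintro x y ⟨hx1, hx2⟩ ⟨hy1, hy2⟩
        refine ⟨(Kl F K u₁).add_mem hx1 hy1, fun z hz => ?_⟩
        rw [c3ofsg_add_left, hx2 z hz, hy2 z hz, add_zero]
      zero_mem' := by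
        refine ⟨(Kl F K u₁).zero_mem, fun z hz => ?_⟩
        rw [tf_def, map_zero, LinearMap.zero_apply, map_zero]
      smul_mem' := by
        rintro c x ⟨hx1, hx2⟩
        refine ⟨(Kl F K u₁).smul_mem c hx1, fun z hz => ?_⟩
        rw [c3ofsg_smul_left, hx2 z hz, mul_zero] }
  let P' : Submodule F V :=
    { carrier := {x | x ∈ (Kl F K u₂).map (h : V →ₗ[F] V) ∧ ∀ y ∈ Kl F K u₁, tf F B x y = 0}
      add_mem' := by
        rintro x y ⟨hx1, hx2⟩ ⟨hy1, hy2⟩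
        refine ⟨Submodule.add_mem _ hx1 hy1, fun z hz => ?_⟩
        rw [c3ofsg_add_left, hx2 z hz, hy2 z hz, add_zero]
      zero_mem' := by
        refine ⟨Submodule.zero_mem _, fun z hz => ?_⟩
        rw [tf_def, map_zero, LinearMap.zero_apply, map_zero]
      smul_mem' := by
        rintro c x ⟨hx1, hx2⟩
        refine ⟨Submodule.smul_mem _ c hx1, fun z hz => ?_⟩
        rw [c3ofsg_smul_left, hx2 z hz, mul_zero] }
  have hdim : finrank F (Kl F K u₁) = finrank F ((Kl F K u₂).map (h : V →ₗ[F] V)) := by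
    rw [c3lstepb_finrank_Kl hu1n]
    have := LinearEquiv.finrank_map_eq h (Kl F K u₂)
    rw [c3lstepb_finrank_Kl hu2n] at this
    exact this.symm
  have hPP' : finrank F P = finrank F P' :=
    hpair _ _ P P' hdim (fun x => Iff.rfl) (fun x => Iff.rfl)
  have hDP : Kl F K u₁ ⊓ (Kl F K u₂).map (h : V →ₗ[F] V) < P := by
    rw [SetLike.lt_iff_le_and_exists]
    refine ⟨fun x hx => ⟨hx.1, fun y hy => c3obgood_sing_map B hhO hu2 hx.2 hy⟩,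
      a, ⟨ha, hap⟩, fun hc => ha' hc.2⟩
  have hlt := Submodule.finrank_lt_finrank_of_lt hDP
  obtain ⟨z', hz'P, hz'D⟩ : ∃ z' ∈ P', z' ∉ Kl F K u₁ ⊓ (Kl F K u₂).map (h : V →ₗ[F] V) := by
    by_contra hcon
    push Not at hcon
    have hle : P' ≤ Kl F K u₁ ⊓ (Kl F K u₂).map (h : V →ₗ[F] V) := hcon
    have := Submodule.finrank_mono hle
    omega
  have hz1 : z' ∈ (Kl F K u₂).map (h : V →ₗ[F] V) := hz'P.1
  have hz2 : ∀ x ∈ Kl F K u₁, tf F B z' x = 0 := hz'P.2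
  have hz3 : z' ∉ Kl F K u₁ := fun hc => hz'D ⟨hc, hz1⟩
  obtain ⟨d₀, hd₀, hd0⟩ := Submodule.exists_mem_ne_zero_of_ne_bot hD
  have ha0 : a ≠ 0 := by
    intro h0
    apply ha'
    rw [h0]
    exact Submodule.zero_mem _
  apply c3obgood_final hr h2 B H hu1 hd₀.1 hd0 ha ha0
  intro b hb
  have hb123 : b ∈ Kl F K u₁ ∧ b ∉ (Kl F K u₂).map (h : V →ₗ[F] V) ∧
      ∀ x' ∈ (Kl F K u₂).map (h : V →ₗ[F] V), tf F B b x' = 0 := by
    rcases hb with ⟨rfl, _⟩ | ⟨rfl, _⟩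
    · refine ⟨(Kl F K u₁).add_mem ha hd₀.1, fun hc => ha' ?_, fun x' hx' => ?_⟩
      · have := Submodule.sub_mem _ hc hd₀.2
        rwa [add_sub_cancel_right] at this
      · rw [c3ofsg_add_left, hap x' hx', c3obgood_sing_map B hhO hu2 hd₀.2 hx', add_zero]
    · refine ⟨(Kl F K u₁).smul_mem _ ha, fun hc => ha' ?_, fun x' hx' => ?_⟩
      · have := Submodule.smul_mem _ (2⁻¹ : F) hc
        rwa [smul_smul, inv_mul_cancel₀ h2, one_smul] at this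
      · rw [c3ofsg_smul_left, hap x' hx', mul_zero]
  obtain ⟨hb1, hb2, hb3⟩ := hb123
  obtain ⟨g, hgH, hgD, hga⟩ := c3obgood_g h2 B hBs hBn H hH hC hh hu1 hu2 ha ha' hap hz1 hz2 hz3
    hb1 hb2 hb3
  refine ⟨g, hgH, hgD d₀ hd₀, hga, ?_⟩
  by_contra hnot
  have hconf : Conf B H g u₁ u₁ := ⟨hgH, hu1n, hu1n, hu1, hu1, hnot⟩
  have hle := hmax g u₁ u₁ hconf
  unfold dl at hle
  have hlt2 : Kl F K u₁ ⊓ (Kl F K u₂).map (h : V →ₗ[F] V) <
      Kl F K u₁ ⊓ (Kl F K u₁).map (g : V →ₗ[F] V) := by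
    rw [SetLike.lt_iff_le_and_exists]
    refine ⟨fun x hx => ⟨hx.1, x, hx.1, ?_⟩, b, ⟨hb1, a, ha, ?_⟩, fun hc => hb2 hc.2⟩
    · simp only [LinearEquiv.coe_coe]
      exact hgD x hx
    · simp only [LinearEquiv.coe_coe]
      exact hga
  have := Submodule.finrank_lt_finrank_of_lt hlt2
  omega

end Cfsg.Agent.Lib.Helper10.C3O
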