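import Mathlib
import Cfsg.Agent.Lib.Helper22.C3L.Defs
import Cfsg.Agent.Lib.Helper10.C3O.Defs
import Cfsg.Agent.Lib.helper3.C3OPAIR
import Cfsg.Agent.Lib.Helper1.C3OBGOODcore

set_option autoImplicit false
set_option linter.unusedVariables false
set_option linter.unusedSectionVars false

namespace Cfsg.Agent.Lib.Helper10.C3O

open Module Cfsg.Agent.Lib.Helper22.C3L

variable {F K V : Type*} [Field F] [Field K] [Algebra F K] [AddCommGroup V] [Module F V] [Module K V]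
  [IsScalarTower F K V]

theorem b_good [Finite K] [FiniteDimensional K V] (h2 : (2 : F) ≠ 0) (hr : (finrank F K).Prime)
    (B : V →ₗ[K] V →ₗ[K] K) (hBs : ∀ x y, B x y = B y x) (hBn : ∀ x, x ≠ 0 → ∃ y, B x y ≠ 0)
    (H : Subgroup (V ≃ₗ[F] V)) (hH : H ≤ Of F B) (hC : OmB F B ≤ H) {h : V ≃ₗ[F] V} {u₁ u₂ : V}
    (hc : Conf B H h u₁ u₂)
    (hmax : ∀ (h' : V ≃ₗ[F] V) (u₁' u₂' : V), Conf B H h' u₁' u₂' → dl F K h' u₁' u₂' ≤ dl F K h u₁ u₂)
    (hD : Kl F K u₁ ⊓ (Kl F K u₂).map (h : V →ₗ[F] V) ≠ ⊥) {a : V} (ha : a ∈ Kl F K u₁)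
    (ha' : a ∉ (Kl F K u₂).map (h : V →ₗ[F] V))
    (hap : ∀ x' ∈ (Kl F K u₂).map (h : V →ₗ[F] V), tf F B a x' = 0) : StepBOut B H := by
  have : Finite F := Finite.of_injective (algebraMap F K) (algebraMap F K).injective
  have : FiniteDimensional F K := Module.Finite.of_finite
  have : FiniteDimensional F V := Module.Finite.trans K V
  exact c3obgood_core h2 hr B hBs hBn (fun L L' P P' => pair_dim B hBs L L' P P') H hH hC hc hmax hD
    ha ha' hap

end Cfsg.Agent.Lib.Helper10.C3O
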