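import Mathlib
import Cfsg.Agent.Lib.Helper22.C3L.Defs
import Cfsg.Agent.Lib.Helper10.C3O.Defs
import Cfsg.Agent.Lib.helper3.C3OISO
import Cfsg.Agent.Lib.helper3.C3OHYP
import Cfsg.Agent.Lib.Helper10.C3OKSG
import Cfsg.Agent.Lib.Helper10.C3OUORBO

set_option autoImplicit false
set_option linter.unusedVariables false
set_option linter.unusedSectionVars false
set_option linter.unusedSimpArgs false

namespace Cfsg.Agent.Lib.Helper10.C3O

open Module Cfsg.Agent.Lib.Helper22.C3L

variable {F K V : Type*} [Field F] [Field K] [Algebra F K] [AddCommGroup V] [Module F V] [Module K V]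
  [IsScalarTower F K V]

theorem c3oorbh1_u [Finite K] [FiniteDimensional K V] (h2 : (2 : F) ≠ 0) (B : V →ₗ[K] V →ₗ[K] K)
    (hBs : ∀ x y, B x y = B y x) (hBn : ∀ x, x ≠ 0 → ∃ y, B x y ≠ 0) (hd : 4 ≤ finrank K V)
    {x w : V} (hx : B x x ≠ 0) (hwx : B w x = 0) (hw : w ≠ 0) :
    ∃ u : V, B u u = 0 ∧ B u x = 0 ∧ B w u ≠ 0 := by
  have h2K : (2 : K) ≠ 0 := c3oksg_two h2
  have hW : 3 ≤ finrank K (LinearMap.ker (B x)) := by
    have h1 := LinearMap.finrank_range_add_finrank_ker (B x)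
    have h3 : finrank K (LinearMap.range (B x)) ≤ 1 := by
      have := Submodule.finrank_le (LinearMap.range (B x))
      rwa [finrank_self] at this
    omega
  obtain ⟨u₀, hu₀W, hu₀n, hu₀⟩ := iso_ex B hBs (LinearMap.ker (B x)) hW
  have hxu₀ : B x u₀ = 0 := hu₀W
  have hu₀x : B u₀ x = 0 := by rw [hBs]; exact hxu₀
  by_cases h1 : B w u₀ = 0
  swap
  · exact ⟨u₀, hu₀, hu₀x, h1⟩
  obtain ⟨u₁, hu₁, hu₀u₁⟩ := hyp_ex h2 B hBs hBn hu₀n hu₀
  have hu₁u₀ : B u₁ u₀ = 1 := by rw [hBs]; exact hu₀u₁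
  have hxw : B x w = 0 := by rw [hBs]; exact hwx
  have hu₀w : B u₀ w = 0 := by rw [hBs]; exact h1
  obtain ⟨u', hu'def⟩ : ∃ u' : V, u' = u₁ - (B u₁ x / B x x) • x +
      (B u₁ x * B u₁ x / (2 * B x x)) • u₀ := ⟨_, rfl⟩
  have hxu₁ : B x u₁ = B u₁ x := hBs _ _
  have hu'x : B u' x = 0 := by
    rw [hu'def]
    simp only [map_add, map_sub, map_smul, LinearMap.add_apply, LinearMap.sub_apply,
      LinearMap.smul_apply, smul_eq_mul, hu₀x]
    field_simp
    ring
  have hxu' : B x u' = 0 := by rw [hBs]; exact hu'x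
  have hu₀u' : B u₀ u' = 1 := by
    rw [hu'def]
    simp only [map_add, map_sub, map_smul, smul_eq_mul, hu₀x, hu₀, hu₀u₁]
    ring
  have hu'u₀ : B u' u₀ = 1 := by rw [hBs]; exact hu₀u'
  have hu'u' : B u' u' = 0 := by
    rw [hu'def]
    simp only [map_add, map_sub, map_smul, LinearMap.add_apply, LinearMap.sub_apply,
      LinearMap.smul_apply, smul_eq_mul, hu₀x, hxu₀, hu₀, hu₀u₁, hu₁u₀, hu₁, hxu₁]
    field_simp
    ring
  by_cases h3 : B w u' = 0
  swap
  · exact ⟨u', hu'u', hu'x, h3⟩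
  have hu'w : B u' w = 0 := by rw [hBs]; exact h3
  obtain ⟨v, hv⟩ := hBn w hw
  obtain ⟨z, hzdef⟩ : ∃ z : V, z = v - (B v x / B x x) • x - (B v u') • u₀ - (B v u₀) • u' :=
    ⟨_, rfl⟩
  have hzx : B z x = 0 := by
    rw [hzdef]
    simp only [map_sub, map_smul, LinearMap.sub_apply, LinearMap.smul_apply, smul_eq_mul, hu₀x,
      hu'x]
    field_simp
    ring
  have hzu₀ : B z u₀ = 0 := by
    rw [hzdef]
    simp only [map_sub, map_smul, LinearMap.sub_apply, LinearMap.smul_apply, smul_eq_mul, hxu₀,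
      hu₀, hu'u₀]
    ring
  have hzu' : B z u' = 0 := by
    rw [hzdef]
    simp only [map_sub, map_smul, LinearMap.sub_apply, LinearMap.smul_apply, smul_eq_mul, hxu',
      hu₀u', hu'u']
    ring
  have hwz : B w z = B w v := by
    rw [hzdef]
    simp only [map_sub, map_smul, smul_eq_mul, hwx, h1, h3]
    ring
  have hu₀z : B u₀ z = 0 := by rw [hBs]; exact hzu₀
  have hu'z : B u' z = 0 := by rw [hBs]; exact hzu'
  refine ⟨-(B z z / 2) • u₀ + z + u', ?_, ?_, ?_⟩
  · simp only [map_add, map_neg, map_smul, LinearMap.add_apply, LinearMap.neg_apply,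
      LinearMap.smul_apply, smul_eq_mul, hu₀, hu₀z, hzu₀, hu₀u', hu'u₀, hzu', hu'z, hu'u']
    field_simp
    ring
  · simp only [map_add, map_neg, map_smul, LinearMap.add_apply, LinearMap.neg_apply,
      LinearMap.smul_apply, smul_eq_mul, hu₀x, hzx, hu'x]
    ring
  · simp only [map_add, map_neg, map_smul, smul_eq_mul, h1, h3, hwz]
    rw [mul_zero, zero_add, add_zero]
    exact hv

theorem c3oorbh1_y [FiniteDimensional K V] (B : V →ₗ[K] V →ₗ[K] K) (hd : 4 ≤ finrank K V)
    (x u : V) : ∃ y : V, B x y = 0 ∧ B u y = 0 ∧ y ∉ Kl F K u := by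
  by_contra hcon
  push Not at hcon
  have h1 := LinearMap.finrank_range_add_finrank_ker ((B x).prod (B u))
  have h3 : finrank K (LinearMap.range ((B x).prod (B u))) ≤ 2 := by
    have := Submodule.finrank_le (LinearMap.range ((B x).prod (B u)))
    rwa [Module.finrank_prod, finrank_self] at this
  have hle : LinearMap.ker ((B x).prod (B u)) ≤ Submodule.span K {u} := by
    intro y hy
    rw [LinearMap.mem_ker] at hy
    have hy1 : B x y = 0 := congrArg Prod.fst hy
    have hy2 : B u y = 0 := congrArg Prod.snd hy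
    have := hcon y hy1 hy2
    obtain ⟨a, ha⟩ := (mem_Kl F K).mp this
    rw [Submodule.mem_span_singleton]
    exact ⟨a, ha⟩
  have h4 := Submodule.finrank_mono hle
  have h5 : finrank K (Submodule.span K ({u} : Set V)) ≤ 1 := by
    have := finrank_span_le_card (R := K) ({u} : Set V)
    simpa using this
  omega


theorem c3oorbh1_core [Finite K] [FiniteDimensional K V] (h2 : (2 : F) ≠ 0) (B : V →ₗ[K] V →ₗ[K] K)
    (hBs : ∀ x y, B x y = B y x) (hBn : ∀ x, x ≠ 0 → ∃ y, B x y ≠ 0) (hd : 4 ≤ finrank K V) {x x' : V}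
    (hx : B x x ≠ 0) (hx' : x' ∉ Kl F K x) (L : Submodule F V) (hxL : x ∈ L) (hx'L : x' ∈ L)
    (hL : finrank F L ≤ finrank F K) : ∃ g ∈ OmB F B, g x = x ∧ g x' ∉ L := by
  have : Finite F := Finite.of_injective (algebraMap F K) (algebraMap F K).injective
  have : FiniteDimensional F K := Module.Finite.of_finite
  have : FiniteDimensional F V := Module.Finite.trans K V
  by_contra hcon
  push Not at hcon
  obtain ⟨w, hwdef⟩ : ∃ w : V, w = x' - (B x' x / B x x) • x := ⟨_, rfl⟩
  have hwx : B w x = 0 := by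
    rw [hwdef]
    simp only [map_sub, map_smul, LinearMap.sub_apply, LinearMap.smul_apply, smul_eq_mul]
    field_simp
    ring
  have hw0 : w ≠ 0 := by
    intro h0
    apply hx'
    rw [hwdef, sub_eq_zero] at h0
    rw [h0]
    exact smul_mem_Kl F K _ x
  obtain ⟨u, hu0, hux, hwu⟩ := c3oorbh1_u h2 B hBs hBn hd hx hwx hw0
  have hxu : B x u = 0 := by rw [hBs]; exact hux
  obtain ⟨y, hxy, huy, hyK⟩ := c3oorbh1_y (F := F) B hd x u
  obtain ⟨t, hut, hyt⟩ := c3ouorbo_sep B hBn hyK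
  have hx'u : B x' u = B w u := by
    rw [hwdef]
    simp only [map_sub, map_smul, LinearMap.sub_apply, LinearMap.smul_apply, smul_eq_mul, hxu,
      mul_zero, sub_zero]
  have hyx : B y x = 0 := by rw [hBs]; exact hxy
  have hg : ∀ k : K, ∃ e : V, e ∈ L ∧ B e t = k * (B w u * B y t) ∧ B e x = 0 := by
    intro k
    have huky : B u (k • y) = 0 := by rw [map_smul, huy, smul_zero]
    obtain ⟨g, hgO, hgact⟩ := ksg_mem h2 B hBs hBn hu0 huky
    have hgx : g x = x := by
      rw [hgact]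
      unfold ksg
      rw [hxu, map_smul, hxy]
      simp
    have hgL := hcon g hgO hgx
    refine ⟨g x' - x', L.sub_mem hgL hx'L, ?_, ?_⟩
    · rw [hgact]
      unfold ksg
      simp only [map_add, map_sub, map_smul, LinearMap.add_apply, LinearMap.sub_apply,
        LinearMap.smul_apply, smul_eq_mul, hut, hx'u]
      ring
    · rw [hgact]
      unfold ksg
      simp only [map_add, map_sub, map_smul, LinearMap.add_apply, LinearMap.sub_apply,
        LinearMap.smul_apply, smul_eq_mul, hux, hyx]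
      ring
  have hc : B w u * B y t ≠ 0 := mul_ne_zero hwu hyt
  let ψ : V →ₗ[F] K := (B.flip t).restrictScalars F
  have hψ : ∀ v : V, ψ v = B v t := fun v => rfl
  let ψL : L →ₗ[F] K := ψ.comp L.subtype
  have hsurj : Function.Surjective ψL := by
    intro κ
    obtain ⟨e, heL, het, _⟩ := hg (κ / (B w u * B y t))
    refine ⟨⟨e, heL⟩, ?_⟩
    show B e t = κ
    rw [het, div_mul_cancel₀ _ hc]
  have hrn := LinearMap.finrank_range_add_finrank_ker ψL
  rw [LinearMap.range_eq_top.mpr hsurj, finrank_top] at hrn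
  obtain ⟨e, heL, het, hex⟩ := hg (B x t / (B w u * B y t))
  have hker : (⟨e - x, L.sub_mem heL hxL⟩ : L) ∈ LinearMap.ker ψL := by
    rw [LinearMap.mem_ker]
    show B (e - x) t = 0
    rw [map_sub, LinearMap.sub_apply, het, div_mul_cancel₀ _ hc, sub_self]
  have hne : (⟨e - x, L.sub_mem heL hxL⟩ : L) ≠ 0 := by
    intro h0
    have h1 : e - x = 0 := congrArg Subtype.val h0
    have h3 : B (e - x) x = 0 := by rw [h1, map_zero, LinearMap.zero_apply]
    rw [map_sub, LinearMap.sub_apply, hex, zero_sub, neg_eq_zero] at h3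
    exact hx h3
  have hpos : 0 < finrank F (LinearMap.ker ψL) :=
    Module.finrank_pos_iff_exists_ne_zero.mpr ⟨⟨_, hker⟩, fun h0 => hne (congrArg Subtype.val h0)⟩
  omega

end Cfsg.Agent.Lib.Helper10.C3O
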