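import Mathlib
import Cfsg.Agent.Lib.Helper22.C3L.Defs
import Cfsg.Agent.Lib.helper8.C3S.Defs

set_option autoImplicit false
set_option linter.unusedVariables false
set_option linter.unusedSectionVars false

namespace Cfsg.Agent.Lib.helper8.C3S

open Module Cfsg.Agent.Lib.Helper22.C3L

variable {F K V : Type*} [Field F] [Field K] [Algebra F K] [AddCommGroup V] [Module F V] [Module K V]
  [IsScalarTower F K V]

theorem c3sjsupp_adj [Finite K] [FiniteDimensional F K] {γ γ' : K →ₗ[F] K} (hadj : TrAdj γ γ')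
    {a : (K ≃ₐ[F] K) → K} (ha : Coef γ a) (t : K) :
    γ' t = ∑ σ : K ≃ₐ[F] K, σ.symm (a σ * t) := by
  have : Finite F := Finite.of_injective (algebraMap F K) (algebraMap F K).injective
  have : Algebra.IsSeparable F K := inferInstance
  have hnd := traceForm_nondegenerate F K
  have key : ∀ s : K, Algebra.trace F K (s * γ' t) =
      Algebra.trace F K (s * ∑ σ : K ≃ₐ[F] K, σ.symm (a σ * t)) := by
    intro s
    rw [← hadj s t, ha s, Finset.sum_mul, map_sum, Finset.mul_sum, map_sum]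
    refine Finset.sum_congr rfl fun σ _ => ?_
    have h1 : s * σ.symm (a σ * t) = σ.symm (a σ * σ s * t) := by
      rw [map_mul, map_mul, map_mul, AlgEquiv.symm_apply_apply]
      ring
    rw [h1, Algebra.trace_eq_of_algEquiv]
  have h0 : γ' t - ∑ σ : K ≃ₐ[F] K, σ.symm (a σ * t) = 0 := by
    apply hnd.1
    intro k
    rw [Algebra.traceForm_apply, mul_comm, mul_sub, map_sub, key k, sub_self]
  exact sub_eq_zero.mp h0

theorem c3sjsupp_dedekind [FiniteDimensional F K] (k : (K ≃ₐ[F] K) → K)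
    (h : ∀ c : K, ∑ ρ : K ≃ₐ[F] K, k ρ * ρ c = 0) : ∀ ρ, k ρ = 0 := by
  have hli := linearIndependent_toLinearMap F K K
  have hinj : Function.Injective (fun σ : K ≃ₐ[F] K => (σ : K →ₐ[F] K)) := by
    intro σ σ' hσ
    ext x
    exact DFunLike.congr_fun hσ x
  have hli2 := hli.comp _ hinj
  rw [Fintype.linearIndependent_iff] at hli2
  apply hli2 k
  ext c
  simpa using h c

theorem c3sjsupp_coef [Finite K] [FiniteDimensional F K] {γ γ' : K →ₗ[F] K} (hadj : TrAdj γ γ')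
    {a : (K ≃ₐ[F] K) → K} (ha : Coef γ a) (c : K) :
    Coef (γ ∘ₗ LinearMap.mulLeft F c ∘ₗ γ')
      (fun δ => ∑ ρ : K ≃ₐ[F] K, (a ρ * δ (a (δ⁻¹ * ρ))) * ρ c) := by
  intro x
  rw [LinearMap.comp_apply, LinearMap.comp_apply, LinearMap.mulLeft_apply, ha,
    c3sjsupp_adj hadj ha x]
  simp_rw [Finset.sum_mul]
  rw [Finset.sum_comm]
  refine Finset.sum_congr rfl fun ρ _ => ?_
  rw [map_mul, map_sum, Finset.mul_sum, Finset.mul_sum]
  refine (Fintype.sum_equiv ((Equiv.inv (K ≃ₐ[F] K)).trans (Equiv.mulLeft ρ)) _ _ ?_)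
  intro σ
  have h2 : (ρ * σ⁻¹)⁻¹ * ρ = σ := by
    rw [mul_inv_rev, inv_inv, inv_mul_cancel_right]
  have h3 : ∀ y : K, (ρ * σ⁻¹) y = ρ (σ.symm y) := fun y => rfl
  simp only [Equiv.trans_apply, Equiv.inv_apply, Equiv.coe_mulLeft]
  rw [h2, h3, h3, map_mul, map_mul]
  ring

theorem jsupp [Finite K] [FiniteDimensional F K] (L : AddSubgroup (K →ₗ[F] K))
    (hK : ∀ c : K, LinearMap.mulLeft F c ∈ L)
    {γ γ' : K →ₗ[F] K} (hadj : TrAdj γ γ') (hγ : ∀ β ∈ L, γ ∘ₗ β ∘ₗ γ' ∈ L)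
    {a : (K ≃ₐ[F] K) → K} (ha : Coef γ a) {ρ τ : K ≃ₐ[F] K} (hρ : a ρ ≠ 0) (hτ : a τ ≠ 0) :
    ∃ β ∈ L, ∃ b : (K ≃ₐ[F] K) → K, Coef β b ∧ b (ρ * τ⁻¹) ≠ 0 := by
  by_contra hcon
  push Not at hcon
  have h0 : ∀ c : K, ∑ ρ' : K ≃ₐ[F] K,
      (a ρ' * (ρ * τ⁻¹) (a ((ρ * τ⁻¹)⁻¹ * ρ'))) * ρ' c = 0 := by
    intro c
    exact hcon _ (hγ _ (hK c)) _ (c3sjsupp_coef hadj ha c)
  have h1 := c3sjsupp_dedekind _ h0 ρ
  have h2 : (ρ * τ⁻¹)⁻¹ * ρ = τ := by
    rw [mul_inv_rev, inv_inv, inv_mul_cancel_right]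
  rw [h2] at h1
  rcases mul_eq_zero.mp h1 with h | h
  · exact hρ h
  · exact hτ ((map_eq_zero_iff _ (AlgEquiv.injective _)).mp h)

end Cfsg.Agent.Lib.helper8.C3S
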