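import Mathlib
import Cfsg.Agent.Lib.helper3.C6U.Defs
import Cfsg.Agent.Lib.helper3.S5953.Defs
import Cfsg.Agent.Lib.Helper20.S5953T1
import Cfsg.Agent.Lib.helper8.S5953T3
import Cfsg.Agent.Lib.helper6.HermGram
import Cfsg.Agent.Lib.Lead.Unitary

set_option autoImplicit false
set_option linter.unusedVariables false
set_option linter.unusedSectionVars false

namespace Cfsg.Agent.Lib.helper3.C6U

open Polynomial Matrix
open Cfsg.Agent.Lib.Helper10.C6P
open Cfsg.Agent.Lib.helper3.S5953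
open scoped MatrixGroups

variable {F : Type*} [Field F]

section fin

variable [Fintype F] {p : ℕ} [Fact p.Prime] [CharP F p]

theorem c6ue3_add_right (x y y' : Fin 4 → F) :
    hermI (Fin 4) F p x (y + y') = hermI (Fin 4) F p x y + hermI (Fin 4) F p x y' := by
  unfold hermI
  rw [← Finset.sum_add_distrib]
  refine Finset.sum_congr rfl (fun i _ => ?_)
  rw [Pi.add_apply, add_pow_char, mul_add]

theorem c6ue3_pres (u : M4 F) (hU : IsU p u) (x y : Fin 4 → F) :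
    hermI (Fin 4) F p (u *ᵥ x) (u *ᵥ y) = hermI (Fin 4) F p x y := by
  have h := (Cfsg.Agent.Lib.Lead.preserves_iff (n := 4) (q := p) (frobenius F p) (fun a => frobenius_def p a) u).mpr (by
    have h1 : u.map (frobenius F p) = u.map (fun a => a ^ p) := by
      ext i j
      simp [frobenius_def]
    rw [h1]
    exact hU)
  exact h x y

theorem c6ue3_orth (u : M4 F) (hU : IsU p u) (α β : F) (hβ : β ^ p = β) (hαβ : α * β ≠ 1) (x y : Fin 4 → F)
    (hx : u *ᵥ x = α • x) (hy : u *ᵥ y = β • y) : hermI (Fin 4) F p x y = 0 := by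
  have h := c6ue3_pres u hU x y
  rw [hx, hy, hermI_smul_left, hermI_smul_right, hβ] at h
  have h1 : (α * β - 1) * hermI (Fin 4) F p x y = 0 := by linear_combination h
  rcases mul_eq_zero.mp h1 with h2 | h2
  · exact absurd (sub_eq_zero.mp h2) hαβ
  · exact h2

/-- the (unnormalised) projection to the `α`-eigenspace -/
def c6ue3_E (u : M4 F) (α : F) (x : Fin 4 → F) : Fin 4 → F := x + α ^ 2 • (u *ᵥ x) + α • (u *ᵥ (u *ᵥ x))

theorem c6ue3_E_eig (u : M4 F) (hu : u ^ 3 = 1) (α : F) (hα : α ^ 3 = 1) (x : Fin 4 → F) :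
    u *ᵥ c6ue3_E u α x = α • c6ue3_E u α x := by
  have h3 : u *ᵥ (u *ᵥ (u *ᵥ x)) = x := by
    rw [Matrix.mulVec_mulVec, Matrix.mulVec_mulVec, ← pow_two, ← pow_succ, hu, Matrix.one_mulVec]
  unfold c6ue3_E
  rw [Matrix.mulVec_add, Matrix.mulVec_add, Matrix.mulVec_smul, Matrix.mulVec_smul, h3, smul_add, smul_add, smul_smul, smul_smul]
  have h4 : α * α ^ 2 = 1 := by rw [← hα]; ring
  rw [h4, one_smul, ← pow_two]
  abel

theorem c6ue3_E_sum (u : M4 F) (ω : F) (hω : ω ^ 2 + ω + 1 = 0) (x : Fin 4 → F) :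
    c6ue3_E u 1 x + c6ue3_E u ω x + c6ue3_E u (ω ^ 2) x = (3 : F) • x := by
  unfold c6ue3_E
  have h4 : (ω ^ 2) ^ 2 = ω := by linear_combination (ω ^ 2 - ω) * hω
  rw [h4]
  have e1 : (1 : F) ^ 2 + ω ^ 2 + ω = 0 := by linear_combination hω
  have e2 : (1 : F) + ω + ω ^ 2 = 0 := by linear_combination hω
  have : x + (1 : F) ^ 2 • (u *ᵥ x) + (1 : F) • (u *ᵥ (u *ᵥ x)) + (x + ω ^ 2 • (u *ᵥ x) + ω • (u *ᵥ (u *ᵥ x))) +
      (x + ω • (u *ᵥ x) + ω ^ 2 • (u *ᵥ (u *ᵥ x))) =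
      (3 : F) • x + ((1 : F) ^ 2 + ω ^ 2 + ω) • (u *ᵥ x) + ((1 : F) + ω + ω ^ 2) • (u *ᵥ (u *ᵥ x)) := by
    module
  rw [this, e1, e2, zero_smul, zero_smul, add_zero, add_zero]

theorem c6ue3_E_mem (u : M4 F) (N : Submodule F (Fin 4 → F)) (hNinv : ∀ x ∈ N, u *ᵥ x ∈ N) (α : F) (x : Fin 4 → F) (hx : x ∈ N) :
    c6ue3_E u α x ∈ N := by
  unfold c6ue3_E
  exact N.add_mem (N.add_mem hx (N.smul_mem _ (hNinv x hx))) (N.smul_mem _ (hNinv _ (hNinv x hx)))

theorem c6ue3_frob2 (hF : Fintype.card F = p ^ 2) (a : F) : (a ^ p) ^ p = a := by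
  rw [← pow_mul, ← sq, ← hF, FiniteField.pow_card]

/-- facts on a root of `X² + X + 1` -/
theorem c6ue3_root (h3 : (3 : F) ≠ 0) (α : F) (hα : α ^ 2 + α + 1 = 0) :
    α ^ 3 = 1 ∧ α ≠ 1 ∧ α ^ 2 ≠ 1 ∧ (α ^ 2) ^ 2 = α ∧ (α ^ 2) ^ 2 + α ^ 2 + 1 = 0 := by
  refine ⟨by linear_combination (α - 1) * hα, ?_, ?_, by linear_combination (α ^ 2 - α) * hα, by linear_combination (α ^ 2 - α + 1) * hα⟩
  · rintro rfl
    apply h3
    linear_combination hα
  · intro h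
    apply h3
    have h5 : α = -2 := by linear_combination hα - h
    rw [h5] at hα
    linear_combination hα

/-- the partner of an eigenvector inside an invariant nondegenerate subspace -/
theorem c6ue3_partner (hF : Fintype.card F = p ^ 2) (h3 : (3 : F) ≠ 0) (α : F) (hα : α ^ 2 + α + 1 = 0) (hαp : α ^ p = α)
    (u : M4 F) (hU : IsU p u) (hu : u ^ 3 = 1) (N : Submodule F (Fin 4 → F)) (hNinv : ∀ x ∈ N, u *ᵥ x ∈ N) (hN : HND p N)
    (e : Fin 4 → F) (heN : e ∈ N) (he0 : e ≠ 0) (hue : u *ᵥ e = α • e) :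
    ∃ f ∈ N, u *ᵥ f = α ^ 2 • f ∧ hermI (Fin 4) F p e f = 1 := by
  obtain ⟨hα3, hα1, hα21, hα4, hα2⟩ := c6ue3_root h3 α hα
  have hex : ∃ y ∈ N, hermI (Fin 4) F p e y ≠ 0 := by
    by_contra hcon
    push Not at hcon
    exact he0 (hN e heN hcon)
  obtain ⟨y, hyN, hy⟩ := hex
  have hsum := c6ue3_E_sum u α hα y
  have h1 : hermI (Fin 4) F p e (c6ue3_E u 1 y) = 0 :=
    c6ue3_orth u hU α 1 (one_pow p) (by rw [mul_one]; exact hα1) e _ hue (c6ue3_E_eig u hu 1 (one_pow 3) y)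
  have h2 : hermI (Fin 4) F p e (c6ue3_E u α y) = 0 :=
    c6ue3_orth u hU α α hαp (by rw [← pow_two]; exact hα21) e _ hue (c6ue3_E_eig u hu α hα3 y)
  have h3p : ((3 : F)) ^ p = 3 := by
    have h := map_natCast (frobenius F p) 3
    rw [frobenius_def] at h
    exact_mod_cast h
  have ht : hermI (Fin 4) F p e (c6ue3_E u (α ^ 2) y) = 3 * hermI (Fin 4) F p e y := by
    have h5 := congrArg (fun z => hermI (Fin 4) F p e z) hsum
    simp only [c6ue3_add_right, hermI_smul_right, h1, h2, h3p, zero_add] at h5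
    exact h5
  have ht0 : hermI (Fin 4) F p e (c6ue3_E u (α ^ 2) y) ≠ 0 := by
    rw [ht]
    exact mul_ne_zero h3 hy
  refine ⟨((hermI (Fin 4) F p e (c6ue3_E u (α ^ 2) y))⁻¹) ^ p • c6ue3_E u (α ^ 2) y,
    N.smul_mem _ (c6ue3_E_mem u N hNinv _ y hyN), ?_, ?_⟩
  · rw [Matrix.mulVec_smul, c6ue3_E_eig u hu (α ^ 2) (by rw [← pow_mul]; rw [show 2 * 3 = 3 * 2 by norm_num, pow_mul, hα3, one_pow]) y,
      smul_comm]
  · rw [hermI_smul_right, c6ue3_frob2 hF, inv_mul_cancel₀ ht0]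

/-- a hyperbolic eigen-pair inside an invariant nondegenerate subspace on which `u ≠ 1` -/
theorem c6ue3_pair (hF : Fintype.card F = p ^ 2) (h3 : (3 : F) ≠ 0) (ω : F) (hω : ω ^ 2 + ω + 1 = 0) (hωp : ω ^ p = ω)
    (u : M4 F) (hU : IsU p u) (hu : u ^ 3 = 1) (N : Submodule F (Fin 4 → F)) (hNinv : ∀ x ∈ N, u *ᵥ x ∈ N) (hN : HND p N)
    (x : Fin 4 → F) (hxN : x ∈ N) (hx : u *ᵥ x ≠ x) :
    ∃ e ∈ N, ∃ f ∈ N, u *ᵥ e = ω • e ∧ u *ᵥ f = ω ^ 2 • f ∧ hermI (Fin 4) F p e f = 1 := by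
  obtain ⟨hω3, hω1, hω21, hω4, hω2⟩ := c6ue3_root h3 ω hω
  have hω23 : (ω ^ 2) ^ 3 = 1 := by rw [← pow_mul, show 2 * 3 = 3 * 2 by norm_num, pow_mul, hω3, one_pow]
  have hsum := c6ue3_E_sum u ω hω x
  by_cases h1 : c6ue3_E u ω x = 0
  · by_cases h2 : c6ue3_E u (ω ^ 2) x = 0
    · exfalso
      rw [h1, h2, add_zero, add_zero] at hsum
      have h4 := c6ue3_E_eig u hu 1 (one_pow 3) x
      rw [hsum, one_smul, Matrix.mulVec_smul] at h4
      exact hx (smul_right_injective _ h3 h4)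
    · have hω2p : (ω ^ 2) ^ p = ω ^ 2 := by rw [← pow_mul, mul_comm, pow_mul, hωp]
      obtain ⟨f', hf'N, hf'u, hf'⟩ := c6ue3_partner hF h3 (ω ^ 2) hω2 hω2p u hU hu N hNinv hN _
        (c6ue3_E_mem u N hNinv _ x hxN) h2 (c6ue3_E_eig u hu (ω ^ 2) hω23 x)
      rw [hω4] at hf'u
      refine ⟨f', hf'N, _, c6ue3_E_mem u N hNinv (ω ^ 2) x hxN, hf'u, c6ue3_E_eig u hu (ω ^ 2) hω23 x, ?_⟩
      rw [hermI_conj hF (c6ue3_E u (ω ^ 2) x) f', hf', one_pow]
  · obtain ⟨f, hfN, hfu, hf⟩ := c6ue3_partner hF h3 ω hω hωp u hU hu N hNinv hN _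
      (c6ue3_E_mem u N hNinv _ x hxN) h1 (c6ue3_E_eig u hu ω hω3 x)
    exact ⟨_, c6ue3_E_mem u N hNinv ω x hxN, f, hfN, c6ue3_E_eig u hu ω hω3 x, hfu, hf⟩

/-- the orthogonal complement of a hyperbolic eigen-pair -/
theorem c6ue3_compl (hF : Fintype.card F = p ^ 2) (u : M4 F) (hU : IsU p u) (ω : F) (hω3 : ω ^ 3 = 1) (hωp : ω ^ p = ω)
    (e f : Fin 4 → F) (hue : u *ᵥ e = ω • e) (huf : u *ᵥ f = ω ^ 2 • f) (hee : hermI (Fin 4) F p e e = 0)
    (hff : hermI (Fin 4) F p f f = 0) (hef : hermI (Fin 4) F p e f = 1) :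
    (∀ x ∈ hperp p (Submodule.span F {e, f}), u *ᵥ x ∈ hperp p (Submodule.span F {e, f})) ∧
      HND p (hperp p (Submodule.span F {e, f})) ∧ Module.finrank F ↥(hperp p (Submodule.span F {e, f})) = 2 ∧
      (∀ x, x ∈ hperp p (Submodule.span F {e, f}) ↔ hermI (Fin 4) F p x e = 0 ∧ hermI (Fin 4) F p x f = 0) := by
  have hp0 : p ≠ 0 := (Fact.out : p.Prime).ne_zero
  have hfe : hermI (Fin 4) F p f e = 1 := by rw [hermI_conj hF e f, hef, one_pow]
  have hmem : ∀ x, x ∈ hperp p (Submodule.span F {e, f}) ↔ hermI (Fin 4) F p x e = 0 ∧ hermI (Fin 4) F p x f = 0 := by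
    intro x
    constructor
    · intro hx
      exact ⟨hx e (Submodule.subset_span (by simp)), hx f (Submodule.subset_span (by simp))⟩
    · rintro ⟨h1, h2⟩ w hw
      obtain ⟨a, b, rfl⟩ := Submodule.mem_span_pair.mp hw
      rw [c6ue3_add_right, hermI_smul_right, hermI_smul_right, h1, h2, mul_zero, mul_zero, add_zero]
  have hω2p : (ω ^ 2) ^ p = ω ^ 2 := by rw [← pow_mul, mul_comm, pow_mul, hωp]
  have hinv : ∀ x ∈ hperp p (Submodule.span F {e, f}), u *ᵥ x ∈ hperp p (Submodule.span F {e, f}) := by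
    intro x hx
    rw [hmem] at hx ⊢
    have he' : e = u *ᵥ (ω ^ 2 • e) := by
      rw [Matrix.mulVec_smul, hue, smul_smul, show ω ^ 2 * ω = ω ^ 3 by ring, hω3, one_smul]
    have hf' : f = u *ᵥ (ω • f) := by
      rw [Matrix.mulVec_smul, huf, smul_smul, show ω * ω ^ 2 = ω ^ 3 by ring, hω3, one_smul]
    constructor
    · rw [he', c6ue3_pres u hU, hermI_smul_right, hx.1, mul_zero]
    · rw [hf', c6ue3_pres u hU, hermI_smul_right, hx.2, mul_zero]
  refine ⟨hinv, ?_, ?_, hmem⟩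
  · intro x hx hall
    rw [hmem] at hx
    apply hermI_nd hp0
    intro v
    have hπ : v + (-(hermI (Fin 4) F p v f)) • e + (-(hermI (Fin 4) F p v e)) • f ∈ hperp p (Submodule.span F {e, f}) := by
      rw [hmem]
      constructor
      · rw [hermI_add_left, hermI_add_left, hermI_smul_left, hermI_smul_left, hee, hfe]
        ring
      · rw [hermI_add_left, hermI_add_left, hermI_smul_left, hermI_smul_left, hef, hff]
        ring
    have h5 := hall _ hπ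
    rw [c6ue3_add_right, c6ue3_add_right, hermI_smul_right, hermI_smul_right, hx.1, hx.2, mul_zero, mul_zero, add_zero, add_zero] at h5
    exact h5
  · have hli : LinearIndependent F ![e, f] := by
      rw [LinearIndependent.pair_iff]
      intro a b hab
      have h1 := congrArg (fun z => hermI (Fin 4) F p z f) hab
      have h2 := congrArg (fun z => hermI (Fin 4) F p z e) hab
      simp only [hermI_add_left, hermI_smul_left, hermI_zero_left, hee, hff, hef, hfe, mul_zero, mul_one, add_zero, zero_add] at h1 h2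
      exact ⟨h1, h2⟩
    have hfr : Module.finrank F ↥(Submodule.span F ({e, f} : Set (Fin 4 → F))) = 2 := by
      have h6 := finrank_span_eq_card hli
      rw [Matrix.range_cons_cons_empty] at h6
      rw [h6]
      simp
    have h7 := s5953t3_abs hF (Submodule.span F ({e, f} : Set (Fin 4 → F)))
    omega

/-- basis matrix from eigenvectors with prescribed Gram matrix -/
theorem c6ue3_build (u : M4 F) (b : Fin 4 → (Fin 4 → F)) (lam : Fin 4 → F) (G : M4 F) (hG : G.det ≠ 0)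
    (hgram : ∀ j k, hermI (Fin 4) F p (b j) (b k) = G j k) (heig : ∀ k, u *ᵥ b k = lam k • b k) :
    ∃ B : GL (Fin 4) F, gram p (B : M4 F) = G ∧ ((B⁻¹ : GL (Fin 4) F) : M4 F) * u * (B : M4 F) = Matrix.diagonal lam := by
  have hgr : gram p (Matrix.of (fun i k => b k i) : M4 F) = G := by
    ext j k
    unfold gram
    rw [Matrix.mul_apply, ← hgram j k]
    unfold hermI
    refine Finset.sum_congr rfl (fun i _ => ?_)
    rw [Matrix.transpose_apply, Matrix.map_apply, Matrix.of_apply, Matrix.of_apply]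
  have hdet : (Matrix.of (fun i k => b k i) : M4 F).det ≠ 0 := by
    intro h0
    apply hG
    rw [← hgr]
    unfold gram
    rw [Matrix.det_mul, Matrix.det_transpose, h0, zero_mul]
  refine ⟨Matrix.GeneralLinearGroup.mkOfDetNeZero _ hdet, hgr, ?_⟩
  have huB : u * (Matrix.of (fun i k => b k i) : M4 F) = (Matrix.of (fun i k => b k i) : M4 F) * Matrix.diagonal lam := by
    ext i k
    rw [Matrix.mul_diagonal, Matrix.mul_apply, Matrix.of_apply]
    have h1 := congrFun (heig k) i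
    rw [Matrix.mulVec, dotProduct] at h1
    simp only [Matrix.of_apply]
    rw [h1, Pi.smul_apply, smul_eq_mul, mul_comm]
  rw [Matrix.coe_units_inv]
  show (Matrix.of (fun i k => b k i) : M4 F)⁻¹ * u * (Matrix.of (fun i k => b k i) : M4 F) = _
  rw [Matrix.mul_assoc, huB, ← Matrix.mul_assoc, Matrix.nonsing_inv_mul _ (isUnit_iff_ne_zero.mpr hdet), Matrix.one_mul]

theorem c6ue3_G3_one : G3 F 1 = !![0, 1, 0, 0; 1, 0, 0, 0; 0, 0, 1, 0; 0, 0, 0, 1] := by simp [G3]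
theorem c6ue3_G3_two : G3 F 2 = !![0, 1, 0, 0; 1, 0, 0, 0; 0, 0, 0, 1; 0, 0, 1, 0] := by simp [G3]
theorem c6ue3_D3_one (ω : F) : D3 ω 1 = Matrix.diagonal ![ω, ω ^ 2, 1, 1] := by simp [D3]
theorem c6ue3_D3_two (ω : F) : D3 ω 2 = Matrix.diagonal ![ω, ω ^ 2, ω, ω ^ 2] := by simp [D3]

theorem c6ue3_G3_det (a : ℕ) : (G3 F a).det ≠ 0 := by
  have h : G3 F a * G3 F a = 1 := by
    unfold G3
    split_ifs
    · ext i j
      fin_cases i <;> fin_cases j <;> simp [Matrix.mul_apply, Fin.sum_univ_four]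
    · ext i j
      fin_cases i <;> fin_cases j <;> simp [Matrix.mul_apply, Fin.sum_univ_four]
  intro h0
  have := congrArg Matrix.det h
  rw [Matrix.det_mul, h0, Matrix.det_one, zero_mul] at this
  exact zero_ne_one this

theorem c6ue3_det (u : M4 F) (B : GL (Fin 4) F) (lam : Fin 4 → F)
    (hB : ((B⁻¹ : GL (Fin 4) F) : M4 F) * u * (B : M4 F) = Matrix.diagonal lam) :
    (u - 1).det = ∏ k, (lam k - 1) := by
  have h1 : ((B⁻¹ : GL (Fin 4) F) : M4 F) * (u - 1) * (B : M4 F) = Matrix.diagonal (fun k => lam k - 1) := by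
    rw [Matrix.mul_sub, Matrix.sub_mul, hB, Matrix.mul_one, ← Units.val_mul, inv_mul_cancel, Units.val_one]
    ext i j
    by_cases hij : i = j
    · subst hij
      simp
    · simp [hij]
  rw [← Matrix.det_diagonal, ← h1, Matrix.det_units_conj']

theorem nf_three (hF : Fintype.card F = p ^ 2) (h3 : (3 : F) ≠ 0) (ω : F) (hω : ω ^ 2 + ω + 1 = 0) (hωp : ω ^ p = ω)
    (u : M4 F) (hU : IsU p u) (hu : u ^ 3 = 1) (hne : u ≠ 1) :
    ∃ (a : ℕ) (B : GL (Fin 4) F), (a = 1 ∨ a = 2) ∧ (a = 2 ↔ (u - 1).det ≠ 0) ∧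
      gram p (B : M4 F) = G3 F a ∧ ((B⁻¹ : GL (Fin 4) F) : M4 F) * u * (B : M4 F) = D3 ω a := by
  obtain ⟨hω3, hω1, hω21, hω4, hω2⟩ := c6ue3_root h3 ω hω
  have hp0 : p ≠ 0 := (Fact.out : p.Prime).ne_zero
  have hω2p : (ω ^ 2) ^ p = ω ^ 2 := by rw [← pow_mul, mul_comm, pow_mul, hωp]
  have hω2ne : ω ^ 2 ≠ 1 := hω21
  obtain ⟨x, hx⟩ : ∃ x : Fin 4 → F, u *ᵥ x ≠ x := by
    by_contra hcon
    push Not at hcon
    apply hne
    apply Matrix.toLin'.injective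
    apply LinearMap.ext
    intro x
    rw [Matrix.toLin'_apply, hcon x]
    simp
  have htopnd : HND p (⊤ : Submodule F (Fin 4 → F)) := fun v _ hv => hermI_nd hp0 v (fun w => hv w Submodule.mem_top)
  obtain ⟨e₁, -, f₁, -, hue₁, huf₁, hef₁⟩ := c6ue3_pair hF h3 ω hω hωp u hU hu ⊤ (fun _ _ => Submodule.mem_top) htopnd x
    Submodule.mem_top hx
  have hee₁ : hermI (Fin 4) F p e₁ e₁ = 0 := c6ue3_orth u hU ω ω hωp (by rw [← pow_two]; exact hω21) e₁ e₁ hue₁ hue₁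
  have hff₁ : hermI (Fin 4) F p f₁ f₁ = 0 :=
    c6ue3_orth u hU (ω ^ 2) (ω ^ 2) hω2p (by rw [← pow_two, hω4]; exact hω1) f₁ f₁ huf₁ huf₁
  have hfe₁ : hermI (Fin 4) F p f₁ e₁ = 1 := by rw [hermI_conj hF e₁ f₁, hef₁, one_pow]
  obtain ⟨hinv, hnd, hfr, hmem⟩ := c6ue3_compl hF u hU ω hω3 hωp e₁ f₁ hue₁ huf₁ hee₁ hff₁ hef₁
  -- symmetric vanishing
  have hsym0 : ∀ y z : Fin 4 → F, hermI (Fin 4) F p y z = 0 → hermI (Fin 4) F p z y = 0 := by
    intro y z h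
    rw [hermI_conj hF y z, h, zero_pow hp0]
  by_cases htriv : ∀ x ∈ hperp p (Submodule.span F {e₁, f₁}), u *ᵥ x = x
  · -- a = 1
    obtain ⟨b, -, hbspan, hborth⟩ := Cfsg.Agent.Lib.helper6.HF.exists_orthonormal hF (hperp p (Submodule.span F {e₁, f₁})) hnd
    have hbN : ∀ i, b i ∈ hperp p (Submodule.span F {e₁, f₁}) := fun i => by
      rw [← hbspan]
      exact Submodule.subset_span ⟨i, rfl⟩
    have h0 : (0 : ℕ) < Module.finrank F ↥(hperp p (Submodule.span F {e₁, f₁})) := by omega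
    have h1 : (1 : ℕ) < Module.finrank F ↥(hperp p (Submodule.span F {e₁, f₁})) := by omega
    have hd1 := (hmem _).mp (hbN ⟨0, h0⟩)
    have hd2 := (hmem _).mp (hbN ⟨1, h1⟩)
    have hb11 : hermI (Fin 4) F p (b ⟨0, h0⟩) (b ⟨0, h0⟩) = 1 := by
      have h := hborth ⟨0, h0⟩ ⟨0, h0⟩
      rw [← hermI_fin] at h
      simpa using h
    have hb22 : hermI (Fin 4) F p (b ⟨1, h1⟩) (b ⟨1, h1⟩) = 1 := by
      have h := hborth ⟨1, h1⟩ ⟨1, h1⟩
      rw [← hermI_fin] at h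
      simpa using h
    have hb12 : hermI (Fin 4) F p (b ⟨0, h0⟩) (b ⟨1, h1⟩) = 0 := by
      have h := hborth ⟨0, h0⟩ ⟨1, h1⟩
      rw [← hermI_fin] at h
      simpa using h
    have hb21 : hermI (Fin 4) F p (b ⟨1, h1⟩) (b ⟨0, h0⟩) = 0 := by
      have h := hborth ⟨1, h1⟩ ⟨0, h0⟩
      rw [← hermI_fin] at h
      simpa using h
    obtain ⟨B, hB1, hB2⟩ := c6ue3_build (p := p) u ![e₁, f₁, b ⟨0, h0⟩, b ⟨1, h1⟩] ![ω, ω ^ 2, 1, 1] (G3 F 1) (c6ue3_G3_det 1)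
      (by
        intro j k
        rw [c6ue3_G3_one]
        fin_cases j <;> fin_cases k <;>
          simp [hee₁, hef₁, hfe₁, hff₁, hd1.1, hd1.2, hd2.1, hd2.2, hsym0 _ _ hd1.1, hsym0 _ _ hd1.2, hsym0 _ _ hd2.1,
            hsym0 _ _ hd2.2, hb11, hb22, hb12, hb21])
      (by
        intro k
        fin_cases k
        · simpa using hue₁
        · simpa using huf₁
        · simpa using htriv _ (hbN ⟨0, h0⟩)
        · simpa using htriv _ (hbN ⟨1, h1⟩))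
    refine ⟨1, B, Or.inl rfl, ?_, hB1, by rw [c6ue3_D3_one]; exact hB2⟩
    rw [c6ue3_det u B _ hB2]
    simp [Fin.prod_univ_four]
  · -- a = 2
    push Not at htriv
    obtain ⟨x', hx'N, hx'⟩ := htriv
    obtain ⟨e₂, he₂N, f₂, hf₂N, hue₂, huf₂, hef₂⟩ := c6ue3_pair hF h3 ω hω hωp u hU hu _ hinv hnd x' hx'N hx'
    have hee₂ : hermI (Fin 4) F p e₂ e₂ = 0 := c6ue3_orth u hU ω ω hωp (by rw [← pow_two]; exact hω21) e₂ e₂ hue₂ hue₂
    have hff₂ : hermI (Fin 4) F p f₂ f₂ = 0 :=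
      c6ue3_orth u hU (ω ^ 2) (ω ^ 2) hω2p (by rw [← pow_two, hω4]; exact hω1) f₂ f₂ huf₂ huf₂
    have hfe₂ : hermI (Fin 4) F p f₂ e₂ = 1 := by rw [hermI_conj hF e₂ f₂, hef₂, one_pow]
    have hd1 := (hmem _).mp he₂N
    have hd2 := (hmem _).mp hf₂N
    obtain ⟨B, hB1, hB2⟩ := c6ue3_build (p := p) u ![e₁, f₁, e₂, f₂] ![ω, ω ^ 2, ω, ω ^ 2] (G3 F 2) (c6ue3_G3_det 2)
      (by
        intro j k
        rw [c6ue3_G3_two]
        fin_cases j <;> fin_cases k <;>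
          simp [hee₁, hef₁, hfe₁, hff₁, hd1.1, hd1.2, hd2.1, hd2.2, hsym0 _ _ hd1.1, hsym0 _ _ hd1.2, hsym0 _ _ hd2.1,
            hsym0 _ _ hd2.2, hee₂, hef₂, hfe₂, hff₂])
      (by
        intro k
        fin_cases k
        · simpa using hue₁
        · simpa using huf₁
        · simpa using hue₂
        · simpa using huf₂)
    refine ⟨2, B, Or.inr rfl, ?_, hB1, by rw [c6ue3_D3_two]; exact hB2⟩
    rw [c6ue3_det u B _ hB2]
    simp only [true_iff, Fin.prod_univ_four]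
    have hω1' : ω - 1 ≠ 0 := sub_ne_zero.mpr hω1
    have hω2' : ω ^ 2 - 1 ≠ 0 := sub_ne_zero.mpr hω21
    simp [hω1', hω2']

end fin

end Cfsg.Agent.Lib.helper3.C6U
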