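import Mathlib
import Cfsg.Agent.Lib.helper3.CEUO.Defs2
import Cfsg.Agent.Lib.Helper27.STU.Defs3
import Cfsg.Agent.Lib.Helper27.STU.Frob
import Cfsg.Agent.Lib.Helper27.STUH8

/-!
# Project CEUO (sub-designer helper3), row S1 (helper1), VERBATIM: `act_add`
-/

set_option autoImplicit false

namespace Cfsg.Agent.Lib.helper3.CEUO

open Cfsg.Agent.Lib.helper15.St2 Cfsg.Agent.Lib.helper7.Ce Cfsg.Agent.Lib.helper3.STC Cfsg.Agent.Lib.Helper27.STU
  Cfsg.Agent.Lib.helper7.CEU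

open Cfsg.Agent.Lib.helper7.CEC (I2 I3 I4 U2 U3)

section S

variable {F : Type*} [Field F] [StarRing F] {od : Prop} {ι : Type*} {Γ G : Type*} [Group Γ] [Group G] {S : SysU F od ι G} {σ : Γ →* G}
  {h : IsCE σ}

/-- S1 [S] -/
theorem act_add (w₁ w₂ : F) (ζ : Lam F od) :
    Lam.act (w₁ + w₂) ζ = Lam.act w₁ ζ * Lam.act w₂ ζ * Lam.tr (w₂ * star w₁ * ζ.c) := by
  apply Lam.ext
  · simp only [Lam.act_v, Lam.mul_v, Lam.tr_v]
    ring
  · simp only [Lam.act_c, Lam.mul_c, Lam.tr_c, Lam.act_v, Lam.mul_v, Lam.tr_v, star_add, star_mul', star_star, star_zero, mul_zero,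
      sub_zero]
    linear_combination (w₁ * star w₂) * ζ.h

end S

end Cfsg.Agent.Lib.helper3.CEUO
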