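import Mathlib
import Cfsg.Agent.Lib.helper3.CEUO.Defs2
import Cfsg.Agent.Lib.Helper27.STU.Defs3
import Cfsg.Agent.Lib.Helper27.STU.Frob
import Cfsg.Agent.Lib.Helper27.STUH8
import Cfsg.Agent.Lib.Helper24.STCI1
import Cfsg.Agent.Lib.Helper24.STUB1
import Cfsg.Agent.Lib.Helper5.STULA5
import Cfsg.Agent.Lib.Helper1.CEUOS1

/-!
# Project CEUO (sub-designer helper3), row S2 `hssl_of_hls` (helper1), VERBATIM (`ceuos2_core` has the SAME statement),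
with an own-name copy `ceuos2_CL_tr` of B4 `CL_tr` (Milnor through `S.ssl`), so that it does not wait for B4.  Uses S1 `act_add` (`Helper1.CEUOS1`).
-/

set_option autoImplicit false

namespace Cfsg.Agent.Lib.helper3.CEUO

open Cfsg.Agent.Lib.helper15.St2 Cfsg.Agent.Lib.helper7.Ce Cfsg.Agent.Lib.helper3.STC Cfsg.Agent.Lib.Helper27.STU
  Cfsg.Agent.Lib.helper7.CEU

open Cfsg.Agent.Lib.helper7.CEC (I2 I3 I4 U2 U3)

section S

variable {F : Type*} [Field F] [StarRing F] {od : Prop} {ι : Type*} {Γ G : Type*} [Group Γ] [Group G] {S : SysU F od ι G} {σ : Γ →* G}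
  {h : IsCE σ}

/-- own-name copy of B4 `CL_tr` -/
theorem ceuos2_CL_tr (h : IsCE σ) {c b : ι ⊕ ι} (hcb : ab c ≠ ab b) (x : F) (η : Lam F od) :
    CL σ (S.xl c (Lam.tr x)) (S.xl c η) := by
  have h1 : c ≠ b := fun e => hcb (by rw [e])
  have h2 : c ≠ ng b := fun e => hcb (by rw [e, ab_ng])
  have hbc2 : b ≠ ng c := fun e => h2 (by rw [e, ng_ng])
  have e := S.ssl c b h1 h2 x 1
  rw [mul_one] at e
  have e' : S.xl c (Lam.tr x) = cm (S.xs c b x) (S.xs b (ng c) 1) := e.symm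
  rw [e']
  apply h.milnor
  · exact (S.comm_ls c c b h1 h2 (ne_ng c) h1.symm η x).symm
  · exact (S.comm_ls c b (ng c) hbc2 (by rw [ng_ng]; exact h1.symm) hbc2 (ng_ne c) η 1).symm

theorem ceuos2_tr_neg_star (y : F) : (Lam.tr (-(star y)) : Lam F od) = Lam.tr y := by
  apply Lam.ext
  · rfl
  · simp only [Lam.tr_c, star_neg, star_star]
    ring

/-- S2 core (the statement of S2 `hssl_of_hls`) -/
theorem ceuos2_core (hF : Hyp F) (hCl : HCl S σ) (L : ShortLift S h) (Z : LongLift S h)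
    (hls : ∀ a b : ι ⊕ ι, ab a ≠ ab b → ∀ (ξ : Lam F od) (u : F),
      cm (Z.Z a ξ) (L.X (ng a) b u) = L.X a b (ξ.c * u) * Z.Z (ng b) (Lam.act (star u) (Lam.bar ξ))) :
    ∀ a b : ι ⊕ ι, ab a ≠ ab b → ∀ t u : F, cm (L.X a b t) (L.X b (ng a) u) = Z.Z a (Lam.tr (t * u)) := by
  intro a b hab t u
  have hab1 : a ≠ b := fun e => hab (by rw [e])
  have hab2 : a ≠ ng b := fun e => hab (by rw [e, ab_ng])
  have hba2 : b ≠ ng a := fun e => hab2 (by rw [e, ng_ng])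
  have hbna : ab b ≠ ab (ng a) := by rw [ab_ng]; exact fun e => hab e.symm
  have hnbna : ab (ng b) ≠ ab (ng a) := by rw [ab_ng, ab_ng]; exact fun e => hab e.symm
  obtain ⟨ξ, hξ⟩ := Lam.exists_c_ne (od := od) hF
  have hsξ : star ξ.c ≠ 0 := fun e => hξ (by rw [← star_star ξ.c, e, star_zero])
  have hB : ∀ s, L.X (ng b) (ng a) s = L.X a b (-(star s)) := by
    intro s
    rw [L.sym a b hab (-(star s)), star_neg, star_star, neg_neg]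
  have hcm : ∀ s, cm (Z.Z b ξ) (L.X (ng b) (ng a) s) =
      L.X b (ng a) (ξ.c * s) * Z.Z a (Lam.act (star s) (Lam.bar ξ)) := by
    intro s
    have := hls b (ng a) hbna ξ s
    rw [ng_ng] at this
    exact this
  have hu₁ : -(star (-(star t))) = t := by rw [star_neg, star_star, neg_neg]
  have hu₂ : ξ.c * (ξ.c⁻¹ * u) = u := mul_inv_cancel_left₀ hξ u
  have hB1 : L.X (ng b) (ng a) (-(star t)) = L.X a b t := by rw [hB, hu₁]
  -- names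
  obtain ⟨B1, hB1'⟩ : ∃ B1, B1 = L.X a b t := ⟨_, rfl⟩
  obtain ⟨X1, hX1⟩ : ∃ X1, X1 = L.X b (ng a) (ξ.c * -(star t)) := ⟨_, rfl⟩
  obtain ⟨X2, hX2⟩ : ∃ X2, X2 = L.X b (ng a) u := ⟨_, rfl⟩
  obtain ⟨Z1, hZ1⟩ : ∃ Z1, Z1 = Z.Z a (Lam.act (star (-(star t))) (Lam.bar ξ)) := ⟨_, rfl⟩
  obtain ⟨Z2, hZ2⟩ : ∃ Z2, Z2 = Z.Z a (Lam.act (star (ξ.c⁻¹ * u)) (Lam.bar ξ)) := ⟨_, rfl⟩
  obtain ⟨Zx, hZx⟩ : ∃ Zx, Zx = Z.Z a (Lam.tr (star (ξ.c⁻¹ * u) * star (star (-(star t))) * (Lam.bar ξ).c)) := ⟨_, rfl⟩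
  have E := cm_mul_right (Z.Z b ξ) (L.X (ng b) (ng a) (-(star t))) (L.X (ng b) (ng a) (ξ.c⁻¹ * u))
  rw [← L.add (ng b) (ng a) hnbna, hcm, hcm, hcm, hB1, hu₂, mul_add, L.add b (ng a) hbna, hu₂, star_add, act_add, Z.mul, Z.mul,
    ← hB1', ← hX1, ← hX2, ← hZ1, ← hZ2, ← hZx] at E
  -- E : X1 * X2 * (Z1 * Z2 * Zx) = X1 * Z1 * (B1 * (X2 * Z2) * B1⁻¹)
  have hσB1 : σ B1 = S.xs a b t := by rw [hB1', L.map a b hab]
  have hσX2 : σ X2 = S.xs b (ng a) u := by rw [hX2, L.map b (ng a) hbna]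
  have hσZ1 : σ Z1 = S.xl a (Lam.act (star (-(star t))) (Lam.bar ξ)) := by rw [hZ1, Z.map]
  have hσZ2 : σ Z2 = S.xl a (Lam.act (star (ξ.c⁻¹ * u)) (Lam.bar ξ)) := by rw [hZ2, Z.map]
  have hσW : σ (cm B1 X2) = S.xl a (Lam.tr (t * u)) := by
    rw [map_cm, hσB1, hσX2]
    exact S.ssl a b hab1 hab2 t u
  have hclX : ∀ (η : Lam F od) (s : F), CL σ (S.xl a η) (S.xs b (ng a) s) := fun η s =>
    hCl a b (ng a) hba2 (by rw [ng_ng]; exact hab1.symm) hba2 (ng_ne a) η s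
  have c1 : Z1 * X2 = X2 * Z1 := hclX _ _ Z1 X2 hσZ1 hσX2
  have c2 : cm B1 X2 * X2 = X2 * cm B1 X2 := hclX _ _ _ X2 hσW hσX2
  have c3 : cm B1 X2 * Z2 = Z2 * cm B1 X2 := (ceuos2_CL_tr h hab (t * u) _) _ Z2 hσW hσZ2
  have bz : Commute B1 Z2 := by
    have hcl := hCl a a b hab1 hab2 (ne_ng a) hab1.symm (Lam.act (star (ξ.c⁻¹ * u)) (Lam.bar ξ)) t
    exact (hcl Z2 B1 hσZ2 hσB1).symm
  have hconj : B1 * (X2 * Z2) * B1⁻¹ = cm B1 X2 * X2 * Z2 := by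
    have e := bz.inv_left.eq
    calc B1 * (X2 * Z2) * B1⁻¹ = B1 * X2 * (Z2 * B1⁻¹) := by group
      _ = B1 * X2 * (B1⁻¹ * Z2) := by rw [e]
      _ = cm B1 X2 * X2 * Z2 := by unfold cm; group
  rw [hconj] at E
  have key : Z1 * X2 * Z2 * cm B1 X2 = Z1 * X2 * Z2 * Zx := by
    calc Z1 * X2 * Z2 * cm B1 X2 = Z1 * X2 * (Z2 * cm B1 X2) := by group
      _ = Z1 * X2 * (cm B1 X2 * Z2) := by rw [c3]
      _ = Z1 * (X2 * cm B1 X2) * Z2 := by group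
      _ = Z1 * (cm B1 X2 * X2) * Z2 := by rw [c2]
      _ = X1⁻¹ * (X1 * Z1 * (cm B1 X2 * X2 * Z2)) := by group
      _ = X1⁻¹ * (X1 * X2 * (Z1 * Z2 * Zx)) := by rw [E]
      _ = (X2 * Z1) * Z2 * Zx := by group
      _ = (Z1 * X2) * Z2 * Zx := by rw [c1]
  have hW : cm B1 X2 = Zx := mul_left_cancel key
  rw [← hB1', ← hX2, hW, hZx]
  congr 1
  have hx : star (ξ.c⁻¹ * u) * star (star (-(star t))) * (Lam.bar ξ).c = -(star (t * u)) := by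
    rw [Lam.bar_c, star_star, star_mul', star_mul', star_inv₀]
    field_simp
  rw [hx, ceuos2_tr_neg_star]

/-- S2 [L]  the lifted relation `ssl` follows from the lifted relation `ls` (both parities). -/
theorem hssl_of_hls (hF : Hyp F) (hCl : HCl S σ) (L : ShortLift S h) (Z : LongLift S h)
    (hls : ∀ a b : ι ⊕ ι, ab a ≠ ab b → ∀ (ξ : Lam F od) (u : F),
      cm (Z.Z a ξ) (L.X (ng a) b u) = L.X a b (ξ.c * u) * Z.Z (ng b) (Lam.act (star u) (Lam.bar ξ))) :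
    ∀ a b : ι ⊕ ι, ab a ≠ ab b → ∀ t u : F, cm (L.X a b t) (L.X b (ng a) u) = Z.Z a (Lam.tr (t * u)) :=
  ceuos2_core hF hCl L Z hls

end S

end Cfsg.Agent.Lib.helper3.CEUO
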