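import Mathlib
import Cfsg.Agent.Lib.helper3.CEUO.Defs2
import Cfsg.Agent.Lib.Helper27.STU.Defs3
import Cfsg.Agent.Lib.Helper27.STU.Frob
import Cfsg.Agent.Lib.Helper27.STUH8
import Cfsg.Agent.Lib.Helper24.STCI1
import Cfsg.Agent.Lib.Helper24.STUB1

/-!
# Project CEUO (sub-designer helper3), row X4 `Xo_c3` (helper1): the CORE

`ceuox4_core h hF hod hCs hCl hKbB hac hcb hab t u`, with `hKbB` = the STATEMENT of K4 `Kb_B` (implicit `a b`).
Own-name copies of K1 `Kb_map`, `Kb_eq` and X1 `Xo_map`: `ceuox4_Kb_map`, `ceuox4_Kb_eq`, `ceuox4_Xo_map`.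
-/

set_option autoImplicit false

namespace Cfsg.Agent.Lib.helper3.CEUO

open Cfsg.Agent.Lib.helper15.St2 Cfsg.Agent.Lib.helper7.Ce Cfsg.Agent.Lib.helper3.STC Cfsg.Agent.Lib.Helper27.STU
  Cfsg.Agent.Lib.helper7.CEU

open Cfsg.Agent.Lib.helper7.CEC (I2 I3 I4 U2 U3)

section X

variable {F : Type*} [Field F] [StarRing F] {od : Prop} {ι : Type*} {Γ G : Type*} [Group Γ] [Group G] {S : SysU F od ι G} {σ : Γ →* G}

/-- own-name copy of K1 `Kb_map` -/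
theorem ceuox4_Kb_map (h : IsCE σ) {a b : ι ⊕ ι} (hab : ab a ≠ ab b) (ξ η : Lam F od) :
    σ (Kb S h a b ξ η) = S.xs a b (-(ξ.v * star η.v)) := by
  have h1 : a ≠ b := fun e => hab (by rw [e])
  have h2 : a ≠ ng b := fun e => hab (by rw [e, ab_ng])
  unfold Kb
  rw [map_cm, map_lf, map_lf]
  have := S.hh a (ng b) h2 (by rw [ng_ng]; exact h1) ξ η
  rw [ng_ng] at this
  exact this

/-- own-name copy of K1 `Kb_eq` -/
theorem ceuox4_Kb_eq (h : IsCE σ) {a b : ι ⊕ ι} {ξ η : Lam F od} {p q : Γ} (hp : σ p = S.xl a ξ) (hq : σ q = S.xl (ng b) η) :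
    cm p q = Kb S h a b ξ η :=
  h.cm_congr (hp.trans (map_lf h _).symm) (hq.trans (map_lf h _).symm)

/-- own-name copy of X1 `Xo_map` -/
theorem ceuox4_Xo_map (h : IsCE σ) (hF : Hyp F) (hod : od) {a b : ι ⊕ ι} (hab : ab a ≠ ab b) (t : F) :
    σ (Xo S h hF hod a b t) = S.xs a b t := by
  unfold Xo
  rw [ceuox4_Kb_map h hab, ofV_v, ofV_v, star_one, mul_one, neg_neg]

/-- X4 core: hypothesis `hKbB` = the statement of K4 `Kb_B`. -/
theorem ceuox4_core (h : IsCE σ) (hF : Hyp F) (hod : od) (hCs : HCs S σ) (hCl : HCl S σ)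
    (hKbB : ∀ {a b : ι ⊕ ι}, ab a ≠ ab b → ∀ ξ η : Lam F od,
      Kb S h a b ξ η = Xo S h hF hod a b (-(ξ.v * star η.v)))
    {a c b : ι ⊕ ι} (hac : ab a ≠ ab c) (hcb : ab c ≠ ab b) (hab : ab a ≠ ab b) (t u : F) :
    cm (Xo S h hF hod a c t) (Xo S h hF hod c b u) = Xo S h hF hod a b (t * u) := by
  have hac1 : a ≠ c := fun e => hac (by rw [e])
  have hac2 : a ≠ ng c := fun e => hac (by rw [e, ab_ng])
  have hcb1 : c ≠ b := fun e => hcb (by rw [e])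
  have hcb2 : c ≠ ng b := fun e => hcb (by rw [e, ab_ng])
  have hab1 : a ≠ b := fun e => hab (by rw [e])
  have hab2 : a ≠ ng b := fun e => hab (by rw [e, ab_ng])
  have hca2 : c ≠ ng a := fun e => hac2 (by rw [e, ng_ng])
  have hnab : ng a ≠ ng b := fun e => hab1 (ng_inj.1 e)
  have hnac : ng a ≠ c := fun e => hca2 e.symm
  -- notation
  obtain ⟨p, hp⟩ : ∃ p, p = Xo S h hF hod a c t := ⟨_, rfl⟩
  obtain ⟨ξ', hξ'⟩ : ∃ ξ' : Lam F od, ξ' = ofV hF hod (-u) := ⟨_, rfl⟩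
  obtain ⟨η₁, hη₁⟩ : ∃ η₁ : Lam F od, η₁ = ofV hF hod 1 := ⟨_, rfl⟩
  obtain ⟨C', hC'⟩ : ∃ C', C' = lf h (S.xl c ξ') := ⟨_, rfl⟩
  obtain ⟨B', hB'⟩ : ∃ B', B' = lf h (S.xl (ng b) η₁) := ⟨_, rfl⟩
  have hQ : Xo S h hF hod c b u = cm C' B' := by
    rw [hC', hB', hξ', hη₁]
    rfl
  have hσp : σ p = S.xs a c t := by rw [hp, ceuox4_Xo_map h hF hod hac]
  have hσC : σ C' = S.xl c ξ' := by rw [hC', map_lf]
  have hσB : σ B' = S.xl (ng b) η₁ := by rw [hB', map_lf]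
  have hσQ : σ (cm C' B') = S.xs c b u := by rw [← hQ, ceuox4_Xo_map h hF hod hcb]
  have hξv : ξ'.v = -u := by rw [hξ', ofV_v]
  have hηv : η₁.v = 1 := by rw [hη₁, ofV_v]
  rw [← hp, hQ]
  -- (1)
  have h1 : cj p B' = B' := by
    have hcl := hCl (ng b) a c hac1 hac2 (by rw [ng_ng]; exact hab1) hcb2 η₁ t
    have := hcl B' p hσB hσp
    unfold cj
    rw [← this, mul_inv_cancel_right]
  -- (2)
  obtain ⟨D, hD⟩ : ∃ D, D = cm p C' := ⟨_, rfl⟩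
  have h2 : cj p C' = D * C' := by
    rw [hD]
    unfold cm cj
    group
  obtain ⟨s₁, hs₁⟩ : ∃ s₁ : F, s₁ = -(ξ'.c * star t) := ⟨_, rfl⟩
  obtain ⟨ζ, hζ⟩ : ∃ ζ : Lam F od, ζ = Lam.act (-t) (Lam.bar ξ') := ⟨_, rfl⟩
  have hσD : σ D = S.xl a ζ⁻¹ * S.xs c (ng a) (-s₁) := by
    rw [hD, map_cm, hσp, hσC, ← cm_inv_swap]
    have hls := S.ls c (ng a) hca2 (by rw [ng_ng]; exact hac1.symm) ξ' (-(star t))
    rw [← S.sym a c hac1 hac2 t, ng_ng, star_neg, star_star, mul_neg, ← hs₁, ← hζ] at hls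
    have e : cm (S.xl c ξ') (S.xs a c t) = S.xs c (ng a) s₁ * S.xl a ζ := hls
    rw [e, mul_inv_rev, S.xl_inv, S.xs_neg hca2 (by rw [ng_ng]; exact hac1.symm)]
  -- (3)
  have hDQ : D * cm C' B' = cm C' B' * D := by
    have hcl1 : CL σ (S.xs c (ng a) (-s₁)) (S.xs c b u) :=
      hCs c (ng a) c b hca2 (by rw [ng_ng]; exact hac1.symm) hcb1 hcb2 hnac hcb1 hnab (ne_ng c) _ _
    have hcl2 : CL σ (S.xl a ζ⁻¹) (S.xs c b u) := hCl a c b hcb1 hcb2 hca2 hab1.symm _ _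
    exact (h.CL_mul_left hcl2 hcl1) D (cm C' B') hσD hσQ
  have h3 : cj p (cm C' B') = cm C' B' * cm D B' := by
    rw [cj_cm, h2, h1, cm_mul_left, hDQ, mul_inv_cancel_right]
  have h4 : cm p (cm C' B') = cm C' B' * cm D B' * (cm C' B')⁻¹ := by
    rw [← h3]
    rfl
  -- (4)
  have h5 : cm D B' = Xo S h hF hod a b (t * u) := by
    have e1 : σ D = σ (lf h (S.xl a ζ⁻¹) * lf h (S.xs c (ng a) (-s₁))) := by
      rw [hσD, map_mul, map_lf, map_lf]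
    rw [h.cm_congr e1 rfl, cm_mul_left]
    have hX : cm (lf h (S.xs c (ng a) (-s₁))) B' = 1 := by
      rw [cm_eq_one_iff]
      have hcl := hCl (ng b) c (ng a) hca2 (by rw [ng_ng]; exact hac1.symm) (by rw [ng_ng]; exact hcb1) hnab η₁ (-s₁)
      exact (hcl B' _ hσB (map_lf h _)).symm
    rw [hX, mul_one, mul_inv_cancel, one_mul, ceuox4_Kb_eq h (map_lf h _) hσB, hKbB hab]
    congr 1
    rw [Lam.inv_v, hζ, Lam.act_v, Lam.bar_v, hξv, hηv, star_one]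
    ring
  -- (5)
  have h6 : cm C' B' * Xo S h hF hod a b (t * u) = Xo S h hF hod a b (t * u) * cm C' B' := by
    have hcl := hCs a b c b hab1 hab2 hcb1 hcb2 hcb1.symm hab1 (ne_ng b) hac2 (t * u) u
    exact (hcl _ _ (ceuox4_Xo_map h hF hod hab _) hσQ).symm
  rw [h4, h5, h6, mul_inv_cancel_right]

end X

end Cfsg.Agent.Lib.helper3.CEUO
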