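import Mathlib
import Cfsg.Agent.Lib.helper3.CEUO.Defs2
import Cfsg.Agent.Lib.Helper27.STU.Defs3
import Cfsg.Agent.Lib.Helper27.STU.Frob
import Cfsg.Agent.Lib.Helper27.STUH8
import Cfsg.Agent.Lib.Helper28.CEUOK4
import Cfsg.Agent.Lib.Helper1.CEUOX4core

/-!
# Project CEUO (sub-designer helper3), row X4 (helper1), VERBATIM: `Xo_c3` (= `ceuox4_core` on K4 `Kb_B`, `Helper28.CEUOK4`)
-/

set_option autoImplicit false

namespace Cfsg.Agent.Lib.helper3.CEUO

open Cfsg.Agent.Lib.helper15.St2 Cfsg.Agent.Lib.helper7.Ce Cfsg.Agent.Lib.helper3.STC Cfsg.Agent.Lib.Helper27.STU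
  Cfsg.Agent.Lib.helper7.CEU

open Cfsg.Agent.Lib.helper7.CEC (I2 I3 I4 U2 U3)

section X

variable {F : Type*} [Field F] [StarRing F] {od : Prop} {ι : Type*} {Γ G : Type*} [Group Γ] [Group G] {S : SysU F od ι G} {σ : Γ →* G}

/-- X4 [L]  the lifted relation short + short = short (only three indices or more). -/
theorem Xo_c3 (h : IsCE σ) (hF : Hyp F) (hod : od) (hCs : HCs S σ) (hCl : HCl S σ) (htb : TorB S) {a c b : ι ⊕ ι} (hac : ab a ≠ ab c)
    (hcb : ab c ≠ ab b) (hab : ab a ≠ ab b) (t u : F) :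
    cm (Xo S h hF hod a c t) (Xo S h hF hod c b u) = Xo S h hF hod a b (t * u) :=
  ceuox4_core h hF hod hCs hCl (fun hab' ξ η => Kb_B h hF hod hCs hCl htb hab' ξ η) hac hcb hab t u

end X

end Cfsg.Agent.Lib.helper3.CEUO
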