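import Mathlib
import Cfsg.Agent.Lib.Helper1.Fitting

set_option autoImplicit false

namespace Cfsg.Agent.Lib.Helper1

open scoped commutatorElement

universe u

theorem prime_pow_between {p k : ℕ} (hp : p.Prime) (h1 : 1 < p ^ k) (h2 : p ^ k < p ^ 2) : k = 1 := by
  have hk0 : k ≠ 0 := by
    rintro rfl
    simp at h1
  have hk2 : k < 2 := (Nat.pow_lt_pow_iff_right hp.one_lt).mp h2
  omega

theorem subgroup_card_lt_of_lt {G : Type*} [Group G] [Finite G] {H K : Subgroup G} (h : H < K) :
    Nat.card H < Nat.card K :=
  lt_of_le_of_ne (Subgroup.card_le_of_le h.le)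
    (fun heq => h.ne (Subgroup.eq_of_le_of_card_ge h.le heq.ge))

theorem card_normalizer_of_self_centralizing {X : Type*} [Group X] [Finite X] {p : ℕ}
    [hp : Fact p.Prime] (hX : IsPGroup p X) (A : Subgroup X) (hA : Nat.card A = p ^ 2)
    (hC : Subgroup.centralizer (A : Set X) = A) (hZ : Nat.card (Subgroup.center X) = p)
    (hAtop : A ≠ ⊤) : Nat.card (Subgroup.normalizer (A : Set X)) = p ^ 3 := by
  classical
  have hnil : Group.IsNilpotent X := hX.isNilpotent
  have hAc : IsMulCommutative A := IsPGroup.isMulCommutative_of_card_eq_prime_sq (p := p) hA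
  have hZA : Subgroup.center X ≤ A := by
    intro z hz
    rw [← hC]
    apply Subgroup.mem_centralizer_iff.mpr
    intro a _
    exact ((Subgroup.mem_center_iff.mp hz) a)
  have hAN : A < Subgroup.normalizer (A : Set X) :=
    Group.normalizerCondition_of_isNilpotent A (lt_top_iff_ne_top.mpr hAtop)
  obtain ⟨a₀, ha₀A, ha₀Z⟩ : ∃ a₀ ∈ A, a₀ ∉ Subgroup.center X := by
    by_contra hcon
    push Not at hcon
    have : A ≤ Subgroup.center X := fun a ha => hcon a ha
    have h1 := Subgroup.card_le_of_le this
    rw [hA, hZ] at h1
    have : p < p ^ 2 := by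
      have := hp.out.one_lt
      nlinarith
    omega
  have hgen : Subgroup.center X ⊔ Subgroup.zpowers a₀ = A := by
    have hle : Subgroup.center X ⊔ Subgroup.zpowers a₀ ≤ A :=
      sup_le hZA (by rw [Subgroup.zpowers_le]; exact ha₀A)
    have hlt : Subgroup.center X < Subgroup.center X ⊔ Subgroup.zpowers a₀ := by
      apply lt_of_le_of_ne le_sup_left
      intro h
      apply ha₀Z
      rw [h]
      exact Subgroup.mem_sup_right (Subgroup.mem_zpowers a₀)
    have hd : Nat.card (Subgroup.center X ⊔ Subgroup.zpowers a₀ : Subgroup X) ∣ p ^ 2 :=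
      hA ▸ Subgroup.card_dvd_of_le hle
    obtain ⟨k, hk, hkc⟩ := (Nat.dvd_prime_pow hp.out).mp hd
    have hgt : p < p ^ k := by
      rw [← hkc, ← hZ]
      exact subgroup_card_lt_of_lt hlt  
    have hk2 : k = 2 := by
      have : 1 < k := by
        by_contra h
        have hk1 : k ≤ 1 := by omega
        have : p ^ k ≤ p ^ 1 := Nat.pow_le_pow_right hp.out.pos hk1
        rw [pow_one] at this
        omega
      omega
    apply Subgroup.eq_of_le_of_card_ge hle
    rw [hkc, hk2, hA]
  have hcent : ∀ x : X, x * a₀ = a₀ * x → x ∈ A := by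
    intro x hx
    rw [← hC, ← hgen]
    have h1 : Subgroup.center X ⊔ Subgroup.zpowers a₀ ≤ Subgroup.centralizer {x} := by
      apply sup_le
      · intro z hz
        apply Subgroup.mem_centralizer_iff.mpr
        intro y hy
        rw [Set.mem_singleton_iff] at hy
        rw [hy]
        exact ((Subgroup.mem_center_iff.mp hz) x)
      · rw [Subgroup.zpowers_le]
        apply Subgroup.mem_centralizer_iff.mpr
        intro y hy
        rw [Set.mem_singleton_iff] at hy
        rw [hy]
        exact hx
    apply Subgroup.mem_centralizer_iff.mpr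
    intro a ha
    exact ((Subgroup.mem_centralizer_iff.mp (h1 ha)) x (Set.mem_singleton x)).symm
  let f : Subgroup.normalizer (A : Set X) → {a : A // a ≠ 1} := fun x =>
    ⟨⟨(x : X) * a₀ * (x : X)⁻¹, (Subgroup.mem_normalizer_iff.mp x.2 a₀).mp ha₀A⟩, by
      intro h
      have h1 : (x : X) * a₀ * (x : X)⁻¹ = 1 := congrArg Subtype.val h
      apply ha₀Z
      have : a₀ = 1 := by
        have e : a₀ = (x : X)⁻¹ * ((x : X) * a₀ * (x : X)⁻¹) * (x : X) := by group
        rw [e, h1]; group
      rw [this]
      exact Subgroup.one_mem _⟩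
  have hf : ∀ x y : Subgroup.normalizer (A : Set X), f x = f y → (x : X)⁻¹ * (y : X) ∈ A := by
    intro x y hxy
    have h1 : (x : X) * a₀ * (x : X)⁻¹ = (y : X) * a₀ * (y : X)⁻¹ :=
      congrArg (fun t => ((t : {a : A // a ≠ 1}) : A).1) hxy
    apply hcent
    calc (x : X)⁻¹ * (y : X) * a₀ = (x : X)⁻¹ * ((y : X) * a₀ * (y : X)⁻¹) * (y : X) := by group
      _ = (x : X)⁻¹ * ((x : X) * a₀ * (x : X)⁻¹) * (y : X) := by rw [h1]
      _ = a₀ * ((x : X)⁻¹ * (y : X)) := by group
  let F : (Subgroup.normalizer (A : Set X)) ⧸ (A.subgroupOf (Subgroup.normalizer (A : Set X))) →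
      {a : A // a ≠ 1} := fun q => Quotient.liftOn' q f (by
    intro x y hxy
    rw [QuotientGroup.leftRel_apply, Subgroup.mem_subgroupOf] at hxy
    have hxy' : (x : X)⁻¹ * (y : X) ∈ A := by simpa using hxy
    have hxa : (x : X)⁻¹ * (y : X) * a₀ = a₀ * ((x : X)⁻¹ * (y : X)) := by
      have := mul_comm' (⟨(x : X)⁻¹ * (y : X), hxy'⟩ : A) ⟨a₀, ha₀A⟩
      exact congrArg Subtype.val this
    apply Subtype.ext
    apply Subtype.ext
    change (x : X) * a₀ * (x : X)⁻¹ = (y : X) * a₀ * (y : X)⁻¹
    calc (x : X) * a₀ * (x : X)⁻¹ = (x : X) * (a₀ * ((x : X)⁻¹ * (y : X))) * (y : X)⁻¹ := by group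
      _ = (x : X) * ((x : X)⁻¹ * (y : X) * a₀) * (y : X)⁻¹ := by rw [hxa]
      _ = (y : X) * a₀ * (y : X)⁻¹ := by group)
  have hFinj : Function.Injective F := by
    intro q q'
    induction q using QuotientGroup.induction_on with
    | H x =>
      induction q' using QuotientGroup.induction_on with
      | H y =>
        intro hxy
        have hxy' : f x = f y := hxy
        apply QuotientGroup.eq.mpr
        rw [Subgroup.mem_subgroupOf]
        simpa using hf x y hxy'
  have hle : A.relIndex (Subgroup.normalizer (A : Set X)) ≤ p ^ 2 - 1 := by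
    have h1 := Nat.card_le_card_of_injective F hFinj
    have h2 : Nat.card {a : A // a ≠ 1} = p ^ 2 - 1 := by
      have := Nat.card_congr (Equiv.subtypeSubtypeEquivSubtype (p := fun a : A => a ≠ 1)
        (q := fun a : A => a ≠ 1) (fun h => h)).symm
      rw [← hA]
      have h3 : Nat.card {a : A // a ≠ 1} = Nat.card A - 1 := by
        have : Fintype A := Fintype.ofFinite A
        rw [Nat.card_eq_fintype_card, Nat.card_eq_fintype_card, Fintype.card_subtype_compl,
          Fintype.card_subtype_eq]
      exact h3
    rw [h2] at h1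
    exact h1
  have hd : A.relIndex (Subgroup.normalizer (A : Set X)) ∣ Nat.card X := by
    have h1 : A.relIndex (Subgroup.normalizer (A : Set X)) ∣
        Nat.card (Subgroup.normalizer (A : Set X)) := Subgroup.relIndex_dvd_card _ _
    exact h1.trans (Subgroup.card_subgroup_dvd_card _)
  obtain ⟨n, hn⟩ := IsPGroup.iff_card.mp hX
  rw [hn] at hd
  obtain ⟨k, -, hk⟩ := (Nat.dvd_prime_pow hp.out).mp hd
  have hgt : 1 < A.relIndex (Subgroup.normalizer (A : Set X)) := by
    have h1 := card_mul_relIndex_of_le hAN.le
    have h2 := subgroup_card_lt_of_lt hAN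
    by_contra hcon
    have hpos : 0 < A.relIndex (Subgroup.normalizer (A : Set X)) :=
      Nat.pos_of_ne_zero (by
        intro h0
        rw [h0, mul_zero] at h1
        have : 0 < Nat.card (Subgroup.normalizer (A : Set X)) := Nat.card_pos
        omega)
    have : A.relIndex (Subgroup.normalizer (A : Set X)) = 1 := by omega
    rw [this, mul_one] at h1
    omega
  have hk1 : k = 1 := by
    apply prime_pow_between hp.out
    · rw [← hk]; exact hgt
    · rw [← hk]
      have : 0 < p ^ 2 := pow_pos hp.out.pos 2
      omega
  rw [← card_mul_relIndex_of_le hAN.le, hk, hk1, hA]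
  ring

theorem class_of_self_centralizing (p : ℕ) [hp : Fact p.Prime] :
    ∀ n : ℕ, ∀ (X : Type u) [Group X] [Finite X], Nat.card X = p ^ n →
      ∀ A : Subgroup X, Nat.card A = p ^ 2 → Subgroup.centralizer (A : Set X) = A →
      Group.nilpotencyClass X = n - 1 := by
  intro n
  induction n with
  | zero =>
    intro X _ _ hX A hA _
    exfalso
    rw [pow_zero] at hX
    have h1 := Subgroup.card_le_card_group A
    rw [hA, hX] at h1
    have : 1 < p ^ 2 := Nat.one_lt_pow (by norm_num) hp.out.one_lt
    omega
  | succ n ih =>
    intro X _ _ hX A hA hC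
    classical
    have hXp : IsPGroup p X := IsPGroup.of_card hX
    have hnil : Group.IsNilpotent X := hXp.isNilpotent
    have hnt : Nontrivial X := by
      rw [← Finite.one_lt_card_iff_nontrivial, hX]
      exact Nat.one_lt_pow (by omega) hp.out.one_lt
    have hZA : Subgroup.center X ≤ A := by
      intro z hz
      rw [← hC]
      apply Subgroup.mem_centralizer_iff.mpr
      intro a _
      exact ((Subgroup.mem_center_iff.mp hz) a)
    have hclass := Group.nilpotencyClass_eq_quotient_center_plus_one (G := X)
    have hcardQ : Nat.card (X ⧸ Subgroup.center X) * Nat.card (Subgroup.center X) = p ^ (n + 1) := by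
      rw [← hX]
      exact (Subgroup.card_eq_card_quotient_mul_card_subgroup _).symm
    by_cases hZeq : Subgroup.center X = A
    · have htop : A = ⊤ := by
        rw [← hC, ← hZeq, Subgroup.centralizer_eq_top_iff_subset]
      have hn1 : n + 1 = 2 := by
        have h1 : Nat.card X = p ^ 2 := by rw [← hA, htop, Subgroup.card_top]
        rw [hX] at h1
        exact Nat.pow_right_injective hp.out.two_le h1
      have hsub : Subsingleton (X ⧸ Subgroup.center X) := by
        rw [hZeq, htop]
        exact QuotientGroup.subsingleton_quotient_top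
      have h0 : Group.nilpotencyClass (X ⧸ Subgroup.center X) = 0 :=
        Group.nilpotencyClass_zero_iff_subsingleton.mpr hsub
      rw [hclass, h0]
      omega
    · have hZlt : Subgroup.center X < A := lt_of_le_of_ne hZA hZeq
      have hZcard : Nat.card (Subgroup.center X) = p := by
        have hd : Nat.card (Subgroup.center X) ∣ p ^ 2 := hA ▸ Subgroup.card_dvd_of_le hZA
        obtain ⟨k, -, hk⟩ := (Nat.dvd_prime_pow hp.out).mp hd
        have h1 : 1 < p ^ k := by
          rw [← hk]
          have := hXp.center_nontrivial
          exact Finite.one_lt_card_iff_nontrivial.mpr this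
        have h2 : p ^ k < p ^ 2 := by
          rw [← hk, ← hA]
          exact subgroup_card_lt_of_lt hZlt
        rw [hk, prime_pow_between hp.out h1 h2, pow_one]
      have hAtop : A ≠ ⊤ := by
        intro h
        apply hZeq
        have hAc : IsMulCommutative A := IsPGroup.isMulCommutative_of_card_eq_prime_sq (p := p) hA
        rw [h]
        rw [eq_top_iff]
        intro x _
        rw [Subgroup.mem_center_iff]
        intro y
        have := mul_comm' (⟨y, h ▸ Subgroup.mem_top y⟩ : A) ⟨x, h ▸ Subgroup.mem_top x⟩
        exact congrArg Subtype.val this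
      have hNcard := card_normalizer_of_self_centralizing hXp A hA hC hZcard hAtop
      obtain ⟨N, hN⟩ : ∃ N : Subgroup X, N = Subgroup.normalizer (A : Set X) := ⟨_, rfl⟩
      rw [← hN] at hNcard
      have hAN : A ≤ N := by rw [hN]; exact Subgroup.le_normalizer
      have hZN : Subgroup.center X ≤ N := hZA.trans hAN
      have hQcard : Nat.card (X ⧸ Subgroup.center X) = p ^ n := by
        rw [hZcard, pow_succ] at hcardQ
        exact Nat.eq_of_mul_eq_mul_right hp.out.pos hcardQ
      have hBcard : Nat.card (N.map (QuotientGroup.mk' (Subgroup.center X))) = p ^ 2 := by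
        have h1 : (N.map (QuotientGroup.mk' (Subgroup.center X))).index = N.index :=
          Subgroup.index_map_eq N (QuotientGroup.mk'_surjective _)
            (by rw [QuotientGroup.ker_mk']; exact hZN)
        have h2 := Subgroup.card_mul_index (N.map (QuotientGroup.mk' (Subgroup.center X)))
        have h3 := Subgroup.card_mul_index N
        rw [h1, hQcard] at h2
        rw [hNcard, hX] at h3
        have hpos : 0 < N.index := Nat.pos_of_ne_zero Subgroup.index_ne_zero_of_finite
        have h4 : Nat.card (N.map (QuotientGroup.mk' (Subgroup.center X))) * N.index * p =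
            p ^ 2 * N.index * p := by
          rw [h2]
          calc p ^ n * p = p ^ (n + 1) := by rw [pow_succ]
            _ = p ^ 3 * N.index := h3.symm
            _ = p ^ 2 * N.index * p := by ring
        have h5 := Nat.eq_of_mul_eq_mul_right hp.out.pos h4
        exact Nat.eq_of_mul_eq_mul_right hpos h5
      have hBc : IsMulCommutative (N.map (QuotientGroup.mk' (Subgroup.center X))) :=
        IsPGroup.isMulCommutative_of_card_eq_prime_sq (p := p) hBcard
      have hBself : Subgroup.centralizer
          ((N.map (QuotientGroup.mk' (Subgroup.center X)) : Subgroup (X ⧸ Subgroup.center X)) :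
            Set (X ⧸ Subgroup.center X)) = N.map (QuotientGroup.mk' (Subgroup.center X)) := by
        apply le_antisymm
        · intro xb hxb
          obtain ⟨x, rfl⟩ := QuotientGroup.mk_surjective xb
          have hcomm : ∀ a ∈ A, ⁅x, a⁆ ∈ Subgroup.center X := by
            intro a ha
            have h1 := (Subgroup.mem_centralizer_iff.mp hxb) (QuotientGroup.mk a)
              ⟨a, hAN ha, rfl⟩
            rw [← QuotientGroup.eq_one_iff, commutatorElement_def]
            simp only [QuotientGroup.mk_mul, QuotientGroup.mk_inv]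
            rw [← h1]
            group
          have hconj : ∀ y : X, (∀ a ∈ A, ⁅y, a⁆ ∈ Subgroup.center X) →
              ∀ a ∈ A, y * a * y⁻¹ ∈ A := by
            intro y hy a ha
            have e : y * a * y⁻¹ = ⁅y, a⁆ * a := by rw [commutatorElement_def]; group
            rw [e]
            exact A.mul_mem (hZA (hy a ha)) ha
          have hcomm' : ∀ a ∈ A, ⁅x⁻¹, a⁆ ∈ Subgroup.center X := by
            intro a ha
            have h1 := hcomm a ha
            have e : ⁅x⁻¹, a⁆ = x⁻¹ * (⁅x, a⁆)⁻¹ * x := by
              rw [commutatorElement_def, commutatorElement_def]; group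
            rw [e]
            have h2 := Subgroup.inv_mem _ h1
            have h3 := (Subgroup.mem_center_iff.mp h2) x⁻¹
            rw [h3, mul_assoc, inv_mul_cancel, mul_one]
            exact h2
          have hxN : x ∈ N := by
            rw [hN, Subgroup.mem_normalizer_iff]
            intro a
            constructor
            · exact hconj x hcomm a
            · intro h
              have := hconj x⁻¹ hcomm' _ h
              have e : x⁻¹ * (x * a * x⁻¹) * x⁻¹⁻¹ = a := by group
              rwa [e] at this
          exact ⟨x, hxN, rfl⟩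
        · intro b hb
          apply Subgroup.mem_centralizer_iff.mpr
          intro c hc
          have := mul_comm' (⟨c, hc⟩ : N.map (QuotientGroup.mk' (Subgroup.center X))) ⟨b, hb⟩
          exact congrArg Subtype.val this
      have hih := ih (X ⧸ Subgroup.center X) hQcard _ hBcard hBself
      rw [hclass, hih]
      have hn2 : 2 ≤ n := by
        have h1 := Subgroup.card_le_card_group (N.map (QuotientGroup.mk' (Subgroup.center X)))
        rw [hBcard, hQcard] at h1
        exact (Nat.pow_le_pow_iff_right hp.out.one_lt).mp h1
      omega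

end Cfsg.Agent.Lib.Helper1
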