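import Mathlib
import Cfsg.Agent.Lib.Helper1.ConverseHall
import Cfsg.Agent.Lib.Helper1.MaxClass
import Cfsg.Agent.Lib.Helper1.Fusion
import Cfsg.Agent.Lib.Helper21.FrobeniusNPC
import Cfsg.Agent.Lib.Helper21.OmegaLemma
import Cfsg.Agent.Lib.Helper11.Coprime

set_option autoImplicit false

namespace Cfsg.Agent.Lib.Helper1

open scoped commutatorElement Pointwise

variable {G : Type*} [Group G]

theorem wielandt_class [Finite G] {p : ℕ} [hp : Fact p.Prime] (P : Sylow p G) (x : G) (k : ℕ)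
    (hx : x ^ (p ^ k) = 1) (a : ℕ)
    (hidx : (Subgroup.centralizer ({x} : Set G)).index = p ^ a) :
    (∀ g : G, ∃ u ∈ (P : Subgroup G), g * x * g⁻¹ = u * x * u⁻¹) ∧ x ∈ (P : Subgroup G) := by
  have hcop : (P : Subgroup G).index.Coprime (Subgroup.centralizer ({x} : Set G)).index := by
    rw [hidx]
    exact Nat.Coprime.pow_right a ((Nat.Prime.coprime_iff_not_dvd hp.out).mpr P.not_dvd_index).symm
  have h1 : ∀ g : G, ∃ u ∈ (P : Subgroup G), g * x * g⁻¹ = u * x * u⁻¹ := by
    intro g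
    obtain ⟨u, hu, c, hc, rfl⟩ := exists_mul_of_coprime_index (P : Subgroup G) _ hcop g
    refine ⟨u, hu, ?_⟩
    have hcx : c * x = x * c := by
      have := Subgroup.mem_centralizer_iff.mp hc x (Set.mem_singleton x)
      exact this.symm
    have e : u * c * x * (u * c)⁻¹ = u * (c * x) * c⁻¹ * u⁻¹ := by group
    rw [e, hcx]
    group
  refine ⟨h1, ?_⟩
  have hxp : IsPGroup p (Subgroup.zpowers x) := by
    rintro ⟨y, hy⟩
    obtain ⟨n, rfl⟩ := Subgroup.mem_zpowers_iff.mp hy
    refine ⟨k, Subtype.ext ?_⟩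
    show (x ^ n) ^ (p ^ k) = 1
    rw [← zpow_natCast, ← zpow_mul, mul_comm, zpow_mul, zpow_natCast, hx, one_zpow]
  obtain ⟨Q, hQ⟩ := hxp.exists_le_sylow
  obtain ⟨h, hh⟩ := MulAction.exists_smul_eq G P Q
  have hxQ : x ∈ h • P := by
    rw [hh]
    exact hQ (Subgroup.mem_zpowers x)
  rw [mem_sylow_smul_iff] at hxQ
  obtain ⟨u, hu, he⟩ := h1 h⁻¹
  rw [inv_inv] at he
  rw [he] at hxQ
  have e : x = u⁻¹ * (u * x * u⁻¹) * u := by group
  rw [e]
  exact (P : Subgroup G).mul_mem ((P : Subgroup G).mul_mem ((P : Subgroup G).inv_mem hu) hxQ) hu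

theorem conj_mem_commutator_of_normalizes {X P : Subgroup G}
    (hXn : ∀ v ∈ P, ∀ w ∈ X, v * w * v⁻¹ ∈ X) :
    ∀ v ∈ P, ∀ k ∈ ⁅X, P⁆, v * k * v⁻¹ ∈ ⁅X, P⁆ := by
  intro v hv k hk
  rw [Subgroup.commutator_def] at hk ⊢
  induction hk using Subgroup.closure_induction with
  | mem y hy =>
    obtain ⟨a, ha, b, hb, rfl⟩ := hy
    apply Subgroup.subset_closure
    refine ⟨v * a * v⁻¹, hXn v hv a ha, v * b * v⁻¹, P.mul_mem (P.mul_mem hv hb) (P.inv_mem hv), ?_⟩
    simp only [commutatorElement_def]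
    group
  | one => simp
  | mul y z _ _ hy hz =>
    have e : v * (y * z) * v⁻¹ = (v * y * v⁻¹) * (v * z * v⁻¹) := by group
    rw [e]
    exact Subgroup.mul_mem _ hy hz
  | inv y _ hy =>
    have e : v * y⁻¹ * v⁻¹ = (v * y * v⁻¹)⁻¹ := by group
    rw [e]
    exact Subgroup.inv_mem _ hy

theorem class_comm_mem [Finite G] {p : ℕ} [hp : Fact p.Prime] (P : Sylow p G) (x : G)
    (hx : ∀ g : G, ∃ u ∈ (P : Subgroup G), g * x * g⁻¹ = u * x * u⁻¹)
    (hxP : x ∈ (P : Subgroup G)) :
    Subgroup.normalClosure {x} ≤ (P : Subgroup G) ∧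
      ∀ w ∈ Subgroup.normalClosure {x}, ∀ g : G,
        g * w * g⁻¹ * w⁻¹ ∈ ⁅Subgroup.normalClosure {x}, (P : Subgroup G)⁆ := by
  have hgen : ∀ y ∈ Group.conjugatesOfSet ({x} : Set G), y ∈ (P : Subgroup G) ∧
      ∀ g : G, ∃ u ∈ (P : Subgroup G), g * y * g⁻¹ = u * y * u⁻¹ := by
    intro y hy
    rw [Group.mem_conjugatesOfSet_iff] at hy
    obtain ⟨b, hb, hby⟩ := hy
    rw [Set.mem_singleton_iff] at hb
    subst hb
    obtain ⟨c, rfl⟩ := isConj_iff.mp hby
    obtain ⟨v, hv, hv2⟩ := hx c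
    refine ⟨?_, ?_⟩
    · rw [hv2]
      exact (P : Subgroup G).mul_mem ((P : Subgroup G).mul_mem hv hxP) ((P : Subgroup G).inv_mem hv)
    · intro g
      obtain ⟨v', hv', hv2'⟩ := hx (g * c)
      refine ⟨v' * v⁻¹, (P : Subgroup G).mul_mem hv' ((P : Subgroup G).inv_mem hv), ?_⟩
      have e1 : g * (c * b * c⁻¹) * g⁻¹ = g * c * b * (g * c)⁻¹ := by group
      rw [e1, hv2', hv2]
      group
  have hXP : Subgroup.normalClosure {x} ≤ (P : Subgroup G) := by
    rw [Subgroup.normalClosure, Subgroup.closure_le]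
    intro y hy
    exact (hgen y hy).1
  refine ⟨hXP, ?_⟩
  have hXn : ∀ v ∈ (P : Subgroup G), ∀ w ∈ Subgroup.normalClosure {x},
      v * w * v⁻¹ ∈ Subgroup.normalClosure {x} :=
    fun v _ w hw => Subgroup.normalClosure_normal.conj_mem w hw v
  have hKn := conj_mem_commutator_of_normalizes hXn
  intro w hw
  have hw' := hw
  rw [Subgroup.normalClosure] at hw'
  induction hw' using Subgroup.closure_induction with
  | mem y hy =>
    intro g
    obtain ⟨u, hu, he⟩ := (hgen y hy).2 g
    rw [he]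
    have hyX : y ∈ Subgroup.normalClosure {x} := Subgroup.subset_closure hy
    have h2 := Subgroup.commutator_mem_commutator hu hyX
    rw [Subgroup.commutator_comm] at h2
    rw [commutatorElement_def] at h2
    exact h2
  | one =>
    intro g
    simp
  | mul y z hy' hz' hy hz =>
    intro g
    have hyX : y ∈ Subgroup.normalClosure {x} := by rw [Subgroup.normalClosure]; exact hy'
    have hzX : z ∈ Subgroup.normalClosure {x} := by rw [Subgroup.normalClosure]; exact hz'
    have e : g * (y * z) * g⁻¹ * (y * z)⁻¹ =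
        (g * y * g⁻¹ * y⁻¹) * (y * (g * z * g⁻¹ * z⁻¹) * y⁻¹) := by group
    rw [e]
    exact Subgroup.mul_mem _ (hy hyX g) (hKn y (hXP hyX) _ (hz hzX g))
  | inv y hy' hy =>
    intro g
    have hyX : y ∈ Subgroup.normalClosure {x} := by rw [Subgroup.normalClosure]; exact hy'
    have e : g * y⁻¹ * g⁻¹ * y⁻¹⁻¹ = y⁻¹ * (g * y * g⁻¹ * y⁻¹)⁻¹ * y⁻¹⁻¹ := by group
    rw [e]
    exact hKn y⁻¹ ((P : Subgroup G).inv_mem (hXP hyX)) _ (Subgroup.inv_mem _ (hy hyX g))

theorem eq_bot_of_le_commutator_pgroup [Finite G] {p : ℕ} [hp : Fact p.Prime] (P : Subgroup G)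
    (hP : IsPGroup p P) (X : Subgroup G) (hXP : X ≤ P) (hX : X ≤ ⁅X, P⁆) : X = ⊥ := by
  haveI : Group.IsNilpotent P := hP.isNilpotent
  obtain ⟨n, hn⟩ := (Subgroup.isNilpotent_iff_lowerCentralSeries P).mp ‹Group.IsNilpotent P›
  have key : ∀ m : ℕ, X ≤ P.lowerCentralSeries m := by
    intro m
    induction m with
    | zero => exact hXP
    | succ m ih =>
      refine hX.trans ?_
      rw [Subgroup.lowerCentralSeries_succ]
      exact Subgroup.commutator_mono ih le_rfl
  have h := key n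
  rw [hn] at h
  exact le_bot_iff.mp h

theorem frobHyp_of_class_size [Finite G] {p : ℕ} [hp : Fact p.Prime]
    (h : ∀ x : G, (orderOf x = p ∨ (p = 2 ∧ orderOf x = 4)) →
      ∃ a : ℕ, (Subgroup.centralizer ({x} : Set G)).index = p ^ a) :
    Cfsg.Agent.Lib.Helper21.FrobHyp p G := by
  have key : ∀ n : ℕ, ∀ D : Subgroup G, Nat.card D = n → IsPGroup p D →
      ∀ g ∈ Subgroup.normalizer (D : Set G), (orderOf g).Coprime p →
        g ∈ Subgroup.centralizer (D : Set G) := by
    intro n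
    induction n using Nat.strong_induction_on with
    | _ n ih =>
      intro D hn hD g hg hcop
      apply Cfsg.Agent.Lib.Helper21.comm_of_comm_small g hcop D hD hg
      intro a haD hsmall
      by_cases ha1 : a = 1
      · subst ha1
        simp
      have hpp := hp.out
      obtain ⟨k, hk, haΩ⟩ : ∃ k : ℕ, a ^ (p ^ k) = 1 ∧
          (orderOf a = p ∨ (p = 2 ∧ orderOf a = 4)) := by
        rcases hsmall with h1 | ⟨h2, h4⟩
        · exact ⟨1, by rwa [pow_one], Or.inl (orderOf_eq_prime h1 ha1)⟩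
        · subst h2
          refine ⟨2, by norm_num; exact h4, ?_⟩
          have hd : orderOf a ∣ 2 ^ 2 := by
            norm_num
            exact orderOf_dvd_of_pow_eq_one h4
          obtain ⟨j, hj, hj2⟩ := (Nat.dvd_prime_pow Nat.prime_two).mp hd
          interval_cases j
          · exact absurd (orderOf_eq_one_iff.mp (by simpa using hj2)) ha1
          · exact Or.inl (by simpa using hj2)
          · exact Or.inr ⟨rfl, by simpa using hj2⟩
      obtain ⟨e, he⟩ := h a haΩ
      let P : Sylow p G := default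
      obtain ⟨hconj, haP⟩ := wielandt_class P a k hk e he
      obtain ⟨hXP, hB⟩ := class_comm_mem P a hconj haP
      obtain ⟨X, hXdef⟩ : ∃ X : Subgroup G, X = Subgroup.normalClosure {a} := ⟨_, rfl⟩
      rw [← hXdef] at hXP hB
      have haX : a ∈ X := hXdef ▸ Subgroup.subset_normalClosure (Set.mem_singleton a)
      obtain ⟨K, hKdef⟩ : ∃ K : Subgroup G, K = ⁅X, (P : Subgroup G)⁆ := ⟨_, rfl⟩
      rw [← hKdef] at hB
      have hXnorm : ∀ v : G, ∀ w ∈ X, v * w * v⁻¹ ∈ X := by
        intro v w hw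
        rw [hXdef] at hw ⊢
        exact Subgroup.normalClosure_normal.conj_mem w hw v
      have hKX : K ≤ X := by
        rw [hKdef, Subgroup.commutator_le]
        intro w hw u _
        rw [commutatorElement_def]
        have h1 := hXnorm u w⁻¹ (X.inv_mem hw)
        have e1 : w * u * w⁻¹ * u⁻¹ = w * (u * w⁻¹ * u⁻¹) := by group
        rw [e1]
        exact X.mul_mem hw h1
      have hKn : ∀ g' : G, ∀ y ∈ K, g' * y * g'⁻¹ ∈ K := by
        intro g' y hy
        have h1 := hB y (hKX hy) g'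
        have e1 : g' * y * g'⁻¹ = g' * y * g'⁻¹ * y⁻¹ * y := by group
        rw [e1]
        exact K.mul_mem h1 hy
      have haK : a ∉ K := by
        intro haK
        haveI : K.Normal := ⟨fun y hy g' => hKn g' y hy⟩
        have h1 : X ≤ K := by
          rw [hXdef]
          exact Subgroup.normalClosure_le_normal (Set.singleton_subset_iff.mpr haK)
        have h2 : X = ⊥ :=
          eq_bot_of_le_commutator_pgroup (P : Subgroup G) P.isPGroup' X hXP (hKdef ▸ h1)
        rw [h2, Subgroup.mem_bot] at haX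
        exact ha1 haX
      have hlt : Nat.card (D ⊓ K : Subgroup G) < n := by
        rw [← hn]
        apply subgroup_card_lt_of_lt
        refine lt_of_le_of_ne inf_le_left ?_
        intro heq
        apply haK
        have h5 : a ∈ D ⊓ K := by
          rw [heq]
          exact haD
        exact h5.2
      have hgn := Subgroup.mem_normalizer_iff.mp hg
      have hgD2 : g ∈ Subgroup.normalizer ((D ⊓ K : Subgroup G) : Set G) := by
        rw [Subgroup.mem_normalizer_iff]
        intro y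
        constructor
        · rintro ⟨h1, h2⟩
          exact ⟨(hgn y).mp h1, hKn g y h2⟩
        · rintro ⟨h1, h2⟩
          refine ⟨(hgn y).mpr h1, ?_⟩
          have h3 := hKn g⁻¹ _ h2
          have e1 : g⁻¹ * (g * y * g⁻¹) * g⁻¹⁻¹ = y := by group
          rw [e1] at h3
          exact h3
      have hD2 : g ∈ Subgroup.centralizer ((D ⊓ K : Subgroup G) : Set G) :=
        ih _ hlt (D ⊓ K) rfl (hD.to_le inf_le_left) g hgD2 hcop
      obtain ⟨z, hzdef⟩ : ∃ z : G, z = a⁻¹ * (g * a * g⁻¹) := ⟨_, rfl⟩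
      have hzD : z ∈ D := by
        rw [hzdef]
        exact D.mul_mem (D.inv_mem haD) ((hgn a).mp haD)
      have hzK : z ∈ K := by
        have h1 := hKn a⁻¹ _ (hB a haX g)
        have e1 : a⁻¹ * (g * a * g⁻¹ * a⁻¹) * a⁻¹⁻¹ = z := by rw [hzdef]; group
        rw [e1] at h1
        exact h1
      have hzc : g * z * g⁻¹ = z := by
        have h1 := Subgroup.mem_centralizer_iff.mp hD2 z ⟨hzD, hzK⟩
        rw [← h1]
        group
      have hzm : z ^ Nat.card (D ⊓ K : Subgroup G) = 1 := by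
        have h1 : (⟨z, ⟨hzD, hzK⟩⟩ : (D ⊓ K : Subgroup G)) ^ Nat.card (D ⊓ K : Subgroup G) = 1 :=
          pow_card_eq_one'
        exact congrArg Subtype.val h1
      have hcop2 : (orderOf g).Coprime (Nat.card (D ⊓ K : Subgroup G)) := by
        obtain ⟨j, hj⟩ := (IsPGroup.iff_card.mp (hD.to_le (inf_le_left : D ⊓ K ≤ D)))
        rw [hj]
        exact Nat.Coprime.pow_right j hcop
      have hz1 : z = 1 := Cfsg.Agent.Lib.Helper11.eq_one_of_conj_eq_mul_of_coprime g a z
        (by rw [hzdef]; group) hzc _ hzm hcop2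
      rw [hzdef] at hz1
      have h2 : g * a * g⁻¹ = a := by
        have := inv_mul_eq_one.mp hz1
        exact this.symm
      calc g * a = g * a * g⁻¹ * g := by group
        _ = a * g := by rw [h2]
  intro D hD g hg hcop
  exact key _ D rfl hD g hg hcop

end Cfsg.Agent.Lib.Helper1
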