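import Mathlib
import Cfsg.Agent.S0989
import Cfsg.Agent.S4706

set_option autoImplicit false

namespace Cfsg.Agent.Lib.Helper1.D11

open MulAction Equiv

variable {α : Type*} [Fintype α] [DecidableEq α]

theorem fact11 : (39916800 : ℕ).factorization 11 = 1 := by
  have h : (39916800 : ℕ) = 11 * 3628800 := by norm_num
  rw [h, Nat.factorization_mul (by norm_num) (by norm_num), Finsupp.add_apply,
    Nat.Prime.factorization_self (by norm_num),
    Nat.factorization_eq_zero_of_not_dvd (by norm_num)]

theorem card_perm11 (hα : Fintype.card α = 11) : Nat.card (Perm α) = 39916800 := by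
  rw [Nat.card_eq_fintype_card, Fintype.card_perm, hα]
  rfl

theorem eleven_dvd (hα : Fintype.card α = 11) (G : Subgroup (Perm α)) [IsPretransitive G α] :
    11 ∣ Nat.card G := by
  have hα' : Nat.card α = 11 := by rw [Nat.card_eq_fintype_card, hα]
  have hne : Nonempty α := by
    rw [← Fintype.card_pos_iff, hα]
    norm_num
  obtain ⟨x⟩ := hne
  have h := MulAction.index_stabilizer_of_transitive G x
  rw [← hα', ← h]
  exact Subgroup.index_dvd_card _

theorem card_dvd_fact (hα : Fintype.card α = 11) (G : Subgroup (Perm α)) :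
    Nat.card G ∣ 39916800 := by
  rw [← card_perm11 hα]
  exact Subgroup.card_subgroup_dvd_card G

theorem card_sylow11 [Fact (Nat.Prime 11)] (hα : Fintype.card α = 11)
    (G : Subgroup (Perm α)) [IsPretransitive G α] (P : Sylow 11 G) :
    Nat.card (P : Subgroup G) = 11 := by
  obtain ⟨n, hn⟩ := IsPGroup.iff_card.mp P.2
  have hdvd : 11 ∣ Nat.card (P : Subgroup G) := P.dvd_card_of_dvd_card (eleven_dvd hα G)
  have hPG : Nat.card (P : Subgroup G) ∣ 39916800 :=
    (Subgroup.card_subgroup_dvd_card _).trans (card_dvd_fact hα G)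
  rw [hn] at hdvd hPG ⊢
  have hn1 : n ≠ 0 := by
    intro h0
    rw [h0, pow_zero] at hdvd
    norm_num at hdvd
  have hn2 : n < 2 := by
    by_contra hge
    push Not at hge
    have h121 : 11 ^ 2 ∣ 39916800 := (pow_dvd_pow 11 hge).trans hPG
    norm_num at h121
  have : n = 1 := by omega
  rw [this, pow_one]

theorem comm_of_prime_card {H : Type*} [Group H] {p : ℕ} [Fact p.Prime] (h : Nat.card H = p)
    (a b : H) : a * b = b * a := by
  haveI := isCyclic_of_prime_card h
  exact (IsCyclic.commGroup (α := H)).mul_comm a b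

theorem solvable_of_normal_primes {H : Type*} [Group H] (K : Subgroup H) [K.Normal] {p q : ℕ}
    [Fact p.Prime] [Fact q.Prime] (hK : Nat.card K = p) (hi : K.index = q) : Group.IsSolvable H := by
  haveI : Group.IsSolvable K := Group.isSolvable_of_comm (comm_of_prime_card hK)
  have hq : Nat.card (H ⧸ K) = q := by
    rw [← hi]
    exact (Subgroup.index_eq_card K).symm
  haveI : Group.IsSolvable (H ⧸ K) := Group.isSolvable_of_comm (comm_of_prime_card hq)
  exact Group.isSolvable_of_ker_le_range K.subtype (QuotientGroup.mk' K) (by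
    rw [QuotientGroup.ker_mk', Subgroup.range_subtype])

theorem not_card_eleven [Fact (Nat.Prime 11)] (hα : Fintype.card α = 11)
    (G : Subgroup (Perm α)) [IsPretransitive G α] (hG : ¬ IsSolvable G) (P : Sylow 11 G)
    (hP : Nat.card (P : Subgroup G) = 11)
    (hN : Nat.card (Subgroup.normalizer ((P : Subgroup G) : Set G)) = 11) : False := by
  have hNP : (P : Subgroup G) = Subgroup.normalizer ((P : Subgroup G) : Set G) :=
    Subgroup.eq_of_le_of_card_ge Subgroup.le_normalizer (by rw [hN, hP])
  have hPC : Subgroup.normalizer ((P : Subgroup G) : Set G) ≤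
      Subgroup.centralizer ((P : Subgroup G) : Set G) := by
    intro g hg
    rw [← hNP] at hg
    rw [Subgroup.mem_centralizer_iff]
    intro h hh
    have := comm_of_prime_card hP ⟨h, hh⟩ ⟨g, hg⟩
    exact congrArg Subtype.val this
  have hK11 : ¬ 11 ∣ Nat.card (MonoidHom.transferSylow P hPC).ker :=
    MonoidHom.not_dvd_card_ker_transferSylow P hPC
  have hcompl := MonoidHom.ker_transferSylow_isComplement' P hPC
  have hmul := hcompl.card_mul_card
  have hα' : Nat.card α = 11 := by rw [Nat.card_eq_fintype_card, hα]
  haveI hprim : IsPreprimitive G α := IsPreprimitive.of_prime_card (by rw [hα']; norm_num)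
  have hKne : (MonoidHom.transferSylow P hPC).ker ≠ ⊥ := by
    intro hbot
    rw [hbot, Subgroup.card_bot, one_mul, hP] at hmul
    apply hG
    exact Group.isSolvable_of_comm (comm_of_prime_card hmul.symm)
  obtain ⟨k, hk1⟩ := (Subgroup.ne_bot_iff_exists_ne_one).mp hKne
  have hkperm : ((k : G) : Perm α) ≠ 1 := by
    intro h
    apply hk1
    apply Subtype.ext
    apply Subtype.ext
    exact h
  obtain ⟨x, hx⟩ : ∃ x, ((k : G) : Perm α) x ≠ x := by
    by_contra hcon
    push Not at hcon
    exact hkperm (Equiv.Perm.ext hcon)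
  have hfix : fixedPoints (MonoidHom.transferSylow P hPC).ker α ≠ Set.univ := by
    intro h
    have hx' : x ∈ fixedPoints (MonoidHom.transferSylow P hPC).ker α := by
      rw [h]
      trivial
    exact hx (hx' k)
  haveI : IsPretransitive (MonoidHom.transferSylow P hPC).ker α :=
    IsQuasiPreprimitive.isPretransitive_of_normal hfix
  have h11K : 11 ∣ Nat.card (MonoidHom.transferSylow P hPC).ker := by
    have h := MulAction.index_stabilizer_of_transitive (MonoidHom.transferSylow P hPC).ker x
    have h2 := Subgroup.index_dvd_card (stabilizer (MonoidHom.transferSylow P hPC).ker x)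
    rw [h, hα'] at h2
    exact h2
  exact hK11 h11K

theorem not_card_twentytwo [Fact (Nat.Prime 11)] (hα : Fintype.card α = 11)
    (G : Subgroup (Perm α)) [IsPretransitive G α] (hG : ¬ IsSolvable G) (P : Sylow 11 G)
    (hP : Nat.card (P : Subgroup G) = 11)
    (hN : Nat.card (Subgroup.normalizer ((P : Subgroup G) : Set G)) = 22) : False := by
  rcases Cfsg.Agent.S4706.result (p := 11) (by norm_num) hα G P (by rw [hN]) with h | h
  · haveI := h
    have htop : Subgroup.normalizer ((P : Subgroup G) : Set G) = ⊤ :=
      Subgroup.normalizer_eq_top (P : Subgroup G)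
    rw [htop, Subgroup.card_top] at hN
    have hidx : (P : Subgroup G).index = 2 := by
      have := Subgroup.card_mul_index (P : Subgroup G)
      rw [hP, hN] at this
      omega
    haveI : Fact (Nat.Prime 2) := ⟨Nat.prime_two⟩
    exact hG (solvable_of_normal_primes (P : Subgroup G) hP hidx)
  · obtain ⟨a, F, _, _, ha, -⟩ := h
    have h10 : 2 ^ a = 10 := by omega
    have : a < 4 := by
      by_contra hge
      push Not at hge
      have := Nat.pow_le_pow_right (by norm_num : 0 < 2) hge
      omega
    interval_cases a <;> omega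

theorem card_normalizer [Fact (Nat.Prime 11)] (hα : Fintype.card α = 11)
    (G : Subgroup (Perm α)) [IsPretransitive G α] (hG : ¬ IsSolvable G) (P : Sylow 11 G) :
    Nat.card (P : Subgroup G) = 11 ∧
      (Nat.card (Subgroup.normalizer ((P : Subgroup G) : Set G)) = 55 ∨
        Nat.card (Subgroup.normalizer ((P : Subgroup G) : Set G)) = 110) := by
  have hP := card_sylow11 hα G P
  refine ⟨hP, ?_⟩
  have hP' : Nat.card ((P : Subgroup G).map G.subtype) = 11 := by
    rw [Subgroup.card_map_of_injective G.subtype_injective, hP]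
  let P'' : Sylow 11 (Perm α) := Sylow.ofCard ((P : Subgroup G).map G.subtype) (by
    rw [hP', card_perm11 hα, fact11, pow_one])
  have hNP := Cfsg.Agent.S0989.result 11 (Or.inl hα) P''
  have hle : (Subgroup.normalizer ((P : Subgroup G) : Set G)).map G.subtype ≤
      Subgroup.normalizer ((P'' : Subgroup (Perm α)) : Set (Perm α)) :=
    Subgroup.le_normalizer_map G.subtype
  have hdvd110 : Nat.card (Subgroup.normalizer ((P : Subgroup G) : Set G)) ∣ 110 := by
    have h1 := Subgroup.card_dvd_of_le hle
    rw [Subgroup.card_map_of_injective G.subtype_injective, hNP] at h1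
    exact h1
  have h11dvd : 11 ∣ Nat.card (Subgroup.normalizer ((P : Subgroup G) : Set G)) := by
    have h1 := Subgroup.card_dvd_of_le (Subgroup.le_normalizer (H := (P : Subgroup G)))
    rw [hP] at h1
    exact h1
  have hcases : Nat.card (Subgroup.normalizer ((P : Subgroup G) : Set G)) = 11 ∨
      Nat.card (Subgroup.normalizer ((P : Subgroup G) : Set G)) = 22 ∨
      Nat.card (Subgroup.normalizer ((P : Subgroup G) : Set G)) = 55 ∨
      Nat.card (Subgroup.normalizer ((P : Subgroup G) : Set G)) = 110 := by
    obtain ⟨k, hk⟩ := h11dvd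
    rw [hk] at hdvd110 ⊢
    have hk10 : k ∣ 10 := Nat.dvd_of_mul_dvd_mul_left (by norm_num : 0 < 11) hdvd110
    have hkle : k ≤ 10 := Nat.le_of_dvd (by norm_num) hk10
    interval_cases k <;> simp_all
  rcases hcases with h | h | h | h
  · exact (not_card_eleven hα G hG P hP h).elim
  · exact (not_card_twentytwo hα G hG P hP h).elim
  · exact Or.inl h
  · exact Or.inr h

end Cfsg.Agent.Lib.Helper1.D11
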