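import Mathlib
import Cfsg.Agent.S1013
import Cfsg.Agent.Lib.Helper1.D11A

set_option autoImplicit false

namespace Cfsg.Agent.Lib.Helper1.D11

open MulAction Equiv

variable {α : Type*} [Fintype α] [DecidableEq α]

theorem simple_of_55 [Fact (Nat.Prime 11)] (hα : Fintype.card α = 11)
    (G : Subgroup (Perm α)) [IsPretransitive G α] (hG : ¬ IsSolvable G) (P : Sylow 11 G)
    (hP : Nat.card (P : Subgroup G) = 11)
    (hN : Nat.card (Subgroup.normalizer ((P : Subgroup G) : Set G)) = 55) :
    IsSimpleGroup G ∧ G ≤ alternatingGroup α ∧ Nat.card G % 605 = 55 := by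
  haveI : Fact (Nat.Prime 5) := ⟨by norm_num⟩
  have hidx : Nat.card (Sylow 11 G) =
      (Subgroup.normalizer ((P : Subgroup G) : Set G)).index :=
    Sylow.card_eq_index_normalizer P
  have hmul := Subgroup.card_mul_index (Subgroup.normalizer ((P : Subgroup G) : Set G))
  rw [hN, ← hidx] at hmul
  have hn1 : 1 < Nat.card (Sylow 11 G) := by
    by_contra hle
    push Not at hle
    have hpos : 0 < Nat.card (Sylow 11 G) := Nat.card_pos
    have h1 : Nat.card (Sylow 11 G) = 1 := by omega
    rw [h1, mul_one] at hmul
    rw [h1] at hidx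
    have htop := Subgroup.index_eq_one.mp hidx.symm
    haveI hnorm : (P : Subgroup G).Normal := Subgroup.normalizer_eq_top_iff.mp htop
    have hi : (P : Subgroup G).index = 5 := by
      have := Subgroup.card_mul_index (P : Subgroup G)
      rw [hP, ← hmul] at this
      omega
    exact hG (solvable_of_normal_primes (P : Subgroup G) hP hi)
  have hrel : ((P : Subgroup G).subgroupOf
      (Subgroup.normalizer ((P : Subgroup G) : Set G))).index = 5 := by
    have h1 := Subgroup.card_mul_index ((P : Subgroup G).subgroupOf
      (Subgroup.normalizer ((P : Subgroup G) : Set G)))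
    rw [Nat.card_congr (Subgroup.subgroupOfEquivOfLe
      (Subgroup.le_normalizer (H := (P : Subgroup G)))).toEquiv, hP, hN] at h1
    omega
  have hsimple : IsSimpleGroup G :=
    Cfsg.Agent.S1013.result hα G P hn1 (by rw [hrel]; norm_num)
  refine ⟨hsimple, ?_, ?_⟩
  · haveI := hsimple
    rcases Subgroup.Normal.eq_bot_or_eq_top
      (inferInstance : ((Perm.sign (α := α)).comp G.subtype).ker.Normal) with h | h
    · exfalso
      apply hG
      apply Group.isSolvable_of_comm
      intro a b
      have hinj := (MonoidHom.ker_eq_bot_iff _).mp h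
      apply hinj
      rw [map_mul, map_mul, mul_comm]
    · intro g hg
      rw [Perm.mem_alternatingGroup]
      have : (⟨g, hg⟩ : G) ∈ ((Perm.sign (α := α)).comp G.subtype).ker := by
        rw [h]
        trivial
      exact this
  · have hmod := card_sylow_modEq_one 11 G
    have h2 : Nat.card (Sylow 11 G) % 11 = 1 := hmod
    rw [← hmul]
    omega

end Cfsg.Agent.Lib.Helper1.D11
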