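import Mathlib

set_option autoImplicit false

namespace Cfsg.Agent.Lib.Helper1.D11

theorem order_arith (n : ℕ) (h1 : n ∣ 570240) (h2 : 110 ∣ n) (h3 : n % 605 = 55)
    (h4 : (10 ∣ n ∧ (n / 10) % 5 = 1) ∨ (20 ∣ n ∧ (n / 20) % 5 = 1)) :
    n = 660 ∨ n = 7920 := by
  obtain ⟨m, rfl⟩ := h2
  have hm : m ∣ 5184 := by
    have h : 110 * m ∣ 110 * 5184 := by
      norm_num
      exact h1
    exact Nat.dvd_of_mul_dvd_mul_left (by norm_num) h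
  have h5184 : (5184 : ℕ) = 2 ^ 6 * 3 ^ 4 := by norm_num
  rw [h5184, Nat.dvd_mul] at hm
  obtain ⟨k1, k2, hk1, hk2, rfl⟩ := hm
  obtain ⟨a, ha, rfl⟩ := (Nat.dvd_prime_pow Nat.prime_two).mp hk1
  obtain ⟨b, hb, rfl⟩ := (Nat.dvd_prime_pow Nat.prime_three).mp hk2
  interval_cases a <;> interval_cases b <;> omega

end Cfsg.Agent.Lib.Helper1.D11
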