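import Mathlib
import Cfsg.Prelude.Def_DegreeGraph
import Cfsg.Prelude.Def_Classical
import Cfsg.Agent.Lib.helper2.CharInt
import Cfsg.Agent.Lib.helper14.DegGraph

set_option autoImplicit false

namespace Cfsg.Agent.Lib.Helper21.DGU

theorem h1_charDegree_dvd_card {G : Type*} [Group G] [Finite G] (d : ℕ)
    (hd : d ∈ Cfsg.charDegrees G) : d ∣ Nat.card G := by
  obtain ⟨χ, rfl⟩ := hd
  obtain ⟨n, hn, h1, hdvd⟩ := Cfsg.Agent.Lib.helper2.irr_degree_dvd_card χ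
  rw [Cfsg.Agent.Lib.helper14.charDegree_of_natCast _ n h1]
  exact hdvd

theorem h1_prime_dvd_6048 (p : ℕ) (hp : p.Prime) (h : p ∣ 6048) : p = 2 ∨ p = 3 ∨ p = 7 := by
  have h1 : (6048 : ℕ) = 2 ^ 5 * 3 ^ 3 * 7 := by norm_num
  rw [h1] at h
  rcases (Nat.Prime.dvd_mul hp).mp h with h2 | h2
  · rcases (Nat.Prime.dvd_mul hp).mp h2 with h3 | h3
    · left
      exact (Nat.prime_dvd_prime_iff_eq hp (by norm_num)).mp (hp.dvd_of_dvd_pow h3)
    · right; left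
      exact (Nat.prime_dvd_prime_iff_eq hp (by norm_num)).mp (hp.dvd_of_dvd_pow h3)
  · right; right
    exact (Nat.prime_dvd_prime_iff_eq hp (by norm_num)).mp h2

theorem graph_of_degrees {G : Type*} [Group G] [Finite G] (hG : Nat.card G = 6048)
    (h6 : ∃ d ∈ Cfsg.charDegrees G, 6 ∣ d) (h14 : ∃ d ∈ Cfsg.charDegrees G, 14 ∣ d)
    (h21 : ∃ d ∈ Cfsg.charDegrees G, 21 ∣ d) :
    Cfsg.degreePrimes G = {2, 3, 7} ∧
      ∀ p q : ℕ, (Cfsg.degreeGraph G).Adj p q ↔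
        (p ≠ q ∧ p ∈ ({2, 3, 7} : Set ℕ) ∧ q ∈ ({2, 3, 7} : Set ℕ)) := by
  have hmem : ∀ p : ℕ, p.Prime → (∃ d ∈ Cfsg.charDegrees G, p ∣ d) →
      p ∈ ({2, 3, 7} : Set ℕ) := by
    rintro p hp ⟨d, hd, hpd⟩
    have h1 : p ∣ 6048 := by
      rw [← hG]
      exact dvd_trans hpd (h1_charDegree_dvd_card d hd)
    rcases h1_prime_dvd_6048 p hp h1 with h | h | h
    · rw [h]; simp
    · rw [h]; simp
    · rw [h]; simp
  obtain ⟨d6, hd6, h6d⟩ := h6
  obtain ⟨d14, hd14, h14d⟩ := h14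
  obtain ⟨d21, hd21, h21d⟩ := h21
  have hp2 : Nat.Prime 2 := by norm_num
  have hp3 : Nat.Prime 3 := by norm_num
  have hp7 : Nat.Prime 7 := by norm_num
  constructor
  · ext p
    constructor
    · rintro ⟨hp, h⟩
      exact hmem p hp h
    · intro hp
      simp only [Set.mem_insert_iff, Set.mem_singleton_iff] at hp
      rcases hp with rfl | rfl | rfl
      · exact ⟨hp2, d6, hd6, dvd_trans (by norm_num) h6d⟩
      · exact ⟨hp3, d6, hd6, dvd_trans (by norm_num) h6d⟩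
      · exact ⟨hp7, d14, hd14, dvd_trans (by norm_num) h14d⟩
  · intro p q
    constructor
    · rintro ⟨hne, hp, hq, d, hd, hpq⟩
      exact ⟨hne, hmem p hp ⟨d, hd, dvd_trans (dvd_mul_right p q) hpq⟩,
        hmem q hq ⟨d, hd, dvd_trans (dvd_mul_left q p) hpq⟩⟩
    · rintro ⟨hne, hp, hq⟩
      simp only [Set.mem_insert_iff, Set.mem_singleton_iff] at hp hq
      rcases hp with rfl | rfl | rfl <;> rcases hq with rfl | rfl | rfl
      · exact absurd rfl hne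
      · exact ⟨hne, hp2, hp3, d6, hd6, h6d⟩
      · exact ⟨hne, hp2, hp7, d14, hd14, h14d⟩
      · exact ⟨hne, hp3, hp2, d6, hd6, h6d⟩
      · exact absurd rfl hne
      · exact ⟨hne, hp3, hp7, d21, hd21, h21d⟩
      · exact ⟨hne, hp7, hp2, d14, hd14, h14d⟩
      · exact ⟨hne, hp7, hp3, d21, hd21, h21d⟩
      · exact absurd rfl hne

end Cfsg.Agent.Lib.Helper21.DGU
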