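import Mathlib

set_option autoImplicit false
set_option linter.unusedVariables false
set_option linter.unusedSectionVars false

namespace Cfsg.Agent.Lib.Helper1.T24

open Matrix

variable {F : Type*} [Field F]

abbrev M2 (F : Type*) [Field F] := Matrix (Fin 2) (Fin 2) F

theorem decomp (X : M2 F) :
    X = X 0 0 • (!![1, 0; 0, 0] : M2 F) + X 0 1 • (!![0, 1; 0, 0] : M2 F) +
      X 1 0 • (!![0, 0; 1, 0] : M2 F) + X 1 1 • (!![0, 0; 0, 1] : M2 F) := by
  ext i j
  fin_cases i <;> fin_cases j <;> simp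

theorem trace_of_det (g : M2 F →ₗ[F] M2 F) (h1 : g 1 = 1) (h : ∀ X, (g X).det = X.det) (X : M2 F) :
    (g X).trace = X.trace := by
  have e1 : ∀ Y : M2 F, (Y + 1).det = Y.det + Y.trace + 1 := by
    intro Y
    simp only [Matrix.det_fin_two, Matrix.trace_fin_two, Matrix.add_apply, Matrix.one_apply_eq,
      Matrix.one_apply_ne, ne_eq, Fin.isValue, zero_ne_one, not_false_eq_true, one_ne_zero]
    ring
  have h2 := h (X + 1)
  rw [map_add, h1, e1, e1, h X] at h2
  linear_combination h2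

theorem trace_mul_of_det (g : M2 F →ₗ[F] M2 F) (h1 : g 1 = 1) (h : ∀ X, (g X).det = X.det) (X Y : M2 F) :
    (g X * g Y).trace = (X * Y).trace := by
  have e1 : ∀ A B : M2 F, (A + B).det = A.det + B.det + (A.trace * B.trace - (A * B).trace) := by
    intro A B
    simp only [Matrix.det_fin_two, Matrix.trace_fin_two, Matrix.add_apply, Matrix.mul_apply, Fin.sum_univ_two]
    ring
  have h2 := h (X + Y)
  rw [map_add, e1, e1, h X, h Y, trace_of_det g h1 h X, trace_of_det g h1 h Y] at h2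
  linear_combination -h2

theorem diag_case (g : M2 F →ₗ[F] M2 F) (h1 : g 1 = 1) (h : ∀ X, (g X).det = X.det)
    (h11 : g !![1, 0; 0, 0] = !![1, 0; 0, 0]) (h22 : g !![0, 0; 0, 1] = !![0, 0; 0, 1]) :
    ∃ D D' : M2 F, D * D' = 1 ∧ D' * D = 1 ∧
      ((∀ X, g X = D * X * D') ∨ (∀ X, g X = D * Xᵀ * D')) := by
  set Z : M2 F := g !![0, 1; 0, 0] with hZ
  set Z' : M2 F := g !![0, 0; 1, 0] with hZ'
  have t1 := trace_mul_of_det g h1 h !![0, 1; 0, 0] !![1, 0; 0, 0]
  have t2 := trace_mul_of_det g h1 h !![0, 1; 0, 0] !![0, 0; 0, 1]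
  have t3 := trace_mul_of_det g h1 h !![0, 0; 1, 0] !![1, 0; 0, 0]
  have t4 := trace_mul_of_det g h1 h !![0, 0; 1, 0] !![0, 0; 0, 1]
  have t5 := trace_mul_of_det g h1 h !![0, 1; 0, 0] !![0, 0; 1, 0]
  have d1 := h !![0, 1; 0, 0]
  have d2 := h !![0, 0; 1, 0]
  rw [h11, ← hZ] at t1
  rw [h22, ← hZ] at t2
  rw [h11, ← hZ'] at t3
  rw [h22, ← hZ'] at t4
  rw [← hZ, ← hZ'] at t5
  rw [← hZ] at d1
  rw [← hZ'] at d2
  simp only [Matrix.trace_fin_two, Matrix.mul_apply, Fin.sum_univ_two, Matrix.of_apply, Matrix.cons_val',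
    Matrix.cons_val_zero, Matrix.cons_val_one, Matrix.cons_val_fin_one,
    mul_one, mul_zero, add_zero, zero_add] at t1 t2 t3 t4 t5
  simp only [Matrix.det_fin_two, Matrix.of_apply, Matrix.cons_val',
    Matrix.cons_val_zero, Matrix.cons_val_one, Matrix.cons_val_fin_one,
    mul_one, mul_zero, sub_self] at d1 d2
  have hZf : Z = !![0, Z 0 1; Z 1 0, 0] := by
    ext i j
    fin_cases i <;> fin_cases j <;> simp [t1, t2]
  have hZ'f : Z' = !![0, Z' 0 1; Z' 1 0, 0] := by
    ext i j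
    fin_cases i <;> fin_cases j <;> simp [t3, t4]
  have d1' : Z 0 1 * Z 1 0 = 0 := by
    rw [t1, t2] at d1
    linear_combination -d1
  have d2' : Z' 0 1 * Z' 1 0 = 0 := by
    rw [t3, t4] at d2
    linear_combination -d2
  have hgX : ∀ X : M2 F, g X = !![X 0 0, X 0 1 * Z 0 1 + X 1 0 * Z' 0 1; X 0 1 * Z 1 0 + X 1 0 * Z' 1 0, X 1 1] := by
    intro X
    conv_lhs => rw [decomp X]
    rw [map_add, map_add, map_add, map_smul, map_smul, map_smul, map_smul, h11, h22, ← hZ, ← hZ', hZf, hZ'f]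
    ext i j
    fin_cases i <;> fin_cases j <;> simp
  have t5' : Z 0 1 * Z' 1 0 + Z 1 0 * Z' 0 1 = 1 := by
    rw [t1, t2] at t5
    linear_combination t5
  rcases mul_eq_zero.mp d1' with hz | hz
  · have hα : Z 1 0 * Z' 0 1 = 1 := by
      rw [hz] at t5'
      linear_combination t5'
    have hα' : Z' 0 1 * Z 1 0 = 1 := by rw [mul_comm]; exact hα
    have hz' : Z' 1 0 = 0 := by
      rcases mul_eq_zero.mp d2' with h' | h'
      · rw [h', mul_zero] at hα
        exact absurd hα zero_ne_one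
      · exact h'
    refine ⟨!![1, 0; 0, Z 1 0], !![1, 0; 0, Z' 0 1], ?_, ?_, Or.inr ?_⟩
    · ext i j
      fin_cases i <;> fin_cases j <;> simp [Matrix.mul_apply, Fin.sum_univ_two, hα]
    · ext i j
      fin_cases i <;> fin_cases j <;> simp [Matrix.mul_apply, Fin.sum_univ_two, hα']
    · intro X
      rw [hgX, hz, hz']
      ext i j
      fin_cases i <;> fin_cases j <;>
        simp only [Matrix.mul_apply, Fin.sum_univ_two, Matrix.transpose_apply, Matrix.of_apply,
          Matrix.cons_val', Matrix.cons_val_zero, Matrix.cons_val_one, Matrix.cons_val_fin_one,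
          Fin.zero_eta, Fin.mk_one, Fin.isValue] <;>
        first | ring1 | linear_combination (-(X 1 1)) * hα
  · have hα : Z 0 1 * Z' 1 0 = 1 := by
      rw [hz] at t5'
      linear_combination t5'
    have hα' : Z' 1 0 * Z 0 1 = 1 := by rw [mul_comm]; exact hα
    have hz' : Z' 0 1 = 0 := by
      rcases mul_eq_zero.mp d2' with h' | h'
      · exact h'
      · rw [h', mul_zero] at hα
        exact absurd hα zero_ne_one
    refine ⟨!![Z 0 1, 0; 0, 1], !![Z' 1 0, 0; 0, 1], ?_, ?_, Or.inl ?_⟩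
    · ext i j
      fin_cases i <;> fin_cases j <;> simp [Matrix.mul_apply, Fin.sum_univ_two, hα]
    · ext i j
      fin_cases i <;> fin_cases j <;> simp [Matrix.mul_apply, Fin.sum_univ_two, hα']
    · intro X
      rw [hgX, hz, hz']
      ext i j
      fin_cases i <;> fin_cases j <;>
        simp only [Matrix.mul_apply, Fin.sum_univ_two, Matrix.of_apply,
          Matrix.cons_val', Matrix.cons_val_zero, Matrix.cons_val_one, Matrix.cons_val_fin_one,
          Fin.zero_eta, Fin.mk_one, Fin.isValue] <;>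
        first | ring1 | linear_combination (-(X 0 0)) * hα

theorem conj_case (g : M2 F →ₗ[F] M2 F) (A A' : M2 F) (hAA' : A * A' = 1) (hA'A : A' * A = 1) :
    ∃ g₂ : M2 F →ₗ[F] M2 F, ∀ X, g₂ X = A' * g X * A := by
  refine ⟨(LinearMap.mulRight F A).comp ((LinearMap.mulLeft F A').comp g), fun X => ?_⟩
  simp [LinearMap.mulLeft_apply, LinearMap.mulRight_apply]

theorem iso_case (g : M2 F →ₗ[F] M2 F) (h1 : g 1 = 1) (h : ∀ X, (g X).det = X.det) :
    ∃ A A' : M2 F, A * A' = 1 ∧ A' * A = 1 ∧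
      ((∀ X, g X = A * X * A') ∨ (∀ X, g X = A * Xᵀ * A')) := by
  set P : M2 F := g !![1, 0; 0, 0] with hP
  have htr : P.trace = 1 := by
    rw [hP, trace_of_det g h1 h]
    simp [Matrix.trace_fin_two]
  have hdet : P.det = 0 := by
    rw [hP, h]
    simp [Matrix.det_fin_two]
  rw [Matrix.trace_fin_two] at htr
  rw [Matrix.det_fin_two] at hdet
  have hQ : g !![0, 0; 0, 1] = 1 - P := by
    have : (!![0, 0; 0, 1] : M2 F) = 1 - !![1, 0; 0, 0] := by
      ext i j
      fin_cases i <;> fin_cases j <;> simp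
    rw [this, map_sub, h1]
  obtain ⟨A, hAdet, hPA⟩ : ∃ A : M2 F, A.det ≠ 0 ∧ P * A = A * !![1, 0; 0, 0] := by
    by_cases hp : P 0 0 = 0
    · refine ⟨!![P 0 1, 1; 1, -P 1 0], ?_, ?_⟩
      · rw [Matrix.det_fin_two_of]
        have h2 : P 1 1 = 1 := by rw [hp] at htr; linear_combination htr
        have h3 : P 0 1 * P 1 0 = 0 := by rw [hp] at hdet; linear_combination -hdet
        intro h4
        have : (1 : F) = 0 := by linear_combination -h4 - h3
        exact one_ne_zero this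
      · have h2 : P 1 1 = 1 := by rw [hp] at htr; linear_combination htr
        have h3 : P 0 1 * P 1 0 = 0 := by rw [hp] at hdet; linear_combination -hdet
        ext i j
        fin_cases i <;> fin_cases j <;>
          simp only [Matrix.mul_apply, Fin.sum_univ_two, Matrix.of_apply,
            Matrix.cons_val', Matrix.cons_val_zero, Matrix.cons_val_one, Matrix.cons_val_fin_one,
            Fin.zero_eta, Fin.mk_one, Fin.isValue, hp, h2] <;>
          first | ring1 | linear_combination h3 | linear_combination -h3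
    · refine ⟨!![P 0 0, -P 0 1; P 1 0, P 0 0], ?_, ?_⟩
      · rw [Matrix.det_fin_two_of]
        intro h4
        apply hp
        have h5 : P 0 0 * (P 0 0 + P 1 1) = 0 := by linear_combination h4 + hdet
        rw [htr, mul_one] at h5
        exact h5
      · ext i j
        fin_cases i <;> fin_cases j <;>
          simp only [Matrix.mul_apply, Fin.sum_univ_two, Matrix.of_apply,
            Matrix.cons_val', Matrix.cons_val_zero, Matrix.cons_val_one, Matrix.cons_val_fin_one,
            Fin.zero_eta, Fin.mk_one, Fin.isValue] <;>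
          first | ring1 | linear_combination (P 0 0) * htr - hdet | linear_combination (P 1 0) * htr |
            linear_combination hdet
  have hAu : IsUnit A.det := isUnit_iff_ne_zero.mpr hAdet
  have hAA' : A * A⁻¹ = 1 := Matrix.mul_nonsing_inv A hAu
  have hA'A : A⁻¹ * A = 1 := Matrix.nonsing_inv_mul A hAu
  obtain ⟨g₂, hg₂⟩ := conj_case g A A⁻¹ hAA' hA'A
  have hdetA : A⁻¹.det * A.det = 1 := by rw [← Matrix.det_mul, hA'A, Matrix.det_one]
  have g₂1 : g₂ 1 = 1 := by rw [hg₂, h1, Matrix.mul_one, hA'A]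
  have g₂det : ∀ X, (g₂ X).det = X.det := by
    intro X
    rw [hg₂, Matrix.det_mul, Matrix.det_mul, h]
    linear_combination X.det * hdetA
  have g₂11 : g₂ !![1, 0; 0, 0] = !![1, 0; 0, 0] := by
    rw [hg₂, ← hP, Matrix.mul_assoc, hPA, ← Matrix.mul_assoc, hA'A, Matrix.one_mul]
  have g₂22 : g₂ !![0, 0; 0, 1] = !![0, 0; 0, 1] := by
    rw [hg₂, hQ, Matrix.mul_sub, Matrix.sub_mul, Matrix.mul_one, hA'A, Matrix.mul_assoc, hPA,
      ← Matrix.mul_assoc, hA'A, Matrix.one_mul]
    ext i j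
    fin_cases i <;> fin_cases j <;> simp
  obtain ⟨D, D', hDD', hD'D, hcase⟩ := diag_case g₂ g₂1 g₂det g₂11 g₂22
  have hback : ∀ X, g X = A * g₂ X * A⁻¹ := by
    intro X
    rw [hg₂]
    calc g X = (A * A⁻¹) * g X * (A * A⁻¹) := by rw [hAA', Matrix.one_mul, Matrix.mul_one]
      _ = A * (A⁻¹ * g X * A) * A⁻¹ := by simp only [Matrix.mul_assoc]
  refine ⟨A * D, D' * A⁻¹, ?_, ?_, ?_⟩
  · calc A * D * (D' * A⁻¹) = A * (D * D') * A⁻¹ := by simp only [Matrix.mul_assoc]
      _ = 1 := by rw [hDD', Matrix.mul_one, hAA']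
  · calc D' * A⁻¹ * (A * D) = D' * (A⁻¹ * A) * D := by simp only [Matrix.mul_assoc]
      _ = 1 := by rw [hA'A, Matrix.mul_one, hD'D]
  · rcases hcase with hc | hc
    · left
      intro X
      rw [hback, hc]
      simp only [Matrix.mul_assoc]
    · right
      intro X
      rw [hback, hc]
      simp only [Matrix.mul_assoc]

theorem det_sim (g : M2 F →ₗ[F] M2 F) (μ : F) (hμ : μ ≠ 0) (h : ∀ X, (g X).det = μ * X.det) :
    ∃ A B : M2 F, A.det ≠ 0 ∧ B.det ≠ 0 ∧
      ((∀ X, g X = A * X * B) ∨ (∀ X, g X = A * Xᵀ * B)) := by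
  set C : M2 F := g 1 with hC
  have hCdet : C.det = μ := by rw [hC, h, Matrix.det_one, mul_one]
  have hCu : IsUnit C.det := by rw [hCdet]; exact isUnit_iff_ne_zero.mpr hμ
  have hCC' : C * C⁻¹ = 1 := Matrix.mul_nonsing_inv C hCu
  have hC'C : C⁻¹ * C = 1 := Matrix.nonsing_inv_mul C hCu
  have hdetC : C⁻¹.det * μ = 1 := by rw [← hCdet, ← Matrix.det_mul, hC'C, Matrix.det_one]
  set g₁ : M2 F →ₗ[F] M2 F := (LinearMap.mulLeft F C⁻¹).comp g with hg₁
  have hg₁a : ∀ X, g₁ X = C⁻¹ * g X := fun X => by simp [hg₁, LinearMap.mulLeft_apply]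
  have g₁1 : g₁ 1 = 1 := by rw [hg₁a, ← hC, hC'C]
  have g₁det : ∀ X, (g₁ X).det = X.det := by
    intro X
    rw [hg₁a, Matrix.det_mul, h]
    linear_combination X.det * hdetC
  obtain ⟨A, A', hAA', hA'A, hcase⟩ := iso_case g₁ g₁1 g₁det
  have hback : ∀ X, g X = C * g₁ X := by
    intro X
    rw [hg₁a, ← Matrix.mul_assoc, hCC', Matrix.one_mul]
  have hdA : A.det * A'.det = 1 := by rw [← Matrix.det_mul, hAA', Matrix.det_one]
  refine ⟨C * A, A', ?_, ?_, ?_⟩
  · rw [Matrix.det_mul, hCdet]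
    exact mul_ne_zero hμ (left_ne_zero_of_mul_eq_one hdA)
  · exact right_ne_zero_of_mul_eq_one hdA
  · rcases hcase with hc | hc
    · left
      intro X
      rw [hback, hc]
      simp only [Matrix.mul_assoc]
    · right
      intro X
      rw [hback, hc]
      simp only [Matrix.mul_assoc]

end Cfsg.Agent.Lib.Helper1.T24
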