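import Mathlib
import Cfsg.Agent.Lib.Helper1.SPXT24a

set_option autoImplicit false
set_option linter.unusedVariables false
set_option linter.unusedSectionVars false

namespace Cfsg.Agent.Lib.Helper1.T24

open Matrix
open scoped Kronecker

variable {F : Type*} [Field F]

def Jm (F : Type*) [Field F] : M2 F := !![0, 1; -1, 0]

def tauM (F : Type*) [Field F] : Matrix (Fin 2 × Fin 2) (Fin 2 × Fin 2) F :=
  fun p p' => if p' = p.swap then 1 else 0

def unvec (x : Fin 2 × Fin 2 → F) : M2 F := Matrix.of fun a b => x (a, b)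

def vec (X : M2 F) : Fin 2 × Fin 2 → F := fun p => X p.1 p.2

theorem vec_unvec (x : Fin 2 × Fin 2 → F) : vec (unvec x) = x := by
  funext p
  rfl

theorem unvec_vec (X : M2 F) : unvec (vec X) = X := by
  ext a b
  rfl

theorem quad_eq (x : Fin 2 × Fin 2 → F) :
    x ⬝ᵥ ((Jm F ⊗ₖ Jm F) *ᵥ x) = 2 * (unvec x).det := by
  simp only [dotProduct, Matrix.mulVec, Fintype.sum_prod_type, Fin.sum_univ_two, Matrix.kroneckerMap_apply,
    Jm, Matrix.of_apply, Matrix.cons_val', Matrix.cons_val_zero, Matrix.cons_val_one, Matrix.cons_val_fin_one,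
    Matrix.det_fin_two, unvec]
  ring

def gmap (b : Matrix (Fin 2 × Fin 2) (Fin 2 × Fin 2) F) : M2 F →ₗ[F] M2 F where
  toFun X := unvec (b *ᵥ vec X)
  map_add' X Y := by
    ext i j
    simp only [unvec, vec, Matrix.of_apply, Matrix.add_apply, Matrix.mulVec, dotProduct]
    rw [← Finset.sum_add_distrib]
    refine Finset.sum_congr rfl fun p _ => ?_
    ring
  map_smul' c X := by
    ext i j
    simp only [unvec, vec, Matrix.of_apply, Matrix.smul_apply, Matrix.mulVec, dotProduct, RingHom.id_apply,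
      smul_eq_mul]
    rw [Finset.mul_sum]
    refine Finset.sum_congr rfl fun p _ => ?_
    ring

theorem gmap_apply (b : Matrix (Fin 2 × Fin 2) (Fin 2 × Fin 2) F) (X : M2 F) :
    gmap b X = unvec (b *ᵥ vec X) := rfl

theorem dot_conj {κ : Type*} [Fintype κ] (M R : Matrix κ κ F) (x y : κ → F) :
    (R *ᵥ x) ⬝ᵥ (M *ᵥ (R *ᵥ y)) = x ⬝ᵥ ((Rᵀ * M * R) *ᵥ y) := by
  rw [← Matrix.vecMul_transpose R x, ← Matrix.dotProduct_mulVec, Matrix.mulVec_mulVec,
    Matrix.mulVec_mulVec, Matrix.mul_assoc]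

theorem go4_struct (h2 : (2 : F) ≠ 0) (b : Matrix (Fin 2 × Fin 2) (Fin 2 × Fin 2) F) (μ : F) (hμ : μ ≠ 0)
    (hb : bᵀ * (Jm F ⊗ₖ Jm F) * b = μ • (Jm F ⊗ₖ Jm F)) :
    ∃ b1 b2 : M2 F, b1.det ≠ 0 ∧ b2.det ≠ 0 ∧ (b = b1 ⊗ₖ b2 ∨ b = (b1 ⊗ₖ b2) * tauM F) := by
  have hq : ∀ x : Fin 2 × Fin 2 → F, (b *ᵥ x) ⬝ᵥ ((Jm F ⊗ₖ Jm F) *ᵥ (b *ᵥ x)) =
      μ * (x ⬝ᵥ ((Jm F ⊗ₖ Jm F) *ᵥ x)) := by
    intro x
    rw [dot_conj, hb, Matrix.smul_mulVec, dotProduct_smul, smul_eq_mul]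
  have hdet : ∀ X : M2 F, (gmap b X).det = μ * X.det := by
    intro X
    have h1 := hq (vec X)
    rw [quad_eq, quad_eq, unvec_vec] at h1
    rw [gmap_apply]
    apply mul_left_cancel₀ h2
    linear_combination h1
  obtain ⟨A, B, hA, hB, hcase⟩ := det_sim (gmap b) μ hμ hdet
  have hcol : ∀ p p' : Fin 2 × Fin 2, b p p' = gmap b (unvec (Pi.single p' 1)) p.1 p.2 := by
    intro p p'
    rw [gmap_apply, vec_unvec, Matrix.mulVec_single_one]
    rfl
  refine ⟨A, Bᵀ, hA, by rw [Matrix.det_transpose]; exact hB, ?_⟩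
  rcases hcase with hc | hc
  · left
    ext p p'
    rw [hcol, hc]
    obtain ⟨a, b'⟩ := p
    obtain ⟨a', b''⟩ := p'
    simp only [Matrix.kroneckerMap_apply, Matrix.transpose_apply, Matrix.mul_apply, Fin.sum_univ_two, unvec,
      Matrix.of_apply, Pi.single_apply, Prod.mk.injEq]
    fin_cases a' <;> fin_cases b'' <;> simp
  · right
    ext p p'
    rw [hcol, hc]
    obtain ⟨a, b'⟩ := p
    obtain ⟨a', b''⟩ := p'
    simp only [Matrix.kroneckerMap_apply, Matrix.transpose_apply, Matrix.mul_apply, Fin.sum_univ_two, unvec,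
      Matrix.of_apply, Pi.single_apply, Prod.mk.injEq, Fintype.sum_prod_type, tauM, Prod.swap_prod_mk]
    fin_cases a' <;> fin_cases b'' <;> simp

end Cfsg.Agent.Lib.Helper1.T24
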