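import Mathlib
import Cfsg.Prelude.Def_GeometricClasses
import Cfsg.Agent.Lib.Helper28.OTens
import Cfsg.Agent.Lib.helper6.Witt
import Cfsg.Agent.Lib.Helper1.SPXT24b

set_option autoImplicit false
set_option linter.unusedVariables false
set_option linter.unusedSectionVars false
set_option linter.unusedSimpArgs false

namespace Cfsg.Agent.Lib.Helper1.T24

open Matrix Cfsg Cfsg.Geo
open scoped Kronecker MatrixGroups

variable {F : Type*} [Field F]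

theorem hyp_vectors (h2 : (2 : F) ≠ 0) (f₂ : (Fin 4 → F) → (Fin 4 → F) → F) (hf₂ : IsSymmetricForm f₂)
    (hplus : IsPlusTypeOn (fun v : Fin 4 → F => f₂ v v) ⊤) :
    ∃ u₁ u₂ w₁ w₂ : Fin 4 → F, f₂ u₁ u₁ = 0 ∧ f₂ u₁ u₂ = 0 ∧ f₂ u₂ u₂ = 0 ∧ f₂ w₁ w₁ = 0 ∧ f₂ w₁ w₂ = 0 ∧
      f₂ w₂ w₂ = 0 ∧ f₂ u₁ w₁ = 1 ∧ f₂ u₁ w₂ = 0 ∧ f₂ u₂ w₁ = 0 ∧ f₂ u₂ w₂ = 1 := by
  classical
  obtain ⟨U, -, hU0, hUdim⟩ := hplus
  have hb := hf₂.bilinear
  have hdim : Module.finrank F U = 2 := by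
    have : Module.finrank F (⊤ : Submodule F (Fin 4 → F)) = 4 := by
      rw [finrank_top, Module.finrank_fin_fun]
    omega
  have hUU : ∀ u ∈ U, ∀ u' ∈ U, f₂ u u' = 0 := by
    intro u hu u' hu'
    have h1 : f₂ (u + u') (u + u') = 0 := hU0 _ (U.add_mem hu hu')
    have e1 : f₂ u u = 0 := hU0 u hu
    have e2 : f₂ u' u' = 0 := hU0 u' hu'
    rw [hb.add_left, hb.add_right, hb.add_right, e1, e2, hf₂.symm u' u] at h1
    have h3 : 2 * f₂ u u' = 0 := by linear_combination h1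
    rcases mul_eq_zero.mp h3 with h4 | h4
    · exact absurd h4 h2
    · exact h4
  let bU := Module.finBasisOfFinrankEq F U hdim
  set u₁ : Fin 4 → F := (bU 0 : Fin 4 → F) with hu₁
  set u₂ : Fin 4 → F := (bU 1 : Fin 4 → F) with hu₂
  have hu₁U : u₁ ∈ U := (bU 0).2
  have hu₂U : u₂ ∈ U := (bU 1).2
  have hli : ∀ a b : F, a • u₁ + b • u₂ = 0 → a = 0 ∧ b = 0 := by
    intro a b hab
    have h1 : a • bU 0 + b • bU 1 = 0 := by
      apply Subtype.ext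
      simpa using hab
    have h3 := Fintype.linearIndependent_iff.mp bU.linearIndependent ![a, b] (by
      rw [Fin.sum_univ_two]
      simpa using h1)
    exact ⟨by simpa using h3 0, by simpa using h3 1⟩
  let B : (Fin 4 → F) →ₗ[F] (Fin 4 → F) →ₗ[F] F :=
    LinearMap.mk₂ F f₂ hb.add_left hb.smul_left hb.add_right hb.smul_right
  have hBa : ∀ x y, B x y = f₂ x y := fun x y => rfl
  have hBsep : B.SeparatingRight := by
    intro y hy
    by_contra hy0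
    obtain ⟨x, hx⟩ := (hf₂.nondegenerate y hy0).1
    exact hx (hy x)
  have hn1 : u₁ ∉ Submodule.span F {u₂} := by
    intro hmem
    obtain ⟨c, hc⟩ := Submodule.mem_span_singleton.mp hmem
    have := hli 1 (-c) (by rw [one_smul, neg_smul, hc]; abel)
    exact one_ne_zero this.1
  have hn2 : u₂ ∉ Submodule.span F {u₁} := by
    intro hmem
    obtain ⟨c, hc⟩ := Submodule.mem_span_singleton.mp hmem
    have := hli (-c) 1 (by rw [one_smul, neg_smul, hc]; abel)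
    exact one_ne_zero this.2
  obtain ⟨v₁, hv₁s, hv₁⟩ := Cfsg.Agent.Lib.helper6.Witt.exists_perp B hBsep _ u₁ hn1 1
  obtain ⟨v₂, hv₂s, hv₂⟩ := Cfsg.Agent.Lib.helper6.Witt.exists_perp B hBsep _ u₂ hn2 1
  have a11 : f₂ v₁ u₁ = 1 := hv₁
  have a12 : f₂ v₁ u₂ = 0 := hv₁s u₂ (Submodule.mem_span_singleton_self _)
  have a21 : f₂ v₂ u₁ = 0 := hv₂s u₁ (Submodule.mem_span_singleton_self _)
  have a22 : f₂ v₂ u₂ = 1 := hv₂
  have b11 : f₂ u₁ v₁ = 1 := by rw [hf₂.symm]; exact a11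
  have b12 : f₂ u₂ v₁ = 0 := by rw [hf₂.symm]; exact a12
  have b21 : f₂ u₁ v₂ = 0 := by rw [hf₂.symm]; exact a21
  have b22 : f₂ u₂ v₂ = 1 := by rw [hf₂.symm]; exact a22
  have c11 : f₂ u₁ u₁ = 0 := hUU _ hu₁U _ hu₁U
  have c12 : f₂ u₁ u₂ = 0 := hUU _ hu₁U _ hu₂U
  have c21 : f₂ u₂ u₁ = 0 := hUU _ hu₂U _ hu₁U
  have c22 : f₂ u₂ u₂ = 0 := hUU _ hu₂U _ hu₂U
  have m21 : f₂ v₂ v₁ = f₂ v₁ v₂ := hf₂.symm _ _
  have hh : (2 : F)⁻¹ * 2 = 1 := inv_mul_cancel₀ h2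
  refine ⟨u₁, u₂, v₁ + (-(2⁻¹ * f₂ v₁ v₁)) • u₁ + (-(2⁻¹ * f₂ v₁ v₂)) • u₂,
    v₂ + (-(2⁻¹ * f₂ v₁ v₂)) • u₁ + (-(2⁻¹ * f₂ v₂ v₂)) • u₂, c11, c12, c22, ?_, ?_, ?_, ?_, ?_, ?_, ?_⟩
  · simp only [hb.add_left, hb.add_right, hb.smul_left, hb.smul_right, a11, a12, a21, a22, b11, b12, b21, b22,
      c11, c12, c21, c22, m21]
    linear_combination (-(f₂ v₁ v₁)) * hh
  · simp only [hb.add_left, hb.add_right, hb.smul_left, hb.smul_right, a11, a12, a21, a22, b11, b12, b21, b22,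
      c11, c12, c21, c22, m21]
    linear_combination (-(f₂ v₁ v₂)) * hh
  · simp only [hb.add_left, hb.add_right, hb.smul_left, hb.smul_right, a11, a12, a21, a22, b11, b12, b21, b22,
      c11, c12, c21, c22, m21]
    linear_combination (-(f₂ v₂ v₂)) * hh
  · simp only [hb.add_right, hb.smul_right, b11, c11, c12]
    ring
  · simp only [hb.add_right, hb.smul_right, b21, c11, c12]
    ring
  · simp only [hb.add_right, hb.smul_right, b12, c21, c22]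
    ring
  · simp only [hb.add_right, hb.smul_right, b22, c21, c22]
    ring

theorem plus_normal (h2 : (2 : F) ≠ 0) (f₂ : (Fin 4 → F) → (Fin 4 → F) → F) (hf₂ : IsSymmetricForm f₂)
    (hplus : IsPlusTypeOn (fun v : Fin 4 → F => f₂ v v) ⊤) (ψ : Fin 4 ≃ Fin 2 × Fin 2) :
    ∃ S : GL (Fin 4) F, (S : Matrix (Fin 4) (Fin 4) F)ᵀ * gramMatrix f₂ * (S : Matrix (Fin 4) (Fin 4) F) =
      (Jm F ⊗ₖ Jm F).submatrix ψ ψ := by
  classical
  obtain ⟨u₁, u₂, w₁, w₂, c11, c12, c22, d11, d12, d22, e11, e12, e21, e22⟩ := hyp_vectors h2 f₂ hf₂ hplus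
  have hb := hf₂.bilinear
  have c21 : f₂ u₂ u₁ = 0 := by rw [hf₂.symm]; exact c12
  have d21 : f₂ w₂ w₁ = 0 := by rw [hf₂.symm]; exact d12
  have g11 : f₂ w₁ u₁ = 1 := by rw [hf₂.symm]; exact e11
  have g12 : f₂ w₂ u₁ = 0 := by rw [hf₂.symm]; exact e12
  have g21 : f₂ w₁ u₂ = 0 := by rw [hf₂.symm]; exact e21
  have g22 : f₂ w₂ u₂ = 1 := by rw [hf₂.symm]; exact e22
  let c : Fin 2 × Fin 2 → (Fin 4 → F) := fun p =>
    if p.1 = 0 then (if p.2 = 0 then u₁ else u₂) else (if p.2 = 0 then -w₂ else w₁)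
  have hc : ∀ p p', f₂ (c p) (c p') = (Jm F ⊗ₖ Jm F) p p' := by
    rintro ⟨a, b⟩ ⟨a', b'⟩
    fin_cases a <;> fin_cases b <;> fin_cases a' <;> fin_cases b' <;>
      simp [c, Jm, Matrix.kroneckerMap_apply, Cfsg.Agent.Lib.Helper28.OTens.bil_neg_left hb,
        Cfsg.Agent.Lib.Helper28.OTens.bil_neg_right hb, c11, c12, c21, c22, d11, d12, d21, d22,
        e11, e12, e21, e22, g11, g12, g21, g22]
  let S : Matrix (Fin 4) (Fin 4) F := Matrix.of fun i j => c (ψ j) i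
  have hS : Sᵀ * gramMatrix f₂ * S = (Jm F ⊗ₖ Jm F).submatrix ψ ψ := by
    ext j j'
    rw [Matrix.submatrix_apply, ← hc, Cfsg.Agent.Lib.Helper28.OTens.bil_gram hb, Matrix.mul_apply]
    simp only [Matrix.mul_apply, Matrix.transpose_apply, Finset.sum_mul, S, Matrix.of_apply]
    rw [Finset.sum_comm]
  have hdetK : ((Jm F ⊗ₖ Jm F).submatrix ψ ψ).det = 1 := by
    rw [Matrix.det_submatrix_equiv_self, Matrix.det_kronecker]
    simp [Jm, Matrix.det_fin_two]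
  have hdetS : S.det ≠ 0 := by
    intro h0
    have := congrArg Matrix.det hS
    rw [Matrix.det_mul, Matrix.det_mul, Matrix.det_transpose, h0, hdetK] at this
    simp at this
  refine ⟨Matrix.GeneralLinearGroup.mkOfDetNeZero S hdetS, ?_⟩
  exact hS

end Cfsg.Agent.Lib.Helper1.T24
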