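import Mathlib
import Cfsg.Prelude.Def_GeometricClasses
import Cfsg.Agent.Lib.Helper27.ASC.Defs
import Cfsg.Agent.Lib.Helper20.ASPCSIM
import Cfsg.Agent.Lib.Helper1.SPXT24c

set_option autoImplicit false
set_option linter.unusedVariables false
set_option linter.unusedSectionVars false

namespace Cfsg.Agent.Lib.Helper1.T24

open Matrix Cfsg Cfsg.Geo
open scoped Kronecker MatrixGroups

variable {F : Type*} [Field F] {ι : Type} [Fintype ι] [DecidableEq ι]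

theorem fg_dot {κ : Type} [Fintype κ] (M : Matrix κ κ F) (x y : κ → F) :
    formOfGram id M x y = x ⬝ᵥ (M *ᵥ y) := by
  unfold formOfGram
  simp only [dotProduct, Matrix.mulVec, Finset.mul_sum, id, mul_assoc]

theorem fg_single {κ : Type} [Fintype κ] [DecidableEq κ] (M : Matrix κ κ F) (p q : κ) :
    formOfGram id M (Pi.single p 1) (Pi.single q 1) = M p q := by
  rw [fg_dot, Matrix.mulVec_single_one, single_one_dotProduct]
  rfl

theorem fg_conj {κ : Type} [Fintype κ] [DecidableEq κ] (M R : Matrix κ κ F) (x y : κ → F) :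
    formOfGram id M (R *ᵥ x) (R *ᵥ y) = formOfGram id (Rᵀ * M * R) x y := by
  rw [fg_dot, fg_dot, dot_conj]

theorem fg_smul {κ : Type} [Fintype κ] (c : F) (M : Matrix κ κ F) (x y : κ → F) :
    formOfGram id (c • M) x y = c * formOfGram id M x y := by
  rw [fg_dot, fg_dot, Matrix.smul_mulVec, dotProduct_smul, smul_eq_mul]

theorem act_lemma {κ : Type} [Fintype κ] [DecidableEq κ] (e : ι ≃ κ) (P : GL ι F) (k : GL κ F)
    (x : κ → F) :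
    ((P * glReindex e.symm k * P⁻¹ : GL ι F) : Matrix ι ι F) *ᵥ ((P : Matrix ι ι F) *ᵥ (x ∘ e)) =
      (P : Matrix ι ι F) *ᵥ (((k : Matrix κ κ F) *ᵥ x) ∘ e) := by
  rw [Units.val_mul, Units.val_mul, ← Matrix.mulVec_mulVec, ← Matrix.mulVec_mulVec,
    Cfsg.Agent.Lib.Helper28.DecGen.gl_cancel]
  congr 1
  have h2 : ((glReindex e.symm k : GL ι F) : Matrix ι ι F) = (k : Matrix κ κ F).submatrix e e := rfl
  rw [h2, Matrix.submatrix_mulVec_equiv]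
  congr 2
  funext i
  simp

theorem coord_lemma {κ : Type} [Fintype κ] [DecidableEq κ] (e : ι ≃ κ) (P : GL ι F) (u : ι → F) :
    ∃ x : κ → F, u = (P : Matrix ι ι F) *ᵥ (x ∘ e) := by
  refine ⟨(((P⁻¹ : GL ι F) : Matrix ι ι F) *ᵥ u) ∘ e.symm, ?_⟩
  have : ((((P⁻¹ : GL ι F) : Matrix ι ι F) *ᵥ u) ∘ e.symm) ∘ e = ((P⁻¹ : GL ι F) : Matrix ι ι F) *ᵥ u := by
    funext i
    simp
  rw [this, Cfsg.Agent.Lib.Helper28.DecGen.gl_cancel']

theorem kr_sim {n₁ n₂ : ℕ} (f : (ι → F) → (ι → F) → F) (e : ι ≃ Fin n₁ × Fin n₂) (P : GL ι F)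
    (A : Matrix (Fin n₁) (Fin n₁) F) (B : Matrix (Fin n₂) (Fin n₂) F) (hA : A ≠ 0) (hB : B ≠ 0)
    (hK : ∀ x y : Fin n₁ × Fin n₂ → F,
      f ((P : Matrix ι ι F) *ᵥ (x ∘ e)) ((P : Matrix ι ι F) *ᵥ (y ∘ e)) = formOfGram id (A ⊗ₖ B) x y)
    (k : GL (Fin n₁ × Fin n₂) F) (a : Matrix (Fin n₁) (Fin n₁) F) (b : Matrix (Fin n₂) (Fin n₂) F)
    (hk : (k : Matrix (Fin n₁ × Fin n₂) (Fin n₁ × Fin n₂) F) = a ⊗ₖ b)
    (hiso : ∀ u v : ι → F, f (((P * glReindex e.symm k * P⁻¹ : GL ι F) : Matrix ι ι F) *ᵥ u)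
      (((P * glReindex e.symm k * P⁻¹ : GL ι F) : Matrix ι ι F) *ᵥ v) = f u v) :
    ∃ μ : F, μ ≠ 0 ∧ aᵀ * A * a = μ • A ∧ bᵀ * B * b = μ⁻¹ • B := by
  classical
  have hM : (a ⊗ₖ b)ᵀ * (A ⊗ₖ B) * (a ⊗ₖ b) = A ⊗ₖ B := by
    ext p q
    have h1 := hiso ((P : Matrix ι ι F) *ᵥ ((Pi.single p 1 : Fin n₁ × Fin n₂ → F) ∘ e))
      ((P : Matrix ι ι F) *ᵥ ((Pi.single q 1 : Fin n₁ × Fin n₂ → F) ∘ e))
    rw [act_lemma, act_lemma, hK, hK, hk, fg_conj, fg_single, fg_single] at h1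
    exact h1
  rw [← Matrix.kroneckerMap_transpose, ← Matrix.mul_kronecker_mul, ← Matrix.mul_kronecker_mul] at hM
  exact Cfsg.Agent.Lib.Helper18.ASP.aspcsim_kron_eq_kron _ A _ B hA hB hM

end Cfsg.Agent.Lib.Helper1.T24
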