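import Mathlib
import Cfsg.Prelude.Def_GeometricClasses
import Cfsg.Agent.Lib.Helper27.ASC.Defs
import Cfsg.Agent.Lib.helper23.ASCO.Defs
import Cfsg.Agent.Lib.Helper19.ASG.Defs
import Cfsg.Agent.Lib.Helper1.ASGCLIF3
import Cfsg.Agent.Lib.Helper25.ASO.Defs
import Cfsg.Agent.Lib.helper23.ASE.Defs
import Cfsg.Agent.Lib.Helper27.E10P.Defs
import Cfsg.Agent.Lib.Helper22.ASPCANI2
import Cfsg.Agent.Lib.Helper22.ASPCANI5
import Cfsg.Agent.Lib.Helper1.SPXT24d

set_option autoImplicit false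
set_option linter.unusedVariables false
set_option linter.unusedSectionVars false

namespace Cfsg.Agent.Lib.Helper27.E10P

open Cfsg Cfsg.Geo Cfsg.Agent.Lib.Helper27.ASC Cfsg.Agent.Lib.helper23.ASCO Cfsg.Agent.Lib.Helper19.ASG
  Cfsg.Agent.Lib.Helper25.ASO Cfsg.Agent.Lib.helper23.ASE
open scoped MatrixGroups Matrix Kronecker

variable {n : ℕ} {F : Type*} [Field F] [Fintype F]

theorem e10pt2aniso_JaT (a : Matrix (Fin 2) (Fin 2) F) :
    a * Cfsg.Agent.Lib.Helper1.T24.Jm F * aᵀ = a.det • Cfsg.Agent.Lib.Helper1.T24.Jm F := by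
  ext i j
  fin_cases i <;> fin_cases j <;>
    simp only [Matrix.mul_apply, Fin.sum_univ_two, Matrix.smul_apply, Matrix.transpose_apply,
      Matrix.det_fin_two] <;>
    simp [Cfsg.Agent.Lib.Helper1.T24.Jm] <;> ring

theorem e10pt2aniso_key (a A : Matrix (Fin 2) (Fin 2) F) (μ : F) (h : aᵀ * A * a = μ • A) :
    a.det • (Cfsg.Agent.Lib.Helper1.T24.Jm F * A * a) = μ • (a * (Cfsg.Agent.Lib.Helper1.T24.Jm F * A)) := by
  have h1 : a * Cfsg.Agent.Lib.Helper1.T24.Jm F * (aᵀ * A * a) =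
      a * Cfsg.Agent.Lib.Helper1.T24.Jm F * (μ • A) := by rw [h]
  have h2 : a * Cfsg.Agent.Lib.Helper1.T24.Jm F * (aᵀ * A * a) =
      (a * Cfsg.Agent.Lib.Helper1.T24.Jm F * aᵀ) * A * a := by
    simp only [Matrix.mul_assoc]
  rw [h2, e10pt2aniso_JaT, Matrix.smul_mul, Matrix.smul_mul, Matrix.mul_smul] at h1
  rw [h1, Matrix.mul_assoc]

theorem e10pt2aniso_jsq (A : Matrix (Fin 2) (Fin 2) F) (hAs : Aᵀ = A) :
    (Cfsg.Agent.Lib.Helper1.T24.Jm F * A) * (Cfsg.Agent.Lib.Helper1.T24.Jm F * A) =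
      (-(A.det)) • (1 : Matrix (Fin 2) (Fin 2) F) := by
  have h10 : A 1 0 = A 0 1 := by
    have := congrFun (congrFun hAs 0) 1
    simpa [Matrix.transpose_apply] using this
  ext i j
  fin_cases i <;> fin_cases j <;>
    simp only [Matrix.mul_apply, Fin.sum_univ_two, Matrix.smul_apply, Matrix.det_fin_two] <;>
    simp [Cfsg.Agent.Lib.Helper1.T24.Jm, h10] <;> ring

theorem e10pt2aniso_norm (A : Matrix (Fin 2) (Fin 2) F) (hAs : Aᵀ = A)
    (haniso : ∀ u : Fin 2 → F, u ≠ 0 → u ⬝ᵥ A *ᵥ u ≠ 0) (x y : F)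
    (h : x ^ 2 - (-(A.det)) * y ^ 2 = 0) : x = 0 ∧ y = 0 := by
  have h10 : A 1 0 = A 0 1 := by
    have := congrFun (congrFun hAs 0) 1
    simpa [Matrix.transpose_apply] using this
  have hα : A 0 0 ≠ 0 := by
    have := haniso ![1, 0] (by
      intro h0
      have := congrFun h0 0
      simp at this)
    simpa [dotProduct, Matrix.mulVec, Fin.sum_univ_two] using this
  by_contra hne
  have hu : (![x - A 0 1 * y, A 0 0 * y] : Fin 2 → F) ≠ 0 := by
    intro h0
    have e0 := congrFun h0 0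
    have e1 := congrFun h0 1
    simp at e0 e1
    rcases e1 with e1 | e1
    · exact hα e1
    · subst e1
      apply hne
      refine ⟨?_, rfl⟩
      simpa using e0
  apply haniso _ hu
  simp only [dotProduct, Matrix.mulVec, Fin.sum_univ_two, Matrix.cons_val_zero, Matrix.cons_val_one, h10]
  rw [Matrix.det_fin_two, h10] at h
  linear_combination (A 0 0) * h

theorem e10pt2aniso_act {k d : ℕ} (e : Fin n ≃ Fin k × Fin d) (P : GL (Fin n) F)
    (M : Matrix (Fin k × Fin d) (Fin k × Fin d) F) (x : Fin k × Fin d → F) :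
    ((P : Matrix (Fin n) (Fin n) F) * Matrix.reindexAlgEquiv F F e.symm M *
      ((P⁻¹ : GL (Fin n) F) : Matrix (Fin n) (Fin n) F)) *ᵥ ((P : Matrix (Fin n) (Fin n) F) *ᵥ (x ∘ e)) =
      (P : Matrix (Fin n) (Fin n) F) *ᵥ ((M *ᵥ x) ∘ e) := by
  rw [← Matrix.mulVec_mulVec, ← Matrix.mulVec_mulVec, Cfsg.Agent.Lib.Helper28.DecGen.gl_cancel]
  congr 1
  have h2 : Matrix.reindexAlgEquiv F F e.symm M = M.submatrix e e := rfl
  rw [h2, Matrix.submatrix_mulVec_equiv]
  congr 2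
  funext p
  simp

theorem e10pt2aniso_adj (A : Matrix (Fin 2) (Fin 2) F) (hAs : Aᵀ = A) (s t : F) :
    (s • (1 : Matrix (Fin 2) (Fin 2) F) + t • (Cfsg.Agent.Lib.Helper1.T24.Jm F * A))ᵀ * A =
      A * (s • (1 : Matrix (Fin 2) (Fin 2) F) + (-t) • (Cfsg.Agent.Lib.Helper1.T24.Jm F * A)) := by
  have h10 : A 1 0 = A 0 1 := by
    have := congrFun (congrFun hAs 0) 1
    simpa [Matrix.transpose_apply] using this
  ext i j
  fin_cases i <;> fin_cases j <;>
    simp only [Matrix.mul_apply, Fin.sum_univ_two, Matrix.smul_apply, Matrix.transpose_apply,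
      Matrix.add_apply] <;>
    simp [Cfsg.Agent.Lib.Helper1.T24.Jm, h10, Matrix.one_apply] <;> ring

theorem tens2_aniso_field (h2 : (2 : F) ≠ 0) (Q : QuadraticForm F (Fin n → F))
    (hQ : (QuadraticMap.polarBilin Q).Nondegenerate)
    {G : Subgroup (GL (Fin n) F)} (hGO : G ≤ isometryGroup F (⇑Q)) {d : ℕ} (hd : 1 ≤ d)
    (e : Fin n ≃ Fin 2 × Fin d) (P : GL (Fin n) F) (hGT : G ≤ tensorProductSubgroup 2 d e P)
    (A : Matrix (Fin 2) (Fin 2) F) (B : Matrix (Fin d) (Fin d) F) (hA : IsUnit A.det) (hB : IsUnit B.det)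
    (hAs : Aᵀ = A) (hBs : Bᵀ = B) (hAB : KronGram (QuadraticMap.polar (⇑Q)) e P A B)
    (haniso : ∀ u : Fin 2 → F, u ≠ 0 → u ⬝ᵥ A *ᵥ u ≠ 0) :
    ∃ K₂ : Subalgebra F (Matrix (Fin n) (Fin n) F), IsFieldSubalgebra 2 K₂ ∧
      IsAdjointClosedFor (QuadraticMap.polar (⇑Q)) K₂ ∧ G ≤ subalgebraNormalizer K₂ := by
  classical
  have hA0 : A ≠ 0 := by
    rintro rfl
    rw [Matrix.det_zero] at hA
    exact not_isUnit_zero hA
  have hB0 : B ≠ 0 := by
    rintro rfl
    have : Nonempty (Fin d) := ⟨⟨0, hd⟩⟩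
    rw [Matrix.det_zero] at hB
    exact not_isUnit_zero hB
  have hΔ : A.det ≠ 0 := hA.ne_zero
  obtain ⟨K, hKf, hKmem⟩ := Cfsg.Agent.Lib.Helper18.ASP.spc_ani_field (n := n) hd e P
    (Cfsg.Agent.Lib.Helper1.T24.Jm F * A) (-(A.det)) (e10pt2aniso_jsq A hAs)
    (e10pt2aniso_norm A hAs haniso)
  refine ⟨K, hKf, ?_, ?_⟩
  · intro k hk
    obtain ⟨s, t, rfl⟩ := (hKmem k).mp hk
    refine ⟨_, (hKmem _).mpr ⟨s, -t, rfl⟩, ?_⟩
    intro u v
    obtain ⟨x, rfl⟩ := Cfsg.Agent.Lib.Helper1.T24.coord_lemma e P u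
    obtain ⟨y, rfl⟩ := Cfsg.Agent.Lib.Helper1.T24.coord_lemma e P v
    rw [e10pt2aniso_act, e10pt2aniso_act, hAB, hAB, Cfsg.Agent.Lib.Helper1.T24.fg_dot,
      Cfsg.Agent.Lib.Helper1.T24.fg_dot, Matrix.mulVec_mulVec, ← Matrix.vecMul_transpose,
      ← Matrix.dotProduct_mulVec, Matrix.mulVec_mulVec]
    congr 2
    rw [← Matrix.kroneckerMap_transpose, ← Matrix.mul_kronecker_mul, ← Matrix.mul_kronecker_mul,
      e10pt2aniso_adj A hAs, Matrix.transpose_one, one_mul, mul_one]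
  · have hI : G ≤ Cfsg.Agent.Lib.Helper18.ASP.isoGL (QuadraticMap.polar (⇑Q)) := by
      intro g hg u v
      have h : ∀ w, Q ((g : Matrix (Fin n) (Fin n) F) *ᵥ w) = Q w := fun w => hGO hg w w
      show QuadraticMap.polar (⇑Q) ((g : Matrix (Fin n) (Fin n) F) *ᵥ u)
        ((g : Matrix (Fin n) (Fin n) F) *ᵥ v) = QuadraticMap.polar (⇑Q) u v
      unfold QuadraticMap.polar
      rw [← Matrix.mulVec_add, h, h, h]
    refine Cfsg.Agent.Lib.Helper18.ASP.spc_ani_normalizes (QuadraticMap.polar (⇑Q)) hI e P A B hA0 hB0 hAB hGT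
      (Cfsg.Agent.Lib.Helper1.T24.Jm F * A) ?_ K hKmem
    intro a μ hμ ha
    have hkey := e10pt2aniso_key a A μ ha
    have hdet : a.det * a.det = μ * μ := by
      have h1 := congrArg Matrix.det ha
      rw [Matrix.det_mul, Matrix.det_mul, Matrix.det_transpose, Matrix.det_smul, Fintype.card_fin] at h1
      have h3 : (a.det * a.det - μ * μ) * A.det = 0 := by linear_combination h1
      rcases mul_eq_zero.mp h3 with h4 | h4
      · exact sub_eq_zero.mp h4
      · exact absurd h4 hΔ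
    have hcases : a.det = μ ∨ a.det = -μ := by
      have h5 : (a.det - μ) * (a.det + μ) = 0 := by linear_combination hdet
      rcases mul_eq_zero.mp h5 with h6 | h6
      · exact Or.inl (sub_eq_zero.mp h6)
      · exact Or.inr (eq_neg_of_add_eq_zero_left h6)
    rcases hcases with hc | hc
    · left
      rw [hc] at hkey
      have := smul_right_injective (Matrix (Fin 2) (Fin 2) F) hμ hkey
      exact this.symm
    · right
      rw [hc, neg_smul, ← smul_neg] at hkey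
      have := smul_right_injective (Matrix (Fin 2) (Fin 2) F) hμ hkey
      rw [← this]

end Cfsg.Agent.Lib.Helper27.E10P
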