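import Mathlib
import Cfsg.Prelude.Def_GeometricClasses
import Cfsg.Agent.Lib.Helper27.ASC.Defs
import Cfsg.Agent.Lib.helper23.ASGD2TPTPERM
import Cfsg.Agent.Lib.Helper9.ASPD2TSPF1b
import Cfsg.Agent.Lib.Helper1.SPXT24d

set_option autoImplicit false
set_option linter.unusedVariables false
set_option linter.unusedSectionVars false
set_option linter.unusedSimpArgs false

namespace Cfsg.Agent.Lib.Helper1.T24

open Matrix Cfsg Cfsg.Geo Cfsg.Agent.Lib.Helper19.ASG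
open scoped Kronecker MatrixGroups

variable {F : Type*} [Field F] {ι : Type} [Fintype ι] [DecidableEq ι]

def psi : Fin 4 ≃ Fin 2 × Fin 2 := (finProdFinEquiv : Fin 2 × Fin 2 ≃ Fin 4).symm

def nu : (Fin 3 → Fin 2) ≃ Fin 2 × (Fin 2 × Fin 2) where
  toFun z := (z 0, (z 1, z 2))
  invFun p := ![p.1, p.2.1, p.2.2]
  left_inv z := by
    funext i
    fin_cases i <;> rfl
  right_inv p := by
    rfl

def theta : Fin 2 × Fin 4 ≃ (Fin 3 → Fin 2) := (Equiv.prodCongr (Equiv.refl _) psi).trans nu.symm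

theorem theta_symm_apply (z : Fin 3 → Fin 2) : theta.symm z = (z 0, psi.symm (z 1, z 2)) := rfl

theorem reindex_coe {κ κ' : Type} [Fintype κ] [DecidableEq κ] [Fintype κ'] [DecidableEq κ']
    (e : κ ≃ κ') (g : GL κ F) (i j : κ') :
    ((glReindex e g : GL κ' F) : Matrix κ' κ' F) i j = (g : Matrix κ κ F) (e.symm i) (e.symm j) := rfl

theorem reindex_trans {κ κ' : Type} [Fintype κ] [DecidableEq κ] [Fintype κ'] [DecidableEq κ']
    (e : ι ≃ κ) (θ : κ ≃ κ') (x : GL κ F) :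
    glReindex (e.trans θ).symm (glReindex θ x) = glReindex e.symm x := by
  apply Units.ext
  ext i j
  rw [reindex_coe, reindex_coe, reindex_coe]
  simp

theorem conj_reindex {κ κ' : Type} [Fintype κ] [DecidableEq κ] [Fintype κ'] [DecidableEq κ']
    (e : ι ≃ κ) (θ : κ ≃ κ') (P : GL ι F) (K₁ k : GL κ F) :
    P * glReindex e.symm k * P⁻¹ =
      (P * glReindex e.symm K₁) * glReindex (e.trans θ).symm (glReindex θ (K₁⁻¹ * k * K₁)) *
        (P * glReindex e.symm K₁)⁻¹ := by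
  rw [reindex_trans, map_mul, map_mul, map_inv]
  group

theorem pvec {κ κ' : Type} [Fintype κ] [DecidableEq κ] [Fintype κ'] [DecidableEq κ']
    (e : ι ≃ κ) (θ : κ ≃ κ') (P : GL ι F) (K₁ : GL κ F) (x : κ' → F) :
    ((P * glReindex e.symm K₁ : GL ι F) : Matrix ι ι F) *ᵥ (x ∘ (e.trans θ)) =
      (P : Matrix ι ι F) *ᵥ (((K₁ : Matrix κ κ F) *ᵥ (x ∘ θ)) ∘ e) := by
  rw [Units.val_mul, ← Matrix.mulVec_mulVec]
  congr 1
  have h2 : ((glReindex e.symm K₁ : GL ι F) : Matrix ι ι F) = (K₁ : Matrix κ κ F).submatrix e e := rfl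
  rw [h2, Matrix.submatrix_mulVec_equiv]
  congr 2
  funext i
  simp

def K1 (S : GL (Fin 4) F) : GL (Fin 2 × Fin 4) F where
  val := (1 : Matrix (Fin 2) (Fin 2) F) ⊗ₖ (S : Matrix (Fin 4) (Fin 4) F)
  inv := (1 : Matrix (Fin 2) (Fin 2) F) ⊗ₖ ((S⁻¹ : GL (Fin 4) F) : Matrix (Fin 4) (Fin 4) F)
  val_inv := by
    rw [← Matrix.mul_kronecker_mul, ← Units.val_mul, mul_inv_cancel, Units.val_one, mul_one,
      Matrix.one_kronecker_one]
  inv_val := by
    rw [← Matrix.mul_kronecker_mul, ← Units.val_mul, inv_mul_cancel, Units.val_one, mul_one,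
      Matrix.one_kronecker_one]

theorem K1_val (S : GL (Fin 4) F) :
    ((K1 S : GL (Fin 2 × Fin 4) F) : Matrix (Fin 2 × Fin 4) (Fin 2 × Fin 4) F) =
      (1 : Matrix (Fin 2) (Fin 2) F) ⊗ₖ (S : Matrix (Fin 4) (Fin 4) F) := rfl

theorem K1_inv_val (S : GL (Fin 4) F) :
    (((K1 S)⁻¹ : GL (Fin 2 × Fin 4) F) : Matrix (Fin 2 × Fin 4) (Fin 2 × Fin 4) F) =
      (1 : Matrix (Fin 2) (Fin 2) F) ⊗ₖ ((S⁻¹ : GL (Fin 4) F) : Matrix (Fin 4) (Fin 4) F) := rfl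

def Jf (F : Type*) [Field F] : (Fin 2 → F) → (Fin 2 → F) → F := fun u v => u ⬝ᵥ (Jm F *ᵥ v)

theorem Jf_symp [Fintype F] : IsSymplecticForm (Jf F) := by
  apply Cfsg.Agent.Lib.Helper18.ASP.aspd2tspf1b_gram_symplectic
  · rw [Jm, Matrix.det_fin_two_of]
    simp
  · ext i j
    fin_cases i <;> fin_cases j <;> simp [Jm]
  · intro p
    fin_cases p <;> simp [Jm]

theorem Jf_gram : gramMatrix (Jf F) = Jm F := by
  ext i j
  unfold gramMatrix Jf
  rw [Matrix.mulVec_single_one, single_one_dotProduct]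
  rfl

theorem gram_alt2 (f₁ : (Fin 2 → F) → (Fin 2 → F) → F) (hf₁ : IsSymplecticForm f₁) :
    ∃ l : F, l ≠ 0 ∧ gramMatrix f₁ = l • Jm F := by
  have hdet := Cfsg.Agent.Lib.Helper28.OTens.gram_det_ne_zero hf₁.bilinear hf₁.nondegenerate
  have h00 : gramMatrix f₁ 0 0 = 0 := hf₁.alternating _
  have h11 : gramMatrix f₁ 1 1 = 0 := hf₁.alternating _
  have h10 : gramMatrix f₁ 1 0 = - gramMatrix f₁ 0 1 := hf₁.skew _ _
  refine ⟨gramMatrix f₁ 0 1, ?_, ?_⟩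
  · intro h0
    apply hdet
    rw [Matrix.det_fin_two, h00, h11, h10, h0]
    simp
  · ext i j
    fin_cases i <;> fin_cases j <;> simp [Jm, h00, h11, h10]

theorem theta_apply0 (p : Fin 2 × Fin 4) : theta p 0 = p.1 := rfl

theorem theta_apply1 (p : Fin 2 × Fin 4) : theta p 1 = (psi p.2).1 := rfl

theorem theta_apply2 (p : Fin 2 × Fin 4) : theta p 2 = (psi p.2).2 := rfl

theorem K1_conj_gram (S : GL (Fin 4) F) (G₁ : Matrix (Fin 2) (Fin 2) F) (G₂ : Matrix (Fin 4) (Fin 4) F) :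
    ((K1 S : GL (Fin 2 × Fin 4) F) : Matrix (Fin 2 × Fin 4) (Fin 2 × Fin 4) F)ᵀ * (G₁ ⊗ₖ G₂) *
      ((K1 S : GL (Fin 2 × Fin 4) F) : Matrix (Fin 2 × Fin 4) (Fin 2 × Fin 4) F) =
      G₁ ⊗ₖ ((S : Matrix (Fin 4) (Fin 4) F)ᵀ * G₂ * (S : Matrix (Fin 4) (Fin 4) F)) := by
  rw [K1_val, ← Matrix.kroneckerMap_transpose, ← Matrix.mul_kronecker_mul, ← Matrix.mul_kronecker_mul,
    Matrix.transpose_one, one_mul, mul_one]

theorem form_structure (f : (ι → F) → (ι → F) → F) (e : ι ≃ Fin 2 × Fin 4) (P : GL ι F)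
    (G₁ : Matrix (Fin 2) (Fin 2) F) (G₂ : Matrix (Fin 4) (Fin 4) F) (c l : F) (hG₁ : G₁ = l • Jm F)
    (S : GL (Fin 4) F)
    (hS : (S : Matrix (Fin 4) (Fin 4) F)ᵀ * G₂ * (S : Matrix (Fin 4) (Fin 4) F) =
      (Jm F ⊗ₖ Jm F).submatrix psi psi)
    (hT : ∀ x y : Fin 2 × Fin 4 → F, f ((P : Matrix ι ι F) *ᵥ (x ∘ e)) ((P : Matrix ι ι F) *ᵥ (y ∘ e)) =
      c * formOfGram id (G₁ ⊗ₖ G₂) x y) (x y : (Fin 3 → Fin 2) → F) :
    f (((P * glReindex e.symm (K1 S) : GL ι F) : Matrix ι ι F) *ᵥ (x ∘ (e.trans theta)))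
      (((P * glReindex e.symm (K1 S) : GL ι F) : Matrix ι ι F) *ᵥ (y ∘ (e.trans theta))) =
      (c * l) * ∑ a, ∑ b, x a * (∏ i, Jm F (a i) (b i)) * id (y b) := by
  rw [pvec, pvec, hT, fg_conj, K1_conj_gram, hS, mul_assoc]
  congr 1
  unfold formOfGram
  rw [← Equiv.sum_comp theta, Finset.mul_sum]
  apply Finset.sum_congr rfl
  intro p _
  rw [← Equiv.sum_comp theta, Finset.mul_sum]
  apply Finset.sum_congr rfl
  intro q _
  rw [Fin.prod_univ_three, theta_apply0, theta_apply1, theta_apply2, theta_apply0, theta_apply1,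
    theta_apply2, hG₁]
  simp only [Function.comp_apply, Matrix.kroneckerMap_apply, Matrix.submatrix_apply, Matrix.smul_apply,
    smul_eq_mul, id]
  ring

end Cfsg.Agent.Lib.Helper1.T24
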