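import Mathlib
import Cfsg.Prelude.Def_GeometricClasses
import Cfsg.Agent.Lib.Helper27.ASC.Defs
import Cfsg.Agent.Lib.Helper1.SPXT24e

set_option autoImplicit false
set_option linter.unusedVariables false
set_option linter.unusedSectionVars false
set_option linter.unusedSimpArgs false

namespace Cfsg.Agent.Lib.Helper1.T24

open Matrix Cfsg Cfsg.Geo Cfsg.Agent.Lib.Helper19.ASG
open scoped Kronecker MatrixGroups

variable {F : Type*} [Field F] {ι : Type} [Fintype ι] [DecidableEq ι]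

theorem two_ne_zero_of_odd [Fintype F] (hodd : Odd (Fintype.card F)) : (2 : F) ≠ 0 := by
  intro h2
  have hchar : ringChar F = 2 := by
    have hp : (ringChar F).Prime := CharP.char_is_prime F (ringChar F)
    have hdvd : ringChar F ∣ 2 := by
      rw [← CharP.cast_eq_zero_iff F (ringChar F) 2]
      exact_mod_cast h2
    exact (Nat.prime_dvd_prime_iff_eq hp Nat.prime_two).mp hdvd
  have heven := FiniteField.even_card_of_char_two hchar
  rcases hodd with ⟨k, hk⟩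
  omega

theorem mul_tauM (M : Matrix (Fin 2 × Fin 2) (Fin 2 × Fin 2) F) (p q : Fin 2 × Fin 2) :
    (M * tauM F) p q = M p q.swap := by
  rw [Matrix.mul_apply, Finset.sum_eq_single q.swap]
  · unfold tauM
    rw [if_pos (by simp), mul_one]
  · intro r _ hr
    unfold tauM
    rw [if_neg, mul_zero]
    intro h
    apply hr
    rw [h, Prod.swap_swap]
  · intro h
    exact absurd (Finset.mem_univ _) h

theorem k3_entries (S : GL (Fin 4) F) (k : GL (Fin 2 × Fin 4) F) (a : Matrix (Fin 2) (Fin 2) F)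
    (b : Matrix (Fin 4) (Fin 4) F)
    (hk : (k : Matrix (Fin 2 × Fin 4) (Fin 2 × Fin 4) F) = a ⊗ₖ b) (x y : Fin 3 → Fin 2) :
    ((glReindex theta ((K1 S)⁻¹ * k * K1 S) : GL (Fin 3 → Fin 2) F) :
      Matrix (Fin 3 → Fin 2) (Fin 3 → Fin 2) F) x y =
      a (x 0) (y 0) * ((((S⁻¹ : GL (Fin 4) F) : Matrix (Fin 4) (Fin 4) F) * b *
        (S : Matrix (Fin 4) (Fin 4) F)).submatrix psi.symm psi.symm) (x 1, x 2) (y 1, y 2) := by
  rw [reindex_coe, theta_symm_apply, theta_symm_apply, Units.val_mul, Units.val_mul, K1_inv_val, hk, K1_val,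
    ← Matrix.mul_kronecker_mul, ← Matrix.mul_kronecker_mul, one_mul, mul_one]
  rfl

theorem sim_transfer (S : GL (Fin 4) F) (G₂ b : Matrix (Fin 4) (Fin 4) F) (μ : F)
    (hS : (S : Matrix (Fin 4) (Fin 4) F)ᵀ * G₂ * (S : Matrix (Fin 4) (Fin 4) F) =
      (Jm F ⊗ₖ Jm F).submatrix psi psi)
    (hb : bᵀ * G₂ * b = μ • G₂) :
    ((((S⁻¹ : GL (Fin 4) F) : Matrix (Fin 4) (Fin 4) F) * b *
        (S : Matrix (Fin 4) (Fin 4) F)).submatrix psi.symm psi.symm)ᵀ * (Jm F ⊗ₖ Jm F) *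
      ((((S⁻¹ : GL (Fin 4) F) : Matrix (Fin 4) (Fin 4) F) * b *
        (S : Matrix (Fin 4) (Fin 4) F)).submatrix psi.symm psi.symm) = μ • (Jm F ⊗ₖ Jm F) := by
  have hJ : (Jm F ⊗ₖ Jm F) = ((Jm F ⊗ₖ Jm F).submatrix psi psi).submatrix psi.symm psi.symm := by
    rw [Matrix.submatrix_submatrix]
    simp
  have hSS : (S : Matrix (Fin 4) (Fin 4) F) * ((S⁻¹ : GL (Fin 4) F) : Matrix (Fin 4) (Fin 4) F) = 1 := by
    rw [← Units.val_mul, mul_inv_cancel, Units.val_one]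
  have hSS' : (((S⁻¹ : GL (Fin 4) F) : Matrix (Fin 4) (Fin 4) F))ᵀ * (S : Matrix (Fin 4) (Fin 4) F)ᵀ = 1 := by
    rw [← Matrix.transpose_mul, hSS, Matrix.transpose_one]
  have key : ((((S⁻¹ : GL (Fin 4) F) : Matrix (Fin 4) (Fin 4) F) * b * (S : Matrix (Fin 4) (Fin 4) F)))ᵀ *
      ((S : Matrix (Fin 4) (Fin 4) F)ᵀ * G₂ * (S : Matrix (Fin 4) (Fin 4) F)) *
      ((((S⁻¹ : GL (Fin 4) F) : Matrix (Fin 4) (Fin 4) F) * b * (S : Matrix (Fin 4) (Fin 4) F))) =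
      μ • ((S : Matrix (Fin 4) (Fin 4) F)ᵀ * G₂ * (S : Matrix (Fin 4) (Fin 4) F)) := by
    rw [Matrix.transpose_mul, Matrix.transpose_mul]
    calc (S : Matrix (Fin 4) (Fin 4) F)ᵀ * (bᵀ * (((S⁻¹ : GL (Fin 4) F) : Matrix (Fin 4) (Fin 4) F))ᵀ) *
          ((S : Matrix (Fin 4) (Fin 4) F)ᵀ * G₂ * (S : Matrix (Fin 4) (Fin 4) F)) *
          (((S⁻¹ : GL (Fin 4) F) : Matrix (Fin 4) (Fin 4) F) * b * (S : Matrix (Fin 4) (Fin 4) F))
        = (S : Matrix (Fin 4) (Fin 4) F)ᵀ * bᵀ * ((((S⁻¹ : GL (Fin 4) F) : Matrix (Fin 4) (Fin 4) F))ᵀ *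
            (S : Matrix (Fin 4) (Fin 4) F)ᵀ) * G₂ * ((S : Matrix (Fin 4) (Fin 4) F) *
            ((S⁻¹ : GL (Fin 4) F) : Matrix (Fin 4) (Fin 4) F)) * b * (S : Matrix (Fin 4) (Fin 4) F) := by
          simp only [Matrix.mul_assoc]
      _ = (S : Matrix (Fin 4) (Fin 4) F)ᵀ * (bᵀ * G₂ * b) * (S : Matrix (Fin 4) (Fin 4) F) := by
          rw [hSS, hSS', Matrix.mul_one, Matrix.mul_one]
          simp only [Matrix.mul_assoc]
      _ = μ • ((S : Matrix (Fin 4) (Fin 4) F)ᵀ * G₂ * (S : Matrix (Fin 4) (Fin 4) F)) := by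
          rw [hb, Matrix.mul_smul, Matrix.smul_mul, Matrix.mul_assoc]
  rw [hS] at key
  have key2 := congrArg (fun M => M.submatrix psi.symm psi.symm) key
  have e1 : (μ • (Jm F ⊗ₖ Jm F).submatrix psi psi).submatrix psi.symm psi.symm =
      μ • ((Jm F ⊗ₖ Jm F).submatrix psi psi).submatrix psi.symm psi.symm := by
    ext i j
    simp
  rw [e1, ← hJ, ← Matrix.submatrix_mul_equiv _ _ _ psi.symm _,
    ← Matrix.submatrix_mul_equiv _ _ _ psi.symm _, ← hJ, ← Matrix.transpose_submatrix] at key2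
  exact key2

theorem std_mem (h2 : (2 : F) ≠ 0) (a : GL (Fin 2) F) (c : Matrix (Fin 2 × Fin 2) (Fin 2 × Fin 2) F) (μ : F)
    (hμ : μ ≠ 0) (hc : cᵀ * (Jm F ⊗ₖ Jm F) * c = μ • (Jm F ⊗ₖ Jm F)) (k₃ : GL (Fin 3 → Fin 2) F)
    (hk₃ : ∀ x y : Fin 3 → Fin 2, (k₃ : Matrix (Fin 3 → Fin 2) (Fin 3 → Fin 2) F) x y =
      (a : Matrix (Fin 2) (Fin 2) F) (x 0) (y 0) * c (x 1, x 2) (y 1, y 2)) :
    k₃ ∈ tensorWreathStandard 2 3 F := by
  obtain ⟨b1, b2, hb1, hb2, hcc⟩ := go4_struct h2 c μ hμ hc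
  rcases hcc with hcc | hcc
  · apply Subgroup.subset_closure
    left
    refine ⟨![a, Matrix.GeneralLinearGroup.mkOfDetNeZero b1 hb1,
      Matrix.GeneralLinearGroup.mkOfDetNeZero b2 hb2], fun x y => ?_⟩
    rw [hk₃, Fin.prod_univ_three, hcc]
    simp only [Matrix.kroneckerMap_apply, Matrix.cons_val_zero, Matrix.cons_val_one, Matrix.cons_val_two,
      Matrix.GeneralLinearGroup.mkOfDetNeZero]
    ring_nf
    simp [mul_assoc]
  · have hsplit : k₃ = (k₃ * (asgd2tptpermGL 2 3 F (Equiv.swap 1 2))⁻¹) * asgd2tptpermGL 2 3 F (Equiv.swap 1 2) := by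
      group
    rw [hsplit]
    apply Subgroup.mul_mem
    · apply Subgroup.subset_closure
      left
      refine ⟨![a, Matrix.GeneralLinearGroup.mkOfDetNeZero b1 hb1,
        Matrix.GeneralLinearGroup.mkOfDetNeZero b2 hb2], fun x y => ?_⟩
      have hinv : (((asgd2tptpermGL 2 3 F (Equiv.swap 1 2))⁻¹ : GL (Fin 3 → Fin 2) F) :
          Matrix (Fin 3 → Fin 2) (Fin 3 → Fin 2) F) =
          asgd2tptpermMat 2 3 F (Equiv.swap (1 : Fin 3) 2)⁻¹ := rfl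
      rw [Units.val_mul, hinv, asgd2tptperm_mul_right, hk₃, Fin.prod_univ_three, hcc, mul_tauM]
      simp only [Matrix.kroneckerMap_apply, Matrix.cons_val_zero, Matrix.cons_val_one, Matrix.cons_val_two,
        Matrix.GeneralLinearGroup.mkOfDetNeZero, Function.comp_apply, Prod.swap_prod_mk]
      have s0 : ((Equiv.swap (1 : Fin 3) 2)⁻¹).symm 0 = 0 := by decide
      have s1 : ((Equiv.swap (1 : Fin 3) 2)⁻¹).symm 1 = 2 := by decide
      have s2 : ((Equiv.swap (1 : Fin 3) 2)⁻¹).symm 2 = 1 := by decide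
      rw [s0, s1, s2]
      ring_nf
      simp [mul_assoc]
    · apply Subgroup.subset_closure
      right
      exact asgd2tptperm_isFactorPermutation _

theorem contain_core (h2 : (2 : F) ≠ 0) (f : (ι → F) → (ι → F) → F) (e : ι ≃ Fin 2 × Fin 4) (P : GL ι F)
    (G₁ : Matrix (Fin 2) (Fin 2) F) (G₂ : Matrix (Fin 4) (Fin 4) F) (c : F) (hc : c ≠ 0) (hG₁ : G₁ ≠ 0)
    (hG₂ : G₂ ≠ 0) (S : GL (Fin 4) F)
    (hS : (S : Matrix (Fin 4) (Fin 4) F)ᵀ * G₂ * (S : Matrix (Fin 4) (Fin 4) F) =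
      (Jm F ⊗ₖ Jm F).submatrix psi psi)
    (hT : ∀ x y : Fin 2 × Fin 4 → F, f ((P : Matrix ι ι F) *ᵥ (x ∘ e)) ((P : Matrix ι ι F) *ᵥ (y ∘ e)) =
      c * formOfGram id (G₁ ⊗ₖ G₂) x y)
    (k : GL (Fin 2 × Fin 4) F) (a : GL (Fin 2) F) (b : GL (Fin 4) F)
    (hk : (k : Matrix (Fin 2 × Fin 4) (Fin 2 × Fin 4) F) =
      (a : Matrix (Fin 2) (Fin 2) F) ⊗ₖ (b : Matrix (Fin 4) (Fin 4) F))
    (hiso : ∀ u v : ι → F, f (((P * glReindex e.symm k * P⁻¹ : GL ι F) : Matrix ι ι F) *ᵥ u)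
      (((P * glReindex e.symm k * P⁻¹ : GL ι F) : Matrix ι ι F) *ᵥ v) = f u v) :
    glReindex theta ((K1 S)⁻¹ * k * K1 S) ∈ tensorWreathStandard 2 3 F := by
  have hK : ∀ x y : Fin 2 × Fin 4 → F,
      f ((P : Matrix ι ι F) *ᵥ (x ∘ e)) ((P : Matrix ι ι F) *ᵥ (y ∘ e)) =
        formOfGram id ((c • G₁) ⊗ₖ G₂) x y := by
    intro x y
    rw [hT, Matrix.smul_kronecker, fg_smul]
  obtain ⟨μ, hμ, -, hb⟩ := kr_sim f e P (c • G₁) G₂ (smul_ne_zero hc hG₁) hG₂ hK k _ _ hk hiso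
  exact std_mem h2 a _ μ⁻¹ (inv_ne_zero hμ) (sim_transfer S G₂ _ μ⁻¹ hS hb) _
    (k3_entries S k _ _ hk)

theorem perm_mulVec (σ : Equiv.Perm (Fin 3)) (x : (Fin 3 → Fin 2) → F) :
    asgd2tptpermMat 2 3 F σ *ᵥ x = fun a => x (a ∘ σ) := by
  funext a
  show ∑ z, asgd2tptpermMat 2 3 F σ a z * x z = x (a ∘ σ)
  rw [Finset.sum_eq_single (a ∘ σ)]
  · rw [asgd2tptperm_apply, if_pos rfl, one_mul]
  · intro z _ hz
    rw [asgd2tptperm_apply, if_neg hz, zero_mul]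
  · intro h
    exact absurd (Finset.mem_univ _) h

def rho (σ : Equiv.Perm (Fin 3)) : (Fin 3 → Fin 2) ≃ (Fin 3 → Fin 2) where
  toFun a := a ∘ σ
  invFun a := a ∘ σ.symm
  left_inv a := by
    funext i
    simp
  right_inv a := by
    funext i
    simp

theorem perm_iso (f : (ι → F) → (ι → F) → F) (e' : ι ≃ (Fin 3 → Fin 2)) (P' : GL ι F) (c : F)
    (G : Matrix (Fin 2) (Fin 2) F)
    (hT : ∀ x y : (Fin 3 → Fin 2) → F,
      f ((P' : Matrix ι ι F) *ᵥ (x ∘ e')) ((P' : Matrix ι ι F) *ᵥ (y ∘ e')) =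
        c * ∑ a, ∑ b, x a * (∏ i, G (a i) (b i)) * id (y b))
    (σ : Equiv.Perm (Fin 3)) (u v : ι → F) :
    f (((P' * glReindex e'.symm (asgd2tptpermGL 2 3 F σ) * P'⁻¹ : GL ι F) : Matrix ι ι F) *ᵥ u)
      (((P' * glReindex e'.symm (asgd2tptpermGL 2 3 F σ) * P'⁻¹ : GL ι F) : Matrix ι ι F) *ᵥ v) = f u v := by
  obtain ⟨x, rfl⟩ := coord_lemma e' P' u
  obtain ⟨y, rfl⟩ := coord_lemma e' P' v
  rw [act_lemma, act_lemma, hT, hT, asgd2tptperm_coe, perm_mulVec, perm_mulVec]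
  congr 1
  conv_rhs => rw [← Equiv.sum_comp (rho σ)]
  apply Finset.sum_congr rfl
  intro a _
  conv_rhs => rw [← Equiv.sum_comp (rho σ)]
  apply Finset.sum_congr rfl
  intro b _
  have hp : ∏ i, G ((rho σ a) i) ((rho σ b) i) = ∏ i, G (a i) (b i) :=
    Equiv.prod_comp σ (fun i => G (a i) (b i))
  rw [hp]
  rfl

theorem perm_not_tensor (a : Matrix (Fin 2) (Fin 2) F) (c : Matrix (Fin 2 × Fin 2) (Fin 2 × Fin 2) F) :
    ¬ ∀ x y : Fin 3 → Fin 2, asgd2tptpermMat 2 3 F (Equiv.swap 0 1) x y =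
      a (x 0) (y 0) * c (x 1, x 2) (y 1, y 2) := by
  intro h
  have h1 := h ![0, 0, 0] ![0, 0, 0]
  have h2 := h ![0, 1, 0] ![1, 0, 0]
  have h3 := h ![0, 1, 0] ![0, 0, 0]
  rw [asgd2tptperm_apply, if_pos (by decide)] at h1 h2
  rw [asgd2tptperm_apply, if_neg (by decide)] at h3
  simp only [Matrix.cons_val_zero, Matrix.cons_val_one, Matrix.cons_val_two] at h1 h2 h3
  rcases mul_eq_zero.mp h3.symm with h0 | h0
  · rw [h0, zero_mul] at h1
    exact one_ne_zero h1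
  · rw [h0, mul_zero] at h2
    exact one_ne_zero h2

theorem strict_core (e : ι ≃ Fin 2 × Fin 4) (P : GL ι F) (S : GL (Fin 4) F) :
    P * glReindex e.symm (K1 S) * glReindex (e.trans theta).symm (asgd2tptpermGL 2 3 F (Equiv.swap 0 1)) *
      (P * glReindex e.symm (K1 S))⁻¹ ∉ tensorProductSubgroup 2 4 e P := by
  intro hmem
  unfold tensorProductSubgroup at hmem
  obtain ⟨y, ⟨k, ⟨a, b, hk⟩, rfl⟩, hy⟩ := hmem
  have hy' : P * glReindex e.symm k * P⁻¹ = P * glReindex e.symm (K1 S) *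
      glReindex (e.trans theta).symm (asgd2tptpermGL 2 3 F (Equiv.swap 0 1)) *
      (P * glReindex e.symm (K1 S))⁻¹ := hy
  rw [conj_reindex e theta P (K1 S) k] at hy'
  have h1 : glReindex (e.trans theta).symm (glReindex theta ((K1 S)⁻¹ * k * K1 S)) =
      glReindex (e.trans theta).symm (asgd2tptpermGL 2 3 F (Equiv.swap 0 1)) :=
    mul_left_cancel (mul_right_cancel hy')
  have h2 : glReindex theta ((K1 S)⁻¹ * k * K1 S) = asgd2tptpermGL 2 3 F (Equiv.swap 0 1) :=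
    (glReindex (e.trans theta).symm).injective h1
  apply perm_not_tensor (a : Matrix (Fin 2) (Fin 2) F)
    ((((S⁻¹ : GL (Fin 4) F) : Matrix (Fin 4) (Fin 4) F) * (b : Matrix (Fin 4) (Fin 4) F) *
        (S : Matrix (Fin 4) (Fin 4) F)).submatrix psi.symm psi.symm)
  intro x y
  rw [← k3_entries S k _ _ hk, h2]
  rfl

end Cfsg.Agent.Lib.Helper1.T24
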