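import Mathlib
import Cfsg.Prelude.Def_GeometricClasses
import Cfsg.Agent.Lib.Helper27.ASC.Defs
import Cfsg.Agent.Lib.Helper22.ASPCFG
import Cfsg.Agent.Lib.Helper1.SPXT24f

set_option autoImplicit false
set_option linter.unusedVariables false
set_option linter.unusedSectionVars false
set_option linter.unusedSimpArgs false

namespace Cfsg.Agent.Lib.Helper1.T34

open Matrix Cfsg Cfsg.Geo Cfsg.Agent.Lib.Helper1.T24
open scoped Kronecker MatrixGroups

variable {F : Type*} [Field F] {ι : Type} [Fintype ι] [DecidableEq ι]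

theorem tauM_det : (tauM F).det = -1 := by
  have h : tauM F = (Equiv.toPEquiv (Equiv.prodComm (Fin 2) (Fin 2))).toMatrix := by
    ext p p'
    unfold tauM
    rw [PEquiv.toMatrix_apply]
    simp only [Equiv.toPEquiv_apply, Equiv.prodComm_apply, Option.mem_def, Option.some.injEq]
    by_cases hp : p' = p.swap
    · rw [if_pos hp, if_pos hp.symm]
    · rw [if_neg hp, if_neg (fun h' => hp h'.symm)]
  rw [h, Matrix.det_permutation]
  have : Equiv.Perm.sign (Equiv.prodComm (Fin 2) (Fin 2)) = -1 := by decide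
  rw [this]
  simp

def phi6 : Fin 3 × Fin 2 ≃ Fin 6 := (finProdFinEquiv : Fin 3 × Fin 2 ≃ Fin 6)

def theta34 : Fin 3 × Fin 4 ≃ Fin 2 × Fin 6 where
  toFun p := ((psi p.2).2, phi6 (p.1, (psi p.2).1))
  invFun a := ((phi6.symm a.2).1, psi.symm ((phi6.symm a.2).2, a.1))
  left_inv p := by
    simp
  right_inv a := by
    simp

theorem theta34_apply (p : Fin 3 × Fin 4) : theta34 p = ((psi p.2).2, phi6 (p.1, (psi p.2).1)) := rfl

theorem theta34_symm_apply (a : Fin 2 × Fin 6) :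
    theta34.symm a = ((phi6.symm a.2).1, psi.symm ((phi6.symm a.2).2, a.1)) := rfl

def K1g {k : ℕ} (S : GL (Fin 4) F) : GL (Fin k × Fin 4) F where
  val := (1 : Matrix (Fin k) (Fin k) F) ⊗ₖ (S : Matrix (Fin 4) (Fin 4) F)
  inv := (1 : Matrix (Fin k) (Fin k) F) ⊗ₖ ((S⁻¹ : GL (Fin 4) F) : Matrix (Fin 4) (Fin 4) F)
  val_inv := by
    rw [← Matrix.mul_kronecker_mul, ← Units.val_mul, mul_inv_cancel, Units.val_one, mul_one,
      Matrix.one_kronecker_one]
  inv_val := by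
    rw [← Matrix.mul_kronecker_mul, ← Units.val_mul, inv_mul_cancel, Units.val_one, mul_one,
      Matrix.one_kronecker_one]

theorem K1g_val {k : ℕ} (S : GL (Fin 4) F) :
    ((K1g S : GL (Fin k × Fin 4) F) : Matrix (Fin k × Fin 4) (Fin k × Fin 4) F) =
      (1 : Matrix (Fin k) (Fin k) F) ⊗ₖ (S : Matrix (Fin 4) (Fin 4) F) := rfl

theorem K1g_inv_val {k : ℕ} (S : GL (Fin 4) F) :
    (((K1g S)⁻¹ : GL (Fin k × Fin 4) F) : Matrix (Fin k × Fin 4) (Fin k × Fin 4) F) =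
      (1 : Matrix (Fin k) (Fin k) F) ⊗ₖ ((S⁻¹ : GL (Fin 4) F) : Matrix (Fin 4) (Fin 4) F) := rfl

theorem K1g_conj_gram {k : ℕ} (S : GL (Fin 4) F) (G₁ : Matrix (Fin k) (Fin k) F) (G₂ : Matrix (Fin 4) (Fin 4) F) :
    ((K1g S : GL (Fin k × Fin 4) F) : Matrix (Fin k × Fin 4) (Fin k × Fin 4) F)ᵀ * (G₁ ⊗ₖ G₂) *
      ((K1g S : GL (Fin k × Fin 4) F) : Matrix (Fin k × Fin 4) (Fin k × Fin 4) F) =
      G₁ ⊗ₖ ((S : Matrix (Fin 4) (Fin 4) F)ᵀ * G₂ * (S : Matrix (Fin 4) (Fin 4) F)) := by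
  rw [K1g_val, ← Matrix.kroneckerMap_transpose, ← Matrix.mul_kronecker_mul, ← Matrix.mul_kronecker_mul,
    Matrix.transpose_one, one_mul, mul_one]

def C6 (A : Matrix (Fin 3) (Fin 3) F) : Matrix (Fin 6) (Fin 6) F :=
  (A ⊗ₖ Jm F).submatrix phi6.symm phi6.symm

theorem C6_apply (A : Matrix (Fin 3) (Fin 3) F) (a b : Fin 6) :
    C6 A a b = A (phi6.symm a).1 (phi6.symm b).1 * Jm F (phi6.symm a).2 (phi6.symm b).2 := rfl

theorem Jm_transpose : (Jm F)ᵀ = - Jm F := by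
  ext i j
  fin_cases i <;> fin_cases j <;> simp [Jm]

theorem Jm_diag (i : Fin 2) : Jm F i i = 0 := by
  fin_cases i <;> simp [Jm]

theorem Jm_det : (Jm F).det = 1 := by
  rw [Jm, Matrix.det_fin_two_of]
  simp

theorem C6_skew (A : Matrix (Fin 3) (Fin 3) F) (hA : Aᵀ = A) : (C6 A)ᵀ = - C6 A := by
  ext a b
  rw [Matrix.transpose_apply, Matrix.neg_apply, C6_apply, C6_apply]
  have h1 : A (phi6.symm b).1 (phi6.symm a).1 = A (phi6.symm a).1 (phi6.symm b).1 := by
    have := congrFun (congrFun hA (phi6.symm a).1) (phi6.symm b).1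
    rw [Matrix.transpose_apply] at this
    exact this
  have h2 : Jm F (phi6.symm b).2 (phi6.symm a).2 = - Jm F (phi6.symm a).2 (phi6.symm b).2 := by
    have := congrFun (congrFun (Jm_transpose (F := F)) (phi6.symm a).2) (phi6.symm b).2
    rw [Matrix.transpose_apply, Matrix.neg_apply] at this
    exact this
  rw [h1, h2]
  ring

theorem C6_diag (A : Matrix (Fin 3) (Fin 3) F) (a : Fin 6) : C6 A a a = 0 := by
  rw [C6_apply, Jm_diag, mul_zero]

theorem C6_det (A : Matrix (Fin 3) (Fin 3) F) (hA : A.det ≠ 0) : (C6 A).det ≠ 0 := by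
  unfold C6
  rw [Matrix.det_submatrix_equiv_self, Matrix.det_kronecker, Jm_det, one_pow, mul_one]
  exact pow_ne_zero _ hA

end Cfsg.Agent.Lib.Helper1.T34
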