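import Mathlib
import Cfsg.Prelude.Def_GeometricClasses
import Cfsg.Agent.Lib.Helper27.ASC.Defs
import Cfsg.Agent.Lib.Helper1.E12T34a

set_option autoImplicit false
set_option linter.unusedVariables false
set_option linter.unusedSectionVars false
set_option linter.unusedSimpArgs false

namespace Cfsg.Agent.Lib.Helper1.T34

open Matrix Cfsg Cfsg.Geo Cfsg.Agent.Lib.Helper1.T24
open scoped Kronecker MatrixGroups

variable {F : Type*} [Field F] {ι : Type} [Fintype ι] [DecidableEq ι]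

theorem Jm_conj (b : M2 F) : bᵀ * Jm F * b = b.det • Jm F := by
  ext i j
  fin_cases i <;> fin_cases j <;>
    simp [Jm, Matrix.mul_apply, Fin.sum_univ_two, Matrix.det_fin_two] <;> ring

theorem tauM_transpose : (tauM F)ᵀ = tauM F := by
  ext p q
  rw [Matrix.transpose_apply]
  unfold tauM
  by_cases h : q = p.swap
  · rw [if_pos h, if_pos (by rw [h, Prod.swap_swap])]
  · rw [if_neg h, if_neg]
    intro h'
    apply h
    rw [h', Prod.swap_swap]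

theorem tauM_mul (M : Matrix (Fin 2 × Fin 2) (Fin 2 × Fin 2) F) (p q : Fin 2 × Fin 2) :
    (tauM F * M) p q = M p.swap q := by
  rw [Matrix.mul_apply, Finset.sum_eq_single p.swap]
  · unfold tauM
    rw [if_pos rfl, one_mul]
  · intro r _ hr
    unfold tauM
    rw [if_neg hr, zero_mul]
  · intro h
    exact absurd (Finset.mem_univ _) h

theorem tauM_conj : (tauM F)ᵀ * (Jm F ⊗ₖ Jm F) * tauM F = Jm F ⊗ₖ Jm F := by
  ext p q
  rw [tauM_transpose, mul_tauM, tauM_mul]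
  simp only [Matrix.kroneckerMap_apply, Prod.fst_swap, Prod.snd_swap]
  ring

theorem swap_sim (b1 b2 : M2 F) :
    ((b1 ⊗ₖ b2) * tauM F)ᵀ * (Jm F ⊗ₖ Jm F) * ((b1 ⊗ₖ b2) * tauM F) =
      (b1.det * b2.det) • (Jm F ⊗ₖ Jm F) := by
  rw [Matrix.transpose_mul]
  have h1 : (b1 ⊗ₖ b2)ᵀ * (Jm F ⊗ₖ Jm F) * (b1 ⊗ₖ b2) = (b1.det * b2.det) • (Jm F ⊗ₖ Jm F) := by
    rw [← Matrix.kroneckerMap_transpose, ← Matrix.mul_kronecker_mul, ← Matrix.mul_kronecker_mul, Jm_conj, Jm_conj,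
      Matrix.smul_kronecker, Matrix.kronecker_smul, smul_smul]
  calc (tauM F)ᵀ * (b1 ⊗ₖ b2)ᵀ * (Jm F ⊗ₖ Jm F) * ((b1 ⊗ₖ b2) * tauM F)
      = (tauM F)ᵀ * ((b1 ⊗ₖ b2)ᵀ * (Jm F ⊗ₖ Jm F) * (b1 ⊗ₖ b2)) * tauM F := by
        simp only [Matrix.mul_assoc]
    _ = (b1.det * b2.det) • (Jm F ⊗ₖ Jm F) := by
        rw [h1, Matrix.mul_smul, Matrix.smul_mul, tauM_conj]

theorem JJ_ne_zero : (Jm F ⊗ₖ Jm F) ≠ 0 := by
  intro h
  have := congrFun (congrFun h (0, 0)) (1, 1)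
  simp [Jm] at this

theorem swap_det (b1 b2 : M2 F) : ((b1 ⊗ₖ b2) * tauM F).det = - (b1.det * b2.det) ^ 2 := by
  rw [Matrix.det_mul, Matrix.det_kronecker, tauM_det]
  simp only [Fintype.card_fin]
  ring

theorem form34 (f : (ι → F) → (ι → F) → F) (e : ι ≃ Fin 3 × Fin 4) (P : GL ι F)
    (A : Matrix (Fin 3) (Fin 3) F) (B : Matrix (Fin 4) (Fin 4) F) (S : GL (Fin 4) F)
    (hS : (S : Matrix (Fin 4) (Fin 4) F)ᵀ * B * (S : Matrix (Fin 4) (Fin 4) F) =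
      (Jm F ⊗ₖ Jm F).submatrix psi psi)
    (hAB : ∀ x y : Fin 3 × Fin 4 → F, f ((P : Matrix ι ι F) *ᵥ (x ∘ e)) ((P : Matrix ι ι F) *ᵥ (y ∘ e)) =
      formOfGram id (A ⊗ₖ B) x y) (x y : Fin 2 × Fin 6 → F) :
    f (((P * glReindex e.symm (K1g S) : GL ι F) : Matrix ι ι F) *ᵥ (x ∘ (e.trans theta34)))
      (((P * glReindex e.symm (K1g S) : GL ι F) : Matrix ι ι F) *ᵥ (y ∘ (e.trans theta34))) =
      formOfGram id (Jm F ⊗ₖ C6 A) x y := by
  rw [pvec, pvec, hAB, fg_conj, K1g_conj_gram, hS]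
  unfold formOfGram
  conv_rhs => rw [← Equiv.sum_comp theta34]
  apply Finset.sum_congr rfl
  intro p _
  conv_rhs => rw [← Equiv.sum_comp theta34]
  apply Finset.sum_congr rfl
  intro q _
  simp only [Function.comp_apply, Matrix.kroneckerMap_apply, Matrix.submatrix_apply, id, theta34_apply, C6_apply,
    Equiv.symm_apply_apply]
  ring

end Cfsg.Agent.Lib.Helper1.T34
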