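import Mathlib
import Cfsg.Prelude.Def_GeometricClasses
import Cfsg.Agent.Lib.Helper27.ASC.Defs
import Cfsg.Agent.Lib.Helper1.E12T34b

set_option autoImplicit false
set_option linter.unusedVariables false
set_option linter.unusedSectionVars false
set_option linter.unusedSimpArgs false

namespace Cfsg.Agent.Lib.Helper1.T34

open Matrix Cfsg Cfsg.Geo Cfsg.Agent.Lib.Helper1.T24
open scoped Kronecker MatrixGroups

variable {F : Type*} [Field F] {ι : Type} [Fintype ι] [DecidableEq ι]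

theorem k34_entries (S : GL (Fin 4) F) (k : GL (Fin 3 × Fin 4) F) (a : Matrix (Fin 3) (Fin 3) F)
    (b : Matrix (Fin 4) (Fin 4) F)
    (hk : (k : Matrix (Fin 3 × Fin 4) (Fin 3 × Fin 4) F) = a ⊗ₖ b) (x y : Fin 2 × Fin 6) :
    ((glReindex theta34 ((K1g S)⁻¹ * k * K1g S) : GL (Fin 2 × Fin 6) F) :
      Matrix (Fin 2 × Fin 6) (Fin 2 × Fin 6) F) x y =
      a (phi6.symm x.2).1 (phi6.symm y.2).1 * ((((S⁻¹ : GL (Fin 4) F) : Matrix (Fin 4) (Fin 4) F) * b *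
        (S : Matrix (Fin 4) (Fin 4) F)).submatrix psi.symm psi.symm)
          ((phi6.symm x.2).2, x.1) ((phi6.symm y.2).2, y.1) := by
  rw [reindex_coe, theta34_symm_apply, theta34_symm_apply, Units.val_mul, Units.val_mul, K1g_inv_val, hk, K1g_val,
    ← Matrix.mul_kronecker_mul, ← Matrix.mul_kronecker_mul, one_mul, mul_one]
  rfl

def c6GL (a : GL (Fin 3) F) (b1 : M2 F) (hb1 : b1.det ≠ 0) : GL (Fin 6) F :=
  Matrix.GeneralLinearGroup.mkOfDetNeZero
    (((a : Matrix (Fin 3) (Fin 3) F) ⊗ₖ b1).submatrix phi6.symm phi6.symm) (by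
      rw [Matrix.det_submatrix_equiv_self, Matrix.det_kronecker]
      exact mul_ne_zero (pow_ne_zero _ (Matrix.GeneralLinearGroup.det_ne_zero a)) (pow_ne_zero _ hb1))

theorem c6GL_val (a : GL (Fin 3) F) (b1 : M2 F) (hb1 : b1.det ≠ 0) :
    ((c6GL a b1 hb1 : GL (Fin 6) F) : Matrix (Fin 6) (Fin 6) F) =
      ((a : Matrix (Fin 3) (Fin 3) F) ⊗ₖ b1).submatrix phi6.symm phi6.symm := rfl

theorem det_conjS (S : GL (Fin 4) F) (b : Matrix (Fin 4) (Fin 4) F) :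
    ((((S⁻¹ : GL (Fin 4) F) : Matrix (Fin 4) (Fin 4) F) * b *
        (S : Matrix (Fin 4) (Fin 4) F)).submatrix psi.symm psi.symm).det = b.det := by
  rw [Matrix.det_submatrix_equiv_self, Matrix.det_mul, Matrix.det_mul]
  have h : ((S⁻¹ : GL (Fin 4) F) : Matrix (Fin 4) (Fin 4) F).det * (S : Matrix (Fin 4) (Fin 4) F).det = 1 := by
    rw [← Matrix.det_mul, ← Units.val_mul, inv_mul_cancel, Units.val_one, Matrix.det_one]
  calc ((S⁻¹ : GL (Fin 4) F) : Matrix (Fin 4) (Fin 4) F).det * b.det * (S : Matrix (Fin 4) (Fin 4) F).det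
      = b.det * (((S⁻¹ : GL (Fin 4) F) : Matrix (Fin 4) (Fin 4) F).det * (S : Matrix (Fin 4) (Fin 4) F).det) := by
        ring
    _ = b.det := by rw [h, mul_one]

theorem contain34 (h2 : (2 : F) ≠ 0) (f : (ι → F) → (ι → F) → F) (e : ι ≃ Fin 3 × Fin 4) (P : GL ι F)
    (A : Matrix (Fin 3) (Fin 3) F) (B : Matrix (Fin 4) (Fin 4) F) (hAdet : A.det ≠ 0) (hB0 : B ≠ 0)
    (S : GL (Fin 4) F)
    (hS : (S : Matrix (Fin 4) (Fin 4) F)ᵀ * B * (S : Matrix (Fin 4) (Fin 4) F) =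
      (Jm F ⊗ₖ Jm F).submatrix psi psi)
    (hAB : ∀ x y : Fin 3 × Fin 4 → F, f ((P : Matrix ι ι F) *ᵥ (x ∘ e)) ((P : Matrix ι ι F) *ᵥ (y ∘ e)) =
      formOfGram id (A ⊗ₖ B) x y)
    (k : GL (Fin 3 × Fin 4) F) (a : GL (Fin 3) F) (b : GL (Fin 4) F)
    (hk : (k : Matrix (Fin 3 × Fin 4) (Fin 3 × Fin 4) F) =
      (a : Matrix (Fin 3) (Fin 3) F) ⊗ₖ (b : Matrix (Fin 4) (Fin 4) F))
    (hiso : ∀ u v : ι → F, f (((P * glReindex e.symm k * P⁻¹ : GL ι F) : Matrix ι ι F) *ᵥ u)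
      (((P * glReindex e.symm k * P⁻¹ : GL ι F) : Matrix ι ι F) *ᵥ v) = f u v)
    (hdet : (k : Matrix (Fin 3 × Fin 4) (Fin 3 × Fin 4) F).det = 1) :
    glReindex theta34 ((K1g S)⁻¹ * k * K1g S) ∈ kroneckerSubgroup 2 6 F := by
  have hA0 : A ≠ 0 := by
    intro h
    apply hAdet
    rw [h, Matrix.det_zero]
  obtain ⟨μ, hμ, ha, hb⟩ := kr_sim f e P A B hA0 hB0 hAB k _ _ hk hiso
  have hb'' := sim_transfer S B _ μ⁻¹ hS hb
  obtain ⟨b1, b2, hb1, hb2, hcc⟩ := go4_struct h2 _ μ⁻¹ (inv_ne_zero hμ) hb''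
  rcases hcc with hcc | hcc
  · refine ⟨Matrix.GeneralLinearGroup.mkOfDetNeZero b2 hb2, c6GL a b1 hb1, ?_⟩
    ext x y
    rw [k34_entries S k _ _ hk, hcc, c6GL_val]
    simp only [Matrix.kroneckerMap_apply, Matrix.submatrix_apply, Matrix.GeneralLinearGroup.mkOfDetNeZero]
    ring_nf
    simp [mul_assoc, mul_comm, mul_left_comm]
  · exfalso
    have hd : b1.det * b2.det = μ⁻¹ := by
      have h1 := swap_sim b1 b2
      rw [← hcc, hb''] at h1
      have h3 := congrFun (congrFun h1 (0, 0)) (1, 1)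
      simp [Jm] at h3
      exact h3.symm
    have hdb : (b : Matrix (Fin 4) (Fin 4) F).det = - (μ⁻¹) ^ 2 := by
      rw [← det_conjS S, hcc, swap_det, hd]
    have hda : (a : Matrix (Fin 3) (Fin 3) F).det ^ 2 = μ ^ 3 := by
      have h1 := congrArg Matrix.det ha
      rw [Matrix.det_mul, Matrix.det_mul, Matrix.det_transpose, Matrix.det_smul, Fintype.card_fin] at h1
      have h3 : (a : Matrix (Fin 3) (Fin 3) F).det ^ 2 * A.det = μ ^ 3 * A.det := by
        rw [← h1]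
        ring
      exact mul_right_cancel₀ hAdet h3
    rw [hk, Matrix.det_kronecker, hdb] at hdet
    simp only [Fintype.card_fin] at hdet
    have h4 : (a : Matrix (Fin 3) (Fin 3) F).det ^ 4 = μ ^ 6 := by
      calc (a : Matrix (Fin 3) (Fin 3) F).det ^ 4 = ((a : Matrix (Fin 3) (Fin 3) F).det ^ 2) ^ 2 := by ring
        _ = μ ^ 6 := by rw [hda]; ring
    rw [h4] at hdet
    have h5 : μ ^ 6 * (-(μ⁻¹) ^ 2) ^ 3 = -1 := by
      field_simp
    rw [h5] at hdet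
    apply h2
    have : (2 : F) = 1 - (-1) := by ring
    rw [this, hdet]
    ring

end Cfsg.Agent.Lib.Helper1.T34
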