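import Mathlib
import Cfsg.Prelude.Def_GeometricClasses
import Cfsg.Agent.Lib.Helper27.ASC.Defs
import Cfsg.Agent.Lib.Helper1.E12T34c

set_option autoImplicit false
set_option linter.unusedVariables false
set_option linter.unusedSectionVars false
set_option linter.unusedSimpArgs false

namespace Cfsg.Agent.Lib.Helper1.T34

open Matrix Cfsg Cfsg.Geo Cfsg.Agent.Lib.Helper1.T24
open scoped Kronecker MatrixGroups

variable {F : Type*} [Field F] {ι : Type} [Fintype ι] [DecidableEq ι]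

theorem t34_plus_refine (h2 : (2 : F) ≠ 0) (Q : QuadraticForm F (ι → F))
    (e : ι ≃ Fin 3 × Fin 4) (P : GL ι F) (A : Matrix (Fin 3) (Fin 3) F) (B : Matrix (Fin 4) (Fin 4) F)
    (hA : A.det ≠ 0) (hB : B.det ≠ 0) (hAs : Aᵀ = A) (hBs : Bᵀ = B)
    (hAB : ∀ x y : Fin 3 × Fin 4 → F,
      QuadraticMap.polar (⇑Q) ((P : Matrix ι ι F) *ᵥ (x ∘ e)) ((P : Matrix ι ι F) *ᵥ (y ∘ e)) =
        formOfGram id (A ⊗ₖ B) x y)
    (hplus : IsPlusTypeOn (fun v : Fin 4 → F => formOfGram id B v v) ⊤) :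
    ∃ (e' : ι ≃ Fin 2 × Fin 6) (P' : GL ι F) (f₁ : (Fin 2 → F) → (Fin 2 → F) → F)
      (f₂ : (Fin 6 → F) → (Fin 6 → F) → F),
      IsSymplecticForm f₁ ∧ IsSymplecticForm f₂ ∧
      IsTensorFormStructure id (QuadraticMap.polar (⇑Q)) f₁ f₂ e' P' ∧
      (∀ (x₁ : Fin 2 → F) (x₂ : Fin 6 → F),
        Q ((P' : Matrix ι ι F) *ᵥ ((fun a : Fin 2 × Fin 6 => x₁ a.1 * x₂ a.2) ∘ e')) = 0) ∧
      ∀ g ∈ tensorProductSubgroup 3 4 e P,
        (∀ u v : ι → F, QuadraticMap.polar (⇑Q) ((g : Matrix ι ι F) *ᵥ u) ((g : Matrix ι ι F) *ᵥ v) =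
          QuadraticMap.polar (⇑Q) u v) →
        (g : Matrix ι ι F).det = 1 → g ∈ tensorProductSubgroup 2 6 e' P' := by
  classical
  have hsym := Cfsg.Agent.Lib.Helper18.ASP.spc_formOfGram_symmetric B hB hBs
  obtain ⟨S, hS⟩ := plus_normal h2 (formOfGram id B) hsym hplus psi
  rw [Cfsg.Agent.Lib.Helper18.ASP.spc_gram_formOfGram] at hS
  have hB0 : B ≠ 0 := by
    intro h
    apply hB
    rw [h, Matrix.det_zero]
  have hform := form34 (QuadraticMap.polar (⇑Q)) e P A B S hS hAB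
  refine ⟨e.trans theta34, P * glReindex e.symm (K1g S), formOfGram id (Jm F), formOfGram id (C6 A),
    Cfsg.Agent.Lib.Helper18.ASP.spc_formOfGram_symplectic (Jm F) (by rw [Jm_det]; exact one_ne_zero)
      Jm_transpose Jm_diag,
    Cfsg.Agent.Lib.Helper18.ASP.spc_formOfGram_symplectic (C6 A) (C6_det A hA) (C6_skew A hAs) (C6_diag A),
    ⟨1, one_ne_zero, fun x y => ?_⟩, ?_, ?_⟩
  · rw [Cfsg.Agent.Lib.Helper18.ASP.spc_gram_formOfGram, Cfsg.Agent.Lib.Helper18.ASP.spc_gram_formOfGram, one_mul]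
    exact hform x y
  · intro x₁ x₂
    have h1 := hform (fun a : Fin 2 × Fin 6 => x₁ a.1 * x₂ a.2) (fun a : Fin 2 × Fin 6 => x₁ a.1 * x₂ a.2)
    have h3 : formOfGram id (Jm F ⊗ₖ C6 A) (fun a : Fin 2 × Fin 6 => x₁ a.1 * x₂ a.2)
        (fun a : Fin 2 × Fin 6 => x₁ a.1 * x₂ a.2) = 0 := by
      have h4 := Cfsg.Agent.Lib.Helper28.OTens.pt_form (Jm F) (C6 A) x₁ x₁ x₂ x₂
      have h5 : (∑ a, ∑ a', x₁ a * Jm F a a' * x₁ a') = 0 :=
        Cfsg.Agent.Lib.Helper18.ASP.aspcfg_alternating (Jm F) Jm_transpose Jm_diag x₁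
      rw [h5, zero_mul] at h4
      exact h4
    rw [h3, QuadraticMap.polar_self, two_smul, ← two_mul] at h1
    exact (mul_eq_zero.mp h1).resolve_left h2
  · intro g hg hiso hdet
    unfold tensorProductSubgroup at hg
    obtain ⟨y, ⟨k, ⟨a, b, hk⟩, rfl⟩, rfl⟩ := hg
    have hgg : (MulAut.conj P).toMonoidHom ((glReindex e.symm).toMonoidHom k) =
        P * glReindex e.symm k * P⁻¹ := rfl
    rw [hgg] at hiso hdet ⊢
    have hdk : (k : Matrix (Fin 3 × Fin 4) (Fin 3 × Fin 4) F).det = 1 := by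
      rw [Units.val_mul, Units.val_mul, Matrix.det_units_conj] at hdet
      have h2' : ((glReindex e.symm k : GL ι F) : Matrix ι ι F) =
          (k : Matrix (Fin 3 × Fin 4) (Fin 3 × Fin 4) F).submatrix e e := rfl
      rw [h2', Matrix.det_submatrix_equiv_self] at hdet
      exact hdet
    have hmem := contain34 h2 (QuadraticMap.polar (⇑Q)) e P A B hA hB0 S hS hAB k a b hk hiso hdk
    rw [conj_reindex e theta34 P (K1g S) k]
    unfold tensorProductSubgroup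
    exact ⟨_, ⟨_, hmem, rfl⟩, rfl⟩

end Cfsg.Agent.Lib.Helper1.T34
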