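import Mathlib
import Cfsg.Agent.Lib.Helper1.AlperinUse

set_option autoImplicit false

namespace Cfsg.Agent.Lib.Helper1

open Cfsg.Agent.Lib.Helper13 Cfsg.Agent.S0116

universe u

variable {G : Type u} [Group G]

inductive EChain (E : Subgroup G → G → Prop) : Subgroup G → G → Prop
  | nil (R : Subgroup G) : EChain E R 1
  | cons (R T : Subgroup G) (x g : G) (hE : E T x) (hRT : R ≤ T)
      (h : EChain E (rc R x) g) : EChain E R (x * g)

namespace EChain

variable {E : Subgroup G → G → Prop}

theorem mono {R : Subgroup G} {g : G} (h : EChain E R g) :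
    ∀ {R' : Subgroup G}, R' ≤ R → EChain E R' g := by
  induction h with
  | nil R => intro R' _; exact EChain.nil R'
  | cons R T x g hE hRT _ ih =>
    intro R' hR'
    exact EChain.cons R' T x g hE (hR'.trans hRT) (ih (rc_mono hR' x))

theorem single {R T : Subgroup G} {x : G} (hE : E T x) (hRT : R ≤ T) : EChain E R x := by
  have := EChain.cons R T x 1 hE hRT (EChain.nil _)
  rwa [mul_one] at this

theorem append {R : Subgroup G} {g : G} (h : EChain E R g) :
    ∀ {k : G}, EChain E (rc R g) k → EChain E R (g * k) := by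
  induction h with
  | nil R =>
    intro k hk
    rw [rc_one] at hk
    rw [one_mul]
    exact hk
  | cons R T x g hE hRT _ ih =>
    intro k hk
    rw [mul_assoc]
    apply EChain.cons R T x (g * k) hE hRT
    apply ih
    rwa [rc_rc]

end EChain

theorem EChain.exists_fin {E : Subgroup G → G → Prop} {R : Subgroup G} {g : G}
    (h : EChain E R g) :
    ∀ (A : Set G), A ⊆ R →
    ∃ (n : ℕ) (T : Fin n → Subgroup G) (x : Fin n → G), (List.ofFn x).prod = g ∧
      (∀ i, E (T i) (x i)) ∧
      (∀ h : 0 < n, A ⊆ T ⟨0, h⟩) ∧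
      ∀ (i : Fin n) (h : i.val + 1 < n),
        (fun a => (((List.ofFn x).take (i.val + 1)).prod)⁻¹ * a * ((List.ofFn x).take (i.val + 1)).prod) '' A ⊆
          T ⟨i.val + 1, h⟩ := by
  induction h with
  | nil R =>
    intro A _
    exact ⟨0, Fin.elim0, Fin.elim0, by simp, fun i => i.elim0,
      fun h => absurd h (lt_irrefl 0), fun i => i.elim0⟩
  | cons R T x g hE hRT _ ih =>
    intro A hA
    have hA' : (fun a => x⁻¹ * a * x) '' A ⊆ ((rc R x : Subgroup G) : Set G) := by
      rintro _ ⟨a, ha, rfl⟩
      exact rc_mem (hA ha)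
    obtain ⟨n, T', x', hprod, hF, h0, hstep⟩ := ih _ hA'
    have hlist : List.ofFn (Fin.cons x x' : Fin (n + 1) → G) = x :: List.ofFn x' := by
      rw [List.ofFn_succ]
      simp
    refine ⟨n + 1, Fin.cons T T', Fin.cons x x', ?_, ?_, ?_, ?_⟩
    · rw [hlist, List.prod_cons, hprod]
    · intro i
      refine Fin.cases ?_ (fun j => ?_) i
      · simpa using hE
      · simpa using hF j
    · intro _
      show A ⊆ ((Fin.cons T T' : Fin (n + 1) → Subgroup G) 0 : Subgroup G)
      rw [Fin.cons_zero]
      exact fun a ha => hRT (hA ha)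
    · rintro ⟨iv, hiv⟩ h
      have h' : iv + 1 < n + 1 := h
      have hivn : iv < n := by omega
      have hT'idx : (Fin.cons T T' : Fin (n + 1) → Subgroup G) ⟨iv + 1, h⟩ =
          T' ⟨iv, hivn⟩ := by
        have : (⟨iv + 1, h⟩ : Fin (n + 1)) = Fin.succ ⟨iv, hivn⟩ := rfl
        rw [this, Fin.cons_succ]
      show (fun a => (((List.ofFn (Fin.cons x x' : Fin (n + 1) → G)).take (iv + 1)).prod)⁻¹ * a *
        ((List.ofFn (Fin.cons x x' : Fin (n + 1) → G)).take (iv + 1)).prod) '' A ⊆ _
      rw [hT'idx, hlist, List.take_succ_cons, List.prod_cons]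
      rintro _ ⟨a, ha, rfl⟩
      cases iv with
      | zero =>
        have hn : 0 < n := by omega
        have := h0 hn ⟨a, ha, rfl⟩
        simpa [mul_assoc] using this
      | succ j =>
        have hj : j + 1 < n := by omega
        have hj' : j < n := by omega
        have := hstep ⟨j, hj'⟩ hj ⟨x⁻¹ * a * x, ⟨a, ha, rfl⟩, rfl⟩
        have e : (x * ((List.ofFn x').take (j + 1)).prod)⁻¹ * a * (x * ((List.ofFn x').take (j + 1)).prod) =
            (((List.ofFn x').take (j + 1)).prod)⁻¹ * (x⁻¹ * a * x) * ((List.ofFn x').take (j + 1)).prod := by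
          group
        show (x * ((List.ofFn x').take (j + 1)).prod)⁻¹ * a * (x * ((List.ofFn x').take (j + 1)).prod) ∈ _
        rw [e]
        exact this

def PStep (p : ℕ) (P : Subgroup G) (T : Subgroup G) (x : G) : Prop :=
  T ∈ tame p P ∧ x ∈ Subgroup.normalizer (T : Set G) ∧ (T = P ∨ ∃ k : ℕ, orderOf x = p ^ k)

theorem pchain_of_mem_sup [Finite G] {p : ℕ} [Fact p.Prime] {P T S₁ S₂ : Subgroup G}
    (hT : T ∈ tame p P)
    (h₁ : S₁ ≤ Subgroup.normalizer (T : Set G)) (h₂ : S₂ ≤ Subgroup.normalizer (T : Set G))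
    (hp₁ : IsPGroup p S₁) (hp₂ : IsPGroup p S₂) (z : G) (hz : z ∈ S₁ ⊔ S₂) :
    z ∈ Subgroup.normalizer (T : Set G) ∧ ∀ R : Subgroup G, R ≤ T → EChain (PStep p P) R z := by
  have hmul : ∀ a b : G,
      (a ∈ Subgroup.normalizer (T : Set G) ∧ ∀ R : Subgroup G, R ≤ T → EChain (PStep p P) R a) →
      (b ∈ Subgroup.normalizer (T : Set G) ∧ ∀ R : Subgroup G, R ≤ T → EChain (PStep p P) R b) →
      (a * b ∈ Subgroup.normalizer (T : Set G) ∧
        ∀ R : Subgroup G, R ≤ T → EChain (PStep p P) R (a * b)) := by
    rintro a b ⟨ha1, ha2⟩ ⟨hb1, hb2⟩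
    refine ⟨Subgroup.mul_mem _ ha1 hb1, fun R hR => ?_⟩
    apply (ha2 R hR).append
    apply hb2
    have := rc_mono hR a
    rwa [rc_of_mem_normalizer ha1] at this
  have hone : (1 : G) ∈ Subgroup.normalizer (T : Set G) ∧
      ∀ R : Subgroup G, R ≤ T → EChain (PStep p P) R 1 :=
    ⟨Subgroup.one_mem _, fun R _ => EChain.nil R⟩
  have hpow : ∀ (a : G) (k : ℕ),
      (a ∈ Subgroup.normalizer (T : Set G) ∧ ∀ R : Subgroup G, R ≤ T → EChain (PStep p P) R a) →
      (a ^ k ∈ Subgroup.normalizer (T : Set G) ∧
        ∀ R : Subgroup G, R ≤ T → EChain (PStep p P) R (a ^ k)) := by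
    intro a k ha
    induction k with
    | zero => rw [pow_zero]; exact hone
    | succ k ih => rw [pow_succ]; exact hmul _ _ ih ha
  have hgen : ∀ (S : Subgroup G), S ≤ Subgroup.normalizer (T : Set G) → IsPGroup p S → ∀ a ∈ S,
      (a ∈ Subgroup.normalizer (T : Set G) ∧ ∀ R : Subgroup G, R ≤ T → EChain (PStep p P) R a) := by
    intro S hS hpS a ha
    refine ⟨hS ha, fun R hR => ?_⟩
    apply EChain.single ?_ hR
    refine ⟨hT, hS ha, Or.inr ?_⟩
    obtain ⟨k, hk⟩ := (IsPGroup.iff_orderOf.mp hpS) ⟨a, ha⟩
    exact ⟨k, by rw [← hk, Subgroup.orderOf_mk]⟩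
  rw [Subgroup.sup_eq_closure] at hz
  induction hz using Subgroup.closure_induction with
  | mem a ha =>
    rcases ha with ha | ha
    · exact hgen S₁ h₁ hp₁ a ha
    · exact hgen S₂ h₂ hp₂ a ha
  | one => exact hone
  | mul a b _ _ ha hb => exact hmul a b ha hb
  | inv a _ ha =>
    have e : a⁻¹ = a ^ (orderOf a - 1) := by
      apply inv_eq_of_mul_eq_one_right
      rw [← pow_succ', Nat.sub_add_cancel (orderOf_pos a), pow_orderOf_eq_one]
    rw [e]
    exact hpow a _ ha

theorem pchain [Finite G] {p : ℕ} [Fact p.Prime] (P : Sylow p G) :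
    ∀ (n : ℕ) (D : Subgroup G), D ≤ (P : Subgroup G) →
      Nat.card (P : Subgroup G) - Nat.card D ≤ n →
      ∀ g : G, rc D g ≤ (P : Subgroup G) → EChain (PStep p (P : Subgroup G)) D g := by
  have hPp : IsPGroup p (P : Subgroup G) := P.2
  have hPtame : (P : Subgroup G) ∈ tame p (P : Subgroup G) := by
    have h1 : ¬ p ∣ ((P : Subgroup G) ⊓ Subgroup.normalizer ((P : Subgroup G) : Set G)).relIndex
        (Subgroup.normalizer ((P : Subgroup G) : Set G)) := by
      rw [inf_eq_left.mpr Subgroup.le_normalizer]
      intro h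
      exact P.not_dvd_index (dvd_trans h (Subgroup.relIndex_dvd_index_of_le Subgroup.le_normalizer))
    exact ⟨P, hPp, rfl, (inf_idem _).symm, h1, h1⟩
  intro n
  induction n with
  | zero =>
    intro D hDP hn g hg
    have hD : D = P := Subgroup.eq_of_le_of_card_ge hDP (by omega)
    subst hD
    have hgN : g ∈ Subgroup.normalizer ((P : Subgroup G) : Set G) := by
      have h1 : g⁻¹ ∈ Subgroup.normalizer ((P : Subgroup G) : Set G) := by
        apply mem_normalizer_of_cj_le
        exact hg
      simpa using Subgroup.inv_mem _ h1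
    exact EChain.single ⟨hPtame, hgN, Or.inl rfl⟩ le_rfl
  | succ n ih =>
    intro D hDP hn g hg
    have chain := alperin_chain P D hDP g hg
    have inner : ∀ {R : Subgroup G} {g : G}, ConjChain (tame p (P : Subgroup G)) R g →
        R ≤ (P : Subgroup G) → Nat.card (P : Subgroup G) - Nat.card R ≤ n + 1 →
        EChain (PStep p (P : Subgroup G)) R g := by
      intro R g hc
      induction hc with
      | nil R => intro _ _; exact EChain.nil R
      | cons R T x g' hT hx hRT _ ih2 =>
        intro hRP hRn
        have hTP : T ≤ (P : Subgroup G) := by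
          obtain ⟨Q, _, _, hTdef, _⟩ := hT
          rw [hTdef]
          exact inf_le_left
        have hrc : rc R x ≤ T := by
          have := rc_mono hRT x
          rwa [rc_of_mem_normalizer hx] at this
        have hstep : EChain (PStep p (P : Subgroup G)) R x := by
          by_cases hTeq : T = P
          · exact EChain.single ⟨hT, hx, Or.inl hTeq⟩ hRT
          · obtain ⟨N, hN⟩ : ∃ N : Subgroup G, N = Subgroup.normalizer (T : Set G) := ⟨_, rfl⟩
            obtain ⟨S, hS⟩ : ∃ S : Subgroup G, S = (P : Subgroup G) ⊓ N := ⟨_, rfl⟩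
            have hSN : S ≤ N := hS ▸ inf_le_right
            have hSP : S ≤ (P : Subgroup G) := hS ▸ inf_le_left
            have hSp : IsPGroup p S := hPp.to_le hSP
            have hSidx : ¬ p ∣ S.relIndex N := by
              obtain ⟨Q, _, _, _, h1, _⟩ := hT
              rw [hS, hN]
              exact h1
            have hTS : Nat.card T < Nat.card S := by
              rw [hS, hN]
              exact card_lt_card_inf_normalizer hPp hTP hTeq
            have hTleS : T ≤ S := by
              rw [hS, hN]
              exact le_inf hTP Subgroup.le_normalizer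
            have hxN : x ∈ N := hN ▸ hx
            obtain ⟨S', hS'⟩ : ∃ S' : Subgroup G, S' = S.map (MulAut.conj x).toMonoidHom := ⟨_, rfl⟩
            have hS'N : S' ≤ N := by
              rw [hS']
              rintro _ ⟨s, hs, rfl⟩
              show x * s * x⁻¹ ∈ N
              exact N.mul_mem (N.mul_mem hxN (hSN hs)) (N.inv_mem hxN)
            have hS'p : IsPGroup p S' := hS' ▸ isPGroup_cj x hSp
            have hLN : S ⊔ S' ≤ N := sup_le hSN hS'N
            have hSL : ¬ p ∣ S.relIndex (S ⊔ S') := by
              intro hdvd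
              apply hSidx
              rw [← Subgroup.relIndex_mul_relIndex S (S ⊔ S') N le_sup_left hLN]
              exact Dvd.dvd.mul_right hdvd _
            obtain ⟨y, hyL, hy⟩ := exists_mem_cj_le_of_relIndex (Q := S) (R := S') (N := S ⊔ S')
              le_sup_left hSp hSL le_sup_right hS'p
            have hyN : y ∈ N := hLN hyL
            have hmS : y * x ∈ Subgroup.normalizer (S : Set G) := by
              apply mem_normalizer_of_cj_le
              rw [← cj_cj, ← hS']
              exact hy
            have hyinv := pchain_of_mem_sup (P := (P : Subgroup G)) hT (hN ▸ hSN) (hN ▸ hS'N) hSp hS'p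
              y⁻¹ (Subgroup.inv_mem _ hyL)
            have hcardS : Nat.card S ≤ Nat.card (P : Subgroup G) := Subgroup.card_le_of_le hSP
            have hcardR : Nat.card R ≤ Nat.card T := Subgroup.card_le_of_le hRT
            have hm : EChain (PStep p (P : Subgroup G)) S (y * x) := by
              apply ih S hSP (by omega)
              rw [rc_of_mem_normalizer hmS]
              exact hSP
            have e : x = y⁻¹ * (y * x) := by group
            rw [e]
            apply (hyinv.2 R hRT).append
            apply hm.mono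
            have h5 := rc_mono hRT y⁻¹
            rw [rc_of_mem_normalizer hyinv.1] at h5
            exact h5.trans hTleS
        apply hstep.append
        apply ih2 (hrc.trans hTP)
        rw [card_rc]
        exact hRn
    exact inner chain hDP hn

end Cfsg.Agent.Lib.Helper1
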