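import Mathlib
import Cfsg.Prelude.Def_GeometricClasses
import Cfsg.Agent.Lib.Helper13.EIG.Defs
import Cfsg.Agent.Lib.Helper13.EIG.Basic
import Cfsg.Agent.Lib.Helper24.ElT

set_option autoImplicit false
set_option linter.unusedVariables false
set_option linter.unusedSectionVars false

namespace Cfsg.Agent.Lib.Helper13.EIG

open Matrix

variable {n : ℕ} {F : Type*} [Field F] {r : ℕ}
  {S : Subgroup (Matrix.GeneralLinearGroup (Fin n) F)}

theorem eigdim_step {x y : Matrix.GeneralLinearGroup (Fin n) F} {a : F}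
    (hxy : ∀ w : Fin n → F, (x : Matrix (Fin n) (Fin n) F) *ᵥ ((y : Matrix (Fin n) (Fin n) F) *ᵥ w) =
      a • ((y : Matrix (Fin n) (Fin n) F) *ᵥ ((x : Matrix (Fin n) (Fin n) F) *ᵥ w))) (μ : F) :
    Module.finrank F (Eig y μ) ≤ Module.finrank F (Eig y (a * μ)) := by
  rw [← finrank_map_lin x⁻¹ (Eig y μ)]
  apply Submodule.finrank_mono
  intro v hv
  rw [mem_map_lin, inv_inv, mem_Eig] at hv
  rw [mem_Eig]
  have h1 := hxy v
  rw [hv] at h1
  apply mv_inj x
  rw [h1, Matrix.mulVec_smul, smul_smul]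

theorem eigdim_pow {x y : Matrix.GeneralLinearGroup (Fin n) F} {a : F}
    (hxy : ∀ w : Fin n → F, (x : Matrix (Fin n) (Fin n) F) *ᵥ ((y : Matrix (Fin n) (Fin n) F) *ᵥ w) =
      a • ((y : Matrix (Fin n) (Fin n) F) *ᵥ ((x : Matrix (Fin n) (Fin n) F) *ᵥ w))) (θ : F) (i : ℕ) :
    Module.finrank F (Eig y θ) ≤ Module.finrank F (Eig y (a ^ i * θ)) := by
  induction i with
  | zero => rw [pow_zero, one_mul]
  | succ i ih =>
    refine le_trans ih ?_
    have h := eigdim_step hxy (a ^ i * θ)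
    rwa [← mul_assoc, ← pow_succ'] at h

theorem eigdim_sum_le (y : Matrix.GeneralLinearGroup (Fin n) F) {ι : Type*} [Fintype ι] (μ : ι → F)
    (hμ : Function.Injective μ) :
    ∑ i, Module.finrank F (Eig y (μ i)) ≤ n := by
  have hind : iSupIndep (fun i => Eig y (μ i)) :=
    (Module.End.eigenspaces_iSupIndep (Matrix.toLin' (y : Matrix (Fin n) (Fin n) F))).comp hμ
  rw [← Cfsg.Agent.Lib.Helper24.el_finrank_iSup _ hind]
  have h := Submodule.finrank_le (⨆ i, Eig y (μ i))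
  rwa [Module.finrank_fin_fun] at h

theorem eig_dim_le (H : Hyp r S) {y : Matrix.GeneralLinearGroup (Fin n) F} (hy : y ∈ S)
    (hyn : y ∉ Cfsg.Geo.scalars (Fin n) F) (θ : F) :
    r * Module.finrank F (Eig y θ) ≤ n := by
  by_cases hθ : θ = 0
  · have h0 : Eig y θ = ⊥ := by
      rw [eq_bot_iff]
      intro v hv
      rw [mem_Eig, hθ, zero_smul] at hv
      rw [Submodule.mem_bot]
      rw [← mv_inv_mv y v, hv, Matrix.mulVec_zero]
    rw [h0, finrank_bot, mul_zero]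
    exact Nat.zero_le _
  obtain ⟨x, hx, hne⟩ := exists_noncomm H hyn
  obtain ⟨a, ha, hact⟩ := cm_prim H hx hy (fun h => hne h.symm)
  have hxy : ∀ w : Fin n → F, (x : Matrix (Fin n) (Fin n) F) *ᵥ ((y : Matrix (Fin n) (Fin n) F) *ᵥ w) =
      a • ((y : Matrix (Fin n) (Fin n) F) *ᵥ ((x : Matrix (Fin n) (Fin n) F) *ᵥ w)) := by
    intro w
    rw [← mv_mul, cm_mul_swap x y, mv_mul, hact, mv_mul]
  have hinj : Function.Injective (fun i : Fin r => a ^ (i : ℕ) * θ) := by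
    intro i j hij
    have h1 : a ^ (i : ℕ) = a ^ (j : ℕ) := mul_right_cancel₀ hθ hij
    exact Fin.ext (ha.pow_inj i.2 j.2 h1)
  have h1 := eigdim_sum_le y _ hinj
  have h2 : ∑ _i : Fin r, Module.finrank F (Eig y θ) ≤
      ∑ i : Fin r, Module.finrank F (Eig y (a ^ (i : ℕ) * θ)) :=
    Finset.sum_le_sum (fun i _ => eigdim_pow hxy θ i)
  rw [Finset.sum_const, Finset.card_univ, Fintype.card_fin, smul_eq_mul] at h2
  exact le_trans h2 h1

end Cfsg.Agent.Lib.Helper13.EIG
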