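import Mathlib
import Cfsg.Prelude.Def_GeometricClasses
import Cfsg.Agent.Lib.Helper13.EIG.Defs
import Cfsg.Agent.Lib.Helper13.EIG.Basic

set_option autoImplicit false
set_option linter.unusedVariables false
set_option linter.unusedSectionVars false

namespace Cfsg.Agent.Lib.Helper13.EIG

open Matrix

variable {n : ℕ} {F : Type*} [Field F] {r : ℕ}
  {S : Subgroup (Matrix.GeneralLinearGroup (Fin n) F)}

theorem eigoddb_expand (H : Hyp r S) {u v x : Matrix.GeneralLinearGroup (Fin n) F} (hu : u ∈ S)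
    (hv : v ∈ S) (hx : x ∈ S)
    (hc : (u * x⁻¹) * (v * x⁻¹) = (v * x⁻¹) * (u * x⁻¹)) :
    cm u v = cm x v * (cm x u)⁻¹ := by
  have hxi : x⁻¹ ∈ S := S.inv_mem hx
  have h1 : cm (u * x⁻¹) (v * x⁻¹) = 1 := (cm_eq_one_iff _ _).2 hc
  rw [cm_mul_left H hu hxi (S.mul_mem hv hxi), cm_mul_right H hu hv hxi,
    cm_mul_right H hxi hv hxi, cm_self, mul_one, cm_inv_right H hu hx, cm_inv_left H hx hv] at h1
  have h2 : (cm u x)⁻¹ = cm x u := cm_inv_swap u x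
  rw [h2] at h1
  have h3 : cm x u * (cm x v)⁻¹ = (cm x v)⁻¹ * cm x u := cm_central H hx hu _
  have h4 : cm u v * (cm x u * (cm x v)⁻¹) = 1 := by rw [← h1]; group
  have h5 : cm u v = (cm x u * (cm x v)⁻¹)⁻¹ := eq_inv_of_mul_eq_one_left h4
  rw [h5]; group

theorem beta_one (H : Hyp r S) {g : Matrix.GeneralLinearGroup (Fin n) F}
    (hg : g ∈ Cfsg.Geo.subgroupNormalizer S) {ϖ : ℕ} (hpow : g ^ ϖ = 1) (hcop : Nat.Coprime ϖ r)
    {x : Matrix.GeneralLinearGroup (Fin n) F} (hx : x ∈ S)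
    (hcomm : ∀ k l : ℕ, psi (g ^ k) x * psi (g ^ l) x = psi (g ^ l) x * psi (g ^ k) x) :
    x * (g⁻¹ * x * g) = (g⁻¹ * x * g) * x := by
  have hxk : ∀ k : ℕ, (g ^ k)⁻¹ * x * g ^ k ∈ S := fun k =>
    conj_mem' (Subgroup.pow_mem _ hg k) hx
  have hpsi : ∀ k : ℕ, psi (g ^ k) x = ((g ^ k)⁻¹ * x * g ^ k) * x⁻¹ := fun k => rfl
  have step1 : ∀ k l : ℕ, cm ((g ^ k)⁻¹ * x * g ^ k) ((g ^ l)⁻¹ * x * g ^ l) =
      cm x ((g ^ l)⁻¹ * x * g ^ l) * (cm x ((g ^ k)⁻¹ * x * g ^ k))⁻¹ := by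
    intro k l
    apply eigoddb_expand H (hxk k) (hxk l) hx
    have := hcomm k l
    rw [hpsi, hpsi] at this
    exact this
  have step2 : ∀ k m : ℕ, cm ((g ^ k)⁻¹ * x * g ^ k) ((g ^ (k + m))⁻¹ * x * g ^ (k + m)) =
      cm x ((g ^ m)⁻¹ * x * g ^ m) := by
    intro k m
    have h := cm_conj H hx (hxk m) (g ^ k)⁻¹
    rw [inv_inv] at h
    rw [← h]
    congr 1
    rw [pow_add]; group
  have step3 : ∀ k m : ℕ, cm x ((g ^ (k + m))⁻¹ * x * g ^ (k + m)) =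
      cm x ((g ^ m)⁻¹ * x * g ^ m) * cm x ((g ^ k)⁻¹ * x * g ^ k) := by
    intro k m
    have h := step1 k (k + m)
    rw [step2] at h
    rw [h, inv_mul_cancel_right]
  have step4 : ∀ k : ℕ, cm x ((g ^ k)⁻¹ * x * g ^ k) = (cm x ((g ^ 1)⁻¹ * x * g ^ 1)) ^ k := by
    intro k
    induction k with
    | zero =>
      rw [pow_zero, pow_zero, inv_one, one_mul, mul_one, cm_self]
    | succ k ih =>
      rw [step3 k 1, ih]
      exact (pow_succ' _ _).symm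
  have h5 : (cm x ((g ^ 1)⁻¹ * x * g ^ 1)) ^ ϖ = 1 := by
    rw [← step4, hpow, inv_one, one_mul, mul_one, cm_self]
  have h6 : (cm x ((g ^ 1)⁻¹ * x * g ^ 1)) ^ r = 1 := H.comm_pow x hx _ (hxk 1)
  have h7 : orderOf (cm x ((g ^ 1)⁻¹ * x * g ^ 1)) ∣ Nat.gcd ϖ r :=
    Nat.dvd_gcd (orderOf_dvd_of_pow_eq_one h5) (orderOf_dvd_of_pow_eq_one h6)
  rw [hcop, Nat.dvd_one, orderOf_eq_one_iff, cm_eq_one_iff, pow_one] at h7
  exact h7

end Cfsg.Agent.Lib.Helper13.EIG
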