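import Mathlib
import Cfsg.Prelude.Def_GeometricClasses
import Cfsg.Agent.Lib.Helper27.ASC.Defs
import Cfsg.Agent.Lib.helper23.ASCO.Defs
import Cfsg.Agent.Lib.Helper19.ASG.Defs
import Cfsg.Agent.Lib.Helper1.ASGCLIF3
import Cfsg.Agent.Lib.Helper25.ASO.Defs
import Cfsg.Agent.Lib.helper23.ASE.Defs
import Cfsg.Agent.Lib.helper7.EM12.Defs
import Cfsg.Agent.Lib.helper23.ASGD1ORDER
import Cfsg.Agent.Lib.helper23.ASGD1CENT

set_option autoImplicit false
set_option linter.unusedVariables false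
set_option linter.unusedSectionVars false

namespace Cfsg.Agent.Lib.helper7.EM12

open Cfsg Cfsg.Geo Cfsg.Agent.Lib.Helper27.ASC Cfsg.Agent.Lib.helper23.ASCO Cfsg.Agent.Lib.Helper19.ASG
  Cfsg.Agent.Lib.Helper25.ASO Cfsg.Agent.Lib.helper23.ASE
open scoped MatrixGroups Matrix Kronecker commutatorElement

variable {n : ℕ} {F : Type*} [Field F] [Fintype F]

theorem em12d1pow_exists_ne (hn : 0 < n) (Q : QuadraticForm F (Fin n → F))
    (hQ : (QuadraticMap.polarBilin Q).Nondegenerate) : ∃ v : Fin n → F, Q v ≠ 0 := by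
  by_contra hcon
  push Not at hcon
  have h1 : (Pi.single (⟨0, hn⟩ : Fin n) (1 : F) : Fin n → F) = 0 := by
    apply hQ.1
    intro y
    change QuadraticMap.polar (⇑Q) _ y = 0
    simp [QuadraticMap.polar, hcon]
  have h2 := congrFun h1 ⟨0, hn⟩
  simp at h2

theorem em12d1pow_scalar_sq (hn : 0 < n) (Q : QuadraticForm F (Fin n → F))
    (hQ : (QuadraticMap.polarBilin Q).Nondegenerate) (z : GL (Fin n) F)
    (hz : z ∈ isometryGroup F (⇑Q)) (hs : z ∈ scalars (Fin n) F) : z * z = 1 := by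
  obtain ⟨c, hc⟩ := (mem_scalars_iff z).mp hs
  obtain ⟨v, hv⟩ := em12d1pow_exists_ne hn Q hQ
  have h1 : Q ((z : Matrix (Fin n) (Fin n) F) *ᵥ v) = Q v := hz v v
  rw [hc, Matrix.smul_mulVec, Matrix.one_mulVec, QuadraticMap.map_smul] at h1
  have h2 : (c : F) * (c : F) = 1 := by
    have h3 : ((c : F) * (c : F) - 1) * Q v = 0 := by
      rw [sub_mul, one_mul, sub_eq_zero]
      simpa [smul_eq_mul] using h1
    rcases mul_eq_zero.mp h3 with h | h
    · exact sub_eq_zero.mp h
    · exact absurd h hv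
  apply Units.ext
  rw [Units.val_mul, hc, Units.val_one, Matrix.smul_mul, Matrix.one_mul, smul_smul, h2, one_smul]

theorem ed1_two_power (hn : 0 < n) (Q : QuadraticForm F (Fin n → F))
    (hQ : (QuadraticMap.polarBilin Q).Nondegenerate) {N : Subgroup (GL (Fin n) F)}
    (hNO : N ≤ isometryGroup F (⇑Q)) (hA : AbsIrr N) (hab : ⁅N, N⁆ ≤ scalars (Fin n) F) :
    ∃ a : ℕ, n ^ 2 = 2 ^ a := by
  have hord := d1_order hn hA hab
  have hcen := asgd1cent_center hn hA
  have hp : IsPGroup 2 (N ⧸ (scalars (Fin n) F).subgroupOf N) := by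
    intro g
    refine ⟨1, ?_⟩
    induction g using QuotientGroup.induction_on with
    | H x =>
      rw [pow_one, ← QuotientGroup.mk_pow, QuotientGroup.eq_one_iff, ← hcen, Subgroup.mem_center_iff]
      intro y
      have hcm : ⁅(x : GL (Fin n) F), (y : GL (Fin n) F)⁆ ∈ ⁅N, N⁆ :=
        Subgroup.commutator_mem_commutator x.2 y.2
      have hzN : ⁅(x : GL (Fin n) F), (y : GL (Fin n) F)⁆ ∈ N :=
        Subgroup.commutator_le_self N hcm
      have hzz := em12d1pow_scalar_sq hn Q hQ _ (hNO hzN) (hab hcm)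
      obtain ⟨c, hc⟩ := (mem_scalars_iff _).mp (hab hcm)
      have hzc : ∀ w : GL (Fin n) F, ⁅(x : GL (Fin n) F), (y : GL (Fin n) F)⁆ * w =
          w * ⁅(x : GL (Fin n) F), (y : GL (Fin n) F)⁆ := by
        intro w
        apply Units.ext
        rw [Units.val_mul, Units.val_mul, hc, Matrix.smul_mul, Matrix.one_mul, Matrix.mul_smul, Matrix.mul_one]
      apply Subtype.ext
      simp only [Subgroup.coe_mul, Subgroup.coe_pow]
      set X : GL (Fin n) F := (x : GL (Fin n) F) with hX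
      set Y : GL (Fin n) F := (y : GL (Fin n) F) with hY
      set Z : GL (Fin n) F := ⁅X, Y⁆ with hZ
      have hxy : X * Y = Z * (Y * X) := by
        rw [hZ, commutatorElement_def]
        group
      calc Y * X ^ 2 = (Z * Z) * (Y * X * X) := by rw [hzz, one_mul, pow_two, mul_assoc]
        _ = Z * (Z * (Y * X)) * X := by group
        _ = Z * (X * Y) * X := by rw [← hxy]
        _ = X * (Z * (Y * X)) := by rw [hzc (X * Y), mul_assoc, mul_assoc, ← mul_assoc Y, ← hzc Y, mul_assoc]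
        _ = X ^ 2 * Y := by rw [← hxy, pow_two, mul_assoc]
  obtain ⟨a, ha⟩ := IsPGroup.iff_card.mp hp
  exact ⟨a, by rw [← hord, ha]⟩

end Cfsg.Agent.Lib.helper7.EM12

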