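import Mathlib
import Cfsg.Prelude.Def_Transfer
import Cfsg.Agent.Lib.Helper1.Class2
import Cfsg.Agent.Lib.Helper1.Frat

set_option autoImplicit false

namespace Cfsg.Agent.Lib.Helper1

open scoped commutatorElement

variable {E : Type*} [Group E]

theorem special_center_pow_eq_one [Finite E] {p : ℕ} [Fact p.Prime] (h : Cfsg.IsSpecial p E)
    (z : E) (hz : z ∈ Subgroup.center E) : z ^ p = 1 := by
  obtain ⟨hP, hfr, hcomm⟩ := h
  have hzc : z ∈ commutator E := by rw [hcomm]; exact hz
  rw [commutator_eq_closure] at hzc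
  have hle : Subgroup.closure (commutatorSet E) ≤ Subgroup.center E := by
    rw [← commutator_eq_closure, hcomm]
  induction hzc using Subgroup.closure_induction with
  | mem x hx =>
    obtain ⟨a, b, rfl⟩ := hx
    have hc : ⁅a, b⁆ ∈ Subgroup.center E := by
      rw [← hcomm]; exact commElem_mem_commutator a b
    rw [← commElem_pow_left_of_central hc]
    have hap : a ^ p ∈ Subgroup.center E := by
      rw [← hfr]; exact pgroup_pow_mem_frattini hP a
    rw [Subgroup.mem_center_iff] at hap
    rw [commutatorElement_def, ← hap b]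
    group
  | one => exact one_pow p
  | mul x y hx hy ihx ihy =>
    have hxc : x ∈ Subgroup.center E := hle hx
    have hcm : Commute x y := by
      rw [Subgroup.mem_center_iff] at hxc
      exact (hxc y).symm
    rw [hcm.mul_pow, ihx (hle hx), ihy (hle hy), one_mul]
  | inv x hx ih => rw [inv_pow, ih (hle hx), inv_one]

theorem special_mul_pow [Finite E] {p : ℕ} [Fact p.Prime] (hp2 : p ≠ 2) (h : Cfsg.IsSpecial p E)
    (x y : E) : (x * y) ^ p = x ^ p * y ^ p := by
  have hcc : ⁅y, x⁆ ∈ Subgroup.center E := by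
    rw [← h.2.2]; exact commElem_mem_commutator y x
  rw [mul_pow_of_central hcc]
  have h1 : ⁅y, x⁆ ^ p = 1 := special_center_pow_eq_one h _ hcc
  have hodd : Odd p := (Fact.out : p.Prime).odd_of_ne_two hp2
  obtain ⟨k, hk⟩ := hodd
  have h2 : p.choose 2 = p * k := by
    rw [Nat.choose_two_right, hk]
    have : (2 * k + 1) * (2 * k + 1 - 1) = 2 * ((2 * k + 1) * k) := by
      rw [Nat.add_sub_cancel]; ring
    rw [this, Nat.mul_div_cancel_left _ (by norm_num : 0 < 2)]
  rw [h2, pow_mul, h1, one_pow, one_mul]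

theorem special_pow_mem_center [Finite E] {p : ℕ} [Fact p.Prime] (h : Cfsg.IsSpecial p E) (x : E) :
    x ^ p ∈ Subgroup.center E := by
  rw [← h.2.1]; exact pgroup_pow_mem_frattini h.1 x

theorem extraspecial_omega_index_le [Finite E] {p : ℕ} [Fact p.Prime] (hp2 : p ≠ 2)
    (h : Cfsg.IsExtraspecial p E) : (Subgroup.closure {x : E | x ^ p = 1}).index ≤ p := by
  obtain ⟨hs, hcard⟩ := h
  let φ : E →* Subgroup.center E := MonoidHom.mk' (fun x => ⟨x ^ p, special_pow_mem_center hs x⟩)
    (by
      intro a b
      apply Subtype.ext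
      simp only [Subgroup.coe_mul]
      exact special_mul_pow hp2 hs a b)
  have hker : φ.ker ≤ Subgroup.closure {x : E | x ^ p = 1} := by
    intro x hx
    apply Subgroup.subset_closure
    have h1 : φ x = 1 := MonoidHom.mem_ker.mp hx
    exact congrArg Subtype.val h1
  have h1 : (Subgroup.closure {x : E | x ^ p = 1}).index ∣ φ.ker.index :=
    Subgroup.index_dvd_of_le hker
  have h2 : φ.ker.index ≤ p := by
    rw [Subgroup.index_ker, ← hcard]
    exact Subgroup.card_le_card_group _
  have hpos : 0 < φ.ker.index := Nat.pos_of_ne_zero Subgroup.index_ne_zero_of_finite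
  exact (Nat.le_of_dvd hpos h1).trans h2

end Cfsg.Agent.Lib.Helper1
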