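import Mathlib
import Cfsg.Prelude.Def_Transfer
import Cfsg.Agent.Lib.Helper1.BurnsideBasis
import Cfsg.Agent.Lib.Helper1.Extraspecial

set_option autoImplicit false

namespace Cfsg.Agent.Lib.Helper1

open scoped Pointwise commutatorElement

variable {G : Type*} [Group G]

theorem map_center_eq_inf_centralizer (E : Subgroup G) :
    (Subgroup.center E).map E.subtype = E ⊓ Subgroup.centralizer (E : Set G) := by
  ext x
  constructor
  · rintro ⟨z, hz, rfl⟩
    refine ⟨z.2, ?_⟩
    apply Subgroup.mem_centralizer_iff.mpr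
    intro e he
    have hz' : z ∈ Subgroup.center E := hz
    rw [Subgroup.mem_center_iff] at hz'
    exact congrArg Subtype.val (hz' ⟨e, he⟩)
  · rintro ⟨hxE, hxC⟩
    refine ⟨⟨x, hxE⟩, ?_, rfl⟩
    rw [SetLike.mem_coe, Subgroup.mem_center_iff]
    intro e
    apply Subtype.ext
    have hxC' : x ∈ Subgroup.centralizer (E : Set G) := hxC
    rw [Subgroup.mem_centralizer_iff] at hxC'
    exact hxC' e e.2

theorem commElem_eq_iff (g g' t : G) : ⁅g, t⁆ = ⁅g', t⁆ ↔ t * (g⁻¹ * g') = (g⁻¹ * g') * t := by
  rw [commutatorElement_def, commutatorElement_def]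
  constructor
  · intro h
    have h1 : g * t * g⁻¹ = g' * t * g'⁻¹ := mul_right_cancel h
    calc t * (g⁻¹ * g') = g⁻¹ * (g * t * g⁻¹) * g' := by group
      _ = g⁻¹ * (g' * t * g'⁻¹) * g' := by rw [h1]
      _ = g⁻¹ * g' * t := by group
  · intro h
    have h1 : g * t * g⁻¹ = g' * t * g'⁻¹ := by
      calc g * t * g⁻¹ = g * (t * (g⁻¹ * g')) * g'⁻¹ := by group
        _ = g * (g⁻¹ * g' * t) * g'⁻¹ := by rw [h]
        _ = g' * t * g'⁻¹ := by group
    rw [h1]

theorem mem_centralizer_of_generators (E : Subgroup G) (T : Finset E)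
    (hT : Subgroup.closure (T : Set E) = ⊤) (x : G)
    (hx : ∀ t ∈ T, ((t : E) : G) * x = x * t) : x ∈ Subgroup.centralizer (E : Set G) := by
  have h1 : (E : Set G) = ((Subgroup.closure (E.subtype '' (T : Set E)) : Subgroup G) : Set G) := by
    rw [← MonoidHom.map_closure, hT, ← MonoidHom.range_eq_map, Subgroup.range_subtype]
  rw [h1, Subgroup.centralizer_closure, Subgroup.mem_centralizer_iff]
  rintro _ ⟨t, ht, rfl⟩
  exact hx t ht

theorem extraspecial_sup_centralizer_eq_top [Finite G] {p : ℕ} [Fact p.Prime] (hG : IsPGroup p G)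
    (E : Subgroup G) (hE : Cfsg.IsExtraspecial p E)
    (h : ⁅(⊤ : Subgroup G), E⁆ ≤ E ⊓ Subgroup.centralizer (E : Set G)) :
    E ⊔ Subgroup.centralizer (E : Set G) = ⊤ := by
  classical
  let _ : Fintype E := Fintype.ofFinite E
  obtain ⟨hs, hcardZ⟩ := hE
  have hEp : IsPGroup p E := hs.1
  have hEn : E.Normal := by
    constructor
    intro e he g
    have h1 : ⁅g, e⁆ ∈ E := (h (Subgroup.commutator_mem_commutator (Subgroup.mem_top g) he)).1
    have h2 : g * e * g⁻¹ = ⁅g, e⁆ * e := by rw [commutatorElement_def]; group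
    rw [h2]
    exact E.mul_mem h1 he
  have hCn : (Subgroup.centralizer (E : Set G)).Normal := Subgroup.normal_centralizer
  obtain ⟨k, hk⟩ := IsPGroup.iff_card.mp hEp
  have hidx : (frattini E).index ∣ p ^ k := by
    rw [← hk]; exact Subgroup.index_dvd_card _
  obtain ⟨d, -, hd⟩ := (Nat.dvd_prime_pow (Fact.out : p.Prime)).mp hidx
  obtain ⟨T, -, hTcard, hTgen⟩ := burnside_basis_upper p d hEp hd (Finset.univ : Finset E).card
    Finset.univ rfl (by rw [Finset.coe_univ, Subgroup.closure_univ])
  set C := Subgroup.centralizer (E : Set G) with hC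
  set Z := E ⊓ C with hZ
  have hcardZ' : Nat.card Z = p := by
    rw [hZ, hC, ← map_center_eq_inf_centralizer,
      Subgroup.card_map_of_injective E.subtype_injective, hcardZ]
  have hmem : ∀ (g : G) (t : E), ⁅g, (t : G)⁆ ∈ Z := fun g t =>
    h (Subgroup.commutator_mem_commutator (Subgroup.mem_top g) t.2)
  let f : G → (T → Z) := fun g t => ⟨⁅g, ((t : E) : G)⁆, hmem g t⟩
  have hf : ∀ g g' : G, f g = f g' ↔ g⁻¹ * g' ∈ C := by
    intro g g'
    constructor
    · intro hfg
      apply mem_centralizer_of_generators E T hTgen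
      intro t ht
      have h1 := congrFun hfg ⟨t, ht⟩
      have h2 : ⁅g, ((t : E) : G)⁆ = ⁅g', ((t : E) : G)⁆ := congrArg Subtype.val h1
      exact (commElem_eq_iff g g' t).mp h2
    · intro hmemC
      funext t
      apply Subtype.ext
      change ⁅g, (((t : T) : E) : G)⁆ = ⁅g', (((t : T) : E) : G)⁆
      rw [commElem_eq_iff]
      have hmemC' : g⁻¹ * g' ∈ Subgroup.centralizer (E : Set G) := hmemC
      rw [Subgroup.mem_centralizer_iff] at hmemC'
      exact hmemC' _ (t : E).2
  let F : G ⧸ C → (T → Z) := fun q => Quotient.liftOn' q f (by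
    intro a b hab
    rw [QuotientGroup.leftRel_apply] at hab
    exact (hf a b).mpr hab)
  have hFinj : Function.Injective F := by
    intro q q'
    induction q using QuotientGroup.induction_on with
    | H a =>
      induction q' using QuotientGroup.induction_on with
      | H b =>
        intro hab
        have hab' : f a = f b := hab
        exact QuotientGroup.eq.mpr ((hf a b).mp hab')
  have hindex : C.index ≤ p ^ d := by
    rw [Subgroup.index_eq_card]
    have h1 := Nat.card_le_card_of_injective F hFinj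
    have h3 : Nat.card T = d := by
      rw [Nat.card_eq_fintype_card, Fintype.card_coe, hTcard]
    rw [Nat.card_fun, hcardZ', h3] at h1
    exact h1
  have hrel : C.relIndex E = p ^ d := by
    rw [← Subgroup.inf_relIndex_right, inf_comm, ← hZ]
    have h1 : Z = (Subgroup.center E).map E.subtype := by
      rw [hZ, hC, map_center_eq_inf_centralizer]
    have h2 : Z.relIndex E = (Subgroup.center E).index := by
      rw [h1]
      unfold Subgroup.relIndex
      congr 1
      ext x
      simp [Subgroup.mem_subgroupOf]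
    rw [h2, ← hs.2.1, hd]
  have hcard : Nat.card (E ⊔ C : Subgroup G) = Nat.card C * p ^ d := by
    rw [← card_mul_relIndex_of_le (le_sup_right : C ≤ E ⊔ C), Subgroup.relIndex_sup_right, hrel]
  apply Subgroup.eq_top_of_le_card
  rw [hcard, ← C.card_mul_index]
  exact Nat.mul_le_mul_left _ hindex

end Cfsg.Agent.Lib.Helper1
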