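import Mathlib
import Cfsg.Prelude.Def_Solvable
import Cfsg.Agent.Lib.Helper1.Cores
import Cfsg.Agent.Lib.Helper1.Fitting
import Cfsg.Agent.Lib.Helper1.Hall

set_option autoImplicit false

namespace Cfsg.Agent.Lib.Helper1

open scoped Pointwise commutatorElement

variable {G : Type*} [Group G]

theorem pCore_quotient_frattini_le [Finite G] (p : ℕ) [Fact p.Prime] :
    Cfsg.pCore p (G ⧸ frattini G) ≤ (Cfsg.pCore p G).map (QuotientGroup.mk' (frattini G)) := by
  set π := QuotientGroup.mk' (frattini G) with hπdef
  have hπ : Function.Surjective π := QuotientGroup.mk'_surjective _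
  set Qb := Cfsg.pCore p (G ⧸ frattini G) with hQb
  have hQbn : Qb.Normal := pCore_normal p
  have hQbp : IsPGroup p Qb := pCore_isPGroup p
  set Q := Qb.comap π with hQ
  have hQn : Q.Normal := hQbn.comap π
  have hΦQ : frattini G ≤ Q := by
    intro x hx
    rw [hQ, Subgroup.mem_comap]
    have : π x = 1 := (QuotientGroup.eq_one_iff x).mpr hx
    rw [this]; exact Qb.one_mem
  have hmapQ : Q.map π = Qb := Subgroup.map_comap_eq_self_of_surjective hπ Qb
  obtain ⟨P⟩ := (inferInstance : Nonempty (Sylow p Q))
  set PG := (P : Subgroup Q).map Q.subtype with hPG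
  have hPGQ : PG ≤ Q := Subgroup.map_subtype_le _
  have hfrat := Sylow.normalizer_sup_eq_top P
  have hrel1 : (PG ⊔ frattini G).relIndex Q ∣ (P : Subgroup Q).index := by
    have h1 : PG.relIndex Q = (P : Subgroup Q).index := by
      unfold Subgroup.relIndex
      congr 1
      exact Subgroup.comap_map_eq_self_of_injective Q.subtype_injective _
    rw [← h1]
    exact Subgroup.relIndex_dvd_of_le_left Q le_sup_left
  obtain ⟨k, hk⟩ := IsPGroup.iff_card.mp hQbp
  have hrel2 : (PG ⊔ frattini G).relIndex Q ∣ p ^ k := by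
    have h1 : (frattini G).relIndex Q = p ^ k := by
      rw [← card_map_mk', ← hπdef, hmapQ, hk]
    rw [← h1]
    exact Subgroup.relIndex_dvd_of_le_left Q le_sup_right
  have hcop : Nat.Coprime (P : Subgroup Q).index (p ^ k) := by
    apply Nat.Coprime.pow_right
    exact ((Fact.out : p.Prime).coprime_iff_not_dvd.mpr P.not_dvd_index).symm
  have hrel : (PG ⊔ frattini G).relIndex Q = 1 := Nat.eq_one_of_dvd_coprimes hcop hrel1 hrel2
  have hQle : Q ≤ PG ⊔ frattini G := Subgroup.relIndex_eq_one.mp hrel
  have htop : Subgroup.normalizer (PG : Set G) ⊔ frattini G = ⊤ := by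
    rw [eq_top_iff, ← hfrat]
    apply sup_le le_sup_left
    exact hQle.trans (sup_le_sup_right Subgroup.le_normalizer _)
  have hnorm : Subgroup.normalizer (PG : Set G) = ⊤ := frattini_nongenerating htop
  have hPGn : PG.Normal := Subgroup.normalizer_eq_top_iff.mp hnorm
  have hPGp : IsPGroup p PG := P.2.map Q.subtype
  have hPGle : PG ≤ Cfsg.pCore p G := le_pCore hPGn hPGp
  rw [← hmapQ]
  calc Q.map π ≤ (PG ⊔ frattini G).map π := Subgroup.map_mono hQle
    _ = PG.map π := by
      rw [Subgroup.map_sup, hπdef, QuotientGroup.map_mk'_self, sup_bot_eq]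
    _ ≤ (Cfsg.pCore p G).map π := Subgroup.map_mono hPGle

theorem fittingSubgroup_quotient_frattini [Finite G] :
    Cfsg.fittingSubgroup (G ⧸ frattini G) =
      (Cfsg.fittingSubgroup G).map (QuotientGroup.mk' (frattini G)) := by
  have hπ : Function.Surjective (QuotientGroup.mk' (frattini G)) := QuotientGroup.mk'_surjective _
  apply le_antisymm
  · rw [fittingSubgroup_eq_iSup_pCore]
    apply iSup_le
    intro p
    have : Fact (p : ℕ).Prime := ⟨p.2⟩
    exact (pCore_quotient_frattini_le (p : ℕ)).trans
      (Subgroup.map_mono (pCore_le_fittingSubgroup (p : ℕ)))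
  · apply le_fittingSubgroup
    · exact (fittingSubgroup_normal (G := G)).map _ hπ
    · have := fittingSubgroup_nilpotent (G := G)
      exact Group.nilpotent_of_surjective
        ((QuotientGroup.mk' (frattini G)).subgroupMap (Cfsg.fittingSubgroup G))
        (MonoidHom.subgroupMap_surjective _ _)

end Cfsg.Agent.Lib.Helper1
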