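import Mathlib
import Cfsg.Prelude.Def_Local
import Cfsg.Prelude.Def_CaseTheorems
import Cfsg.Agent.Lib.Helper1.Cores
import Cfsg.Agent.Lib.Helper5.PConstr
import Cfsg.Agent.Lib.Helper24.MetaNPC

set_option autoImplicit false

namespace Cfsg.Agent.Lib.Helper1

variable {X : Type*} [Group X]

theorem mem_pCore_of_trivial_on_frattini_quotient [Finite X] {p : ℕ} [hp : Fact p.Prime]
    (R : Subgroup X) [hRn : R.Normal] (hR : IsPGroup p R)
    (hC : Subgroup.centralizer (R : Set X) ≤ R) (k : X)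
    (hk : ∀ x ∈ R, k * x * k⁻¹ * x⁻¹ ∈ (frattini R).map R.subtype) : k ∈ Cfsg.pCore p X := by
  obtain ⟨F, hF⟩ : ∃ F : Subgroup X, F = (frattini R).map R.subtype := ⟨_, rfl⟩
  have hFn : F.Normal := by
    rw [hF]
    exact Cfsg.Agent.Lib.Helper5.h5_normal_map_of_characteristic R (frattini R)
  rw [← hF] at hk
  let Kb : Subgroup X :=
    { carrier := {k | ∀ x ∈ R, k * x * k⁻¹ * x⁻¹ ∈ F}
      one_mem' := by
        intro x _
        simp
      mul_mem' := by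
        intro a b ha hb x hx
        have e : a * b * x * (a * b)⁻¹ * x⁻¹ = a * (b * x * b⁻¹ * x⁻¹) * a⁻¹ * (a * x * a⁻¹ * x⁻¹) := by
          group
        rw [e]
        exact F.mul_mem (hFn.conj_mem _ (hb x hx) a) (ha x hx)
      inv_mem' := by
        intro a ha x hx
        have e : a⁻¹ * x * a⁻¹⁻¹ * x⁻¹ = a⁻¹ * (a * x * a⁻¹ * x⁻¹)⁻¹ * a⁻¹⁻¹ := by group
        rw [e]
        exact hFn.conj_mem _ (F.inv_mem (ha x hx)) a⁻¹ }
  have hKn : Kb.Normal := by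
    refine ⟨fun a ha h x hx => ?_⟩
    have hx2 : h⁻¹ * x * h ∈ R := by
      have := hRn.conj_mem x hx h⁻¹
      simpa using this
    have e : h * a * h⁻¹ * x * (h * a * h⁻¹)⁻¹ * x⁻¹ =
        h * (a * (h⁻¹ * x * h) * a⁻¹ * (h⁻¹ * x * h)⁻¹) * h⁻¹ := by group
    rw [e]
    exact hFn.conj_mem _ (ha _ hx2) h
  have hKp : IsPGroup p Kb := by
    rintro ⟨a, ha⟩
    obtain ⟨j, m, hm, hn⟩ := Nat.exists_eq_pow_mul_and_not_dvd (orderOf_pos a).ne' p hp.out.ne_one
    refine ⟨j, Subtype.ext ?_⟩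
    show a ^ (p ^ j) = 1
    obtain ⟨b, hb⟩ : ∃ b : X, b = a ^ (p ^ j) := ⟨_, rfl⟩
    rw [← hb]
    have hbK : b ∈ Kb := hb ▸ Kb.pow_mem ha _
    have hbm : b ^ m = 1 := by
      rw [hb, ← pow_mul, ← hn, pow_orderOf_eq_one]
    have hcop : (orderOf b).Coprime p := by
      have h1 : orderOf b ∣ m := orderOf_dvd_of_pow_eq_one hbm
      exact Nat.Coprime.coprime_dvd_left h1 ((Nat.Prime.coprime_iff_not_dvd hp.out).mpr hm).symm
    have hbN : b ∈ Subgroup.normalizer (R : Set X) := by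
      rw [Subgroup.normalizer_eq_top_iff.mpr hRn]
      exact Subgroup.mem_top b
    have hbC : b ∈ Subgroup.centralizer (R : Set X) := by
      apply Cfsg.Agent.Lib.Helper24.mn_burnside R hR b hbN hcop
      intro x hx
      have h1 := hbK x hx
      have h2 := hFn.conj_mem _ h1 x⁻¹
      have e : x⁻¹ * (b * x * b⁻¹ * x⁻¹) * x⁻¹⁻¹ = x⁻¹ * (b * x * b⁻¹) := by group
      rw [e, hF] at h2
      exact h2
    have hbR : b ∈ R := hC hbC
    obtain ⟨i, hi⟩ := hR ⟨b, hbR⟩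
    have hi2 : b ^ (p ^ i) = 1 := congrArg Subtype.val hi
    have h3 : orderOf b ∣ p ^ i := orderOf_dvd_of_pow_eq_one hi2
    have h4 : orderOf b = 1 := Nat.Coprime.eq_one_of_dvd (hcop.pow_right i) h3
    exact orderOf_eq_one_iff.mp h4
  exact le_pCore hKn hKp hk

end Cfsg.Agent.Lib.Helper1
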