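import Mathlib
import Cfsg.Agent.S0001
import Cfsg.Agent.Lib.Lead.Coprime
import Cfsg.Agent.Lib.Helper1.InternalSZ
import Cfsg.Agent.Lib.Helper1.Fusion

set_option autoImplicit false

namespace Cfsg.Agent.Lib.Helper1

open scoped Pointwise commutatorElement

variable {G : Type*} [Group G]

theorem stabilizer_sup_eq_top_of_transitive {X : Type*} [MulAction G X] (K : Subgroup G)
    (htrans : MulAction.IsPretransitive K X) (x : X) :
    MulAction.stabilizer G x ⊔ K = ⊤ := by
  rw [eq_top_iff]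
  intro g _
  obtain ⟨k, hk⟩ := MulAction.exists_smul_eq K x (g • x)
  have hk' : (k : G) • x = g • x := hk
  have h1 : (k : G)⁻¹ * g ∈ MulAction.stabilizer G x := by
    rw [MulAction.mem_stabilizer_iff, mul_smul, ← hk', inv_smul_smul]
  have : g = (k : G) * ((k : G)⁻¹ * g) := by group
  rw [this]
  exact Subgroup.mul_mem _ (Subgroup.mem_sup_right k.2) (Subgroup.mem_sup_left h1)

theorem glauberman_exists_fixed [Finite G] {X : Type*} [Nonempty X] [MulAction G X]
    (K H : Subgroup G) [K.Normal] (hc : Subgroup.IsComplement' K H)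
    (hcop : (Nat.card K).Coprime K.index)
    (hsolv : Group.IsSolvable K ∨ Group.IsSolvable (G ⧸ K))
    (htrans : MulAction.IsPretransitive K X) : ∃ x : X, ∀ h ∈ H, h • x = x := by
  obtain ⟨x₀⟩ := (inferInstance : Nonempty X)
  set S := MulAction.stabilizer G x₀ with hS
  have hSK : S ⊔ K = ⊤ := stabilizer_sup_eq_top_of_transitive K htrans x₀
  have hrel : (K ⊓ S).relIndex S = K.index := by
    rw [Subgroup.inf_relIndex_right, ← Subgroup.relIndex_sup_right, hSK, Subgroup.relIndex_top_right]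
  have hnorm : S ≤ Subgroup.normalizer ((K ⊓ S : Subgroup G) : Set G) := by
    intro s hs
    rw [Subgroup.mem_normalizer_iff]
    intro y
    constructor
    · rintro ⟨hyK, hyS⟩
      exact ⟨Subgroup.Normal.conj_mem inferInstance y hyK s,
        S.mul_mem (S.mul_mem hs hyS) (S.inv_mem hs)⟩
    · rintro ⟨hyK, hyS⟩
      have e : y = s⁻¹ * (s * y * s⁻¹) * s⁻¹⁻¹ := by group
      constructor
      · have e2 := Subgroup.Normal.conj_mem (inferInstance : K.Normal) _ hyK s⁻¹
        rw [← e] at e2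
        exact e2
      · have e2 : s⁻¹ * (s * y * s⁻¹) * s⁻¹⁻¹ ∈ S :=
          S.mul_mem (S.mul_mem (S.inv_mem hs) hyS) (S.inv_mem (S.inv_mem hs))
        rw [← e] at e2
        exact e2
  have hcop' : (Nat.card (K ⊓ S : Subgroup G)).Coprime ((K ⊓ S).relIndex S) := by
    rw [hrel]
    exact Nat.Coprime.coprime_dvd_left (Subgroup.card_dvd_of_le inf_le_left) hcop
  obtain ⟨H₁, hH₁S, -, -, hH₁card⟩ :=
    exists_complement_of_coprime_relIndex (K ⊓ S) S inf_le_right hnorm hcop'
  rw [hrel] at hH₁card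
  have hc₁ : Subgroup.IsComplement' K H₁ := by
    apply Subgroup.isComplement'_of_coprime
    · rw [hH₁card]; exact K.card_mul_index
    · rw [hH₁card]; exact hcop
  obtain ⟨g, hg⟩ := Cfsg.Agent.S0001.result K hcop hsolv H₁ H hc₁ hc
  refine ⟨g • x₀, ?_⟩
  intro h hh
  rw [← hg, mem_conj_smul_iff] at hh
  have h1 : (g⁻¹ * h * g) • x₀ = x₀ := hH₁S hh
  calc h • g • x₀ = g • (g⁻¹ * h * g) • x₀ := by simp only [← mul_smul]; congr 1; group
    _ = g • x₀ := by rw [h1]

theorem glauberman_fixed_conj [Finite G] {X : Type*} [MulAction G X]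
    (K H : Subgroup G) [K.Normal] (hc : Subgroup.IsComplement' K H)
    (hcop : (Nat.card K).Coprime K.index)
    (hsolv : Group.IsSolvable K ∨ Group.IsSolvable (G ⧸ K))
    (htrans : MulAction.IsPretransitive K X) (x y : X)
    (hx : ∀ h ∈ H, h • x = x) (hy : ∀ h ∈ H, h • y = y) :
    ∃ k ∈ K ⊓ Subgroup.centralizer (H : Set G), k • x = y := by
  obtain ⟨k, hk⟩ := MulAction.exists_smul_eq K x y
  have hk' : (k : G) • x = y := hk
  set S := MulAction.stabilizer G x with hS
  have hHS : H ≤ S := fun h hh => hx h hh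
  have hcardH : Nat.card H = K.index := hc.symm.index_eq_card.symm
  have hdisj : K ⊓ H = ⊥ := hc.disjoint.eq_bot
  have hnorm : H ≤ Subgroup.normalizer ((K ⊓ S : Subgroup G) : Set G) := by
    intro s hs'
    have hs : s ∈ S := hHS hs'
    rw [Subgroup.mem_normalizer_iff]
    intro z
    constructor
    · rintro ⟨hzK, hzS⟩
      exact ⟨Subgroup.Normal.conj_mem inferInstance z hzK s,
        S.mul_mem (S.mul_mem hs hzS) (S.inv_mem hs)⟩
    · rintro ⟨hzK, hzS⟩
      have e : z = s⁻¹ * (s * z * s⁻¹) * s⁻¹⁻¹ := by group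
      constructor
      · have e2 := Subgroup.Normal.conj_mem (inferInstance : K.Normal) _ hzK s⁻¹
        rw [← e] at e2
        exact e2
      · have e2 : s⁻¹ * (s * z * s⁻¹) * s⁻¹⁻¹ ∈ S :=
          S.mul_mem (S.mul_mem (S.inv_mem hs) hzS) (S.inv_mem (S.inv_mem hs))
        rw [← e] at e2
        exact e2
  have hcop' : (Nat.card H).Coprime (Nat.card (K ⊓ S : Subgroup G)) := by
    rw [hcardH]
    exact (Nat.Coprime.coprime_dvd_left (Subgroup.card_dvd_of_le inf_le_left) hcop).symm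
  have hsolv' : Group.IsSolvable H ∨ Group.IsSolvable (K ⊓ S : Subgroup G) := by
    rcases hsolv with h | h
    · right
      exact Cfsg.Agent.Lib.Lead.solvable_of_le (inf_le_left : K ⊓ S ≤ K)
    · left
      exact Group.isSolvable_of_isSolvable_injective
        (f := hc.symm.QuotientMulEquiv.symm.toMonoidHom) hc.symm.QuotientMulEquiv.symm.injective
  have hB : MulAut.conj (k : G)⁻¹ • H ≤ H ⊔ (K ⊓ S) := by
    intro b hb
    rw [mem_conj_smul_iff, inv_inv] at hb
    set h := (k : G) * b * (k : G)⁻¹ with hh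
    have hbS : b ∈ S := by
      rw [hS, MulAction.mem_stabilizer_iff]
      have hb' : b = (k : G)⁻¹ * h * k := by rw [hh]; group
      rw [hb', mul_smul, mul_smul, hk', hy h hb, ← hk', inv_smul_smul]
    have h1 : b * h⁻¹ ∈ K := by
      have : b * h⁻¹ = (b * (k : G) * b⁻¹) * (k : G)⁻¹ := by rw [hh]; group
      rw [this]
      exact K.mul_mem (Subgroup.Normal.conj_mem inferInstance _ k.2 b) (K.inv_mem k.2)
    have h2 : b * h⁻¹ ∈ S := S.mul_mem hbS (S.inv_mem (hHS hb))
    have : b = (b * h⁻¹) * h := by group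
    rw [this]
    exact Subgroup.mul_mem _ (Subgroup.mem_sup_right ⟨h1, h2⟩) (Subgroup.mem_sup_left hb)
  obtain ⟨c, hcKS, hcconj⟩ := Cfsg.Agent.Lib.Lead.hall_conj H (K ⊓ S) hnorm hcop' hsolv'
    (MulAut.conj (k : G)⁻¹ • H) hB (Cfsg.Agent.S0001.card_conj _ _)
  have hm : MulAut.conj ((k : G) * c) • H = H := by
    rw [map_mul, mul_smul, hcconj, smul_smul, ← map_mul, mul_inv_cancel, map_one, one_smul]
  have hmK : (k : G) * c ∈ K := K.mul_mem k.2 hcKS.1
  refine ⟨(k : G) * c, ⟨hmK, ?_⟩, ?_⟩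
  · apply Subgroup.mem_centralizer_iff.mpr
    intro h hh
    have h1 : (k : G) * c * h * ((k : G) * c)⁻¹ ∈ H := by
      have : (k : G) * c * h * ((k : G) * c)⁻¹ ∈ MulAut.conj ((k : G) * c) • H := by
        rw [mem_conj_smul_iff]
        have e : ((k : G) * c)⁻¹ * ((k : G) * c * h * ((k : G) * c)⁻¹) * ((k : G) * c) = h := by group
        rw [e]; exact hh
      rwa [hm] at this
    have h2 : (k : G) * c * h * ((k : G) * c)⁻¹ * h⁻¹ ∈ K := by
      have : (k : G) * c * h * ((k : G) * c)⁻¹ * h⁻¹ =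
          ((k : G) * c) * (h * ((k : G) * c)⁻¹ * h⁻¹) := by group
      rw [this]
      exact K.mul_mem hmK (Subgroup.Normal.conj_mem inferInstance _ (K.inv_mem hmK) h)
    have h3 : (k : G) * c * h * ((k : G) * c)⁻¹ * h⁻¹ ∈ K ⊓ H := ⟨h2, H.mul_mem h1 (H.inv_mem hh)⟩
    rw [hdisj, Subgroup.mem_bot] at h3
    have : h * ((k : G) * c) = ((k : G) * c * h * ((k : G) * c)⁻¹ * h⁻¹)⁻¹ * (((k : G) * c) * h) := by
      group
    rw [this, h3, inv_one, one_mul]
  · have hcx : c • x = x := hcKS.2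
    rw [mul_smul, hcx, hk']

end Cfsg.Agent.Lib.Helper1
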