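import Mathlib

set_option autoImplicit false

namespace Cfsg.Agent.Lib.Helper1.PiClasses

section Burnside

variable {G : Type*} [Group G]

def conjSub (Q : G → Prop) (hQ : ∀ g x : G, Q x → Q (g * x * g⁻¹)) :
    MulAction G {x : G // Q x} where
  smul g x := ⟨g * x.1 * g⁻¹, hQ g x.1 x.2⟩
  one_smul x := by
    apply Subtype.ext
    show (1 : G) * x.1 * (1 : G)⁻¹ = x.1
    simp
  mul_smul a b x := by
    apply Subtype.ext
    show (a * b) * x.1 * (a * b)⁻¹ = a * (b * x.1 * b⁻¹) * a⁻¹
    simp [mul_assoc]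

theorem conjSub_smul (Q : G → Prop) (hQ : ∀ g x : G, Q x → Q (g * x * g⁻¹)) (g : G)
    (x : {x : G // Q x}) :
    letI := conjSub Q hQ
    ((g • x : {x : G // Q x}) : G) = g * x.1 * g⁻¹ := rfl

theorem stabilizer_eq (Q : G → Prop) (hQ : ∀ g x : G, Q x → Q (g * x * g⁻¹))
    (x : {x : G // Q x}) :
    letI := conjSub Q hQ
    MulAction.stabilizer G x = Subgroup.centralizer ({x.1} : Set G) := by
  letI := conjSub Q hQ
  ext g
  rw [MulAction.mem_stabilizer_iff, Subgroup.mem_centralizer_singleton_iff]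
  constructor
  · intro h
    have h1 := congrArg Subtype.val h
    rw [conjSub_smul] at h1
    exact mul_inv_eq_iff_eq_mul.mp h1
  · intro h
    apply Subtype.ext
    rw [conjSub_smul]
    exact mul_inv_eq_iff_eq_mul.mpr h

noncomputable def orbitsEquiv (Q : G → Prop) (hQ : ∀ g x : G, Q x → Q (g * x * g⁻¹)) :
    letI := conjSub Q hQ
    Quotient (MulAction.orbitRel G {x : G // Q x}) ≃
      {c : ConjClasses G // ∀ x ∈ c.carrier, Q x} := by
  letI := conjSub Q hQ
  have hcl : ∀ x : {x : G // Q x}, ∀ y ∈ (ConjClasses.mk x.1).carrier, Q y := by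
    intro x y hy
    have h1 : ConjClasses.mk y = ConjClasses.mk x.1 := ConjClasses.mem_carrier_iff_mk_eq.mp hy
    obtain ⟨c, hc⟩ := isConj_iff.mp (ConjClasses.mk_eq_mk_iff_isConj.mp h1).symm
    rw [← hc]
    exact hQ c x.1 x.2
  let f : {x : G // Q x} → {c : ConjClasses G // ∀ x ∈ c.carrier, Q x} :=
    fun x => ⟨ConjClasses.mk x.1, hcl x⟩
  have hf : ∀ a b : {x : G // Q x}, (MulAction.orbitRel G {x : G // Q x}).r a b → f a = f b := by
    intro a b hab
    obtain ⟨n, hn⟩ : ∃ n : G, n • b = a := hab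
    apply Subtype.ext
    show ConjClasses.mk a.1 = ConjClasses.mk b.1
    rw [ConjClasses.mk_eq_mk_iff_isConj, isConj_comm, isConj_iff]
    refine ⟨n, ?_⟩
    rw [← hn]
    rfl
  refine Equiv.ofBijective (Quotient.lift f hf) ⟨?_, ?_⟩
  · intro a b
    refine Quotient.inductionOn₂ a b ?_
    intro x y hxy
    have h1 : ConjClasses.mk x.1 = ConjClasses.mk y.1 := congrArg Subtype.val hxy
    obtain ⟨c, hc⟩ := isConj_iff.mp (ConjClasses.mk_eq_mk_iff_isConj.mp h1)
    apply Quotient.sound
    show x ∈ MulAction.orbit G y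
    refine ⟨c⁻¹, ?_⟩
    apply Subtype.ext
    show c⁻¹ * y.1 * c⁻¹⁻¹ = x.1
    rw [← hc]
    group
  · rintro ⟨c, hc⟩
    obtain ⟨y, rfl⟩ := ConjClasses.exists_rep c
    refine ⟨Quotient.mk _ ⟨y, hc y ConjClasses.mem_carrier_mk⟩, ?_⟩
    rfl

theorem lemmaK [Fintype G] (Q : G → Prop) [DecidablePred Q]
    (hQ : ∀ g x : G, Q x → Q (g * x * g⁻¹)) :
    Nat.card {c : ConjClasses G // ∀ x ∈ c.carrier, Q x} * Nat.card G =
      ∑ x : G, if Q x then Nat.card (Subgroup.centralizer ({x} : Set G)) else 0 := by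
  classical
  letI := conjSub Q hQ
  haveI : Fintype (Quotient (MulAction.orbitRel G {x : G // Q x})) := Fintype.ofFinite _
  have hB := MulAction.sum_card_fixedBy_eq_card_orbits_mul_card_group G {x : G // Q x}
  have h1 : ∀ g : G, Fintype.card (MulAction.fixedBy {x : G // Q x} g) =
      ∑ x : {x : G // Q x}, if g • x = x then 1 else 0 := by
    intro g
    rw [Fintype.card_subtype, Finset.card_filter]
    simp only [MulAction.mem_fixedBy]
  have h2 : ∀ x : {x : G // Q x}, Nat.card (Subgroup.centralizer ({x.1} : Set G)) =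
      ∑ g : G, if g • x = x then 1 else 0 := by
    intro x
    rw [← stabilizer_eq Q hQ x, Nat.card_eq_fintype_card, Fintype.card_subtype, Finset.card_filter]
    simp only [MulAction.mem_stabilizer_iff]
  have h3 : ∑ g : G, Fintype.card (MulAction.fixedBy {x : G // Q x} g) =
      ∑ x : {x : G // Q x}, Nat.card (Subgroup.centralizer ({x.1} : Set G)) := by
    simp only [h1, h2]
    exact Finset.sum_comm
  have h4 : ∑ x : {x : G // Q x}, Nat.card (Subgroup.centralizer ({x.1} : Set G)) =
      ∑ x : G, if Q x then Nat.card (Subgroup.centralizer ({x} : Set G)) else 0 := by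
    rw [← Finset.sum_filter]
    exact (Finset.sum_subtype (Finset.univ.filter Q) (by simp)
      (fun x : G => Nat.card (Subgroup.centralizer ({x} : Set G)))).symm
  rw [← h4, ← h3, hB, Nat.card_congr (orbitsEquiv Q hQ).symm, Nat.card_eq_fintype_card,
    Nat.card_eq_fintype_card]

end Burnside

section Pi

def E (σ : Finset ℕ) {H : Type*} [Group H] (x : H) : Prop :=
  ∀ r : ℕ, r.Prime → r ∣ orderOf x → r ∈ σ

theorem E_conj (σ : Finset ℕ) {H : Type*} [Group H] (g x : H) (hx : E σ x) :
    E σ (g * x * g⁻¹) := by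
  intro r hr hd
  apply hx r hr
  have h1 : orderOf (g * x * g⁻¹) = orderOf x :=
    orderOf_injective (MulAut.conj g).toMonoidHom (MulAut.conj g).injective x
  rwa [h1] at hd

theorem E_coe (σ : Finset ℕ) {H : Type*} [Group H] (C : Subgroup H) (z : C) :
    E σ z ↔ E σ (z : H) := by
  unfold E
  rw [Subgroup.orderOf_coe]

def part (σ : Finset ℕ) (n : ℕ) : ℕ := σ.prod (fun r => r ^ n.factorization r)

theorem part_insert (σ : Finset ℕ) (r : ℕ) (hr : r ∉ σ) (n : ℕ) :
    part (insert r σ) n = r ^ n.factorization r * part σ n := by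
  unfold part
  rw [Finset.prod_insert hr]

theorem part_mono (σ : Finset ℕ) (hσ : ∀ r ∈ σ, r.Prime) {m n : ℕ} (hmn : m ∣ n) (hn : n ≠ 0) :
    part σ m ≤ part σ n := by
  unfold part
  apply Finset.prod_le_prod
  · intro i _
    exact Nat.zero_le _
  · intro i hi
    apply Nat.pow_le_pow_right (hσ i hi).pos
    have hm : m ≠ 0 := fun h => hn (by rw [h] at hmn; exact zero_dvd_iff.mp hmn)
    exact (Nat.factorization_le_iff_dvd hm hn).mpr hmn i

theorem exists_exponents {H : Type*} [Group H] [Finite H] (r : ℕ) (hr : r.Prime) :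
    ∃ a b : ℕ, ∀ x : H, x ^ a * x ^ b = x ∧ (x ^ a) ^ (r ^ (Nat.card H).factorization r) = 1 ∧
      (x ^ b) ^ (Nat.card H / r ^ (Nat.card H).factorization r) = 1 := by
  set n := Nat.card H with hn
  have hn0 : n ≠ 0 := Nat.card_pos.ne'
  set R := r ^ n.factorization r with hR
  set m := n / R with hm
  have hRm : R * m = n := Nat.ordProj_mul_ordCompl_eq_self n r
  have hco : R.Coprime m := Nat.Coprime.pow_left _ (Nat.coprime_ordCompl hr hn0)
  obtain ⟨a, ha1, ha2⟩ := Nat.chineseRemainder hco 1 0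
  obtain ⟨b, hb1, hb2⟩ := Nat.chineseRemainder hco 0 1
  refine ⟨a, b, fun x => ⟨?_, ?_, ?_⟩⟩
  · have h1 : a + b ≡ 1 [MOD R * m] := by
      rw [← Nat.modEq_and_modEq_iff_modEq_mul hco]
      exact ⟨by simpa using ha1.add hb1, by simpa using ha2.add hb2⟩
    rw [hRm] at h1
    have h2 : a + b ≡ 1 [MOD orderOf x] := h1.of_dvd (orderOf_dvd_natCard x)
    rw [← pow_add]
    conv_rhs => rw [← pow_one x]
    exact pow_eq_pow_iff_modEq.mpr h2
  · have h1 : m ∣ a := (Nat.modEq_zero_iff_dvd).mp ha2
    obtain ⟨k, hk⟩ := h1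
    rw [← pow_mul, hk]
    have : m * k * R = n * k := by rw [← hRm]; ring
    rw [this, pow_mul, pow_card_eq_one', one_pow]
  · have h1 : R ∣ b := (Nat.modEq_zero_iff_dvd).mp hb1
    obtain ⟨k, hk⟩ := h1
    rw [← pow_mul, hk]
    have : R * k * m = n * k := by rw [← hRm]; ring
    rw [this, pow_mul, pow_card_eq_one', one_pow]

theorem card_centralizer_sub {H : Type*} [Group H] (C : Subgroup H) (z : C) :
    Nat.card (Subgroup.centralizer ({z} : Set C)) =
      Nat.card (C ⊓ Subgroup.centralizer ({(z : H)} : Set H) : Subgroup H) := by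
  have h1 : Subgroup.centralizer ({z} : Set C) =
      (Subgroup.centralizer ({(z : H)} : Set H)).subgroupOf C := by
    ext g
    rw [Subgroup.mem_subgroupOf, Subgroup.mem_centralizer_singleton_iff,
      Subgroup.mem_centralizer_singleton_iff, Subtype.ext_iff]
    rfl
  rw [h1, inf_comm, ← Subgroup.subgroupOf_map_subtype,
    Subgroup.card_map_of_injective C.subtype_injective]

theorem inner_sum {H : Type*} [Group H] [Fintype H] (C : Subgroup H) [Fintype C]
    (σ : Finset ℕ) [DecidablePred (fun z : C => E σ z)]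
    [DecidablePred (fun z : H => z ∈ C ∧ E σ z)] :
    (∑ z : C, if E σ z then Nat.card (Subgroup.centralizer ({z} : Set C)) else 0) =
      ∑ z : H, if (z ∈ C ∧ E σ z) then
        Nat.card (C ⊓ Subgroup.centralizer ({z} : Set H) : Subgroup H) else 0 := by
  classical
  have h1 : (∑ z : H, if (z ∈ C ∧ E σ z) then
        Nat.card (C ⊓ Subgroup.centralizer ({z} : Set H) : Subgroup H) else 0) =
      ∑ z ∈ Finset.univ.filter (fun z : H => z ∈ C), if E σ z then
        Nat.card (C ⊓ Subgroup.centralizer ({z} : Set H) : Subgroup H) else 0 := by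
    rw [Finset.sum_filter]
    apply Finset.sum_congr rfl
    intro z _
    by_cases hz : z ∈ C <;> by_cases hE : E σ z <;> simp [hz, hE]
  rw [h1]
  rw [Finset.sum_subtype (Finset.univ.filter (fun z : H => z ∈ C)) (p := fun z => z ∈ C)
    (by simp) (fun z : H => if E σ z then
      Nat.card (C ⊓ Subgroup.centralizer ({z} : Set H) : Subgroup H) else 0)]
  apply Finset.sum_congr rfl
  intro z _
  by_cases hE : E σ z
  · have hE' : E σ (z : H) := (E_coe σ C z).mp hE
    rw [if_pos hE, if_pos hE', card_centralizer_sub]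
  · have hE' : ¬ E σ (z : H) := fun h => hE ((E_coe σ C z).mpr h)
    rw [if_neg hE, if_neg hE']

theorem E_pow_a {H : Type*} [Group H] (r : ℕ) (hr : r.Prime) (y : H) (e : ℕ)
    (hy : y ^ (r ^ e) = 1) : E {r} y := by
  intro q hq hd
  have h1 : orderOf y ∣ r ^ e := orderOf_dvd_of_pow_eq_one hy
  have h2 : q ∣ r ^ e := hd.trans h1
  have h3 : q ∣ r := hq.dvd_of_dvd_pow h2
  rw [Finset.mem_singleton]
  exact (Nat.prime_dvd_prime_iff_eq hq hr).mp h3

theorem E_pow_b {H : Type*} [Group H] (σ : Finset ℕ) (r : ℕ) (x : H) (b m : ℕ)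
    (hx : E (insert r σ) x) (hm : (x ^ b) ^ m = 1) (hrm : ¬ r ∣ m) : E σ (x ^ b) := by
  intro q hq hd
  have h1 : q ∣ orderOf x := hd.trans (orderOf_pow_dvd b)
  have h2 := hx q hq h1
  rcases Finset.mem_insert.mp h2 with h3 | h3
  · exfalso
    apply hrm
    rw [← h3]
    exact hd.trans (orderOf_dvd_of_pow_eq_one hm)
  · exact h3

open Classical in
theorem decomp {H : Type*} [Group H] [Fintype H] (σ : Finset ℕ) (r : ℕ) (hr : r.Prime) :
    (∑ x : H, if E (insert r σ) x then Nat.card (Subgroup.centralizer ({x} : Set H)) else 0) ≤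
      ∑ y : H, if E {r} y then
        (∑ z : H, if (z ∈ Subgroup.centralizer ({y} : Set H) ∧ E σ z) then
          Nat.card (Subgroup.centralizer ({y} : Set H) ⊓ Subgroup.centralizer ({z} : Set H) :
            Subgroup H) else 0) else 0 := by
  obtain ⟨a, b, hab⟩ := exists_exponents (H := H) r hr
  have hn0 : Nat.card H ≠ 0 := Nat.card_pos.ne'
  have hrm : ¬ r ∣ Nat.card H / r ^ (Nat.card H).factorization r :=
    Nat.not_dvd_ordCompl hr hn0
  set F : H × H → ℕ := fun p => if E {r} p.1 then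
      (if (p.2 ∈ Subgroup.centralizer ({p.1} : Set H) ∧ E σ p.2) then
        Nat.card (Subgroup.centralizer ({p.1} : Set H) ⊓ Subgroup.centralizer ({p.2} : Set H) :
          Subgroup H) else 0) else 0 with hF
  have hR : (∑ y : H, if E {r} y then
        (∑ z : H, if (z ∈ Subgroup.centralizer ({y} : Set H) ∧ E σ z) then
          Nat.card (Subgroup.centralizer ({y} : Set H) ⊓ Subgroup.centralizer ({z} : Set H) :
            Subgroup H) else 0) else 0) = ∑ p : H × H, F p := by
    rw [Fintype.sum_prod_type]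
    apply Finset.sum_congr rfl
    intro y _
    by_cases hy : E {r} y
    · rw [if_pos hy]
      apply Finset.sum_congr rfl
      intro z _
      simp only [hF, if_pos hy]
    · rw [if_neg hy]
      symm
      apply Finset.sum_eq_zero
      intro z _
      simp only [hF, if_neg hy]
  rw [hR]
  set φ : H → H × H := fun x => (x ^ a, x ^ b) with hφ
  have hφinj : Function.Injective φ := by
    intro x y hxy
    have h1 : x ^ a = y ^ a := congrArg Prod.fst hxy
    have h2 : x ^ b = y ^ b := congrArg Prod.snd hxy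
    rw [← (hab x).1, ← (hab y).1, h1, h2]
  have hterm : ∀ x : H, (if E (insert r σ) x then
      Nat.card (Subgroup.centralizer ({x} : Set H)) else 0) ≤
      if E (insert r σ) x then F (φ x) else 0 := by
    intro x
    by_cases hx : E (insert r σ) x
    · rw [if_pos hx, if_pos hx]
      have h1 : E {r} (x ^ a) := E_pow_a r hr _ _ (hab x).2.1
      have h2 : E σ (x ^ b) := E_pow_b σ r x b _ hx (hab x).2.2 hrm
      have h3 : x ^ b ∈ Subgroup.centralizer ({x ^ a} : Set H) := by
        rw [Subgroup.mem_centralizer_singleton_iff]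
        exact ((Commute.refl x).pow_pow b a).eq
      have h4 : F (φ x) = Nat.card (Subgroup.centralizer ({x ^ a} : Set H) ⊓
          Subgroup.centralizer ({x ^ b} : Set H) : Subgroup H) := by
        simp only [hF, hφ, if_pos h1, if_pos (And.intro h3 h2)]
      rw [h4]
      apply Subgroup.card_le_of_le
      intro g hg
      rw [Subgroup.mem_centralizer_singleton_iff] at hg
      apply Subgroup.mem_inf.mpr
      constructor
      · rw [Subgroup.mem_centralizer_singleton_iff]
        exact ((Commute.pow_right (show Commute g x from hg) a)).eq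
      · rw [Subgroup.mem_centralizer_singleton_iff]
        exact ((Commute.pow_right (show Commute g x from hg) b)).eq
    · rw [if_neg hx, if_neg hx]
  calc (∑ x : H, if E (insert r σ) x then Nat.card (Subgroup.centralizer ({x} : Set H)) else 0)
      ≤ ∑ x : H, if E (insert r σ) x then F (φ x) else 0 := Finset.sum_le_sum (fun x _ => hterm x)
    _ = ∑ x ∈ Finset.univ.filter (fun x : H => E (insert r σ) x), F (φ x) := by
        rw [Finset.sum_filter]
    _ = ∑ p ∈ (Finset.univ.filter (fun x : H => E (insert r σ) x)).image φ, F p := by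
        rw [Finset.sum_image]
        intro x _ y _ hxy
        exact hφinj hxy
    _ ≤ ∑ p : H × H, F p :=
        Finset.sum_le_sum_of_subset (Finset.subset_univ _)

noncomputable def kk (σ : Finset ℕ) (H : Type*) [Group H] : ℕ :=
  Nat.card {c : ConjClasses H // ∀ x ∈ c.carrier, E σ x}

open Classical in
theorem kk_mul_card (σ : Finset ℕ) (H : Type*) [Group H] [Fintype H] :
    kk σ H * Nat.card H =
      ∑ x : H, if E σ x then Nat.card (Subgroup.centralizer ({x} : Set H)) else 0 :=
  lemmaK (E σ) (fun g x hx => E_conj σ g x hx)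

theorem kk_single_le (r : ℕ) (hr : r.Prime) (H : Type*) [Group H] [Finite H] :
    kk {r} H ≤ r ^ (Nat.card H).factorization r := by
  haveI : Fact r.Prime := ⟨hr⟩
  obtain ⟨P⟩ : Nonempty (Sylow r H) := inferInstance
  rw [← Sylow.card_eq_multiplicity P]
  have hcl : ∀ x : ↥(P : Subgroup H), ∀ y ∈ (ConjClasses.mk (x : H)).carrier, E {r} y := by
    intro x y hy
    have h1 : ConjClasses.mk y = ConjClasses.mk (x : H) := ConjClasses.mem_carrier_iff_mk_eq.mp hy
    obtain ⟨c, hc⟩ := isConj_iff.mp (ConjClasses.mk_eq_mk_iff_isConj.mp h1).symm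
    rw [← hc]
    apply E_conj
    obtain ⟨k, hk⟩ := (IsPGroup.iff_orderOf.mp P.2) x
    apply E_pow_a r hr (x : H) k
    rw [← Subgroup.orderOf_coe] at hk
    rw [← hk]
    exact pow_orderOf_eq_one _
  let f : ↥(P : Subgroup H) → {c : ConjClasses H // ∀ x ∈ c.carrier, E {r} x} :=
    fun x => ⟨ConjClasses.mk (x : H), hcl x⟩
  apply Nat.card_le_card_of_surjective f
  rintro ⟨c, hc⟩
  obtain ⟨y, rfl⟩ := ConjClasses.exists_rep c
  have hy : E {r} y := hc y ConjClasses.mem_carrier_mk
  have hk : orderOf y = r ^ (orderOf y).primeFactorsList.length := by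
    apply Nat.eq_prime_pow_of_unique_prime_dvd (orderOf_pos y).ne'
    intro d hd hdy
    exact Finset.mem_singleton.mp (hy d hd hdy)
  have hzp : IsPGroup r (Subgroup.zpowers y) := by
    apply IsPGroup.of_card (n := (orderOf y).primeFactorsList.length)
    rw [Nat.card_zpowers]
    exact hk
  obtain ⟨Q, hQ⟩ := hzp.exists_le_sylow
  obtain ⟨g, hg⟩ := MulAction.exists_smul_eq H Q P
  have hyQ : y ∈ Q := hQ (Subgroup.mem_zpowers y)
  have hgy : g * y * g⁻¹ ∈ P := by
    rw [← hg]
    exact Subgroup.smul_mem_pointwise_smul y (MulAut.conj g) (Q : Subgroup H) hyQ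
  refine ⟨⟨g * y * g⁻¹, hgy⟩, ?_⟩
  apply Subtype.ext
  show ConjClasses.mk (g * y * g⁻¹) = ConjClasses.mk y
  rw [ConjClasses.mk_eq_mk_iff_isConj, isConj_comm, isConj_iff]
  exact ⟨g, rfl⟩

theorem kk_empty_le (H : Type*) [Group H] : kk ∅ H ≤ 1 := by
  unfold kk
  haveI : Subsingleton {c : ConjClasses H // ∀ x ∈ c.carrier, E ∅ x} := by
    constructor
    rintro ⟨c1, h1⟩ ⟨c2, h2⟩
    apply Subtype.ext
    obtain ⟨y1, rfl⟩ := ConjClasses.exists_rep c1
    obtain ⟨y2, rfl⟩ := ConjClasses.exists_rep c2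
    have e1 : ∀ y : H, E ∅ y → y = 1 := by
      intro y hy
      rw [← orderOf_eq_one_iff]
      by_contra hne
      obtain ⟨q, hq, hqd⟩ := Nat.exists_prime_and_dvd hne
      exact absurd (hy q hq hqd) (Finset.notMem_empty q)
    have hy1 : y1 = 1 := e1 y1 (h1 y1 ConjClasses.mem_carrier_mk)
    have hy2 : y2 = 1 := e1 y2 (h2 y2 ConjClasses.mem_carrier_mk)
    show ConjClasses.mk y1 = ConjClasses.mk y2
    rw [hy1, hy2]
  exact Finite.card_le_one_iff_subsingleton.mpr inferInstance

theorem lemmaM {H : Type*} [Group H] [Finite H] (σ : Finset ℕ) (hσ : ∀ q ∈ σ, q.Prime)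
    (r : ℕ) (hr : r.Prime)
    (IH : ∀ C : Subgroup H, kk σ C ≤ part σ (Nat.card C)) :
    kk (insert r σ) H ≤ part σ (Nat.card H) * kk {r} H := by
  classical
  haveI : Fintype H := Fintype.ofFinite H
  have hpos : 0 < Nat.card H := Nat.card_pos
  apply Nat.le_of_mul_le_mul_right _ hpos
  rw [kk_mul_card, mul_assoc, kk_mul_card]
  refine (decomp σ r hr).trans ?_
  rw [Finset.mul_sum]
  apply Finset.sum_le_sum
  intro y _
  by_cases hy : E {r} y
  · rw [if_pos hy, if_pos hy]
    haveI : Fintype (Subgroup.centralizer ({y} : Set H)) := Fintype.ofFinite _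
    rw [← inner_sum (Subgroup.centralizer ({y} : Set H)) σ, ← kk_mul_card]
    have h1 := IH (Subgroup.centralizer ({y} : Set H))
    have h2 : part σ (Nat.card (Subgroup.centralizer ({y} : Set H))) ≤ part σ (Nat.card H) :=
      part_mono σ hσ (Subgroup.card_subgroup_dvd_card _) hpos.ne'
    exact Nat.mul_le_mul_right _ (h1.trans h2)
  · rw [if_neg hy, if_neg hy, mul_zero]

theorem kk_le_part.{u} (σ : Finset ℕ) (hσ : ∀ r ∈ σ, r.Prime) :
    ∀ (H : Type u) [Group H] [Finite H], kk σ H ≤ part σ (Nat.card H) := by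
  induction σ using Finset.induction_on with
  | empty =>
    intro H _ _
    refine (kk_empty_le H).trans ?_
    unfold part
    simp
  | insert r σ hr ih =>
    intro H _ _
    have hσ' : ∀ q ∈ σ, q.Prime := fun q hq => hσ q (Finset.mem_insert_of_mem hq)
    have hrp : r.Prime := hσ r (Finset.mem_insert_self r σ)
    have h1 := lemmaM (H := H) σ hσ' r hrp (fun C => ih hσ' C)
    rw [part_insert σ r hr, mul_comm]
    exact h1.trans (Nat.mul_le_mul_left _ (kk_single_le r hrp H))

theorem kk_le_mul.{u} (σ : Finset ℕ) (hσ : ∀ r ∈ σ, r.Prime) (r : ℕ) (hr : r ∈ σ)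
    (H : Type u) [Group H] [Finite H] :
    kk σ H ≤ part (σ.erase r) (Nat.card H) * kk {r} H := by
  have hσ' : ∀ q ∈ σ.erase r, q.Prime := fun q hq => hσ q (Finset.mem_of_mem_erase hq)
  have h1 := lemmaM (H := H) (σ.erase r) hσ' r (hσ r hr)
    (fun C => kk_le_part (σ.erase r) hσ' C)
  rwa [Finset.insert_erase hr] at h1

theorem part_erase (σ : Finset ℕ) (r : ℕ) (hr : r ∈ σ) (n : ℕ) :
    part σ n = r ^ n.factorization r * part (σ.erase r) n := by
  conv_lhs => rw [← Finset.insert_erase hr]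
  exact part_insert (σ.erase r) r (Finset.notMem_erase r σ) n

theorem part_pos (σ : Finset ℕ) (hσ : ∀ r ∈ σ, r.Prime) (n : ℕ) : 0 < part σ n := by
  unfold part
  apply Finset.prod_pos
  intro i hi
  exact Nat.pow_pos (hσ i hi).pos

theorem E_single_iff {H : Type*} [Group H] [Finite H] (r : ℕ) (hr : r.Prime) (x : H) :
    E {r} x ↔ ∃ k : ℕ, orderOf x = r ^ k := by
  constructor
  · intro hy
    refine ⟨(orderOf x).primeFactorsList.length, ?_⟩
    apply Nat.eq_prime_pow_of_unique_prime_dvd (orderOf_pos x).ne'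
    intro d hd hdy
    exact Finset.mem_singleton.mp (hy d hd hdy)
  · rintro ⟨k, hk⟩
    apply E_pow_a r hr x k
    rw [← hk]
    exact pow_orderOf_eq_one _

theorem kk_single_eq (r : ℕ) (hr : r.Prime) (H : Type*) [Group H] [Finite H] :
    kk {r} H = Nat.card {c : ConjClasses H // ∀ x ∈ c.carrier, ∃ k : ℕ, orderOf x = r ^ k} := by
  unfold kk
  apply Nat.card_congr
  apply Equiv.subtypeEquivRight
  intro c
  constructor
  · intro h x hx
    exact (E_single_iff r hr x).mp (h x hx)
  · intro h x hx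
    exact (E_single_iff r hr x).mpr (h x hx)

theorem single_ineq.{u} (σ : Finset ℕ) (hσ : ∀ r ∈ σ, r.Prime) (p : ℕ) (hp : p ∈ σ)
    (hmin : ∀ r ∈ σ, p ≤ r) (H : Type u) [Group H] [Finite H]
    (hk : (p + 1) * part σ (Nat.card H) < 2 * p * kk σ H) (r : ℕ) (hr : r ∈ σ) :
    (r + 1) * r ^ (Nat.card H).factorization r < 2 * r * kk {r} H := by
  have h1 := kk_le_mul σ hσ r hr H
  have h2 := part_erase σ r hr (Nat.card H)
  have hM := part_pos (σ.erase r) (fun q hq => hσ q (Finset.mem_of_mem_erase hq)) (Nat.card H)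
  set M := part (σ.erase r) (Nat.card H) with hMdef
  set R := r ^ (Nat.card H).factorization r with hR
  set k := kk {r} H with hkdef
  have hpr : p ≤ r := hmin r hr
  have hp0 : 0 < p := (hσ p hp).pos
  rw [h2] at hk
  have h3 : (p + 1) * (R * M) < 2 * p * (M * k) :=
    lt_of_lt_of_le hk (Nat.mul_le_mul_left _ h1)
  have h4 : (p + 1) * R < 2 * p * k := by
    apply Nat.lt_of_mul_lt_mul_right (a := M)
    calc (p + 1) * R * M = (p + 1) * (R * M) := by ring
      _ < 2 * p * (M * k) := h3
      _ = 2 * p * k * M := by ring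
  apply Nat.lt_of_mul_lt_mul_right (a := p)
  calc (r + 1) * R * p = (r * p + p) * R := by ring
    _ ≤ (r * p + r) * R := Nat.mul_le_mul_right _ (Nat.add_le_add_left hpr _)
    _ = (p + 1) * R * r := by ring
    _ < 2 * p * k * r := Nat.mul_lt_mul_of_pos_right h4 (lt_of_lt_of_le hp0 hpr)
    _ = 2 * r * k * p := by ring

end Pi

end Cfsg.Agent.Lib.Helper1.PiClasses
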