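import Mathlib
import Cfsg.Prelude.Def_Transfer
import Cfsg.Agent.Lib.Helper1.TNPC.Basic
import Cfsg.Agent.Lib.Helper1.InternalSZ

set_option autoImplicit false

namespace Cfsg.Agent.Lib.Helper1.TwoClasses

open Cfsg
open scoped Pointwise

section Basic

variable {G : Type*} [Group G]

def T2 (x : G) : Prop := ∃ k : ℕ, orderOf x = 2 ^ k

theorem T2_conj (g x : G) (hx : T2 x) : T2 (g * x * g⁻¹) := by
  obtain ⟨k, hk⟩ := hx
  refine ⟨k, ?_⟩
  have h1 : orderOf (g * x * g⁻¹) = orderOf x :=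
    orderOf_injective (MulAut.conj g).toMonoidHom (MulAut.conj g).injective x
  rw [h1, hk]

theorem T2_of_pow (x : G) (k : ℕ) (h : x ^ 2 ^ k = 1) : T2 x := by
  have h1 : orderOf x ∣ 2 ^ k := orderOf_dvd_of_pow_eq_one h
  obtain ⟨j, _, hj⟩ := (Nat.dvd_prime_pow Nat.prime_two).mp h1
  exact ⟨j, hj⟩

theorem T2_map {H : Type*} [Group H] (f : G →* H) (x : G) (hx : T2 x) : T2 (f x) := by
  obtain ⟨k, hk⟩ := hx
  apply T2_of_pow (f x) k
  rw [← map_pow, ← hk, pow_orderOf_eq_one, map_one]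

abbrev Cl2 (G : Type*) [Group G] : Type _ := {c : ConjClasses G // ∀ x ∈ c.carrier, T2 x}

theorem mem_carrier_mk_iff (x y : G) :
    y ∈ (ConjClasses.mk x).carrier ↔ ∃ g : G, g * x * g⁻¹ = y := by
  rw [ConjClasses.mem_carrier_iff_mk_eq, ConjClasses.mk_eq_mk_iff_isConj, isConj_comm, isConj_iff]

def mk2 (x : G) (hx : T2 x) : Cl2 G :=
  ⟨ConjClasses.mk x, by
    intro y hy
    obtain ⟨g, rfl⟩ := (mem_carrier_mk_iff x y).mp hy
    exact T2_conj g x hx⟩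

theorem mk2_eq_iff (x y : G) (hx : T2 x) (hy : T2 y) :
    mk2 x hx = mk2 y hy ↔ ∃ g : G, g * x * g⁻¹ = y := by
  constructor
  · intro h
    have h1 : ConjClasses.mk x = ConjClasses.mk y := congrArg Subtype.val h
    rw [ConjClasses.mk_eq_mk_iff_isConj, isConj_iff] at h1
    exact h1
  · rintro ⟨g, hg⟩
    apply Subtype.ext
    show ConjClasses.mk x = ConjClasses.mk y
    rw [ConjClasses.mk_eq_mk_iff_isConj, isConj_iff]
    exact ⟨g, hg⟩

theorem exists_rep2 (c : Cl2 G) : ∃ (x : G) (hx : T2 x), mk2 x hx = c := by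
  obtain ⟨c, hc⟩ := c
  obtain ⟨y, rfl⟩ := ConjClasses.exists_rep c
  exact ⟨y, hc y ConjClasses.mem_carrier_mk, rfl⟩

theorem T2_of_mem_sylow [Finite G] (P : Sylow 2 G) {y : G} (hy : y ∈ (P : Subgroup G)) : T2 y := by
  haveI : Fact (Nat.Prime 2) := ⟨Nat.prime_two⟩
  obtain ⟨k, hk⟩ := (IsPGroup.iff_orderOf.mp P.2) ⟨y, hy⟩
  rw [Subgroup.orderOf_mk] at hk
  exact ⟨k, hk⟩

theorem isPGroup_zpowers (x : G) (hx : T2 x) : IsPGroup 2 (Subgroup.zpowers x) := by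
  haveI : Fact (Nat.Prime 2) := ⟨Nat.prime_two⟩
  obtain ⟨k, hk⟩ := hx
  apply IsPGroup.of_card (n := k)
  rw [Nat.card_zpowers]
  exact hk

theorem exists_conj_mem_sylow [Finite G] (P : Sylow 2 G) (x : G) (hx : T2 x) :
    ∃ g : G, g * x * g⁻¹ ∈ (P : Subgroup G) := by
  haveI : Fact (Nat.Prime 2) := ⟨Nat.prime_two⟩
  obtain ⟨Q, hQ⟩ := (isPGroup_zpowers x hx).exists_le_sylow
  obtain ⟨g, hg⟩ := MulAction.exists_smul_eq G Q P
  refine ⟨g, ?_⟩
  rw [← hg]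
  exact Subgroup.smul_mem_pointwise_smul x (MulAut.conj g) (Q : Subgroup G)
    (hQ (Subgroup.mem_zpowers x))

def sylowClassMap [Finite G] (P : Sylow 2 G) : ConjClasses ↥(P : Subgroup G) → Cl2 G :=
  Quotient.lift (fun y : ↥(P : Subgroup G) => mk2 (y : G) (T2_of_mem_sylow P y.2)) (by
    intro a b hab
    obtain ⟨c, hc⟩ := isConj_iff.mp hab
    rw [mk2_eq_iff]
    refine ⟨(c : G), ?_⟩
    rw [← hc]
    simp)

theorem sylowClassMap_mk [Finite G] (P : Sylow 2 G) (y : ↥(P : Subgroup G)) :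
    sylowClassMap P (ConjClasses.mk y) = mk2 (y : G) (T2_of_mem_sylow P y.2) := rfl

theorem sylowClassMap_surjective [Finite G] (P : Sylow 2 G) :
    Function.Surjective (sylowClassMap P) := by
  intro c
  obtain ⟨x, hx, rfl⟩ := exists_rep2 c
  obtain ⟨g, hg⟩ := exists_conj_mem_sylow P x hx
  refine ⟨ConjClasses.mk ⟨g * x * g⁻¹, hg⟩, ?_⟩
  rw [sylowClassMap_mk, mk2_eq_iff]
  refine ⟨g⁻¹, ?_⟩
  show g⁻¹ * (g * x * g⁻¹) * g⁻¹⁻¹ = x
  group

theorem card_cl2_le [Finite G] (P : Sylow 2 G) :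
    Nat.card (Cl2 G) ≤ Nat.card (ConjClasses ↥(P : Subgroup G)) :=
  Nat.card_le_card_of_surjective _ (sylowClassMap_surjective P)

theorem sylowClassMap_injective_of_npc [Finite G] (P : Sylow 2 G)
    (h : HasNormalPComplement 2 G) : Function.Injective (sylowClassMap P) := by
  haveI : Fact (Nat.Prime 2) := ⟨Nat.prime_two⟩
  obtain ⟨N, hNn, hc, k, hk⟩ := TNPC.npc_iff.mp h
  haveI := hNn
  have hcomp : N.IsComplement' (P : Subgroup G) :=
    Cfsg.Agent.S0072.isComplement'_sylow_of_normal_pcomp N hc hk P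
  have hdisj : N ⊓ (P : Subgroup G) = ⊥ := hcomp.disjoint.eq_bot
  intro c1 c2
  refine Quotient.inductionOn₂ c1 c2 ?_
  intro a b hab
  have hab' : mk2 (a : G) (T2_of_mem_sylow P a.2) = mk2 (b : G) (T2_of_mem_sylow P b.2) := hab
  rw [mk2_eq_iff] at hab'
  obtain ⟨g, hg⟩ := hab'
  obtain ⟨⟨⟨n, hn⟩, ⟨h, hh⟩⟩, hnh, -⟩ := (Subgroup.isComplement_iff_existsUnique.mp hcomp) g
  have hnh' : n * h = g := hnh
  set a' : G := h * a * h⁻¹ with ha'
  have ha'P : a' ∈ (P : Subgroup G) := mul_mem (mul_mem hh a.2) (inv_mem hh)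
  have h1 : n * a' * n⁻¹ = (b : G) := by
    rw [← hg, ← hnh', ha']
    group
  have h2 : n * a' * n⁻¹ * a'⁻¹ ∈ N ⊓ (P : Subgroup G) := by
    constructor
    · have h3 : a' * n⁻¹ * a'⁻¹ ∈ N := hNn.conj_mem n⁻¹ (inv_mem hn) a'
      have h4 : n * a' * n⁻¹ * a'⁻¹ = n * (a' * n⁻¹ * a'⁻¹) := by group
      rw [h4]
      exact mul_mem hn h3
    · rw [h1]
      exact (P : Subgroup G).mul_mem b.2 ((P : Subgroup G).inv_mem ha'P)
  rw [hdisj, Subgroup.mem_bot] at h2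
  have h3 : (b : G) = a' := by
    rw [← h1]
    exact mul_inv_eq_one.mp h2
  apply Quotient.sound
  show IsConj a b
  rw [isConj_iff]
  refine ⟨⟨h, hh⟩, ?_⟩
  apply Subtype.ext
  show h * (a : G) * h⁻¹ = (b : G)
  rw [h3]

theorem card_classes_le_of_npc [Finite G] (P : Sylow 2 G) (h : HasNormalPComplement 2 G) :
    Nat.card (ConjClasses ↥(P : Subgroup G)) ≤ Nat.card (Cl2 G) :=
  Nat.card_le_card_of_injective _ (sylowClassMap_injective_of_npc P h)

end Basic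

end Cfsg.Agent.Lib.Helper1.TwoClasses
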