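import Mathlib
import Cfsg.Agent.Lib.Helper1.TwoClasses

set_option autoImplicit false

namespace Cfsg.Agent.Lib.Helper1.TwoClasses

open Cfsg
open scoped Pointwise

section Count

variable {G : Type*} [Group G]

theorem two_mul_le_of_no_isolated [Finite G] (P : Sylow 2 G)
    (h : ∀ y ∈ (P : Subgroup G), y ≠ 1 →
      ∃ g : G, g * y * g⁻¹ ∈ (P : Subgroup G) ∧ g * y * g⁻¹ ≠ y) :
    2 * Nat.card (Cl2 G) ≤ Nat.card ↥(P : Subgroup G) + 1 := by
  classical
  haveI : Fintype ↥(P : Subgroup G) := Fintype.ofFinite _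
  haveI : Fintype (Cl2 G) := Fintype.ofFinite _
  let φ : ↥(P : Subgroup G) → Cl2 G := fun y => mk2 (y : G) (T2_of_mem_sylow P y.2)
  have hφ : Function.Surjective φ := by
    intro c
    obtain ⟨d, hd⟩ := sylowClassMap_surjective P c
    obtain ⟨y, rfl⟩ := ConjClasses.exists_rep d
    exact ⟨y, hd⟩
  let s : Finset ↥(P : Subgroup G) := Finset.univ.erase 1
  have hs : s.card = Nat.card ↥(P : Subgroup G) - 1 := by
    rw [Finset.card_erase_of_mem (Finset.mem_univ _), Finset.card_univ, Nat.card_eq_fintype_card]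
  have hfib : ∀ c ∈ s.image φ, 2 ≤ (s.filter fun x => φ x = c).card := by
    intro c hc
    obtain ⟨y, hy, rfl⟩ := Finset.mem_image.mp hc
    have hy1 : y ≠ 1 := Finset.ne_of_mem_erase hy
    have hy1' : (y : G) ≠ 1 := fun hh => hy1 (Subtype.ext hh)
    obtain ⟨g, hgP, hgne⟩ := h (y : G) y.2 hy1'
    have hne1 : (⟨g * y * g⁻¹, hgP⟩ : ↥(P : Subgroup G)) ≠ 1 := by
      intro hh
      have h1 : g * (y : G) * g⁻¹ = 1 := congrArg Subtype.val hh
      apply hy1'
      have h2 : (y : G) = g⁻¹ * (g * (y : G) * g⁻¹) * g := by group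
      rw [h2, h1]
      group
    apply Nat.succ_le_of_lt
    rw [Finset.one_lt_card]
    refine ⟨y, ?_, ⟨g * y * g⁻¹, hgP⟩, ?_, ?_⟩
    · exact Finset.mem_filter.mpr ⟨hy, rfl⟩
    · refine Finset.mem_filter.mpr ⟨Finset.mem_erase.mpr ⟨hne1, Finset.mem_univ _⟩, ?_⟩
      show mk2 (g * (y : G) * g⁻¹) _ = mk2 (y : G) _
      rw [mk2_eq_iff]
      refine ⟨g⁻¹, ?_⟩
      group
    · intro hh
      apply hgne
      exact (congrArg Subtype.val hh).symm
  have h1 := Finset.mul_card_image_le_card s 2 hfib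
  have h2 : Finset.univ ⊆ insert (φ 1) (s.image φ) := by
    intro c _
    obtain ⟨y, rfl⟩ := hφ c
    by_cases hy : y = 1
    · rw [hy]
      exact Finset.mem_insert_self _ _
    · apply Finset.mem_insert_of_mem
      exact Finset.mem_image_of_mem φ (Finset.mem_erase.mpr ⟨hy, Finset.mem_univ _⟩)
  have h3 : Fintype.card (Cl2 G) ≤ (s.image φ).card + 1 := by
    rw [← Finset.card_univ]
    exact (Finset.card_le_card h2).trans (Finset.card_insert_le _ _)
  rw [Nat.card_eq_fintype_card (α := Cl2 G)]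
  have hpos : 0 < Nat.card ↥(P : Subgroup G) := Nat.card_pos
  omega

theorem isPGroup_zpowers_of_orderOf {H : Type*} [Group H] {p : ℕ} [Fact p.Prime] (x : H) (k : ℕ)
    (hk : orderOf x = p ^ k) : IsPGroup p (Subgroup.zpowers x) := by
  apply IsPGroup.of_card (n := k)
  rw [Nat.card_zpowers]
  exact hk

theorem exists_conj_common_sylow {H : Type*} [Group H] [Finite H] {p : ℕ} [Fact p.Prime] (a b : H)
    (k l : ℕ) (ha : orderOf a = p ^ k) (hb : orderOf b = p ^ l) :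
    ∃ (c : H) (R : Sylow p H), a ∈ (R : Subgroup H) ∧ c * b * c⁻¹ ∈ (R : Subgroup H) := by
  obtain ⟨R, hR⟩ := (isPGroup_zpowers_of_orderOf a k ha).exists_le_sylow
  obtain ⟨R', hR'⟩ := (isPGroup_zpowers_of_orderOf b l hb).exists_le_sylow
  obtain ⟨c, hc⟩ := MulAction.exists_smul_eq H R' R
  refine ⟨c, R, hR (Subgroup.mem_zpowers a), ?_⟩
  rw [← hc]
  exact Subgroup.smul_mem_pointwise_smul b (MulAut.conj c) (R' : Subgroup H)
    (hR' (Subgroup.mem_zpowers b))

theorem isolated_pow {p : ℕ} [Fact p.Prime] [Finite G] (P : Sylow p G) (y : G)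
    (hy : y ∈ (P : Subgroup G))
    (hiso : ∀ g : G, g * y * g⁻¹ ∈ (P : Subgroup G) → g * y * g⁻¹ = y) (j : ℕ) :
    ∀ g : G, g * y ^ j * g⁻¹ ∈ (P : Subgroup G) → g * y ^ j * g⁻¹ = y ^ j := by
  intro g hg
  set v := g * y ^ j * g⁻¹ with hv
  have hyZ : ∀ h ∈ (P : Subgroup G), h * y * h⁻¹ = y := fun h hh =>
    hiso h ((P : Subgroup G).mul_mem ((P : Subgroup G).mul_mem hh hy) ((P : Subgroup G).inv_mem hh))
  have hyC : y ∈ Subgroup.centralizer ({v} : Set G) := by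
    rw [Subgroup.mem_centralizer_singleton_iff]
    have h1 := hyZ v hg
    calc y * v = v * y * v⁻¹ * v := by rw [h1]
      _ = v * y := by group
  have hy'C : g * y * g⁻¹ ∈ Subgroup.centralizer ({v} : Set G) := by
    rw [Subgroup.mem_centralizer_singleton_iff, hv]
    have h1 : y * y ^ j = y ^ j * y := (pow_mul_comm' y j).symm
    calc g * y * g⁻¹ * (g * y ^ j * g⁻¹) = g * (y * y ^ j) * g⁻¹ := by group
      _ = g * (y ^ j * y) * g⁻¹ := by rw [h1]
      _ = g * y ^ j * g⁻¹ * (g * y * g⁻¹) := by group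
  set C : Subgroup G := Subgroup.centralizer ({v} : Set G) with hC
  obtain ⟨k, hk⟩ := (IsPGroup.iff_orderOf.mp P.2) ⟨y, hy⟩
  rw [Subgroup.orderOf_mk] at hk
  have hk' : orderOf (g * y * g⁻¹) = p ^ k := by
    have h1 : orderOf (g * y * g⁻¹) = orderOf y :=
      orderOf_injective (MulAut.conj g).toMonoidHom (MulAut.conj g).injective y
    rw [h1, hk]
  obtain ⟨c, R, hyR, hcR⟩ := exists_conj_common_sylow (H := ↥C) (p := p) ⟨y, hyC⟩ ⟨g * y * g⁻¹, hy'C⟩ k k
    (by rw [Subgroup.orderOf_mk]; exact hk) (by rw [Subgroup.orderOf_mk]; exact hk')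
  have hRp : IsPGroup p ((R : Subgroup ↥C).map C.subtype) := R.2.map C.subtype
  obtain ⟨Q, hQ⟩ := hRp.exists_le_sylow
  obtain ⟨h, hh⟩ := MulAction.exists_smul_eq G Q P
  have hconj : ∀ x ∈ (Q : Subgroup G), h * x * h⁻¹ ∈ (P : Subgroup G) := by
    intro x hx
    rw [← hh]
    exact Subgroup.smul_mem_pointwise_smul x (MulAut.conj h) (Q : Subgroup G) hx
  have hyQ : y ∈ (Q : Subgroup G) := hQ ⟨⟨y, hyC⟩, hyR, rfl⟩
  have hcQ : (c : G) * (g * y * g⁻¹) * (c : G)⁻¹ ∈ (Q : Subgroup G) := hQ ⟨_, hcR, rfl⟩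
  have e1 : h * y * h⁻¹ = y := hiso h (hconj y hyQ)
  have e2 : (h * c * g) * y * (h * c * g)⁻¹ = y := by
    apply hiso
    have h1 := hconj _ hcQ
    have h2 : (h * c * g) * y * (h * c * g)⁻¹ = h * ((c : G) * (g * y * g⁻¹) * (c : G)⁻¹) * h⁻¹ := by
      group
    rw [h2]
    exact h1
  have e3 : ((c : G) * g) * y * ((c : G) * g)⁻¹ = y := by
    have h1 : ((c : G) * g) * y * ((c : G) * g)⁻¹ = h⁻¹ * ((h * c * g) * y * (h * c * g)⁻¹) * h := by
      group
    rw [h1, e2]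
    calc h⁻¹ * y * h = h⁻¹ * (h * y * h⁻¹) * h := by rw [e1]
      _ = y := by group
  have e4 : ((c : G) * g) * y ^ j * ((c : G) * g)⁻¹ = y ^ j := by
    have h1 : ((c : G) * g) * y ^ j * ((c : G) * g)⁻¹ = (((c : G) * g) * y * ((c : G) * g)⁻¹) ^ j := by
      rw [conj_pow]
    rw [h1, e3]
  have e5 : (c : G) * v * (c : G)⁻¹ = v := by
    have h1 : (c : G) ∈ Subgroup.centralizer ({v} : Set G) := c.2
    rw [Subgroup.mem_centralizer_singleton_iff] at h1
    rw [h1]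
    group
  have e6 : (c : G) * v * (c : G)⁻¹ = y ^ j := by
    rw [← e4]
    show (c : G) * (g * y ^ j * g⁻¹) * (c : G)⁻¹ = _
    group
  rw [← e5, e6]

end Count

end Cfsg.Agent.Lib.Helper1.TwoClasses
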