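import Mathlib
import Cfsg.Agent.Lib.Helper1.PiClasses
import Cfsg.Agent.Lib.Helper1.TwoClassesB

set_option autoImplicit false

namespace Cfsg.Agent.Lib.Helper1.PCentral

def HH (p : ℕ) (G : Type*) [Group G] : Prop :=
  ∀ x : G, (∃ k : ℕ, orderOf x = p ^ k) →
    ¬ p ∣ (Subgroup.centralizer ({x} : Set G)).index

theorem relIndex_dvd_index_normal {G : Type*} [Group G] [Finite G] (C N : Subgroup G)
    [N.Normal] : C.relIndex N ∣ C.index := by
  have h1 : C.relIndex N * N.index = (C ⊓ N).index := by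
    rw [← Subgroup.inf_relIndex_right C N]
    exact Subgroup.relIndex_mul_index inf_le_right
  have h2 : N.relIndex C * C.index = (C ⊓ N).index := by
    rw [← Subgroup.inf_relIndex_right N C, inf_comm N C]
    exact Subgroup.relIndex_mul_index inf_le_left
  obtain ⟨c, hc⟩ : N.relIndex C ∣ N.index := Subgroup.relIndex_dvd_index_of_normal N C
  have hb : N.relIndex C ≠ 0 := by
    unfold Subgroup.relIndex
    exact Subgroup.index_ne_zero_of_finite
  refine ⟨c, ?_⟩
  have : N.relIndex C * C.index = N.relIndex C * (C.relIndex N * c) := by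
    rw [h2, ← h1, hc]; ring
  exact Nat.eq_of_mul_eq_mul_left (Nat.pos_of_ne_zero hb) this

theorem HH_normal {G : Type*} [Group G] [Finite G] (p : ℕ) (hG : HH p G)
    (N : Subgroup G) [N.Normal] : HH p N := by
  intro x hx hdvd
  have h1 : Subgroup.centralizer ({x} : Set N) =
      (Subgroup.centralizer ({(x : G)} : Set G)).subgroupOf N := by
    ext g
    rw [Subgroup.mem_subgroupOf, Subgroup.mem_centralizer_singleton_iff,
      Subgroup.mem_centralizer_singleton_iff, Subtype.ext_iff]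
    rfl
  rw [h1] at hdvd
  have hx' : ∃ k : ℕ, orderOf (x : G) = p ^ k := by
    obtain ⟨k, hk⟩ := hx
    exact ⟨k, by rw [Subgroup.orderOf_coe]; exact hk⟩
  apply hG (x : G) hx'
  exact hdvd.trans (relIndex_dvd_index_normal _ N)

theorem exists_lift {G : Type*} [Group G] [Finite G] (p : ℕ) [hp : Fact p.Prime]
    (N : Subgroup G) [N.Normal] (y : G ⧸ N) (hy : ∃ k : ℕ, orderOf y = p ^ k) :
    ∃ g : G, (QuotientGroup.mk g : G ⧸ N) = y ∧ ∃ j : ℕ, orderOf g = p ^ j := by
  obtain ⟨k, hk⟩ := hy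
  obtain ⟨g, rfl⟩ := QuotientGroup.mk_surjective y
  obtain ⟨a, b, hab⟩ := Cfsg.Agent.Lib.Helper1.PiClasses.exists_exponents (H := G) p hp.out
  obtain ⟨h1, h2, h3⟩ := hab g
  refine ⟨g ^ a, ?_, ?_⟩
  · have hb : ((QuotientGroup.mk g : G ⧸ N)) ^ b = 1 := by
      have e1 : ((QuotientGroup.mk g : G ⧸ N) ^ b) ^ (p ^ k) = 1 := by
        rw [← pow_mul, mul_comm, pow_mul, ← hk, pow_orderOf_eq_one, one_pow]
      have e2 : ((QuotientGroup.mk g : G ⧸ N) ^ b) ^
          (Nat.card G / p ^ (Nat.card G).factorization p) = 1 := by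
        rw [← QuotientGroup.mk_pow, ← QuotientGroup.mk_pow, h3]
        rfl
      have hco : Nat.Coprime (p ^ k) (Nat.card G / p ^ (Nat.card G).factorization p) :=
        Nat.Coprime.pow_left _ (Nat.coprime_ordCompl hp.out Nat.card_pos.ne')
      have e3 := orderOf_dvd_of_pow_eq_one e1
      have e4 := orderOf_dvd_of_pow_eq_one e2
      have e5 : orderOf ((QuotientGroup.mk g : G ⧸ N) ^ b) = 1 :=
        Nat.eq_one_of_dvd_coprimes hco e3 e4
      exact orderOf_eq_one_iff.mp e5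
    have : (QuotientGroup.mk g : G ⧸ N) =
        (QuotientGroup.mk g : G ⧸ N) ^ a * (QuotientGroup.mk g : G ⧸ N) ^ b := by
      rw [← QuotientGroup.mk_pow, ← QuotientGroup.mk_pow, ← QuotientGroup.mk_mul, h1]
    rw [hb, mul_one] at this
    rw [QuotientGroup.mk_pow]
    exact this.symm
  · exact (Nat.dvd_prime_pow hp.out).mp (orderOf_dvd_of_pow_eq_one h2) |>.imp fun j hj => hj.2

theorem HH_quotient {G : Type*} [Group G] [Finite G] (p : ℕ) [hp : Fact p.Prime] (hG : HH p G)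
    (N : Subgroup G) [N.Normal] : HH p (G ⧸ N) := by
  intro y hy hdvd
  obtain ⟨g, rfl, hg⟩ := exists_lift p N y hy
  apply hG g hg
  have h1 : (Subgroup.centralizer ({g} : Set G)).map (QuotientGroup.mk' N) ≤
      Subgroup.centralizer ({(QuotientGroup.mk g : G ⧸ N)} : Set (G ⧸ N)) := by
    rintro _ ⟨c, hc, rfl⟩
    rw [Subgroup.mem_centralizer_singleton_iff]
    rw [SetLike.mem_coe, Subgroup.mem_centralizer_singleton_iff] at hc
    show (QuotientGroup.mk c : G ⧸ N) * QuotientGroup.mk g = QuotientGroup.mk g * QuotientGroup.mk c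
    rw [← QuotientGroup.mk_mul, ← QuotientGroup.mk_mul, hc]
  exact (hdvd.trans (Subgroup.index_dvd_of_le h1)).trans
    (Subgroup.index_map_dvd _ (QuotientGroup.mk'_surjective N))

open scoped Pointwise

theorem exists_sylow_central {G : Type*} [Group G] [Finite G] (p : ℕ) [hp : Fact p.Prime]
    (hG : HH p G) (x : G) (hx : ∃ k : ℕ, orderOf x = p ^ k) :
    ∃ Q : Sylow p G, x ∈ (Q : Subgroup G) ∧
      (Q : Subgroup G) ≤ Subgroup.centralizer ({x} : Set G) := by
  obtain ⟨k, hk⟩ := hx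
  set C : Subgroup G := Subgroup.centralizer ({x} : Set G) with hC
  have hxC : x ∈ C := by
    rw [hC, Subgroup.mem_centralizer_singleton_iff]
  have hk' : orderOf (⟨x, hxC⟩ : C) = p ^ k := by
    rw [Subgroup.orderOf_mk]; exact hk
  obtain ⟨Q', hQ'⟩ :=
    (Cfsg.Agent.Lib.Helper1.TwoClasses.isPGroup_zpowers_of_orderOf (⟨x, hxC⟩ : C) k hk').exists_le_sylow
  have hp1 : IsPGroup p ((Q' : Subgroup C).map C.subtype) := Q'.2.map C.subtype
  have hp2 : ¬ p ∣ ((Q' : Subgroup C).map C.subtype).index := by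
    rw [Subgroup.index_map_subtype]
    exact Nat.Prime.not_dvd_mul hp.out Q'.not_dvd_index (hG x ⟨k, hk⟩)
  refine ⟨hp1.toSylow hp2, ?_, ?_⟩
  · rw [IsPGroup.toSylow_coe]
    exact ⟨⟨x, hxC⟩, hQ' (Subgroup.mem_zpowers _), rfl⟩
  · rw [IsPGroup.toSylow_coe]
    rintro _ ⟨c, _, rfl⟩
    exact c.2

theorem exists_conj_in {G : Type*} [Group G] [Finite G] (p : ℕ) [hp : Fact p.Prime]
    (P Q : Sylow p G) (M : Subgroup G) (hP : (P : Subgroup G) ≤ M) (hQ : (Q : Subgroup G) ≤ M) :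
    ∃ g ∈ M, g • P = Q := by
  obtain ⟨m, hm⟩ := MulAction.exists_smul_eq M (P.subtype hP) (Q.subtype hQ)
  rw [Sylow.smul_subtype] at hm
  exact ⟨(m : G), m.2, Sylow.subtype_injective hm⟩

theorem comm_mod {G : Type*} [Group G] [Finite G] (p : ℕ) [hp : Fact p.Prime]
    (N : Subgroup G) [N.Normal] (hQ : ∀ P : Sylow p (G ⧸ N), IsMulCommutative P)
    (R : Subgroup G) (hR : IsPGroup p R) (a b : G) (ha : a ∈ R) (hb : b ∈ R) :
    (QuotientGroup.mk a : G ⧸ N) * QuotientGroup.mk b = QuotientGroup.mk b * QuotientGroup.mk a := by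
  have h1 : IsPGroup p (R.map (QuotientGroup.mk' N)) := hR.map _
  obtain ⟨S, hS⟩ := h1.exists_le_sylow
  have ha' : (QuotientGroup.mk a : G ⧸ N) ∈ (S : Subgroup (G ⧸ N)) := hS ⟨a, ha, rfl⟩
  have hb' : (QuotientGroup.mk b : G ⧸ N) ∈ (S : Subgroup (G ⧸ N)) := hS ⟨b, hb, rfl⟩
  have := (hQ S).is_comm.comm ⟨_, ha'⟩ ⟨_, hb'⟩
  exact congrArg Subtype.val this

theorem comm_inf {G : Type*} [Group G] [Finite G] (p : ℕ) [hp : Fact p.Prime]
    (N : Subgroup G) (hN : ∀ P : Sylow p N, IsMulCommutative P)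
    (R : Subgroup G) (hR : IsPGroup p R) (a b : G) (ha : a ∈ R) (hb : b ∈ R)
    (haN : a ∈ N) (hbN : b ∈ N) : a * b = b * a := by
  have h1 : IsPGroup p (R.subgroupOf N) := hR.comap_subtype
  obtain ⟨S, hS⟩ := h1.exists_le_sylow
  have ha' : (⟨a, haN⟩ : N) ∈ (S : Subgroup N) := hS (by rw [Subgroup.mem_subgroupOf]; exact ha)
  have hb' : (⟨b, hbN⟩ : N) ∈ (S : Subgroup N) := hS (by rw [Subgroup.mem_subgroupOf]; exact hb)
  have := (hN S).is_comm.comm ⟨_, ha'⟩ ⟨_, hb'⟩
  have h2 := congrArg Subtype.val this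
  exact congrArg Subtype.val h2

theorem exists_central_mod {G : Type*} [Group G] [Finite G] (p : ℕ) [hp : Fact p.Prime]
    (hG : HH p G) (N : Subgroup G) [N.Normal]
    (hQ : ∀ P : Sylow p (G ⧸ N), IsMulCommutative P) (P : Sylow p G) (x : G)
    (hx : x ∈ (P : Subgroup G)) :
    ∃ z ∈ (P : Subgroup G), (∀ w ∈ (P : Subgroup G), w * z = z * w) ∧ z⁻¹ * x ∈ N := by
  have hxo : ∃ k : ℕ, orderOf x = p ^ k := by
    obtain ⟨k, hk⟩ := (IsPGroup.iff_orderOf.mp P.2) ⟨x, hx⟩
    rw [Subgroup.orderOf_mk] at hk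
    exact ⟨k, hk⟩
  obtain ⟨Q, hxQ, hQC⟩ := exists_sylow_central p hG x hxo
  set M : Subgroup G :=
    (Subgroup.centralizer ({(QuotientGroup.mk x : G ⧸ N)} : Set (G ⧸ N))).comap
      (QuotientGroup.mk' N) with hM
  have hPM : (P : Subgroup G) ≤ M := by
    intro y hy
    rw [hM, Subgroup.mem_comap, Subgroup.mem_centralizer_singleton_iff]
    exact comm_mod p N hQ P P.2 y x hy hx
  have hQM : (Q : Subgroup G) ≤ M := by
    intro y hy
    rw [hM, Subgroup.mem_comap, Subgroup.mem_centralizer_singleton_iff]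
    exact comm_mod p N hQ Q Q.2 y x hy hxQ
  obtain ⟨g, hgM, hg⟩ := exists_conj_in p P Q M hPM hQM
  have hconj : ∀ w ∈ (P : Subgroup G), g * w * g⁻¹ ∈ (Q : Subgroup G) := by
    intro w hw
    rw [← hg]
    exact Subgroup.smul_mem_pointwise_smul w (MulAut.conj g) (P : Subgroup G) hw
  have hconj' : ∀ w ∈ (Q : Subgroup G), g⁻¹ * w * g ∈ (P : Subgroup G) := by
    intro w hw
    have h1 : g⁻¹ • Q = P := by rw [← hg, inv_smul_smul]
    rw [← h1]
    have := Subgroup.smul_mem_pointwise_smul w (MulAut.conj g⁻¹) (Q : Subgroup G) hw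
    have e : MulAut.conj g⁻¹ • w = g⁻¹ * w * g := by
      rw [MulAut.smul_def, MulAut.conj_apply, inv_inv]
    rw [e] at this
    exact this
  refine ⟨g⁻¹ * x * g, hconj' x hxQ, ?_, ?_⟩
  · intro w hw
    have h1 := hQC (hconj w hw)
    rw [Subgroup.mem_centralizer_singleton_iff] at h1
    calc w * (g⁻¹ * x * g) = g⁻¹ * (g * w * g⁻¹ * x) * g := by group
      _ = g⁻¹ * (x * (g * w * g⁻¹)) * g := by rw [h1]
      _ = g⁻¹ * x * g * w := by group
  · rw [hM, Subgroup.mem_comap, Subgroup.mem_centralizer_singleton_iff] at hgM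
    rw [← QuotientGroup.eq_one_iff]
    have h2 : (QuotientGroup.mk' N) g * QuotientGroup.mk x = QuotientGroup.mk x * (QuotientGroup.mk' N) g := hgM
    have h3 : ((QuotientGroup.mk ((g⁻¹ * x * g)⁻¹ * x) : G ⧸ N)) =
        ((QuotientGroup.mk' N) g)⁻¹ * (QuotientGroup.mk x)⁻¹ * ((QuotientGroup.mk' N) g * QuotientGroup.mk x) := by
      simp only [QuotientGroup.mk'_apply, ← QuotientGroup.mk_inv, ← QuotientGroup.mk_mul]
      congr 1
      group
    rw [h3, h2]
    group

theorem sylow_comm_of_normal {G : Type*} [Group G] [Finite G] (p : ℕ) [hp : Fact p.Prime]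
    (hG : HH p G) (N : Subgroup G) [N.Normal]
    (hN : ∀ P : Sylow p N, IsMulCommutative P)
    (hQ : ∀ P : Sylow p (G ⧸ N), IsMulCommutative P) (P : Sylow p G) :
    IsMulCommutative P := by
  refine ⟨⟨fun a b => ?_⟩⟩
  obtain ⟨z, hz, hzc, hzN⟩ := exists_central_mod p hG N hQ P (a : G) a.2
  obtain ⟨z', hz', hzc', hzN'⟩ := exists_central_mod p hG N hQ P (b : G) b.2
  have hn : z⁻¹ * (a : G) ∈ (P : Subgroup G) :=
    (P : Subgroup G).mul_mem ((P : Subgroup G).inv_mem hz) a.2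
  have hn' : z'⁻¹ * (b : G) ∈ (P : Subgroup G) :=
    (P : Subgroup G).mul_mem ((P : Subgroup G).inv_mem hz') b.2
  have hcomm := comm_inf p N hN P P.2 _ _ hn hn' hzN hzN'
  have e1 := hzc' _ hn
  have e2 := hzc _ hn'
  have e3 := hzc _ hz'
  apply Subtype.ext
  show (a : G) * (b : G) = (b : G) * (a : G)
  have ha : (a : G) = z * (z⁻¹ * (a : G)) := by group
  have hb : (b : G) = z' * (z'⁻¹ * (b : G)) := by group
  set n := z⁻¹ * (a : G) with hn_def
  set n' := z'⁻¹ * (b : G) with hn'_def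
  rw [ha, hb]
  calc z * n * (z' * n') = z * (n * z') * n' := by group
    _ = z * (z' * n) * n' := by rw [e1]
    _ = z * z' * (n * n') := by group
    _ = z * z' * (n' * n) := by rw [hcomm]
    _ = (z' * z) * (n' * n) := by rw [e3]
    _ = z' * (z * n') * n := by group
    _ = z' * (n' * z) * n := by rw [e2]
    _ = z' * n' * (z * n) := by group

end Cfsg.Agent.Lib.Helper1.PCentral
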