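import Mathlib
import Cfsg.Agent.Lib.Helper1.PCentral

set_option autoImplicit false

namespace Cfsg.Agent.Lib.Helper1.PCentral

theorem exists_sq_mem {S : Type*} [Group S] [Finite S] (hS : IsPGroup 2 S) (D : Subgroup S)
    (v : S) (hv : v ∉ D) : ∃ j : ℕ, v ^ (2 ^ j) ∉ D ∧ (v ^ (2 ^ j)) ^ 2 ∈ D := by
  obtain ⟨k, hk⟩ := hS v
  have hex : ∃ j : ℕ, v ^ (2 ^ j) ∈ D := ⟨k, by rw [hk]; exact D.one_mem⟩
  classical
  set j₀ := Nat.find hex with hj₀
  have h1 : v ^ (2 ^ j₀) ∈ D := Nat.find_spec hex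
  have h2 : j₀ ≠ 0 := by
    intro h0
    rw [h0, pow_zero, pow_one] at h1
    exact hv h1
  obtain ⟨i, hi⟩ := Nat.exists_eq_succ_of_ne_zero h2
  refine ⟨i, ?_, ?_⟩
  · exact Nat.find_min hex (by omega)
  · rw [← pow_mul, ← pow_succ, ← Nat.succ_eq_add_one, ← hi]
    exact h1

theorem lemmaX {S : Type*} [Group S] [Finite S] (hS : IsPGroup 2 S) (m : ℕ)
    (hexp : ∀ x : S, x ^ (2 * m) = 1) (y : S)
    (hC : ∀ u : S, u * y ^ m = y ^ m * u → u * y = y * u) :
    ∀ u : S, u * y ^ m = y ^ m * u := by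
  by_contra hcon
  push_neg at hcon
  obtain ⟨u₀, hu₀⟩ := hcon
  set D : Subgroup S := Subgroup.centralizer ({y ^ m} : Set S) with hD
  have hmemD : ∀ u : S, u ∈ D ↔ u * y ^ m = y ^ m * u := by
    intro u
    rw [hD, Subgroup.mem_centralizer_singleton_iff]
  have hDtop : D < ⊤ := by
    rw [lt_top_iff_ne_top]
    intro h
    apply hu₀
    rw [← hmemD, h]
    exact Subgroup.mem_top _
  have : Fact (Nat.Prime 2) := ⟨Nat.prime_two⟩
  have : Group.IsNilpotent S := hS.isNilpotent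
  have hnc := Group.normalizerCondition_of_isNilpotent (G := S) D hDtop
  obtain ⟨v, hvN, hvD⟩ := SetLike.exists_of_lt hnc
  obtain ⟨j, hj1, hj2⟩ := exists_sq_mem hS D v hvD
  set w := v ^ (2 ^ j) with hw
  have hwN : w ∈ Subgroup.normalizer (D : Set S) := Subgroup.pow_mem _ hvN _
  have hyD : y ∈ D := by
    rw [hmemD]
    exact (pow_mul_comm' y m).symm ▸ rfl
  have hyZ : ∀ d ∈ D, d * y = y * d := fun d hd => hC d ((hmemD d).mp hd)
  set y' := w * y * w⁻¹ with hy'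
  have hy'D : y' ∈ D := (Subgroup.mem_normalizer_iff.mp hwN y).mp hyD
  have hy'Z : ∀ d ∈ D, d * y' = y' * d := by
    intro d hd
    have h1 : w⁻¹ * d * w ∈ D := by
      have := (Subgroup.mem_normalizer_iff.mp hwN (w⁻¹ * d * w)).mpr (by
        have : w * (w⁻¹ * d * w) * w⁻¹ = d := by group
        rw [this]; exact hd)
      exact this
    have h2 := hyZ _ h1
    calc d * y' = w * ((w⁻¹ * d * w) * y) * w⁻¹ := by rw [hy']; group
      _ = w * (y * (w⁻¹ * d * w)) * w⁻¹ := by rw [h2]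
      _ = y' * d := by rw [hy']; group
  have hyy' : y * y' = y' * y := (hyZ y' hy'D).symm
  have hw2 : w ^ 2 ∈ D := hj2
  have hcomm : Commute (y * y') (w ^ 2) := by
    have h1 := hyZ _ hw2
    have h2 := hy'Z _ hw2
    show y * y' * w ^ 2 = w ^ 2 * (y * y')
    calc y * y' * w ^ 2 = y * (y' * w ^ 2) := by group
      _ = y * (w ^ 2 * y') := by rw [h2]
      _ = (y * w ^ 2) * y' := by group
      _ = (w ^ 2 * y) * y' := by rw [h1]
      _ = w ^ 2 * (y * y') := by group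
  have hsq : (y * w) ^ 2 = (y * y') * w ^ 2 := by
    rw [hy', pow_two, pow_two]; group
  have h1 : (y * w) ^ (2 * m) = 1 := hexp _
  rw [pow_mul, hsq, hcomm.mul_pow, ← pow_mul, hexp w, mul_one] at h1
  have hyy'c : Commute y y' := hyy'
  rw [hyy'c.mul_pow] at h1
  have h2 : y' ^ m = w * y ^ m * w⁻¹ := by
    rw [hy', conj_pow]
  rw [h2] at h1
  have h3 : (y ^ m) * (y ^ m) = 1 := by
    rw [← pow_add, ← two_mul]; exact hexp y
  have h4 : w * y ^ m = y ^ m * w := by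
    have e1 : w * y ^ m * w⁻¹ = (y ^ m)⁻¹ := by
      rw [eq_inv_iff_mul_eq_one]
      calc w * y ^ m * w⁻¹ * y ^ m = (y ^ m)⁻¹ * (y ^ m * (w * y ^ m * w⁻¹)) * y ^ m := by group
        _ = (y ^ m)⁻¹ * 1 * y ^ m := by rw [h1]
        _ = 1 := by group
    have e2 : (y ^ m)⁻¹ = y ^ m := inv_eq_of_mul_eq_one_left h3
    rw [e2] at e1
    calc w * y ^ m = (w * y ^ m * w⁻¹) * w := by group
      _ = y ^ m * w := by rw [e1]
  exact hj1 ((hmemD w).mpr h4)

end Cfsg.Agent.Lib.Helper1.PCentral
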