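import Mathlib
import Cfsg.Agent.Lib.Helper1.PCentralB

set_option autoImplicit false

namespace Cfsg.Agent.Lib.Helper1.PCentral

theorem big_central_abs {T : Type*} [Group T] [Finite T] (hT : IsPGroup 2 T) (m : ℕ)
    (hexp : ∀ x : T, x ^ (2 * m) = 1)
    (h1 : ∀ x : T, ∃ ψ : Subgroup.centralizer ({x} : Set T) →* T, Function.Injective ψ ∧
      ∀ (hx : x ∈ Subgroup.centralizer ({x} : Set T)) (u : T), u * ψ ⟨x, hx⟩ = ψ ⟨x, hx⟩ * u)
    (h2 : ∀ t : T, (∀ u : T, u * t = t * u) → (∃ g : T, g ^ m = t) →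
      ∃ a : T, (∀ u : T, u * a = a * u) ∧ a ^ m = t) :
    ∀ g u : T, u * g ^ m = g ^ m * u := by
  by_contra hcon
  push_neg at hcon
  obtain ⟨g₀, u₀, hg₀⟩ := hcon
  let Bad := {s : T // (∃ g : T, g ^ m = s) ∧ ¬ (∀ u : T, u * s = s * u)}
  have hne : Nonempty Bad := ⟨⟨g₀ ^ m, ⟨g₀, rfl⟩, fun h => hg₀ (h u₀)⟩⟩
  have hfin : Finite Bad := Subtype.finite
  let f : Bad → ℕ := fun s => Nat.card (Subgroup.centralizer ({s.1} : Set T))
  obtain ⟨⟨s, ⟨g, hg⟩, hsbad⟩, hmax⟩ := Finite.exists_max f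
  set D : Subgroup T := Subgroup.centralizer ({s} : Set T) with hD
  have hmemD : ∀ u : T, u ∈ D ↔ u * s = s * u := by
    intro u
    rw [hD, Subgroup.mem_centralizer_singleton_iff]
  have hsD : s ∈ D := (hmemD s).mpr rfl
  have hgD : g ∈ D := by
    rw [hmemD, ← hg]
    exact (pow_mul_comm' g m).symm ▸ rfl
  obtain ⟨ψ, hψinj, hψs⟩ := h1 s
  have hcenD : ∀ a : T, (∀ u : T, u * a = a * u) → a ∈ D := fun a ha => (hmemD a).mpr (ha s).symm
  have hkey : ∀ t' : T, (∃ g : T, g ^ m = t') → (∀ u : T, u * t' = t' * u) →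
      ∀ ht' : t' ∈ D, (∃ g : T, g ^ m = ψ ⟨t', ht'⟩) ∧ ∀ u : T, u * ψ ⟨t', ht'⟩ = ψ ⟨t', ht'⟩ * u := by
    intro t' ht'B ht'c ht'D
    obtain ⟨a', ha'c, ha'⟩ := h2 t' ht'c ht'B
    have ha'D : a' ∈ D := hcenD a' ha'c
    have hpow : ψ ⟨t', ht'D⟩ = (ψ ⟨a', ha'D⟩) ^ m := by
      rw [← map_pow]
      congr 1
      apply Subtype.ext
      simp [ha']
    refine ⟨⟨_, hpow.symm⟩, ?_⟩
    by_contra hbad
    have hle := hmax ⟨ψ ⟨t', ht'D⟩, ⟨_, hpow.symm⟩, hbad⟩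
    simp only [f] at hle
    have hrange : ψ.range ≤ Subgroup.centralizer ({ψ ⟨t', ht'D⟩} : Set T) := by
      rintro _ ⟨d, rfl⟩
      rw [Subgroup.mem_centralizer_singleton_iff, ← map_mul, ← map_mul]
      congr 1
      apply Subtype.ext
      exact ht'c d
    have hcard : Nat.card ψ.range = Nat.card D :=
      (Nat.card_congr (MonoidHom.ofInjective hψinj).toEquiv).symm
    have heq : ψ.range = Subgroup.centralizer ({ψ ⟨t', ht'D⟩} : Set T) :=
      Subgroup.eq_of_le_of_card_ge hrange (by rw [hcard]; exact hle)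
    apply hbad
    have := lemmaX hT m hexp (ψ ⟨a', ha'D⟩) (by
      intro u hu
      rw [← hpow] at hu
      have hu' : u ∈ ψ.range := by
        rw [heq, Subgroup.mem_centralizer_singleton_iff]
        exact hu
      obtain ⟨d, rfl⟩ := hu'
      rw [← map_mul, ← map_mul]
      congr 1
      apply Subtype.ext
      exact ha'c d)
    intro u
    rw [hpow]
    exact this u
  let W := {t : T // (∃ g : T, g ^ m = t) ∧ ∀ u : T, u * t = t * u}
  let Ψ : W → W := fun t =>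
    ⟨ψ ⟨t.1, hcenD t.1 t.2.2⟩, hkey t.1 t.2.1 t.2.2 (hcenD t.1 t.2.2)⟩
  have hΨinj : Function.Injective Ψ := by
    intro a b hab
    have h3 := congrArg Subtype.val hab
    simp only [Ψ] at h3
    have h4 := hψinj h3
    apply Subtype.ext
    have h5 := congrArg Subtype.val h4
    exact h5
  have hWfin : Finite W := Subtype.finite
  have hΨsurj : Function.Surjective Ψ := Finite.injective_iff_surjective.mp hΨinj
  have hψsB : ∃ g' : T, g' ^ m = ψ ⟨s, hsD⟩ := by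
    refine ⟨ψ ⟨g, hgD⟩, ?_⟩
    rw [← map_pow]
    congr 1
    apply Subtype.ext
    simp [hg]
  obtain ⟨⟨t', ht'⟩, ht'eq⟩ := hΨsurj ⟨ψ ⟨s, hsD⟩, hψsB, hψs hsD⟩
  have h3 := congrArg Subtype.val ht'eq
  simp only [Ψ] at h3
  have h4 := congrArg Subtype.val (hψinj h3)
  simp only at h4
  apply hsbad
  rw [← h4]
  exact ht'.2

end Cfsg.Agent.Lib.Helper1.PCentral
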