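import Mathlib
import Cfsg.Agent.Lib.Helper26.FusionSat2
import Cfsg.Agent.Lib.Helper1.PCentralH

set_option autoImplicit false

namespace Cfsg.Agent.Lib.Helper1.FusCH

open Cfsg Cfsg.FusionSystem Cfsg.Agent.Lib.Helper26

variable {Ω : Type*} [Group Ω] {S : Subgroup Ω}

theorem mem_ZS_iff {z : Ω} :
    z ∈ S ⊓ Subgroup.centralizer (S : Set Ω) ↔ z ∈ S ∧ ∀ s ∈ S, s * z = z * s := by
  rw [Subgroup.mem_inf, Subgroup.mem_centralizer_iff]
  rfl

theorem mem_CS_iff {x u : Ω} :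
    u ∈ S ⊓ Subgroup.centralizer ({x} : Set Ω) ↔ u ∈ S ∧ u * x = x * u := by
  rw [Subgroup.mem_inf, Subgroup.mem_centralizer_singleton_iff]

theorem CS_le_centralizerIn (x : Ω) :
    S ⊓ Subgroup.centralizer ({x} : Set Ω) ≤ centralizerIn S (Subgroup.zpowers x) := by
  intro u hu
  rw [mem_CS_iff] at hu
  refine ⟨hu.1, ?_⟩
  show u ∈ Subgroup.centralizer ((Subgroup.zpowers x : Subgroup Ω) : Set Ω)
  rw [Subgroup.mem_centralizer_iff]
  intro w hw
  rw [SetLike.mem_coe, Subgroup.mem_zpowers_iff] at hw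
  obtain ⟨k, rfl⟩ := hw
  exact ((Commute.zpow_right (show Commute u x from hu.2) k).eq).symm

theorem range_zpowers {y z : Ω} (χ : Subgroup.zpowers y →* Ω)
    (hχy : χ ⟨y, Subgroup.mem_zpowers y⟩ = z) : χ.range = Subgroup.zpowers z := by
  ext w
  constructor
  · rintro ⟨⟨u, hu⟩, rfl⟩
    obtain ⟨k, rfl⟩ := Subgroup.mem_zpowers_iff.mp hu
    have : (⟨y ^ k, hu⟩ : Subgroup.zpowers y) = ⟨y, Subgroup.mem_zpowers y⟩ ^ k := by
      apply Subtype.ext
      simp
    rw [this, map_zpow, hχy]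
    exact Subgroup.zpow_mem_zpowers z k
  · intro hw
    obtain ⟨k, rfl⟩ := Subgroup.mem_zpowers_iff.mp hw
    refine ⟨⟨y, Subgroup.mem_zpowers y⟩ ^ k, ?_⟩
    rw [map_zpow, hχy]

theorem fullyCentralized_zpowers_central [Finite S] (F : FusionSystem S) {z : Ω}
    (hz : z ∈ S ⊓ Subgroup.centralizer (S : Set Ω)) :
    F.IsFullyCentralized (Subgroup.zpowers z) := by
  rw [mem_ZS_iff] at hz
  refine ⟨by rw [Subgroup.zpowers_le]; exact hz.1, ?_⟩
  intro Q' _
  have h1 : S ≤ centralizerIn S (Subgroup.zpowers z) := by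
    intro s hs
    refine ⟨hs, ?_⟩
    show s ∈ Subgroup.centralizer ((Subgroup.zpowers z : Subgroup Ω) : Set Ω)
    rw [Subgroup.mem_centralizer_iff]
    intro w hw
    rw [SetLike.mem_coe, Subgroup.mem_zpowers_iff] at hw
    obtain ⟨k, rfl⟩ := hw
    exact ((Commute.zpow_right (show Commute s z from hz.2 s hs) k).eq).symm
  have h2 : centralizerIn S Q' ≤ S := inf_le_left
  have : Finite (centralizerIn S (Subgroup.zpowers z)) :=
    Finite.of_injective (fun u : centralizerIn S (Subgroup.zpowers z) => (⟨u.1, u.2.1⟩ : S))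
      (fun a b hab => Subtype.ext (congrArg (fun v : S => (v : Ω)) hab))
  exact Subgroup.card_le_of_le (h2.trans h1)

theorem exists_ext_central [Finite S] (hS : IsPGroup 2 S) (F : FusionSystem S)
    (hF : F.IsSaturated 2) {y z : Ω} (hz : z ∈ S ⊓ Subgroup.centralizer (S : Set Ω))
    (χ : Subgroup.zpowers y →* Ω) (hχ : χ ∈ F.Hom (Subgroup.zpowers y))
    (hχy : χ ⟨y, Subgroup.mem_zpowers y⟩ = z) :
    ∃ ψ ∈ F.Hom (S ⊓ Subgroup.centralizer ({y} : Set Ω)),
      ∀ (u : Ω) (hu : u ∈ Subgroup.zpowers y) (hu' : u ∈ S ⊓ Subgroup.centralizer ({y} : Set Ω)),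
        ψ ⟨u, hu'⟩ = χ ⟨u, hu⟩ := by
  have : Fact (Nat.Prime 2) := ⟨Nat.prime_two⟩
  have hrec : F.IsReceptive (Subgroup.zpowers z) :=
    saturated_fullyCentralized hS F hF (fullyCentralized_zpowers_central F hz)
  obtain ⟨ψ, hψ, hψχ⟩ := hrec.2 (Subgroup.zpowers y) χ hχ (range_zpowers χ hχy)
  have hle : S ⊓ Subgroup.centralizer ({y} : Set Ω) ≤ extender S (Subgroup.zpowers y) χ :=
    (CS_le_centralizerIn y).trans (centralizerIn_le_extender S _ χ)
  refine ⟨ψ.comp (Subgroup.inclusion hle), restrict_mem F hψ hle, ?_⟩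
  intro u hu hu'
  exact hψχ u hu (hle hu')

end Cfsg.Agent.Lib.Helper1.FusCH
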