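import Mathlib
import Cfsg.Agent.Lib.Helper1.FusCH

set_option autoImplicit false

namespace Cfsg.Agent.Lib.Helper1.FusCH

open Cfsg Cfsg.FusionSystem Cfsg.Agent.Lib.Helper26

variable {Ω : Type*} [Group Ω] {S : Subgroup Ω}

def HypH (F : FusionSystem S) : Prop :=
  ∀ x ∈ S, ∃ z ∈ S ⊓ Subgroup.centralizer (S : Set Ω), F.IsConjElt x z

theorem self_mem_CS {x : Ω} (hx : x ∈ S) : x ∈ S ⊓ Subgroup.centralizer ({x} : Set Ω) :=
  mem_CS_iff.mpr ⟨hx, rfl⟩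

theorem exists_to_center [Finite S] (hS : IsPGroup 2 S) (F : FusionSystem S)
    (hF : F.IsSaturated 2) (hH : HypH F) {x : Ω} (hx : x ∈ S) :
    ∃ ψ ∈ F.Hom (S ⊓ Subgroup.centralizer ({x} : Set Ω)),
      ψ ⟨x, self_mem_CS hx⟩ ∈ S ⊓ Subgroup.centralizer (S : Set Ω) := by
  obtain ⟨z, hz, χ, hχ, hχx⟩ := hH x hx
  obtain ⟨ψ, hψ, hψχ⟩ := exists_ext_central hS F hF hz χ hχ hχx
  refine ⟨ψ, hψ, ?_⟩
  rw [hψχ x (Subgroup.mem_zpowers x) (self_mem_CS hx), hχx]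
  exact hz

theorem exists_aut_central [Finite S] (hS : IsPGroup 2 S) (F : FusionSystem S)
    (hF : F.IsSaturated 2) {y z : Ω} (hy : y ∈ S ⊓ Subgroup.centralizer (S : Set Ω))
    (hz : z ∈ S ⊓ Subgroup.centralizer (S : Set Ω))
    (χ : Subgroup.zpowers y →* Ω) (hχ : χ ∈ F.Hom (Subgroup.zpowers y))
    (hχy : χ ⟨y, Subgroup.mem_zpowers y⟩ = z) :
    ∃ θ ∈ F.Hom S, θ ⟨y, hy.1⟩ = z := by
  obtain ⟨ψ, hψ, hψχ⟩ := exists_ext_central hS F hF hz χ hχ hχy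
  have hle : S ≤ S ⊓ Subgroup.centralizer ({y} : Set Ω) := by
    intro s hs
    rw [mem_CS_iff]
    exact ⟨hs, (mem_ZS_iff.mp hy).2 s hs⟩
  refine ⟨ψ.comp (Subgroup.inclusion hle), restrict_mem F hψ hle, ?_⟩
  have := hψχ y (Subgroup.mem_zpowers y) (hle hy.1)
  rw [← hχy, ← this]
  rfl

theorem hom_S_surj [Finite S] (F : FusionSystem S) {θ : S →* Ω} (hθ : θ ∈ F.Hom S) (s : Ω)
    (hs : s ∈ S) : ∃ s' : S, θ s' = s := by
  let θ' : S → S := fun u => ⟨θ u, apply_mem F hθ u⟩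
  have hinj : Function.Injective θ' := by
    intro a b hab
    exact F.injective_of_mem hθ (congrArg Subtype.val hab)
  obtain ⟨s', hs'⟩ := (Finite.injective_iff_surjective.mp hinj) ⟨s, hs⟩
  exact ⟨s', congrArg Subtype.val hs'⟩

theorem hom_S_center [Finite S] (F : FusionSystem S) {θ : S →* Ω} (hθ : θ ∈ F.Hom S) {a : Ω}
    (ha : a ∈ S ⊓ Subgroup.centralizer (S : Set Ω)) :
    θ ⟨a, ha.1⟩ ∈ S ⊓ Subgroup.centralizer (S : Set Ω) := by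
  rw [mem_ZS_iff]
  refine ⟨apply_mem F hθ _, ?_⟩
  intro s hs
  obtain ⟨s', rfl⟩ := hom_S_surj F hθ s hs
  rw [← map_mul, ← map_mul]
  congr 1
  apply Subtype.ext
  exact (mem_ZS_iff.mp ha).2 s' s'.2

end Cfsg.Agent.Lib.Helper1.FusCH
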