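import Mathlib
import Cfsg.Agent.Lib.Helper1.FusCHB

set_option autoImplicit false

namespace Cfsg.Agent.Lib.Helper1.FusCH

open Cfsg Cfsg.FusionSystem Cfsg.Agent.Lib.Helper26

variable {Ω : Type*} [Group Ω] {S : Subgroup Ω}

theorem root_in_center [Finite S] (hS : IsPGroup 2 S) (F : FusionSystem S)
    (hF : F.IsSaturated 2) (hH : HypH F) (m : ℕ) {t g : Ω}
    (ht : t ∈ S ⊓ Subgroup.centralizer (S : Set Ω)) (hg : g ∈ S) (hgt : g ^ m = t) :
    ∃ a ∈ S ⊓ Subgroup.centralizer (S : Set Ω), a ^ m = t := by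
  obtain ⟨ψ, hψ, hψz⟩ := exists_to_center hS F hF hH hg
  obtain ⟨z, hz⟩ : ∃ z : Ω, z = ψ ⟨g, self_mem_CS hg⟩ := ⟨_, rfl⟩
  rw [← hz] at hψz
  have htD : t ∈ S ⊓ Subgroup.centralizer ({g} : Set Ω) := by
    rw [mem_CS_iff]
    exact ⟨ht.1, ((mem_ZS_iff.mp ht).2 g hg).symm⟩
  have hψt : ψ ⟨t, htD⟩ = z ^ m := by
    rw [hz, ← map_pow]
    congr 1
    apply Subtype.ext
    simp [hgt]
  have hzm : z ^ m ∈ S ⊓ Subgroup.centralizer (S : Set Ω) := Subgroup.pow_mem _ hψz m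
  have hle : Subgroup.zpowers t ≤ S ⊓ Subgroup.centralizer ({g} : Set Ω) := by
    rw [Subgroup.zpowers_le]; exact htD
  have hφ₁ := restrict_mem F hψ hle
  obtain ⟨φ₁, hφ₁def⟩ : ∃ φ₁ : Subgroup.zpowers t →* Ω, φ₁ = ψ.comp (Subgroup.inclusion hle) :=
    ⟨_, rfl⟩
  rw [← hφ₁def] at hφ₁
  have hφ₁t : φ₁ ⟨t, Subgroup.mem_zpowers t⟩ = z ^ m := by
    rw [hφ₁def]; exact hψt
  obtain ⟨χ, hχ, -, hχinv, -⟩ := exists_inv F hφ₁ (range_zpowers φ₁ hφ₁t)
  have hχz : χ ⟨z ^ m, Subgroup.mem_zpowers _⟩ = t := by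
    have h1 := hχinv ⟨t, Subgroup.mem_zpowers t⟩ (by rw [hφ₁t]; exact Subgroup.mem_zpowers _)
    have h2 : (⟨z ^ m, Subgroup.mem_zpowers _⟩ : Subgroup.zpowers (z ^ m)) =
        ⟨φ₁ ⟨t, Subgroup.mem_zpowers t⟩, by rw [hφ₁t]; exact Subgroup.mem_zpowers _⟩ :=
      Subtype.ext hφ₁t.symm
    rw [h2, h1]
  obtain ⟨θ, hθ, hθz⟩ := exists_aut_central hS F hF hzm ht χ hχ hχz
  refine ⟨θ ⟨z, hψz.1⟩, hom_S_center F hθ hψz, ?_⟩
  rw [← map_pow, ← hθz]
  rfl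

theorem exists_abs_hom [Finite S] (hS : IsPGroup 2 S) (F : FusionSystem S)
    (hF : F.IsSaturated 2) (hH : HypH F) (x : S) :
    ∃ ψ : Subgroup.centralizer ({x} : Set S) →* S, Function.Injective ψ ∧
      ∀ (hx : x ∈ Subgroup.centralizer ({x} : Set S)) (u : S), u * ψ ⟨x, hx⟩ = ψ ⟨x, hx⟩ * u := by
  obtain ⟨ψ, hψ, hψz⟩ := exists_to_center hS F hF hH x.2
  have hmem : ∀ u : Subgroup.centralizer ({x} : Set S),
      ((u : S) : Ω) ∈ S ⊓ Subgroup.centralizer ({(x : Ω)} : Set Ω) := by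
    intro u
    rw [mem_CS_iff]
    refine ⟨u.1.2, ?_⟩
    have := Subgroup.mem_centralizer_singleton_iff.mp u.2
    exact congrArg Subtype.val this
  let ι : Subgroup.centralizer ({x} : Set S) →*
      (S ⊓ Subgroup.centralizer ({(x : Ω)} : Set Ω) : Subgroup Ω) :=
    (S.subtype.comp (Subgroup.centralizer ({x} : Set S)).subtype).codRestrict _ hmem
  let ψ' : Subgroup.centralizer ({x} : Set S) →* S :=
    (ψ.codRestrict S (fun u => apply_mem F hψ u)).comp ι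
  refine ⟨ψ', ?_, ?_⟩
  · intro a b hab
    have h1 : ψ (ι a) = ψ (ι b) := congrArg Subtype.val hab
    have h2 := F.injective_of_mem hψ h1
    have h3 : ((a : S) : Ω) = ((b : S) : Ω) := by
      have h4 := congrArg Subtype.val h2
      exact h4
    exact Subtype.ext (Subtype.ext h3)
  · intro hx u
    apply Subtype.ext
    have h1 : ((ψ' ⟨x, hx⟩ : S) : Ω) = ψ ⟨x, self_mem_CS x.2⟩ := rfl
    show (u : Ω) * ((ψ' ⟨x, hx⟩ : S) : Ω) = ((ψ' ⟨x, hx⟩ : S) : Ω) * (u : Ω)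
    rw [h1]
    exact (mem_ZS_iff.mp hψz).2 u u.2

theorem big_central_fus [Finite S] (hS : IsPGroup 2 S) (F : FusionSystem S)
    (hF : F.IsSaturated 2) (hH : HypH F) (m : ℕ) (hexp : ∀ x ∈ S, x ^ (2 * m) = 1) {g : Ω}
    (hg : g ∈ S) : g ^ m ∈ S ⊓ Subgroup.centralizer (S : Set Ω) := by
  have key := Cfsg.Agent.Lib.Helper1.PCentral.big_central_abs (T := S) hS m
    (fun x => Subtype.ext (by simpa using hexp x x.2))
    (exists_abs_hom hS F hF hH)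
    (by
      intro t htc htB
      obtain ⟨g', hg'⟩ := htB
      have ht : (t : Ω) ∈ S ⊓ Subgroup.centralizer (S : Set Ω) := by
        rw [mem_ZS_iff]
        refine ⟨t.2, fun s hs => ?_⟩
        exact congrArg Subtype.val (htc ⟨s, hs⟩)
      obtain ⟨a, ha, ham⟩ := root_in_center hS F hF hH m ht g'.2
        (by have := congrArg Subtype.val hg'; simpa using this)
      refine ⟨⟨a, ha.1⟩, ?_, ?_⟩
      · intro u
        apply Subtype.ext
        exact (mem_ZS_iff.mp ha).2 u u.2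
      · apply Subtype.ext
        simpa using ham)
  rw [mem_ZS_iff]
  refine ⟨Subgroup.pow_mem _ hg m, fun s hs => ?_⟩
  have := congrArg Subtype.val (key ⟨g, hg⟩ ⟨s, hs⟩)
  simpa using this

end Cfsg.Agent.Lib.Helper1.FusCH
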