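import Mathlib
import Cfsg.Agent.Lib.Helper1.FusCHC

set_option autoImplicit false

namespace Cfsg.Agent.Lib.Helper1.FusCH

open Cfsg Cfsg.FusionSystem Cfsg.Agent.Lib.Helper26

variable {Ω : Type*} [Group Ω] {S : Subgroup Ω}

theorem exists_inv_zpowers (F : FusionSystem S) {D : Subgroup Ω} {ψ : D →* Ω} (hψ : ψ ∈ F.Hom D)
    {t : Ω} (ht : t ∈ D) :
    ∃ χ ∈ F.Hom (Subgroup.zpowers (ψ ⟨t, ht⟩)),
      χ ⟨ψ ⟨t, ht⟩, Subgroup.mem_zpowers _⟩ = t := by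
  have hle : Subgroup.zpowers t ≤ D := by
    rw [Subgroup.zpowers_le]; exact ht
  have hφ₁ := restrict_mem F hψ hle
  obtain ⟨φ₁, hφ₁def⟩ : ∃ φ₁ : Subgroup.zpowers t →* Ω, φ₁ = ψ.comp (Subgroup.inclusion hle) :=
    ⟨_, rfl⟩
  rw [← hφ₁def] at hφ₁
  have hφ₁t : φ₁ ⟨t, Subgroup.mem_zpowers t⟩ = ψ ⟨t, ht⟩ := by
    rw [hφ₁def]; rfl
  obtain ⟨χ, hχ, -, hχinv, -⟩ := exists_inv F hφ₁ (range_zpowers φ₁ hφ₁t)
  refine ⟨χ, hχ, ?_⟩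
  have h1 := hχinv ⟨t, Subgroup.mem_zpowers t⟩ (by rw [hφ₁t]; exact Subgroup.mem_zpowers _)
  have h2 : (⟨ψ ⟨t, ht⟩, Subgroup.mem_zpowers _⟩ : Subgroup.zpowers (ψ ⟨t, ht⟩)) =
      ⟨φ₁ ⟨t, Subgroup.mem_zpowers t⟩, by rw [hφ₁t]; exact Subgroup.mem_zpowers _⟩ :=
    Subtype.ext hφ₁t.symm
  rw [h2, h1]

theorem central_mem_CS {a x : Ω} (ha : a ∈ S ⊓ Subgroup.centralizer (S : Set Ω)) (hx : x ∈ S) :
    a ∈ S ⊓ Subgroup.centralizer ({x} : Set Ω) := by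
  rw [mem_CS_iff]
  exact ⟨ha.1, ((mem_ZS_iff.mp ha).2 x hx).symm⟩

theorem exists_to_center_fix [Finite S] (hS : IsPGroup 2 S) (F : FusionSystem S)
    (hF : F.IsSaturated 2) (hH : HypH F) (m : ℕ) (hexp : ∀ x ∈ S, x ^ (2 * m) = 1) {t g : Ω}
    (hg : g ∈ S) (hgt : g ^ m = t) {x : Ω} (hx : x ∈ S) :
    ∃ ψ ∈ F.Hom (S ⊓ Subgroup.centralizer ({x} : Set Ω)),
      ψ ⟨x, self_mem_CS hx⟩ ∈ S ⊓ Subgroup.centralizer (S : Set Ω) ∧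
      ∀ ht : t ∈ S ⊓ Subgroup.centralizer ({x} : Set Ω), ψ ⟨t, ht⟩ = t := by
  have htZ : t ∈ S ⊓ Subgroup.centralizer (S : Set Ω) := by
    rw [← hgt]; exact big_central_fus hS F hF hH m hexp hg
  obtain ⟨a, ha, hat⟩ := root_in_center hS F hF hH m htZ hg hgt
  obtain ⟨ψ₀, hψ₀, hψ₀x⟩ := exists_to_center hS F hF hH hx
  have haD := central_mem_CS ha hx
  have htD := central_mem_CS htZ hx
  have hψ₀t : ψ₀ ⟨t, htD⟩ = (ψ₀ ⟨a, haD⟩) ^ m := by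
    rw [← map_pow]
    congr 1
    apply Subtype.ext
    simp [hat]
  have hwZ : ψ₀ ⟨t, htD⟩ ∈ S ⊓ Subgroup.centralizer (S : Set Ω) := by
    rw [hψ₀t]
    exact big_central_fus hS F hF hH m hexp (apply_mem F hψ₀ _)
  obtain ⟨χ, hχ, hχw⟩ := exists_inv_zpowers F hψ₀ htD
  obtain ⟨θ, hθ, hθw⟩ := exists_aut_central hS F hF hwZ htZ χ hχ hχw
  have hval : ∀ u : (S ⊓ Subgroup.centralizer ({x} : Set Ω) : Subgroup Ω), ψ₀ u ∈ S :=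
    fun u => apply_mem F hψ₀ u
  refine ⟨θ.comp (ψ₀.codRestrict S hval), F.comp_mem hψ₀ hθ hval, ?_, ?_⟩
  · exact hom_S_center F hθ hψ₀x
  · intro ht
    exact hθw

end Cfsg.Agent.Lib.Helper1.FusCH
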