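import Mathlib
import Cfsg.Agent.Lib.Helper1.FusCHD

set_option autoImplicit false

namespace Cfsg.Agent.Lib.Helper1.FusCH

open Cfsg Cfsg.FusionSystem Cfsg.Agent.Lib.Helper26

variable {Ω : Type*} [Group Ω] {S : Subgroup Ω}

theorem centralizerIn_zpowers_eq {t : Ω} (ht : t ∈ S ⊓ Subgroup.centralizer (S : Set Ω)) :
    centralizerIn S (Subgroup.zpowers t) = S := by
  apply le_antisymm inf_le_left
  intro s hs
  refine ⟨hs, ?_⟩
  show s ∈ Subgroup.centralizer ((Subgroup.zpowers t : Subgroup Ω) : Set Ω)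
  rw [Subgroup.mem_centralizer_iff]
  intro w hw
  rw [SetLike.mem_coe, Subgroup.mem_zpowers_iff] at hw
  obtain ⟨k, rfl⟩ := hw
  exact ((Commute.zpow_right (show Commute s t from (mem_ZS_iff.mp ht).2 s hs) k).eq).symm

theorem hypH_centralizer [Finite S] (hS : IsPGroup 2 S) (F : FusionSystem S)
    (hF : F.IsSaturated 2) (hH : HypH F) (m : ℕ) (hexp : ∀ x ∈ S, x ^ (2 * m) = 1) {t g : Ω}
    (hg : g ∈ S) (hgt : g ^ m = t)
    (E : FusionSystem (centralizerIn S (Subgroup.zpowers t)))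
    (hE : F.IsCentralizerSystem (Subgroup.zpowers t) E) : HypH E := by
  have htZ : t ∈ S ⊓ Subgroup.centralizer (S : Set Ω) := by
    rw [← hgt]; exact big_central_fus hS F hF hH m hexp hg
  have hS' := centralizerIn_zpowers_eq htZ
  intro x hx
  have hxS : x ∈ S := hS' ▸ hx
  obtain ⟨ψ, hψ, hψx, hψt⟩ := exists_to_center_fix hS F hF hH m hexp hg hgt hxS
  have htD := central_mem_CS htZ hxS
  have hPD : Subgroup.zpowers x ≤ S ⊓ Subgroup.centralizer ({x} : Set Ω) := by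
    rw [Subgroup.zpowers_le]; exact self_mem_CS hxS
  have hQD : Subgroup.zpowers t ≤ S ⊓ Subgroup.centralizer ({x} : Set Ω) := by
    rw [Subgroup.zpowers_le]; exact htD
  have hPQD : Subgroup.zpowers x ⊔ Subgroup.zpowers t ≤ S ⊓ Subgroup.centralizer ({x} : Set Ω) :=
    sup_le hPD hQD
  refine ⟨ψ ⟨x, self_mem_CS hxS⟩, ?_, ψ.comp (Subgroup.inclusion hPD), ?_, rfl⟩
  · rw [hS']; exact hψx
  · rw [hE (Subgroup.zpowers x)]
    refine ⟨restrict_mem F hψ hPD, ?_, ?_, ψ.comp (Subgroup.inclusion hPQD),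
      restrict_mem F hψ hPQD, fun u => rfl, ?_⟩
    · rw [hS']; rw [Subgroup.zpowers_le]; exact hxS
    · intro u
      rw [hS']
      exact apply_mem F hψ _
    · rintro ⟨q, hq⟩
      obtain ⟨k, rfl⟩ := Subgroup.mem_zpowers_iff.mp hq
      show ψ ⟨t ^ k, _⟩ = t ^ k
      have h1 : (⟨t ^ k, hQD hq⟩ : (S ⊓ Subgroup.centralizer ({x} : Set Ω) : Subgroup Ω)) =
          ⟨t, htD⟩ ^ k := by
        apply Subtype.ext
        simp
      have h2 : ψ ⟨t ^ k, hQD hq⟩ = t ^ k := by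
        rw [h1, map_zpow, hψt htD]
      exact h2

theorem stronglyClosed_centralizer (F : FusionSystem S) (Q : Subgroup Ω) (hQ : Q ≤ centralizerIn S Q)
    (E : FusionSystem (centralizerIn S Q)) (hE : F.IsCentralizerSystem Q E) :
    E.StronglyClosed Q := by
  refine ⟨hQ, ?_⟩
  intro R hRQ φ hφ u
  rw [hE R] at hφ
  obtain ⟨-, -, -, ψ', -, hψ'1, hψ'2⟩ := hφ
  have h1 := hψ'1 u
  have h2 := hψ'2 ⟨u, hRQ u.2⟩
  have h3 : (Subgroup.inclusion (le_sup_left : R ≤ R ⊔ Q) u) =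
      Subgroup.inclusion (le_sup_right : Q ≤ R ⊔ Q) ⟨u, hRQ u.2⟩ := Subtype.ext rfl
  rw [← h1, h3, h2]
  exact hRQ u.2

end Cfsg.Agent.Lib.Helper1.FusCH
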