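import Mathlib
import Cfsg.Agent.Lib.Helper1.FusCHE
import Cfsg.Agent.S5133
import Cfsg.Agent.S5134

set_option autoImplicit false

namespace Cfsg.Agent.Lib.Helper1.FusCH

open Cfsg Cfsg.FusionSystem Cfsg.Agent.Lib.Helper26

variable {Ω : Type*} [Group Ω] {S : Subgroup Ω}

theorem hypH_factor [Finite S] (hS : IsPGroup 2 S) (E : FusionSystem S)
    (hE : E.IsSaturated 2) (hH : HypH E) (Q : Subgroup Ω) (hQsc : E.StronglyClosed Q)
    [(Q.subgroupOf S).Normal]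
    (E' : FusionSystem (⊤ : Subgroup (S ⧸ Q.subgroupOf S)))
    (hE' : E.IsFactorSystem Q (QuotientGroup.mk' (Q.subgroupOf S)) E') : HypH E' := by
  have : Fact (Nat.Prime 2) := ⟨Nat.prime_two⟩
  have hsurj := Cfsg.Agent.S5134.result 2 hS E hE Q hQsc (QuotientGroup.mk' (Q.subgroupOf S)) E' hE'
  intro xb _
  obtain ⟨x, rfl⟩ := QuotientGroup.mk_surjective xb
  obtain ⟨z, hz, φ, hφ, hφx⟩ := hH x x.2
  obtain ⟨φ', hφ', hP, hφS, hP', hind⟩ := hsurj.1.2 _ φ hφ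
  refine ⟨(QuotientGroup.mk' (Q.subgroupOf S)) ⟨z, hz.1⟩, ?_, ?_⟩
  · rw [mem_ZS_iff]
    refine ⟨Subgroup.mem_top _, fun sb _ => ?_⟩
    obtain ⟨s, rfl⟩ := QuotientGroup.mk_surjective sb
    show (QuotientGroup.mk' (Q.subgroupOf S)) s * (QuotientGroup.mk' (Q.subgroupOf S)) ⟨z, hz.1⟩ =
      (QuotientGroup.mk' (Q.subgroupOf S)) ⟨z, hz.1⟩ * (QuotientGroup.mk' (Q.subgroupOf S)) s
    rw [← map_mul, ← map_mul]
    congr 1
    apply Subtype.ext
    exact (mem_ZS_iff.mp hz).2 s s.2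
  · have hxmem : (QuotientGroup.mk' (Q.subgroupOf S)) x ∈
        imageAlong (QuotientGroup.mk' (Q.subgroupOf S)) (Subgroup.zpowers (x : Ω)) :=
      hP' ⟨x, Subgroup.mem_zpowers _⟩
    have hle : Subgroup.zpowers ((QuotientGroup.mk' (Q.subgroupOf S)) x) ≤
        imageAlong (QuotientGroup.mk' (Q.subgroupOf S)) (Subgroup.zpowers (x : Ω)) := by
      rw [Subgroup.zpowers_le]; exact hxmem
    refine ⟨φ'.comp (Subgroup.inclusion hle), restrict_mem E' hφ' hle, ?_⟩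
    have h1 := hind ⟨x, Subgroup.mem_zpowers _⟩
    have h2 : (⟨φ ⟨(x : Ω), Subgroup.mem_zpowers _⟩, hφS _⟩ : S) = ⟨z, hz.1⟩ := Subtype.ext hφx
    rw [h2] at h1
    exact h1

end Cfsg.Agent.Lib.Helper1.FusCH
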