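import Mathlib
import Cfsg.Agent.Lib.Helper1.FusCHF

set_option autoImplicit false

namespace Cfsg.Agent.Lib.Helper1.FusCH

open Cfsg Cfsg.FusionSystem Cfsg.Agent.Lib.Helper26

variable {Ω : Type*} [Group Ω] {S : Subgroup Ω}

theorem extender_top_of_comm {G : Type*} [Group G] (hcomm : ∀ a b : G, a * b = b * a)
    (P : Subgroup G) (φ : P →* G) (g : G) : g ∈ extender (⊤ : Subgroup G) P φ := by
  have hN : g ∈ Subgroup.normalizer (P : Set G) := by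
    rw [Subgroup.mem_normalizer_iff]
    intro h
    have : g * h * g⁻¹ = h := by rw [hcomm g h, mul_inv_cancel_right]
    rw [this]
  refine mem_extender_iff.mpr ⟨Subgroup.mem_top g, hN, 1, Subgroup.mem_top 1, fun u => ?_⟩
  have : (⟨g * u * g⁻¹, conj_mem_of_mem_normalizer hN u⟩ : P) = u := by
    apply Subtype.ext
    show g * (u : G) * g⁻¹ = u
    rw [hcomm g u, mul_inv_cancel_right]
  rw [this]
  simp

theorem fullyCentralized_of_comm {G : Type*} [Group G] [Finite G] (hcomm : ∀ a b : G, a * b = b * a)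
    (E' : FusionSystem (⊤ : Subgroup G)) (R : Subgroup G) : E'.IsFullyCentralized R := by
  refine ⟨le_top, fun Q' _ => ?_⟩
  apply Subgroup.card_le_of_le
  intro g _
  refine ⟨Subgroup.mem_top g, ?_⟩
  show g ∈ Subgroup.centralizer (R : Set G)
  rw [Subgroup.mem_centralizer_iff]
  intro h _
  exact hcomm h g

theorem central_of_factor_comm [Finite S] (hS : IsPGroup 2 S) (E : FusionSystem S)
    (hE : E.IsSaturated 2) (hH : HypH E) (Q : Subgroup Ω)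
    (hQZ : Q ≤ S ⊓ Subgroup.centralizer (S : Set Ω)) (hQsc : E.StronglyClosed Q)
    [(Q.subgroupOf S).Normal]
    (E' : FusionSystem (⊤ : Subgroup (S ⧸ Q.subgroupOf S)))
    (hE' : E.IsFactorSystem Q (QuotientGroup.mk' (Q.subgroupOf S)) E')
    (hcomm : ∀ a b : S ⧸ Q.subgroupOf S, a * b = b * a) {x : Ω} (hx : x ∈ S) :
    x ∈ S ⊓ Subgroup.centralizer (S : Set Ω) := by
  have : Fact (Nat.Prime 2) := ⟨Nat.prime_two⟩
  have hsurj := Cfsg.Agent.S5134.result 2 hS E hE Q hQsc (QuotientGroup.mk' (Q.subgroupOf S)) E' hE'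
  have hE'sat : E'.IsSaturated 2 :=
    Cfsg.Agent.S5133.result 2 hS E hE E' (QuotientGroup.mk' (Q.subgroupOf S)) hsurj
  have hTop : IsPGroup 2 (⊤ : Subgroup (S ⧸ Q.subgroupOf S)) :=
    (hS.to_quotient (Q.subgroupOf S)).to_subgroup ⊤
  obtain ⟨z, hz, φ, hφ, hφx⟩ := hH x hx
  obtain ⟨φ', hφ', hP, hφS, hP', hind⟩ := hsurj.1.2 _ φ hφ
  have hrec : E'.IsReceptive φ'.range :=
    saturated_fullyCentralized hTop E' hE'sat (fullyCentralized_of_comm hcomm E' φ'.range)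
  obtain ⟨ψ', hψ', hψ'φ'⟩ := hrec.2 _ φ' hφ' rfl
  obtain ⟨ψ, hψ, hP2, hψS, hP2', hind2⟩ := hsurj.2.2 _ le_top ψ' hψ'
  have hpre : ∀ s : Ω, s ∈ S → s ∈ preimageAlong (QuotientGroup.mk' (Q.subgroupOf S))
      (extender (⊤ : Subgroup (S ⧸ Q.subgroupOf S)) _ φ') := by
    intro s hs
    exact mem_preSub_iff.mpr ⟨hs, extender_top_of_comm hcomm _ φ' _⟩
  have h1 := hind2 ⟨x, hpre x hx⟩
  have h2 := hψ'φ' ((QuotientGroup.mk' (Q.subgroupOf S)) ⟨x, hx⟩) (hP' ⟨x, Subgroup.mem_zpowers x⟩)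
    (hP2' ⟨x, hpre x hx⟩)
  have h3 := hind ⟨x, Subgroup.mem_zpowers x⟩
  have h4 : (⟨φ ⟨x, Subgroup.mem_zpowers x⟩, hφS _⟩ : S) = ⟨z, hz.1⟩ := Subtype.ext hφx
  rw [h4] at h3
  have h5 : (QuotientGroup.mk' (Q.subgroupOf S)) ⟨ψ ⟨x, hpre x hx⟩, hψS _⟩ =
      (QuotientGroup.mk' (Q.subgroupOf S)) ⟨z, hz.1⟩ := by
    rw [← h1, ← h3]
    exact h2
  have h6 : (⟨z, hz.1⟩ : S)⁻¹ * ⟨ψ ⟨x, hpre x hx⟩, hψS _⟩ ∈ Q.subgroupOf S :=
    QuotientGroup.eq.mp h5.symm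
  rw [Subgroup.mem_subgroupOf] at h6
  have h7 : z⁻¹ * ψ ⟨x, hpre x hx⟩ ∈ S ⊓ Subgroup.centralizer (S : Set Ω) := hQZ h6
  have h8 : ψ ⟨x, hpre x hx⟩ ∈ S ⊓ Subgroup.centralizer (S : Set Ω) := by
    have := Subgroup.mul_mem _ hz h7
    rwa [mul_inv_cancel_left] at this
  rw [mem_ZS_iff]
  refine ⟨hx, fun s hs => ?_⟩
  have h9 := (mem_ZS_iff.mp h8).2 (ψ ⟨s, hpre s hs⟩) (hψS _)
  rw [← map_mul, ← map_mul] at h9
  have h10 := E.injective_of_mem hψ h9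
  exact congrArg Subtype.val h10

end Cfsg.Agent.Lib.Helper1.FusCH
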