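import Mathlib
import Cfsg.Agent.Lib.Helper1.FusCHG
import Cfsg.Agent.S5132
import Cfsg.Agent.S5099
import Cfsg.Agent.S5097

set_option autoImplicit false

universe u

namespace Cfsg.Agent.Lib.Helper1.FusCH

open Cfsg Cfsg.FusionSystem Cfsg.Agent.Lib.Helper26

theorem exists_exp_data {T : Type*} [Group T] [Finite T] (hT : IsPGroup 2 T) :
    (∀ x : T, x = 1) ∨ ∃ m : ℕ, (∀ x : T, x ^ (2 * m) = 1) ∧ ∃ g : T, g ^ m ≠ 1 := by
  have : Fact (Nat.Prime 2) := ⟨Nat.prime_two⟩
  set E := Monoid.exponent T with hE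
  obtain ⟨n, hn⟩ := IsPGroup.iff_card.mp hT
  have hEd : E ∣ 2 ^ n := hn ▸ Group.exponent_dvd_nat_card
  obtain ⟨e, _, he⟩ := (Nat.dvd_prime_pow Nat.prime_two).mp hEd
  rcases Nat.eq_zero_or_pos e with h0 | hpos
  · left
    intro x
    have := Monoid.pow_exponent_eq_one x
    rw [← hE, he, h0, pow_zero, pow_one] at this
    exact this
  · right
    obtain ⟨e', rfl⟩ : ∃ e', e = e' + 1 := ⟨e - 1, by omega⟩
    refine ⟨2 ^ e', ?_, ?_⟩
    · intro x
      have := Monoid.pow_exponent_eq_one x
      rw [← hE, he, pow_succ'] at this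
      exact this
    · by_contra hcon
      push_neg at hcon
      have h1 : E ∣ 2 ^ e' := by
        rw [hE, Monoid.exponent_dvd_iff_forall_pow_eq_one]
        exact hcon
      rw [he] at h1
      have := (Nat.pow_dvd_pow_iff_le_right (by norm_num : 1 < 2)).mp h1
      omega

theorem henke_aux : ∀ n : ℕ, ∀ (Ω : Type u) [Group Ω] (S : Subgroup Ω) [Finite S],
    Nat.card S = n → IsPGroup 2 S → ∀ F : FusionSystem S, F.IsSaturated 2 → HypH F →
    ∀ a b : S, a * b = b * a := by
  intro n
  induction n using Nat.strong_induction_on with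
  | _ n ih =>
  intro Ω _ S _ hn hS F hF hH
  have : Fact (Nat.Prime 2) := ⟨Nat.prime_two⟩
  rcases exists_exp_data hS with h1 | ⟨m, hm, g, hg⟩
  · intro a b
    rw [h1 a, h1 b]
  · have hexp : ∀ x ∈ S, x ^ (2 * m) = 1 := by
      intro x hx
      have := congrArg Subtype.val (hm ⟨x, hx⟩)
      simpa using this
    obtain ⟨t, ht⟩ : ∃ t : Ω, (g : Ω) ^ m = t := ⟨_, rfl⟩
    have ht1 : t ≠ 1 := by
      intro h
      apply hg
      apply Subtype.ext
      rw [← ht] at h
      simpa using h
    have htZ : t ∈ S ⊓ Subgroup.centralizer (S : Set Ω) := by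
      rw [← ht]; exact big_central_fus hS F hF hH m hexp g.2
    have hQ : Subgroup.zpowers t ≤ S := by
      rw [Subgroup.zpowers_le]; exact htZ.1
    have hS'eq := centralizerIn_zpowers_eq htZ
    have hQfc := fullyCentralized_zpowers_central F htZ
    have hEdef := centralizerSystem_isCentralizerSystem F (Subgroup.zpowers t) hQ
    have hfin : Finite (centralizerIn S (Subgroup.zpowers t)) := by
      rw [hS'eq]; infer_instance
    have hS' : IsPGroup 2 (centralizerIn S (Subgroup.zpowers t)) := by
      rw [hS'eq]; exact hS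
    have hEsat := centralizerSystem_saturated hS F hF hQfc _ hEdef
    have hHE := hypH_centralizer hS F hF hH m hexp g.2 ht _ hEdef
    have hQ' : Subgroup.zpowers t ≤ centralizerIn S (Subgroup.zpowers t) := by
      rw [hS'eq]; exact hQ
    have hQsc := stronglyClosed_centralizer F (Subgroup.zpowers t) hQ' _ hEdef
    have hQZ' : Subgroup.zpowers t ≤ centralizerIn S (Subgroup.zpowers t) ⊓
        Subgroup.centralizer ((centralizerIn S (Subgroup.zpowers t) : Subgroup Ω) : Set Ω) := by
      rw [hS'eq, Subgroup.zpowers_le]; exact htZ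
    have hnormal : ((Subgroup.zpowers t).subgroupOf (centralizerIn S (Subgroup.zpowers t))).Normal := by
      refine ⟨fun q hq c => ?_⟩
      rw [Subgroup.mem_subgroupOf] at hq ⊢
      have h2 := (mem_ZS_iff.mp (hQZ' hq)).2 c c.2
      have h3 : ((c * q * c⁻¹ : centralizerIn S (Subgroup.zpowers t)) : Ω) = (q : Ω) := by
        show (c : Ω) * (q : Ω) * (c : Ω)⁻¹ = q
        rw [h2, mul_inv_cancel_right]
      rw [h3]
      exact hq
    obtain ⟨E', hE'⟩ := Cfsg.Agent.S5132.result 2 hS' (centralizerSystem F (Subgroup.zpowers t) hQ)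
      (Subgroup.zpowers t) hQsc
    have hHE' := hypH_factor hS' _ hEsat hHE (Subgroup.zpowers t) hQsc E' hE'
    have hsurj := Cfsg.Agent.S5134.result 2 hS' _ hEsat (Subgroup.zpowers t) hQsc _ E' hE'
    have hE'sat : E'.IsSaturated 2 := Cfsg.Agent.S5133.result 2 hS' _ hEsat E' _ hsurj
    have hTop : IsPGroup 2 (⊤ : Subgroup (centralizerIn S (Subgroup.zpowers t) ⧸
        (Subgroup.zpowers t).subgroupOf (centralizerIn S (Subgroup.zpowers t)))) :=
      (hS'.to_quotient _).to_subgroup ⊤
    have hlt : Nat.card (⊤ : Subgroup (centralizerIn S (Subgroup.zpowers t) ⧸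
        (Subgroup.zpowers t).subgroupOf (centralizerIn S (Subgroup.zpowers t)))) < n := by
      rw [Subgroup.card_top]
      have h2 := Subgroup.card_eq_card_quotient_mul_card_subgroup
        ((Subgroup.zpowers t).subgroupOf (centralizerIn S (Subgroup.zpowers t)))
      have h3 : Nat.card (centralizerIn S (Subgroup.zpowers t)) = n := by
        rw [hS'eq]; exact hn
      have h4 : 1 < Nat.card ((Subgroup.zpowers t).subgroupOf (centralizerIn S (Subgroup.zpowers t))) := by
        rw [Subgroup.one_lt_card_iff_ne_bot]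
        intro hbot
        have h5 : (⟨t, hQ' (Subgroup.mem_zpowers t)⟩ : centralizerIn S (Subgroup.zpowers t)) ∈
            (Subgroup.zpowers t).subgroupOf (centralizerIn S (Subgroup.zpowers t)) := by
          rw [Subgroup.mem_subgroupOf]; exact Subgroup.mem_zpowers t
        rw [hbot, Subgroup.mem_bot] at h5
        exact ht1 (congrArg Subtype.val h5)
      have h6 : 0 < Nat.card (centralizerIn S (Subgroup.zpowers t) ⧸
        (Subgroup.zpowers t).subgroupOf (centralizerIn S (Subgroup.zpowers t))) := Nat.card_pos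
      rw [← h3, h2]
      nlinarith
    have ih' := ih _ hlt _ ⊤ rfl hTop E' hE'sat hHE'
    have hcomm : ∀ a b : centralizerIn S (Subgroup.zpowers t) ⧸
        (Subgroup.zpowers t).subgroupOf (centralizerIn S (Subgroup.zpowers t)), a * b = b * a := by
      intro a b
      exact congrArg Subtype.val (ih' ⟨a, Subgroup.mem_top a⟩ ⟨b, Subgroup.mem_top b⟩)
    intro a b
    have ha : (a : Ω) ∈ centralizerIn S (Subgroup.zpowers t) := by rw [hS'eq]; exact a.2
    have hb : (b : Ω) ∈ centralizerIn S (Subgroup.zpowers t) := by rw [hS'eq]; exact b.2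
    have hbZ := central_of_factor_comm hS' _ hEsat hHE (Subgroup.zpowers t) hQZ' hQsc E' hE' hcomm hb
    apply Subtype.ext
    exact (mem_ZS_iff.mp hbZ).2 a ha

end Cfsg.Agent.Lib.Helper1.FusCH
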