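import Mathlib
import Cfsg.Prelude.Def_PLocal
import Cfsg.Agent.Lib.Helper1.GillamRepl

set_option autoImplicit false

open scoped Pointwise

namespace Cfsg.Agent.Lib.Helper1

open Cfsg.Agent.Lib.Helper18

variable {G : Type*} [Group G]

theorem card_le_card_sup_of_step' [Finite G] {A A' M K : Subgroup G} (φ : G → G) (hKA : K ≤ A)
    (hKA' : K ≤ A') (hφM : ∀ a ∈ A, φ a ∈ M)
    (hstep : ∀ a ∈ A, ∀ b ∈ A, ((φ a)⁻¹ * φ b ∈ A' ↔ a⁻¹ * b ∈ K)) :
    Nat.card A ≤ Nat.card ↥(M ⊔ K) := by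
  have hrel : K.relIndex A ≤ A'.relIndex M := by
    have hcompat : ∀ a b : A, QuotientGroup.leftRel (K.subgroupOf A) a b →
        QuotientGroup.leftRel (A'.subgroupOf M) (⟨φ a, hφM a a.2⟩ : M) ⟨φ b, hφM b b.2⟩ := by
      intro a b hab
      rw [QuotientGroup.leftRel_apply] at hab ⊢
      rw [Subgroup.mem_subgroupOf] at hab ⊢
      have hab' : (a : G)⁻¹ * b ∈ K := by simpa using hab
      have := (hstep a a.2 b b.2).mpr hab'
      simpa using this
    have hinj : Function.Injective (Quotient.map' (s₁ := QuotientGroup.leftRel (K.subgroupOf A))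
        (s₂ := QuotientGroup.leftRel (A'.subgroupOf M))
        (fun a : A => (⟨φ a, hφM a a.2⟩ : M)) hcompat) := by
      intro q₁ q₂ h
      obtain ⟨a, rfl⟩ := Quotient.mk''_surjective q₁
      obtain ⟨b, rfl⟩ := Quotient.mk''_surjective q₂
      rw [Quotient.map'_mk'', Quotient.map'_mk'', Quotient.eq''] at h
      rw [Quotient.eq'']
      rw [QuotientGroup.leftRel_apply] at h ⊢
      rw [Subgroup.mem_subgroupOf] at h ⊢
      have h' : (φ a)⁻¹ * φ b ∈ A' := by simpa using h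
      have := (hstep a a.2 b b.2).mp h'
      simpa using this
    exact Nat.card_le_card_of_injective _ hinj
  have e1 := card_eq_card_mul_relIndex hKA
  have e2 := card_eq_card_mul_relIndex (inf_le_left : M ⊓ A' ≤ M)
  rw [Subgroup.inf_relIndex_left] at e2
  have e3 := card_mul_set_mul_card_inf M K
  have e4 := card_mul_set_le_card_sup M K
  have e5 : Nat.card ↥(M ⊓ K) ≤ Nat.card ↥(M ⊓ A') :=
    Nat.card_mono (Set.toFinite _) (inf_le_inf_left M hKA')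
  have hpos : 0 < Nat.card ↥(M ⊓ A') := Nat.card_pos
  apply Nat.le_of_mul_le_mul_right _ hpos
  calc Nat.card A * Nat.card ↥(M ⊓ A') = Nat.card K * (Nat.card ↥(M ⊓ A') * K.relIndex A) := by
        rw [e1]; ring
    _ ≤ Nat.card K * (Nat.card ↥(M ⊓ A') * A'.relIndex M) :=
        Nat.mul_le_mul_left _ (Nat.mul_le_mul_left _ hrel)
    _ = Nat.card M * Nat.card K := by rw [← e2]; ring
    _ = Nat.card ((M : Set G) * (K : Set G) : Set G) * Nat.card ↥(M ⊓ K) := e3.symm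
    _ ≤ Nat.card ↥(M ⊔ K) * Nat.card ↥(M ⊓ A') := Nat.mul_le_mul e4 e5

theorem replacement_exact [Finite G] {A : Subgroup G} (hA : IsMulCommutative A) (x : G)
    (hxN : ∀ a ∈ A, x * a * x⁻¹ * a⁻¹ ∈ Subgroup.normalizer (A : Set G))
    (hM : ∀ a ∈ A, ∀ b ∈ A, (x * a * x⁻¹ * a⁻¹) * (x * b * x⁻¹ * b⁻¹) =
      (x * b * x⁻¹ * b⁻¹) * (x * a * x⁻¹ * a⁻¹))
    (hMA : ∀ m ∈ Subgroup.closure ((fun a => x * a * x⁻¹ * a⁻¹) '' (A : Set G)), m ∈ A →
      x * m * x⁻¹ * m⁻¹ ∈ A) :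
    ∃ K : Subgroup G, (∀ a, a ∈ K ↔ a ∈ A ∧ x * a * x⁻¹ * a⁻¹ ∈ A) ∧
      IsMulCommutative ↥(Subgroup.closure ((fun a => x * a * x⁻¹ * a⁻¹) '' (A : Set G)) ⊔ K) ∧
      Nat.card ↥(Subgroup.closure ((fun a => x * a * x⁻¹ * a⁻¹) '' (A : Set G)) ⊔ K) =
        Nat.card A ∧
      K ≤ Subgroup.centralizer
        (Subgroup.closure ((fun a => x * a * x⁻¹ * a⁻¹) '' (A : Set G)) : Set G) ∧
      (∀ a ∈ A, ∀ b ∈ A, ((x * a * x⁻¹ * a⁻¹)⁻¹ * (x * b * x⁻¹ * b⁻¹) ∈ A ↔ a⁻¹ * b ∈ K)) := by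
  have hAab : ∀ a ∈ A, ∀ a' ∈ A, a * a' = a' * a := by
    intro a ha a' ha'
    have := (Subgroup.le_centralizer_iff_isMulCommutative.mpr hA) ha
    rw [Subgroup.mem_centralizer_iff] at this
    exact (this a' ha').symm
  set φ : G → G := fun a => x * a * x⁻¹ * a⁻¹ with hφ
  have hF1 : ∀ n, n ∈ Subgroup.normalizer (A : Set G) → ∀ a ∈ A,
      n * a * n⁻¹ * a⁻¹ ∈ A := by
    intro n hnN a ha
    exact A.mul_mem ((Subgroup.mem_normalizer_iff.mp hnN a).mp ha) (A.inv_mem ha)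
  have hF3 : ∀ a ∈ A, ∀ a' ∈ A, ∃ e ∈ A, φ (a * a') = φ a * e * φ a' := by
    intro a ha a' ha'
    refine ⟨(φ a' * a * (φ a')⁻¹ * a⁻¹)⁻¹, Subgroup.inv_mem _ (hF1 _ (hxN a' ha') a ha), ?_⟩
    simp [hφ, mul_assoc]
  let K : Subgroup G :=
    { carrier := {a | a ∈ A ∧ φ a ∈ A}
      one_mem' := ⟨A.one_mem, by simp [hφ]⟩
      mul_mem' := by
        rintro a a' ⟨ha, hfa⟩ ⟨ha', hfa'⟩
        refine ⟨A.mul_mem ha ha', ?_⟩
        obtain ⟨e, he, heq⟩ := hF3 a ha a' ha'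
        rw [heq]
        exact A.mul_mem (A.mul_mem hfa he) hfa'
      inv_mem' := by
        rintro a ⟨ha, hfa⟩
        refine ⟨A.inv_mem ha, ?_⟩
        have : φ a⁻¹ = a⁻¹ * (φ a)⁻¹ * a := by simp [hφ, mul_assoc]
        rw [this]
        exact A.mul_mem (A.mul_mem (A.inv_mem ha) (A.inv_mem hfa)) ha }
  have hKA : K ≤ A := fun a ha => ha.1
  have hKmem : ∀ a, a ∈ K ↔ a ∈ A ∧ φ a ∈ A := fun a => Iff.rfl
  set M := Subgroup.closure (φ '' (A : Set G)) with hMdef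
  have hφM : ∀ a ∈ A, φ a ∈ M := fun a ha => Subgroup.subset_closure ⟨a, ha, rfl⟩
  have hMN : M ≤ Subgroup.normalizer (A : Set G) := by
    rw [hMdef, Subgroup.closure_le]
    rintro _ ⟨a, ha, rfl⟩
    exact hxN a ha
  have hMab : IsMulCommutative M := by
    rw [hMdef]
    apply Subgroup.isMulCommutative_closure
    rintro _ ⟨a, ha, rfl⟩ _ ⟨b, hb, rfl⟩
    exact hM a ha b hb
  have hKab : IsMulCommutative K := by
    rw [← Subgroup.le_centralizer_iff_isMulCommutative]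
    exact le_trans hKA (le_trans (Subgroup.le_centralizer_iff_isMulCommutative.mpr hA)
      (Subgroup.centralizer_le (by exact_mod_cast hKA)))
  have hMK : M ≤ Subgroup.centralizer (K : Set G) := by
    rw [hMdef, Subgroup.closure_le]
    rintro _ ⟨a, ha, rfl⟩
    rw [SetLike.mem_coe, Subgroup.mem_centralizer_iff]
    intro k hk
    obtain ⟨hkA, hfk⟩ := hk
    set e := (φ k)⁻¹ with he
    have heA : e ∈ A := A.inv_mem hfk
    have h1 : k * x = e * x * k := by simp [he, hφ, mul_assoc]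
    have h2 : k * a = a * k := hAab k hkA a ha
    have h3 : e * φ a = φ a * e := by
      have h4 : φ k * φ a = φ a * φ k := hM k hkA a ha
      have h5 : e * φ a = e * (φ a * φ k) * e := by
        simp only [he]; group
      rw [h5, ← h4]
      simp only [he]; group
    have hc1 : k * a * k⁻¹ = a := by rw [h2]; group
    have hc2 : k * x * k⁻¹ = e * x := by rw [h1]; group
    have hc3 : a * e⁻¹ * a⁻¹ = e⁻¹ := by rw [hAab a ha e⁻¹ (A.inv_mem heA)]; group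
    have key : k * φ a * k⁻¹ = φ a := by
      have s1 : k * φ a * k⁻¹ =
          (k * x * k⁻¹) * (k * a * k⁻¹) * (k * x * k⁻¹)⁻¹ * (k * a * k⁻¹)⁻¹ := by
        simp only [hφ]; group
      rw [s1, hc1, hc2]
      have s2 : e * x * a * (e * x)⁻¹ * a⁻¹ = e * (x * a * x⁻¹ * a⁻¹) * (a * e⁻¹ * a⁻¹) := by group
      rw [s2, hc3]
      show e * φ a * e⁻¹ = φ a
      rw [h3]; group
    show k * φ a = φ a * k
    calc k * φ a = k * φ a * k⁻¹ * k := by group
      _ = φ a * k := by rw [key]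
  have hKM : K ≤ Subgroup.centralizer (M : Set G) := Subgroup.le_centralizer_iff.mp hMK
  have hA'ab : IsMulCommutative ↥(M ⊔ K) :=
    isMulCommutative_sup_of_le_centralizer hMab hKab hKM
  have hstep : ∀ a ∈ A, ∀ b ∈ A, ((φ a)⁻¹ * φ b ∈ A ↔ a⁻¹ * b ∈ K) := by
    intro a ha b hb
    have hab : a⁻¹ * b ∈ A := A.mul_mem (A.inv_mem ha) hb
    obtain ⟨e, he, heq⟩ := hF3 a ha (a⁻¹ * b) hab
    have hfb : φ b = φ a * e * φ (a⁻¹ * b) := by
      rw [← heq]; simp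
    have h2 : (φ a)⁻¹ * φ b = e * φ (a⁻¹ * b) := by rw [hfb]; group
    rw [h2]
    constructor
    · intro h
      refine ⟨hab, ?_⟩
      have : φ (a⁻¹ * b) = e⁻¹ * (e * φ (a⁻¹ * b)) := by group
      rw [this]
      exact A.mul_mem (A.inv_mem he) h
    · intro h
      exact A.mul_mem he h.2
  have hge : Nat.card A ≤ Nat.card ↥(M ⊔ K) := card_le_card_sup_of_step φ hKA hφM hstep
  have hsurj : ∀ m ∈ M, ∃ a ∈ A, (φ a)⁻¹ * m ∈ A := by
    intro m hm
    rw [hMdef] at hm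
    induction hm using Subgroup.closure_induction with
    | mem m hm =>
      obtain ⟨a, ha, rfl⟩ := hm
      exact ⟨a, ha, by simp [A.one_mem]⟩
    | one => exact ⟨1, A.one_mem, by simp [hφ, A.one_mem]⟩
    | mul m₁ m₂ _ _ ih₁ ih₂ =>
      obtain ⟨a₁, ha₁, ht₁⟩ := ih₁
      obtain ⟨a₂, ha₂, ht₂⟩ := ih₂
      obtain ⟨e, he, heq⟩ := hF3 a₁ ha₁ a₂ ha₂
      refine ⟨a₁ * a₂, A.mul_mem ha₁ ha₂, ?_⟩
      rw [heq]
      have hn : (φ a₂)⁻¹ ∈ Subgroup.normalizer (A : Set G) :=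
        Subgroup.inv_mem _ (hxN a₂ ha₂)
      have h1 : (φ a₂)⁻¹ * (e⁻¹ * ((φ a₁)⁻¹ * m₁)) * ((φ a₂)⁻¹)⁻¹ ∈ A :=
        (Subgroup.mem_normalizer_iff.mp hn _).mp (A.mul_mem (A.inv_mem he) ht₁)
      have h2 : (φ a₁ * e * φ a₂)⁻¹ * (m₁ * m₂) =
          ((φ a₂)⁻¹ * (e⁻¹ * ((φ a₁)⁻¹ * m₁)) * ((φ a₂)⁻¹)⁻¹) * ((φ a₂)⁻¹ * m₂) := by group
      rw [h2]
      exact A.mul_mem h1 ht₂
    | inv m _ ih =>
      obtain ⟨a, ha, ht⟩ := ih
      refine ⟨a⁻¹, A.inv_mem ha, ?_⟩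
      have hfi : φ a⁻¹ = a⁻¹ * (φ a)⁻¹ * a := by simp [hφ, mul_assoc]
      have hn : φ a ∈ Subgroup.normalizer (A : Set G) := hxN a ha
      have h1 : φ a * (a * ((φ a)⁻¹ * m)⁻¹) * (φ a)⁻¹ ∈ A :=
        (Subgroup.mem_normalizer_iff.mp hn _).mp
          (A.mul_mem ha (A.inv_mem ht))
      have h2 : (φ a⁻¹)⁻¹ * m⁻¹ = a⁻¹ * (φ a * (a * ((φ a)⁻¹ * m)⁻¹) * (φ a)⁻¹) := by
        rw [hfi]; group
      rw [h2]
      exact A.mul_mem (A.inv_mem ha) h1
  have hrel2 : A.relIndex M ≤ K.relIndex A := by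
    have hcompat : ∀ a b : A, QuotientGroup.leftRel (K.subgroupOf A) a b →
        QuotientGroup.leftRel (A.subgroupOf M) (⟨φ a, hφM a a.2⟩ : M) ⟨φ b, hφM b b.2⟩ := by
      intro a b hab
      rw [QuotientGroup.leftRel_apply] at hab ⊢
      rw [Subgroup.mem_subgroupOf] at hab ⊢
      have hab' : (a : G)⁻¹ * b ∈ K := by simpa using hab
      have := (hstep a a.2 b b.2).mpr hab'
      simpa using this
    have hsur : Function.Surjective (Quotient.map' (s₁ := QuotientGroup.leftRel (K.subgroupOf A))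
        (s₂ := QuotientGroup.leftRel (A.subgroupOf M))
        (fun a : A => (⟨φ a, hφM a a.2⟩ : M)) hcompat) := by
      intro q
      obtain ⟨m, rfl⟩ := Quotient.mk''_surjective q
      obtain ⟨a, ha, ht⟩ := hsurj m m.2
      refine ⟨Quotient.mk'' ⟨a, ha⟩, ?_⟩
      rw [Quotient.map'_mk'', Quotient.eq'', QuotientGroup.leftRel_apply, Subgroup.mem_subgroupOf]
      simpa using ht
    exact Nat.card_le_card_of_surjective _ hsur
  have hinfeq : M ⊓ K = M ⊓ A := by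
    apply le_antisymm (inf_le_inf_left M hKA)
    rintro m ⟨hmM, hmA⟩
    exact ⟨hmM, hmA, hMA m hmM hmA⟩
  have hle : Nat.card ↥(M ⊔ K) ≤ Nat.card A := by
    have e1 := card_eq_card_mul_relIndex hKA
    have e2 := card_eq_card_mul_relIndex (inf_le_left : M ⊓ A ≤ M)
    rw [Subgroup.inf_relIndex_left] at e2
    have e3 := card_mul_set_mul_card_inf M K
    have hset : ((M ⊔ K : Subgroup G) : Set G) = (M : Set G) * (K : Set G) :=
      Subgroup.coe_mul_of_right_le_normalizer_left M K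
        (le_trans hKM (Subgroup.centralizer_le_normalizer _))
    have e4 : Nat.card ↥(M ⊔ K) = Nat.card ((M : Set G) * (K : Set G) : Set G) := by
      rw [← hset]; rfl
    have hpos : 0 < Nat.card ↥(M ⊓ A) := Nat.card_pos
    apply Nat.le_of_mul_le_mul_right _ hpos
    calc Nat.card ↥(M ⊔ K) * Nat.card ↥(M ⊓ A)
        = Nat.card ((M : Set G) * (K : Set G) : Set G) * Nat.card ↥(M ⊓ K) := by
          rw [e4, hinfeq]
      _ = Nat.card M * Nat.card K := e3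
      _ = Nat.card K * (Nat.card ↥(M ⊓ A) * A.relIndex M) := by rw [← e2]; ring
      _ ≤ Nat.card K * (Nat.card ↥(M ⊓ A) * K.relIndex A) :=
          Nat.mul_le_mul_left _ (Nat.mul_le_mul_left _ hrel2)
      _ = Nat.card A * Nat.card ↥(M ⊓ A) := by rw [e1]; ring
  exact ⟨K, hKmem, hA'ab, le_antisymm hle hge, hKM, hstep⟩

end Cfsg.Agent.Lib.Helper1
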