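import Mathlib
import Cfsg.Prelude.Def_Transfer
import Cfsg.Agent.Lib.Helper1.Fusion

set_option autoImplicit false

namespace Cfsg.Agent.Lib.Helper1

open scoped Pointwise commutatorElement

variable {G : Type*} [Group G]

theorem exists_sylow_ge_conj_of_le [Finite G] {p : ℕ} [Fact p.Prime] (A B C : Subgroup G)
    (hA : IsPGroup p A) (hB : IsPGroup p B) (hAC : A ≤ C) (hBC : B ≤ C) :
    ∃ c ∈ C, ∃ Q : Sylow p G, A ≤ (Q : Subgroup G) ∧ ∀ b ∈ B, c * b * c⁻¹ ∈ (Q : Subgroup G) := by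
  have hA' : IsPGroup p (A.subgroupOf C) := hA.comap_of_injective C.subtype C.subtype_injective
  have hB' : IsPGroup p (B.subgroupOf C) := hB.comap_of_injective C.subtype C.subtype_injective
  obtain ⟨S₁, hS₁⟩ := hA'.exists_le_sylow
  obtain ⟨S₂, hS₂⟩ := hB'.exists_le_sylow
  obtain ⟨c, hc⟩ := MulAction.exists_smul_eq C S₂ S₁
  have hR : IsPGroup p ((S₁ : Subgroup C).map C.subtype) := S₁.2.map C.subtype
  obtain ⟨Q, hQ⟩ := hR.exists_le_sylow
  refine ⟨c, c.2, Q, ?_, ?_⟩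
  · intro a ha
    apply hQ
    exact ⟨⟨a, hAC ha⟩, hS₁ ha, rfl⟩
  · intro b hb
    apply hQ
    have hb2 : (⟨b, hBC hb⟩ : C) ∈ (S₂ : Subgroup C) := hS₂ hb
    have h3 : c * ⟨b, hBC hb⟩ * c⁻¹ ∈ (S₁ : Subgroup C) := by
      have : c * ⟨b, hBC hb⟩ * c⁻¹ ∈ c • S₂ := by
        rw [mem_sylow_smul_iff]
        have : c⁻¹ * (c * ⟨b, hBC hb⟩ * c⁻¹) * c = ⟨b, hBC hb⟩ := by group
        rw [this]; exact hb2
      rw [hc] at this
      exact this
    exact ⟨_, h3, rfl⟩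

theorem weaklyClosed_control [Finite G] {p : ℕ} [Fact p.Prime] (P : Sylow p G) (Z : Subgroup G)
    (hZ : Z ≤ Subgroup.centralizer ((P : Subgroup G) : Set G)) (hW : Cfsg.IsWeaklyClosed Z P)
    (x u : G) (hx : x ∈ (P : Subgroup G)) (hy : u * x * u⁻¹ ∈ (P : Subgroup G)) :
    ∃ h ∈ Subgroup.normalizer (Z : Set G), h * x * h⁻¹ = u * x * u⁻¹ := by
  obtain ⟨hZP, hWc⟩ := hW
  set y := u * x * u⁻¹ with hydef
  have hcomm : ∀ z ∈ Z, ∀ w ∈ (P : Subgroup G), w * z = z * w := by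
    intro z hz w hw
    exact (Subgroup.mem_centralizer_iff.mp (hZ hz)) w hw
  have hZC : Z ≤ Subgroup.centralizer ({y} : Set G) := by
    intro z hz
    rw [Subgroup.mem_centralizer_singleton_iff]
    exact (hcomm z hz y hy).symm
  have hZ'C : Z.map (MulAut.conj u).toMonoidHom ≤ Subgroup.centralizer ({y} : Set G) := by
    rintro _ ⟨z, hz, rfl⟩
    rw [Subgroup.mem_centralizer_singleton_iff]
    have h1 := hcomm z hz x hx
    simp only [MulEquiv.coe_toMonoidHom, MulAut.conj_apply, hydef]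
    calc u * z * u⁻¹ * (u * x * u⁻¹) = u * (z * x) * u⁻¹ := by group
      _ = u * (x * z) * u⁻¹ := by rw [h1]
      _ = u * x * u⁻¹ * (u * z * u⁻¹) := by group
  have hZp : IsPGroup p Z := P.2.to_le hZP
  have hZ'p : IsPGroup p (Z.map (MulAut.conj u).toMonoidHom) := hZp.map _
  obtain ⟨c, hc, Q, hQ1, hQ2⟩ := exists_sylow_ge_conj_of_le Z (Z.map (MulAut.conj u).toMonoidHom)
    (Subgroup.centralizer ({y} : Set G)) hZp hZ'p hZC hZ'C
  obtain ⟨v, hv⟩ := MulAction.exists_smul_eq G P Q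
  have hmemQ : ∀ w, w ∈ (Q : Subgroup G) ↔ v⁻¹ * w * v ∈ (P : Subgroup G) := by
    intro w
    rw [← hv]
    exact mem_sylow_smul_iff v w P
  have h1 : Z.map (MulAut.conj v⁻¹).toMonoidHom = Z := by
    apply hWc
    rintro _ ⟨z, hz, rfl⟩
    have := (hmemQ z).mp (hQ1 hz)
    simpa [MulAut.conj_apply] using this
  have h2 : Z.map (MulAut.conj (v⁻¹ * c * u)).toMonoidHom = Z := by
    apply hWc
    rintro _ ⟨z, hz, rfl⟩
    have h3 : c * (u * z * u⁻¹) * c⁻¹ ∈ (Q : Subgroup G) :=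
      hQ2 _ ⟨z, hz, by simp [MulAut.conj_apply]⟩
    have := (hmemQ _).mp h3
    have h4 : (MulAut.conj (v⁻¹ * c * u)).toMonoidHom z = v⁻¹ * (c * (u * z * u⁻¹) * c⁻¹) * v := by
      simp only [MulEquiv.coe_toMonoidHom, MulAut.conj_apply]
      group
    rw [h4]
    exact this
  have hv1 : v⁻¹ ∈ Subgroup.normalizer (Z : Set G) :=
    Subgroup.mem_normalizer_iff_map_conj_eq.mpr h1
  have hv2 : v⁻¹ * c * u ∈ Subgroup.normalizer (Z : Set G) :=
    Subgroup.mem_normalizer_iff_map_conj_eq.mpr h2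
  refine ⟨c * u, ?_, ?_⟩
  · have : c * u = (v⁻¹)⁻¹ * (v⁻¹ * c * u) := by group
    rw [this]
    exact Subgroup.mul_mem _ (Subgroup.inv_mem _ hv1) hv2
  · rw [Subgroup.mem_centralizer_singleton_iff] at hc
    calc c * u * x * (c * u)⁻¹ = c * y * c⁻¹ := by rw [hydef]; group
      _ = y * c * c⁻¹ := by rw [hc]
      _ = y := by group

theorem grun_weaklyClosed [Finite G] {p : ℕ} [Fact p.Prime] (P : Sylow p G) (Z : Subgroup G)
    (hZ : Z ≤ Subgroup.centralizer ((P : Subgroup G) : Set G)) (hW : Cfsg.IsWeaklyClosed Z P) :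
    commutator G ⊓ (P : Subgroup G) =
      ⁅Subgroup.normalizer (Z : Set G), Subgroup.normalizer (Z : Set G)⁆ ⊓ (P : Subgroup G) := by
  have hPN : (P : Subgroup G) ≤ Subgroup.normalizer (Z : Set G) :=
    (Subgroup.le_centralizer_iff.mp hZ).trans (Subgroup.centralizer_le_normalizer _)
  apply le_antisymm
  · rw [Subgroup.commutator_inf_eq_focalSubgroup]
    apply le_inf _ (Subgroup.focalSubgroup_le _)
    rw [Subgroup.focalSubgroup_def, Subgroup.closure_le]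
    rintro g ⟨hg, x, hx, u, rfl⟩
    have hy : u * x * u⁻¹ ∈ (P : Subgroup G) := by
      have h1 : x⁻¹ * ⁅x, u⁆ ∈ (P : Subgroup G) :=
        Subgroup.mul_mem _ (Subgroup.inv_mem _ hx) hg
      have h2 : u * x * u⁻¹ = (x⁻¹ * ⁅x, u⁆)⁻¹ := by
        rw [commutatorElement_def]; group
      rw [h2]
      exact Subgroup.inv_mem _ h1
    obtain ⟨h, hh, hhx⟩ := weaklyClosed_control P Z hZ hW x u hx hy
    have h3 : ⁅x, u⁆ = ⁅x, h⁆ := by
      rw [commutatorElement_def, commutatorElement_def]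
      have e1 : x * u * x⁻¹ * u⁻¹ = x * (u * x * u⁻¹)⁻¹ := by group
      have e2 : x * h * x⁻¹ * h⁻¹ = x * (h * x * h⁻¹)⁻¹ := by group
      rw [e1, e2, hhx]
    rw [SetLike.mem_coe, h3]
    exact Subgroup.commutator_mem_commutator (hPN hx) hh
  · apply inf_le_inf_right
    rw [commutator_def]
    exact Subgroup.commutator_mono le_top le_top

end Cfsg.Agent.Lib.Helper1
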