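import Mathlib
import Cfsg.Agent.Lib.Helper25.Hall4.Defs

set_option autoImplicit false

namespace Cfsg.Agent.Lib.Helper1.Hall4

open MulAction Cfsg.Agent.Lib.helper4 Cfsg.Agent.Lib.Helper22.LW Cfsg.Agent.Lib.Helper25.Hall4

universe u

def EvenProp : Prop :=
  ∀ (K β : Type u) [Group K] [Finite K] [MulAction K β] [Fintype β] [DecidableEq β] (h : ℕ),
    Hyp K β h → 8 ≤ Fintype.card β → Even (Fintype.card β) → False

def OddProp : Prop :=
  ∀ (K β : Type u) [Group K] [Finite K] [MulAction K β] [Fintype β] [DecidableEq β]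
    [FaithfulSMul K β] (h : ℕ), Hyp K β h → 8 ≤ Fintype.card β → Odd (Fintype.card β) → h = 1

end Cfsg.Agent.Lib.Helper1.Hall4
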