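import Mathlib
import Cfsg.Agent.Lib.Helper25.Hall4.Defs
import Cfsg.Agent.Lib.Helper1.Hall4Props
import Cfsg.Agent.S0415

set_option autoImplicit false

namespace Cfsg.Agent.Lib.Helper1.Hall4

open MulAction Cfsg.Agent.Lib.helper4 Cfsg.Agent.Lib.Helper22.LW Cfsg.Agent.Lib.Helper25.Hall4

universe u

theorem card_stab_eq {α : Type u} [Fintype α] [DecidableEq α]
    (G : Subgroup (Equiv.Perm α)) (hG : MulAction.IsMultiplyPretransitive G α 4) (x v : Fin 4 ↪ α) :
    Nat.card (stabilizer G v) = Nat.card (stabilizer G x) := by
  obtain ⟨g, hg⟩ := MulAction.exists_smul_eq G x v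
  exact (Nat.card_congr (MulAction.stabilizerEquivStabilizer hg.symm).toEquiv).symm

theorem card_G_eq {α : Type u} [Fintype α] [DecidableEq α]
    (G : Subgroup (Equiv.Perm α)) (hG : MulAction.IsMultiplyPretransitive G α 4) (x : Fin 4 ↪ α) :
    Nat.card G = (Fintype.card α).descFactorial 4 * Nat.card (stabilizer G x) := by
  have h1 := @MulAction.index_stabilizer_of_transitive G _ _ _ x hG
  rw [← Subgroup.index_mul_card (stabilizer G x), h1,
    Nat.card_eq_fintype_card, Fintype.card_embedding_eq, Fintype.card_fin]

theorem card_G_dvd {α : Type u} [Fintype α] [DecidableEq α]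
    (G : Subgroup (Equiv.Perm α)) : Nat.card G ∣ (Fintype.card α).factorial := by
  have := Subgroup.card_subgroup_dvd_card G
  rwa [Nat.card_eq_fintype_card (α := Equiv.Perm α), Fintype.card_perm] at this

theorem final (hE : EvenProp.{u}) (hO : OddProp.{u}) {α : Type u} [Fintype α] [DecidableEq α]
    (G : Subgroup (Equiv.Perm α)) (hG : MulAction.IsMultiplyPretransitive G α 4) (x : Fin 4 ↪ α)
    (hodd : Odd (Nat.card (MulAction.stabilizer G x))) :
    ((Fintype.card α = 4 ∨ Fintype.card α = 5) ∧ G = ⊤) ∨
      ((Fintype.card α = 6 ∨ Fintype.card α = 7) ∧ G = alternatingGroup α) ∨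
      (Fintype.card α = 11 ∧ Nat.card G = 7920) := by
  set h := Nat.card (stabilizer G x) with hh
  have hH : Hyp G α h := ⟨hG, hodd, fun v => card_stab_eq G hG x v⟩
  have hcard := card_G_eq G hG x
  rw [← hh] at hcard
  have hdvd := card_G_dvd G
  have hn4 : 4 ≤ Fintype.card α := by
    have := Fintype.card_le_of_embedding x
    simpa using this
  have hsharp : h = 1 → Fintype.card α = 4 ∨ Fintype.card α = 5 ∨ Fintype.card α = 6 ∨
      Fintype.card α = 11 := by
    intro h1
    have : MulAction.IsMultiplyPretransitive G α 4 := hG
    apply Cfsg.Agent.S0415.result G hn4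
    intro v
    have := hH.card v
    rw [h1] at this
    exact (Subgroup.card_eq_one).mp this
  have hPerm : Nat.card (Equiv.Perm α) = (Fintype.card α).factorial := by
    rw [Nat.card_eq_fintype_card, Fintype.card_perm]
  have hindex := Subgroup.index_mul_card G
  rw [hPerm] at hindex
  have hhpos : 0 < h := Nat.card_pos
  rcases Nat.lt_or_ge (Fintype.card α) 8 with hlt | hge
  · have hcases : Fintype.card α = 4 ∨ Fintype.card α = 5 ∨ Fintype.card α = 6 ∨
        Fintype.card α = 7 := by omega
    rcases hcases with h4 | h5 | h6 | h7
    · left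
      refine ⟨Or.inl h4, ?_⟩
      rw [h4] at hcard hdvd
      have : h = 1 := by
        have h24 : (4 : ℕ).descFactorial 4 = 24 := by decide
        have h24' : (4 : ℕ).factorial = 24 := by decide
        rw [hcard, h24, h24'] at hdvd
        have := Nat.le_of_dvd (by norm_num) hdvd
        omega
      rw [← Subgroup.card_eq_iff_eq_top, hPerm, hcard, this, h4]
      decide
    · left
      refine ⟨Or.inr h5, ?_⟩
      rw [h5] at hcard hdvd
      have : h = 1 := by
        have h24 : (5 : ℕ).descFactorial 4 = 120 := by decide
        have h24' : (5 : ℕ).factorial = 120 := by decide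
        rw [hcard, h24, h24'] at hdvd
        have := Nat.le_of_dvd (by norm_num) hdvd
        omega
      rw [← Subgroup.card_eq_iff_eq_top, hPerm, hcard, this, h5]
      decide
    · right; left
      refine ⟨Or.inl h6, ?_⟩
      rw [h6] at hcard hdvd hindex
      have h24 : (6 : ℕ).descFactorial 4 = 360 := by decide
      have h24' : (6 : ℕ).factorial = 720 := by decide
      rw [h24] at hcard
      rw [h24'] at hdvd hindex
      have h1 : h = 1 := by
        rw [hcard] at hdvd
        have hle := Nat.le_of_dvd (by norm_num) hdvd
        have h2 : h ≤ 2 := by omega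
        rcases hodd with ⟨m, hm⟩
        omega
      apply Equiv.Perm.eq_alternatingGroup_of_index_eq_two
      rw [hcard, h1] at hindex
      omega
    · right; left
      refine ⟨Or.inr h7, ?_⟩
      rw [h7] at hcard hdvd hindex
      have h24 : (7 : ℕ).descFactorial 4 = 840 := by decide
      have h24' : (7 : ℕ).factorial = 5040 := by decide
      rw [h24] at hcard
      rw [h24'] at hdvd hindex
      have h3 : h = 3 := by
        rw [hcard] at hdvd
        have hle := Nat.le_of_dvd (by norm_num) hdvd
        have h6 : h ≤ 6 := by omega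
        have hne1 : h ≠ 1 := by
          intro h1
          have := hsharp h1
          omega
        rcases hodd with ⟨m, hm⟩
        have : h = 3 ∨ h = 5 := by omega
        rcases this with h3 | h5
        · exact h3
        · exfalso
          rw [h5] at hdvd
          norm_num at hdvd
      apply Equiv.Perm.eq_alternatingGroup_of_index_eq_two
      rw [hcard, h3] at hindex
      omega
  · right; right
    rcases Nat.even_or_odd (Fintype.card α) with hev | hod
    · exact (hE G α h hH hge hev).elim
    · have h1 : h = 1 := hO G α h hH hge hod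
      have := hsharp h1
      have h11 : Fintype.card α = 11 := by omega
      refine ⟨h11, ?_⟩
      rw [hcard, h1, h11]
      decide

end Cfsg.Agent.Lib.Helper1.Hall4
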