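import Mathlib
import Cfsg.Agent.Lib.Helper25.Hall4.Defs
import Cfsg.Agent.Lib.Helper1.Hall4Props

set_option autoImplicit false

namespace Cfsg.Agent.Lib.Helper1.Hall4

open MulAction Cfsg.Agent.Lib.helper4 Cfsg.Agent.Lib.Helper22.LW Cfsg.Agent.Lib.Helper25.Hall4

universe u

theorem five_trans {K β : Type*} [Group K] [MulAction K β] [DecidableEq β]
    (h4 : IsMultiplyPretransitive K β 4)
    (htr : ∀ {a b c d : β}, [a, b, c, d].Nodup → ∀ y y' : β, y ∉ ({a, b, c, d} : Finset β) →
      y' ∉ ({a, b, c, d} : Finset β) → ∃ k ∈ L4 (K := K) a b c d, k • y = y') :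
    IsMultiplyPretransitive K β 5 := by
  refine ⟨fun x y => ?_⟩
  obtain ⟨g, hg⟩ := h4.exists_smul_eq (Fin.castSuccEmb.trans x) (Fin.castSuccEmb.trans y)
  have hgi : ∀ i : Fin 4, g • x (Fin.castSucc i) = y (Fin.castSucc i) := by
    intro i
    have := congrArg (fun e : Fin 4 ↪ β => e i) hg
    simpa using this
  have hnd : [y 0, y 1, y 2, y 3].Nodup := by
    have h01 : y 0 ≠ y 1 := fun h => by have := y.injective h; simp at this
    have h02 : y 0 ≠ y 2 := fun h => by have := y.injective h; simp at this
    have h03 : y 0 ≠ y 3 := fun h => by have := y.injective h; simp at this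
    have h12 : y 1 ≠ y 2 := fun h => by have := y.injective h; simp at this
    have h13 : y 1 ≠ y 3 := fun h => by have := y.injective h; simp at this
    have h23 : y 2 ≠ y 3 := fun h => by have := y.injective h; simp at this
    simp [h01, h02, h03, h12, h13, h23]
  have hy4 : y 4 ∉ ({y 0, y 1, y 2, y 3} : Finset β) := by
    have h01 : y 4 ≠ y 0 := fun h => by have := y.injective h; simp at this
    have h02 : y 4 ≠ y 1 := fun h => by have := y.injective h; simp at this
    have h03 : y 4 ≠ y 2 := fun h => by have := y.injective h; simp at this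
    have h12 : y 4 ≠ y 3 := fun h => by have := y.injective h; simp at this
    simp [h01, h02, h03, h12]
  have hp : g • x 4 ∉ ({y 0, y 1, y 2, y 3} : Finset β) := by
    have e0 := hgi 0
    have e1 := hgi 1
    have e2 := hgi 2
    have e3 := hgi 3
    simp only [Fin.castSucc_zero, Fin.castSucc_one] at e0 e1
    have e2' : g • x 2 = y 2 := e2
    have e3' : g • x 3 = y 3 := e3
    have h01 : g • x 4 ≠ y 0 := fun h => by
      rw [← e0] at h
      have := x.injective (MulAction.injective g h); simp at this
    have h02 : g • x 4 ≠ y 1 := fun h => by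
      rw [← e1] at h
      have := x.injective (MulAction.injective g h); simp at this
    have h03 : g • x 4 ≠ y 2 := fun h => by
      rw [← e2'] at h
      have := x.injective (MulAction.injective g h); simp at this
    have h12 : g • x 4 ≠ y 3 := fun h => by
      rw [← e3'] at h
      have := x.injective (MulAction.injective g h); simp at this
    simp [h01, h02, h03, h12]
  obtain ⟨k, hk, hkp⟩ := htr hnd (g • x 4) (y 4) hp hy4
  obtain ⟨k0, k1, k2, k3⟩ := mem_L4.mp hk
  refine ⟨k * g, ?_⟩
  ext i
  rw [Function.Embedding.smul_apply, mul_smul]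
  have e0 := hgi 0
  have e1 := hgi 1
  have e2 : g • x 2 = y 2 := hgi 2
  have e3 : g • x 3 = y 3 := hgi 3
  simp only [Fin.castSucc_zero, Fin.castSucc_one] at e0 e1
  fin_cases i
  · show k • g • x 0 = y 0
    rw [e0, k0]
  · show k • g • x 1 = y 1
    rw [e1, k1]
  · show k • g • x 2 = y 2
    rw [e2, k2]
  · show k • g • x 3 = y 3
    rw [e3, k3]
  · exact hkp

theorem card_stab_eq' {K β : Type*} [Group K] [MulAction K β]
    (h4 : IsMultiplyPretransitive K β 4) (x v : Fin 4 ↪ β) :
    Nat.card (stabilizer K v) = Nat.card (stabilizer K x) := by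
  obtain ⟨g, hg⟩ := h4.exists_smul_eq x v
  exact (Nat.card_congr (MulAction.stabilizerEquivStabilizer hg.symm).toEquiv).symm

theorem odd_trans_false (hE : EvenProp.{u}) {K β : Type u} [Group K] [Finite K] [MulAction K β]
    [Fintype β] [DecidableEq β] {h : ℕ} (H : Hyp K β h) (hn8 : 8 ≤ Fintype.card β)
    (hod : Odd (Fintype.card β))
    (htr : ∀ {a b c d : β}, [a, b, c, d].Nodup → ∀ y y' : β, y ∉ ({a, b, c, d} : Finset β) →
      y' ∉ ({a, b, c, d} : Finset β) → ∃ k ∈ L4 (K := K) a b c d, k • y = y') : False := by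
  classical
  have h5 := five_trans H.trans htr
  have hne : Nonempty β := Fintype.card_pos_iff.mp (by omega)
  obtain ⟨e⟩ := hne
  have h4 := H.trans
  have h1 : IsMultiplyPretransitive K β 1 :=
    isMultiplyPretransitive_of_le (n := 4) (by norm_num)
      (by rw [Nat.card_eq_fintype_card]; omega)
  have hpre : IsPretransitive K β := is_one_pretransitive_iff.mp h1
  have h4' : IsMultiplyPretransitive (stabilizer K e) (SubMulAction.ofStabilizer K e) 4 :=
    SubMulAction.ofStabilizer.isMultiplyPretransitive.mp h5
  have hcard : Nat.card (SubMulAction.ofStabilizer K e) + 1 = Nat.card β :=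
    SubMulAction.nat_card_ofStabilizer_add_one_eq K e
  rw [Nat.card_eq_fintype_card (α := β)] at hcard
  let _ : Fintype (SubMulAction.ofStabilizer K e) := Fintype.ofFinite _
  rw [Nat.card_eq_fintype_card] at hcard
  obtain ⟨v₀⟩ : Nonempty (Fin 4 ↪ SubMulAction.ofStabilizer K e) :=
    Function.Embedding.nonempty_of_card_le (by rw [Fintype.card_fin]; omega)
  have hodd' : Odd (Nat.card (stabilizer (stabilizer K e) v₀)) := by
    have hle : (stabilizer (stabilizer K e) v₀).map (stabilizer K e).subtype ≤
        stabilizer K (v₀.trans (Function.Embedding.subtype _)) := by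
      rintro _ ⟨k, hk, rfl⟩
      have hk : k • v₀ = v₀ := hk
      rw [mem_stabilizer_iff]
      ext i
      have := congrArg (fun w : Fin 4 ↪ SubMulAction.ofStabilizer K e => ((w i : SubMulAction.ofStabilizer K e) : β)) hk
      exact this
    have hdvd := Subgroup.card_dvd_of_le hle
    rw [Subgroup.card_map_of_injective (Subgroup.subtype_injective _), H.card] at hdvd
    exact Odd.of_dvd_nat H.odd hdvd
  refine hE (stabilizer K e) (SubMulAction.ofStabilizer K e) _
    ⟨h4', hodd', fun v => card_stab_eq' h4' v₀ v⟩ ?_ ?_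
  · obtain ⟨m, hm⟩ := hod
    omega
  · obtain ⟨m, hm⟩ := hod
    exact ⟨m, by omega⟩

end Cfsg.Agent.Lib.Helper1.Hall4
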