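import Mathlib
import Cfsg.Prelude.Def_ChevStructure
import Cfsg.Agent.Lib.helper14.INV.F4Defs
import Cfsg.Agent.Lib.helper14.F4Ch
import Cfsg.Agent.Lib.helper8.ChevWeyl1

set_option autoImplicit false

namespace Cfsg.Agent.Lib.helper14.INV

open Cfsg.Lie Cfsg.Lie.ChevalleyDatum Cfsg.Agent.Lib.helper8 Cfsg.Agent.Lib.helper14

universe u

variable {F : Type u} [Field F]

def stdaWord (vj : List ℕ × ℕ) : List ℕ := vj.1 ++ [vj.2] ++ vj.1.reverse

def stdaRoot (D : ChevalleyDatum) (vj : List ℕ × ℕ) : ℕ := h8sW D vj.1 (D.simple vj.2)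

theorem stda_wPerm_single (D : ChevalleyDatum) (hA : H8ReflAll D) (i : ℕ) :
    h8wPerm D hA [i] = h8sPerm D hA i := by
  unfold h8wPerm
  simp

theorem stda_wPerm_append (D : ChevalleyDatum) (hA : H8ReflAll D) (w1 w2 : List ℕ) :
    h8wPerm D hA (w1 ++ w2) = h8wPerm D hA w1 * h8wPerm D hA w2 := by
  unfold h8wPerm
  rw [List.map_append, List.prod_append]

theorem stda_root_act (D : ChevalleyDatum) (hB : H8Base.{u} D) (hA : H8ReflAll D) (hBN : H8BN D)
    (hW : H8BN2 D) (hO2 : H8Ord2 D) (v : List ℕ) (hv : ∀ i ∈ v, i < D.rank) (j : ℕ)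
    (hj : j < D.rank) (r : ℕ) (hr : r < D.nroots) :
    H8Act D hB (h8nU D hB (h8sW D v (D.simple j)) (1 : F)) r
      (h8sW D (v ++ [j] ++ v.reverse) r) := by
  have hs : D.simple j < D.nroots := (h8simple_pos D hBN j hj).1
  have e := h8Pi_conj (F := F) D hB hA hBN hW hO2 v hv (D.simple j) hs
  rw [h8Pi_simple D hB hA hBN hW hO2 j hj, h8wPerm_inv, ← stda_wPerm_single D hA j,
    ← stda_wPerm_append, ← stda_wPerm_append] at e
  have hact := h8Pi_act D hB hA hBN hW hO2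
    ⟨h8nU D hB (h8sW D v (D.simple j)) (1 : F),
      h8nU_mem_N D hB _ (h8sW_lt D hA v hv (D.simple j) hs)⟩ ⟨r, hr⟩
  rw [← e, h8wPerm_val] at hact
  · exact hact
  · intro i hi
    rcases List.mem_append.mp hi with h1 | h1
    · rcases List.mem_append.mp h1 with h2 | h2
      · exact hv i h2
      · rw [List.mem_singleton] at h2
        rw [h2]
        exact hj
    · exact hv i (List.mem_reverse.mp h1)

theorem stda_list_act (D : ChevalleyDatum) (hB : H8Base.{u} D) (hA : H8ReflAll D) (hBN : H8BN D)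
    (hW : H8BN2 D) (hO2 : H8Ord2 D) (L : List (List ℕ × ℕ))
    (hL : ∀ vj ∈ L, (∀ i ∈ vj.1, i < D.rank) ∧ vj.2 < D.rank) (r : ℕ) (hr : r < D.nroots) :
    H8Act D hB (n1 D hB (L.map (stdaRoot D)) : GL D.Idx F) r
      (h8sW D (L.flatMap stdaWord) r) ∧ h8sW D (L.flatMap stdaWord) r < D.nroots := by
  induction L with
  | nil =>
    refine ⟨⟨1, one_ne_zero, fun t => ?_⟩, hr⟩
    show (1 : GL D.Idx F) * h8xU D hB r t * 1⁻¹ = h8xU D hB r (1 * t)
    rw [one_mul, inv_one, mul_one, one_mul]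
  | cons vj L ih =>
    have hL' : ∀ vj ∈ L, (∀ i ∈ vj.1, i < D.rank) ∧ vj.2 < D.rank :=
      fun x hx => hL x (List.mem_cons_of_mem _ hx)
    obtain ⟨ih1, ih2⟩ := ih hL'
    obtain ⟨hv, hj⟩ := hL vj List.mem_cons_self
    have e1 : (n1 D hB ((vj :: L).map (stdaRoot D)) : GL D.Idx F) =
        h8nU D hB (h8sW D vj.1 (D.simple vj.2)) (1 : F) * n1 D hB (L.map (stdaRoot D)) := by
      unfold n1
      rw [List.map_cons, List.map_cons, List.prod_cons]
      rfl
    have e2 : h8sW D ((vj :: L).flatMap stdaWord) r =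
        h8sW D (vj.1 ++ [vj.2] ++ vj.1.reverse) (h8sW D (L.flatMap stdaWord) r) := by
      rw [List.flatMap_cons, h8sW_append]
      rfl
    have hact := stda_root_act (F := F) D hB hA hBN hW hO2 vj.1 hv vj.2 hj _ ih2
    refine ⟨?_, ?_⟩
    · rw [e1, e2]
      exact h8act_mul D hB _ _ _ _ _ ih1 hact
    · rw [e2]
      apply h8sW_lt D hA _ _ _ ih2
      intro i hi
      rcases List.mem_append.mp hi with h1 | h1
      · rcases List.mem_append.mp h1 with h2 | h2
        · exact hv i h2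
        · rw [List.mem_singleton] at h2
          rw [h2]
          exact hj
      · exact hv i (List.mem_reverse.mp h1)

def stdaW44 : List ℕ × ℕ := ([0, 1, 2, 3, 1, 2, 0], 1)
def stdaW47 : List ℕ × ℕ := ([3, 2, 1, 2, 3, 0, 1], 2)
def stdaW41 : List ℕ × ℕ := ([0, 1], 2)
def stdaW32 : List ℕ × ℕ := ([2, 3, 1], 2)
def stdaW39 : List ℕ × ℕ := ([2, 3, 1, 2, 0], 1)
def stdaW45 : List ℕ × ℕ := ([1, 2, 3, 0, 1], 2)
def stdaW37 : List ℕ × ℕ := ([1, 2, 0], 1)
def stdaW43 : List ℕ × ℕ := ([2, 3, 0, 1], 2)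
def stdaW30 : List ℕ × ℕ := ([1], 2)
def stdaW28 : List ℕ × ℕ := ([2], 1)
def stdaW29 : List ℕ × ℕ := ([3, 2], 1)
def stdaW38 : List ℕ × ℕ := ([3, 1, 2, 0], 1)

def stdaData : List (List (List ℕ × ℕ)) :=
  [[stdaW44], [stdaW47], [stdaW41, stdaW47], [stdaW32, stdaW44], [stdaW39, stdaW45],
   [stdaW37, stdaW47], [stdaW32, stdaW43, stdaW45], [stdaW30, stdaW41, stdaW47],
   [stdaW28, stdaW29, stdaW44], [stdaW37, stdaW38, stdaW39],
   [stdaW32, stdaW37, stdaW38, stdaW43]]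

theorem stda_valid : ∀ k < 11, ∀ vj ∈ stdaData.getD k [],
    (∀ i ∈ vj.1, i < chevF4.rank) ∧ vj.2 < chevF4.rank := by decide +kernel

theorem stda_roots : ∀ k < 11, (stdaData.getD k []).map (stdaRoot chevF4) = f4Std.getD k [] := by
  decide +kernel

theorem stda_tab : ∀ k < 11, ∀ r < 48,
    h8sW chevF4 ((stdaData.getD k []).flatMap stdaWord) r = (f4Tabs.getD k []).getD r 0 := by
  decide +kernel

theorem f4_std_act (hB : H8Base.{u} chevF4) (k : ℕ) (hk : k < 11) (r : ℕ) (hr : r < 48) :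
    H8Act chevF4 hB (n1 chevF4 hB (f4Std.getD k []) : GL chevF4.Idx F) r
      ((f4Tabs.getD k []).getD r 0) := by
  have hD := f4c_mem_list
  have hA := h8reflAll chevF4 hD
  have hBN := h8bn_all chevF4 hD
  have hW := h8bn2_all chevF4 hD
  obtain ⟨_, hO2⟩ := h8ord_all chevF4 hD
  have h1 := (stda_list_act (F := F) chevF4 hB hA hBN hW hO2 (stdaData.getD k [])
    (stda_valid k hk) r hr).1
  rw [stda_roots k hk, stda_tab k hk r hr] at h1
  exact h1

end Cfsg.Agent.Lib.helper14.INV
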