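import Mathlib
import Cfsg.Agent.Lib.Helper10.LW7.Defs
import Cfsg.Agent.Lib.helper6.OrbitTools

set_option autoImplicit false

namespace Cfsg.Agent.Lib.Helper1.LW7B2a

open MulAction Equiv
open scoped Pointwise
open Cfsg.Agent.Lib.Helper10.LW7

variable {α : Type*} [Fintype α] [DecidableEq α]

omit [Fintype α] in
theorem smul_eq_image (G : Subgroup (Perm α)) (g : G) (Δ : Finset α) :
    g • Δ = Δ.image (g : Perm α) := rfl

omit [Fintype α] in
theorem mem_iff_of_stab (G : Subgroup (Perm α)) (Δ : Finset α) (g : G) (hg : g • Δ = Δ) (x : α) :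
    (g : Perm α) x ∈ Δ ↔ x ∈ Δ := by
  constructor
  · intro h
    rw [← hg, smul_eq_image, Finset.mem_image] at h
    obtain ⟨y, hy, hyx⟩ := h
    have : y = x := (g : Perm α).injective hyx
    rwa [← this]
  · intro h
    rw [← hg, smul_eq_image]
    exact Finset.mem_image_of_mem _ h

noncomputable def toInd (G : Subgroup (Perm α)) (Δ : Finset α) :
    stabilizer G Δ → induced G Δ := fun g =>
  ⟨Perm.subtypePerm ((g : G) : Perm α) (mem_iff_of_stab G Δ g.1 g.2),
    ⟨((g : G) : Perm α), (g : G).2, fun _ => rfl⟩⟩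

theorem toInd_bijective (G : Subgroup (Perm α)) (Δ : Finset α)
    (hfix : fixingSubgroup G (Δ : Set α) = ⊥) : Function.Bijective (toInd G Δ) := by
  constructor
  · intro g g' h
    have h1 : ∀ x ∈ Δ, ((g : G) : Perm α) x = ((g' : G) : Perm α) x := by
      intro x hx
      have := congrArg (fun n : induced G Δ => (((n : Perm ↥Δ) ⟨x, hx⟩ : ↥Δ) : α)) h
      simpa [toInd] using this
    have h2 : (g : G)⁻¹ * (g' : G) ∈ fixingSubgroup G (Δ : Set α) := by
      rw [mem_fixingSubgroup_iff]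
      intro x hx
      have hx' : x ∈ Δ := hx
      rw [mul_smul, inv_smul_eq_iff]
      exact (h1 x hx').symm
    rw [hfix, Subgroup.mem_bot, inv_mul_eq_one] at h2
    exact Subtype.ext h2
  · rintro ⟨n, g, hg, hgn⟩
    have hstab : (⟨g, hg⟩ : G) • Δ = Δ := by
      rw [smul_eq_image]
      apply Finset.eq_of_subset_of_card_le
      · intro y hy
        rw [Finset.mem_image] at hy
        obtain ⟨x, hx, rfl⟩ := hy
        have := hgn ⟨x, hx⟩
        simp only at this
        rw [this]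
        exact (n ⟨x, hx⟩).2
      · rw [Finset.card_image_of_injective _ (Equiv.injective _)]
    refine ⟨⟨⟨g, hg⟩, hstab⟩, ?_⟩
    apply Subtype.ext
    ext x
    simp only [toInd]
    exact hgn x

theorem card_eq_orbit_mul (G : Subgroup (Perm α)) (Δ : Finset α)
    (hfix : fixingSubgroup G (Δ : Set α) = ⊥) :
    Nat.card G = (orbit G Δ).ncard * Nat.card (induced G Δ) := by
  rw [← Cfsg.Agent.Lib.helper6.ncard_orbit_mul_card_stabilizer (Q := G) Δ,
    Nat.card_congr (Equiv.ofBijective _ (toInd_bijective G Δ hfix))]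

theorem orbit_subset (G : Subgroup (Perm α)) (j : ℕ) (Δ : Finset α) (hΔ : Δ.card = j) :
    orbit G Δ ⊆ ((Finset.powersetCard j (Finset.univ : Finset α) : Finset (Finset α)) :
      Set (Finset α)) := by
  rintro _ ⟨g, rfl⟩
  simp only [Finset.mem_coe, Finset.mem_powersetCard, Finset.subset_univ, true_and]
  rw [← hΔ]
  simp

theorem card_induced_mul_ge (G : Subgroup (Perm α)) (j : ℕ) (Δ : Finset α) (hΔ : Δ.card = j)
    (hfix : fixingSubgroup G (Δ : Set α) = ⊥) :
    ∃ m : ℕ, 1 ≤ m ∧ m ≤ (Fintype.card α).choose j ∧ Nat.card G = m * Nat.card (induced G Δ) ∧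
      ((∀ Δ' : Finset α, Δ'.card = j → ∃ g ∈ G, Δ'.image g = Δ) → m = (Fintype.card α).choose j) := by
  refine ⟨(orbit G Δ).ncard, ?_, ?_, card_eq_orbit_mul G Δ hfix, ?_⟩
  · rw [Nat.one_le_iff_ne_zero, Ne, Set.ncard_eq_zero (Set.toFinite _)]
    exact (MulAction.nonempty_orbit Δ).ne_empty
  · have := Set.ncard_le_ncard (orbit_subset G j Δ hΔ) (Finset.finite_toSet _)
    rwa [Set.ncard_coe_finset, Finset.card_powersetCard, Finset.card_univ] at this
  · intro h
    have : orbit G Δ = ((Finset.powersetCard j (Finset.univ : Finset α) : Finset (Finset α)) :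
        Set (Finset α)) := by
      apply Set.Subset.antisymm (orbit_subset G j Δ hΔ)
      intro Δ' hΔ'
      have hc : Δ'.card = j := by
        simpa using hΔ'
      obtain ⟨g, hg, hgΔ⟩ := h Δ' hc
      refine ⟨(⟨g, hg⟩ : G)⁻¹, ?_⟩
      rw [inv_smul_eq_iff, smul_eq_image]
      exact hgΔ.symm
    rw [this, Set.ncard_coe_finset, Finset.card_powersetCard, Finset.card_univ]

theorem two_orbits (G : Subgroup (Perm α)) (j : ℕ) (Δ₁ Δ₂ : Finset α) (h1 : Δ₁.card = j) (h2 : Δ₂.card = j)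
    (hf1 : fixingSubgroup G (Δ₁ : Set α) = ⊥) (hf2 : fixingSubgroup G (Δ₂ : Set α) = ⊥)
    (hne : ∀ g ∈ G, Δ₁.image g ≠ Δ₂) :
    ∃ m₁ m₂ : ℕ, m₁ + m₂ ≤ (Fintype.card α).choose j ∧ Nat.card G = m₁ * Nat.card (induced G Δ₁) ∧
      Nat.card G = m₂ * Nat.card (induced G Δ₂) := by
  refine ⟨(orbit G Δ₁).ncard, (orbit G Δ₂).ncard, ?_, card_eq_orbit_mul G Δ₁ hf1,
    card_eq_orbit_mul G Δ₂ hf2⟩
  have hdisj : Disjoint (orbit G Δ₁) (orbit G Δ₂) := by
    rw [Set.disjoint_left]
    rintro _ ⟨g, rfl⟩ ⟨g', hg'⟩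
    simp only at hg'
    apply hne ((g'⁻¹ * g : G) : Perm α) (g'⁻¹ * g).2
    rw [← smul_eq_image, mul_smul, inv_smul_eq_iff]
    exact hg'.symm
  rw [← Set.ncard_union_eq hdisj (Set.toFinite _) (Set.toFinite _)]
  have := Set.ncard_le_ncard (Set.union_subset (orbit_subset G j Δ₁ h1) (orbit_subset G j Δ₂ h2))
    (Finset.finite_toSet _)
  rwa [Set.ncard_coe_finset, Finset.card_powersetCard, Finset.card_univ] at this

end Cfsg.Agent.Lib.Helper1.LW7B2a
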