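import Mathlib
import Cfsg.Agent.Lib.Helper10.LW7.Defs
import Cfsg.Agent.S4219

set_option autoImplicit false

namespace Cfsg.Agent.Lib.Helper1.LW7W

open MulAction Equiv
open Cfsg.Agent.Lib.Helper10.LW7

variable {α : Type*} [Fintype α] [DecidableEq α]

omit [Fintype α] [DecidableEq α] in
theorem induced_mp (G : Subgroup (Perm α)) (Ψ : Finset α) (k : ℕ)
    (h : ∀ a b : Fin k ↪ α, (∀ i, a i ∈ Ψ) → (∀ i, b i ∈ Ψ) →
      ∃ g ∈ G, (∀ x, x ∈ Ψ → g x ∈ Ψ) ∧ ∀ i, g (a i) = b i) :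
    IsMultiplyPretransitive (induced G Ψ) ↥Ψ k := by
  refine ⟨fun a' b' => ?_⟩
  obtain ⟨g, hg, hgΨ, hgab⟩ := h (a'.trans (Function.Embedding.subtype _))
    (b'.trans (Function.Embedding.subtype _)) (fun i => (a' i).2) (fun i => (b' i).2)
  refine ⟨⟨Perm.subtypePermOfFintype g hgΨ, ⟨g, hg, fun x => rfl⟩⟩, ?_⟩
  ext i
  have := hgab i
  exact this

theorem card_fixF_lt' (Q : Subgroup (Perm α)) (hQ : Q ≠ ⊥) : (fixF Q).card < Fintype.card α := by
  rw [← Finset.card_univ]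
  apply Finset.card_lt_card
  rw [Finset.ssubset_univ_iff]
  intro h
  apply hQ
  rw [Subgroup.eq_bot_iff_forall]
  intro q hq
  ext a
  have : a ∈ fixF Q := by rw [h]; exact Finset.mem_univ a
  exact mem_fixF.mp this q hq

theorem witt_case (G : Subgroup (Perm α)) {k : ℕ} (hG : IsMultiplyPretransitive G α k)
    (x : Fin k ↪ α) (p : ℕ) [Fact p.Prime] (P : Sylow p (stabilizer G x))
    (hP1 : (P : Subgroup (stabilizer G x)) ≠ ⊥)
    (hP : k + 1 ≤ (fixF (((P : Subgroup (stabilizer G x)).map (stabilizer G x).subtype).map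
      G.subtype)).card) :
    ∃ Ψ : Finset α, k < Ψ.card ∧ Ψ.card < Fintype.card α ∧
      IsMultiplyPretransitive (induced G Ψ) ↥Ψ k := by
  set P' : Subgroup G := (P : Subgroup (stabilizer G x)).map (stabilizer G x).subtype with hP'
  set Q : Subgroup (Perm α) := P'.map G.subtype with hQ
  have hQ1 : Q ≠ ⊥ := by
    intro h
    apply hP1
    rw [hQ, Subgroup.map_eq_bot_iff_of_injective _ (Subgroup.subtype_injective _), hP',
      Subgroup.map_eq_bot_iff_of_injective _ (Subgroup.subtype_injective _)] at h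
    exact h
  refine ⟨fixF Q, by omega, card_fixF_lt' Q hQ1, ?_⟩
  apply induced_mp
  intro a b ha hb
  have hfix : ∀ c : Fin k ↪ α, (∀ i, c i ∈ fixF Q) → ∀ i, c i ∈ fixedPoints P' α := by
    intro c hc i
    rintro ⟨g, hg⟩
    exact mem_fixF.mp (hc i) (g : Perm α) ⟨g, hg, rfl⟩
  obtain ⟨g, hgN, hgab⟩ := Cfsg.Agent.S4219.result (G := ↥G) hG x P a b (hfix a ha) (hfix b hb)
  refine ⟨(g : Perm α), g.2, ?_, ?_⟩
  · intro y hy
    rw [mem_fixF] at hy ⊢
    rintro _ ⟨q, hq, rfl⟩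
    have h1 : g⁻¹ * q * g ∈ P' := by
      have := (Subgroup.mem_normalizer_iff.mp (Subgroup.inv_mem _ hgN)) q
      rw [inv_inv] at this
      exact this.mp hq
    have h2 := hy ((g⁻¹ * q * g : G) : Perm α) ⟨_, h1, rfl⟩
    have h3 : ((g : Perm α)⁻¹ * (q : Perm α) * (g : Perm α)) y = y := h2
    rw [Perm.mul_apply, Perm.mul_apply, Perm.inv_eq_iff_eq] at h3
    exact h3
  · intro i
    have := congrArg (fun e : Fin k ↪ α => e i) hgab
    exact this

end Cfsg.Agent.Lib.Helper1.LW7W
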