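import Mathlib
import Cfsg.Prelude.Def_GeometricClasses
import Cfsg.Agent.Lib.Helper27.ASC.Defs
import Cfsg.Agent.Lib.Helper28.Ld.Trans

set_option autoImplicit false
set_option linter.unusedVariables false
set_option linter.unusedSectionVars false
set_option linter.style.haveILetI false

namespace Cfsg.Agent.Lib.helper7.LX

open Cfsg Cfsg.Geo Cfsg.Agent.Lib.Helper27.ASC
open scoped MatrixGroups Matrix

section general

variable {n t : ℕ} {F : Type*} [Field F]

noncomputable def lxplOmega (b : Module.Basis (Fin t × Fin 2) F (Fin n → F)) (i : Fin t)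
    (u v : Fin n → F) : F :=
  b.repr u (i, 0) * b.repr v (i, 1) - b.repr u (i, 1) * b.repr v (i, 0)

noncomputable def lxplForm (b : Module.Basis (Fin t × Fin 2) F (Fin n → F))
    (u v : Fin n → F) : F :=
  ∑ i : Fin t, lxplOmega b i u v

theorem lxplOmega_basis0 (b : Module.Basis (Fin t × Fin 2) F (Fin n → F)) (i k : Fin t)
    (v : Fin n → F) :
    lxplOmega b k (b (i, 0)) v = if k = i then b.repr v (i, 1) else 0 := by
  unfold lxplOmega
  rw [Module.Basis.repr_self]
  by_cases hk : k = i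
  · subst hk
    simp
  · have h1 : ((i, (0 : Fin 2)) : Fin t × Fin 2) ≠ (k, 0) := by
      intro h
      exact hk (Prod.mk.inj h).1.symm
    have h2 : ((i, (0 : Fin 2)) : Fin t × Fin 2) ≠ (k, 1) := by
      intro h
      exact hk (Prod.mk.inj h).1.symm
    rw [Finsupp.single_apply, Finsupp.single_apply, if_neg h1, if_neg h2, if_neg hk]
    ring

theorem lxplOmega_basis1 (b : Module.Basis (Fin t × Fin 2) F (Fin n → F)) (i k : Fin t)
    (v : Fin n → F) :
    lxplOmega b k (b (i, 1)) v = if k = i then - b.repr v (i, 0) else 0 := by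
  unfold lxplOmega
  rw [Module.Basis.repr_self]
  by_cases hk : k = i
  · subst hk
    simp
  · have h1 : ((i, (1 : Fin 2)) : Fin t × Fin 2) ≠ (k, 0) := by
      intro h
      exact hk (Prod.mk.inj h).1.symm
    have h2 : ((i, (1 : Fin 2)) : Fin t × Fin 2) ≠ (k, 1) := by
      intro h
      exact hk (Prod.mk.inj h).1.symm
    rw [Finsupp.single_apply, Finsupp.single_apply, if_neg h1, if_neg h2, if_neg hk]
    ring

theorem lxplForm_basis0 (b : Module.Basis (Fin t × Fin 2) F (Fin n → F)) (i : Fin t)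
    (v : Fin n → F) : lxplForm b (b (i, 0)) v = b.repr v (i, 1) := by
  unfold lxplForm
  simp_rw [lxplOmega_basis0]
  simp

theorem lxplForm_basis1 (b : Module.Basis (Fin t × Fin 2) F (Fin n → F)) (i : Fin t)
    (v : Fin n → F) : lxplForm b (b (i, 1)) v = - b.repr v (i, 0) := by
  unfold lxplForm
  simp_rw [lxplOmega_basis1]
  simp

theorem lxplForm_skew (b : Module.Basis (Fin t × Fin 2) F (Fin n → F)) (u v : Fin n → F) :
    lxplForm b u v = - lxplForm b v u := by
  unfold lxplForm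
  rw [← Finset.sum_neg_distrib]
  refine Finset.sum_congr rfl fun i _ => ?_
  unfold lxplOmega
  ring

theorem lxplForm_symplectic (b : Module.Basis (Fin t × Fin 2) F (Fin n → F)) :
    IsSymplecticForm (lxplForm b) := by
  refine ⟨⟨?_, ?_, ?_, ?_⟩, lxplForm_skew b, ?_, ?_⟩
  · intro x y v
    unfold lxplForm
    rw [← Finset.sum_add_distrib]
    refine Finset.sum_congr rfl fun i _ => ?_
    unfold lxplOmega
    rw [map_add, Finsupp.add_apply, Finsupp.add_apply]
    ring
  · intro c x v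
    unfold lxplForm
    rw [Finset.mul_sum]
    refine Finset.sum_congr rfl fun i _ => ?_
    unfold lxplOmega
    rw [map_smul, Finsupp.smul_apply, Finsupp.smul_apply, smul_eq_mul, smul_eq_mul]
    ring
  · intro v x y
    unfold lxplForm
    rw [← Finset.sum_add_distrib]
    refine Finset.sum_congr rfl fun i _ => ?_
    unfold lxplOmega
    rw [map_add, Finsupp.add_apply, Finsupp.add_apply]
    ring
  · intro c v x
    unfold lxplForm
    rw [Finset.mul_sum]
    refine Finset.sum_congr rfl fun i _ => ?_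
    unfold lxplOmega
    rw [map_smul, Finsupp.smul_apply, Finsupp.smul_apply, smul_eq_mul, smul_eq_mul]
    ring
  · intro v
    unfold lxplForm
    refine Finset.sum_eq_zero fun i _ => ?_
    unfold lxplOmega
    ring
  · intro v hv
    have hex : ∃ p, b.repr v p ≠ 0 := by
      by_contra hcon
      push Not at hcon
      apply hv
      have h0 : b.repr v = 0 := by
        ext p
        exact hcon p
      exact (LinearEquiv.map_eq_zero_iff b.repr).mp h0
    obtain ⟨⟨i, j⟩, hp⟩ := hex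
    have hj : j = 0 ∨ j = 1 := by
      fin_cases j
      · left; rfl
      · right; rfl
    rcases hj with rfl | rfl
    · refine ⟨⟨b (i, 1), ?_⟩, ⟨b (i, 1), ?_⟩⟩
      · rw [lxplForm_basis1]
        exact neg_ne_zero.mpr hp
      · rw [lxplForm_skew, lxplForm_basis1, neg_neg]
        exact hp
    · refine ⟨⟨b (i, 0), ?_⟩, ⟨b (i, 0), ?_⟩⟩
      · rw [lxplForm_basis0]
        exact hp
      · rw [lxplForm_skew, lxplForm_basis0]
        exact neg_ne_zero.mpr hp

end general

section stab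

variable {n t : ℕ} {F : Type*} [Field F]

noncomputable def lxplD (D : Fin t → Submodule F (Fin n → F)) (hD : IsMDecomposition 2 D)
    (g : Matrix (Fin n) (Fin n) F) (σ : Equiv.Perm (Fin t)) (i : Fin t) : F :=
  (Cfsg.Agent.Lib.Helper28.Ld.adaptedBasis D hD).repr
      (g *ᵥ Cfsg.Agent.Lib.Helper28.Ld.adaptedBasis D hD (i, 0)) (σ i, 0) *
    (Cfsg.Agent.Lib.Helper28.Ld.adaptedBasis D hD).repr
      (g *ᵥ Cfsg.Agent.Lib.Helper28.Ld.adaptedBasis D hD (i, 1)) (σ i, 1) -
  (Cfsg.Agent.Lib.Helper28.Ld.adaptedBasis D hD).repr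
      (g *ᵥ Cfsg.Agent.Lib.Helper28.Ld.adaptedBasis D hD (i, 1)) (σ i, 0) *
    (Cfsg.Agent.Lib.Helper28.Ld.adaptedBasis D hD).repr
      (g *ᵥ Cfsg.Agent.Lib.Helper28.Ld.adaptedBasis D hD (i, 0)) (σ i, 1)

theorem lxpl_mem (D : Fin t → Submodule F (Fin n → F)) (hD : IsMDecomposition 2 D)
    (g : Matrix (Fin n) (Fin n) F) (σ : Equiv.Perm (Fin t))
    (hσ : ∀ i, (D i).map (Matrix.toLin' g) = D (σ i)) (p : Fin t × Fin 2) :
    g *ᵥ Cfsg.Agent.Lib.Helper28.Ld.adaptedBasis D hD p ∈ D (σ p.1) := by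
  rw [← hσ p.1]
  refine ⟨_, Cfsg.Agent.Lib.Helper28.Ld.adaptedBasis_mem D hD p, ?_⟩
  rw [Matrix.toLin'_apply]

theorem lxpl_repr (D : Fin t → Submodule F (Fin n → F)) (hD : IsMDecomposition 2 D)
    (g : Matrix (Fin n) (Fin n) F) (σ : Equiv.Perm (Fin t))
    (hσ : ∀ i, (D i).map (Matrix.toLin' g) = D (σ i)) (u : Fin n → F) (i : Fin t) (l : Fin 2) :
    (Cfsg.Agent.Lib.Helper28.Ld.adaptedBasis D hD).repr (g *ᵥ u) (σ i, l) =
      (Cfsg.Agent.Lib.Helper28.Ld.adaptedBasis D hD).repr u (i, 0) *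
        (Cfsg.Agent.Lib.Helper28.Ld.adaptedBasis D hD).repr
          (g *ᵥ Cfsg.Agent.Lib.Helper28.Ld.adaptedBasis D hD (i, 0)) (σ i, l) +
      (Cfsg.Agent.Lib.Helper28.Ld.adaptedBasis D hD).repr u (i, 1) *
        (Cfsg.Agent.Lib.Helper28.Ld.adaptedBasis D hD).repr
          (g *ᵥ Cfsg.Agent.Lib.Helper28.Ld.adaptedBasis D hD (i, 1)) (σ i, l) := by
  set b := Cfsg.Agent.Lib.Helper28.Ld.adaptedBasis D hD with hb
  have h1 : g *ᵥ u = ∑ p, b.repr u p • (g *ᵥ b p) := by
    conv_lhs => rw [← b.sum_repr u]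
    rw [← Matrix.toLin'_apply, map_sum]
    refine Finset.sum_congr rfl fun p _ => ?_
    rw [map_smul, Matrix.toLin'_apply]
  rw [h1, map_sum, Finsupp.finsetSum_apply, Fintype.sum_prod_type]
  rw [Finset.sum_eq_single i]
  · rw [Fin.sum_univ_two, map_smul, map_smul, Finsupp.smul_apply, Finsupp.smul_apply,
      smul_eq_mul, smul_eq_mul]
  · intro k _ hk
    refine Finset.sum_eq_zero fun j _ => ?_
    rw [map_smul, Finsupp.smul_apply, smul_eq_mul]
    have h2 := lxpl_mem D hD g σ hσ (k, j)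
    have h3 : b.repr (g *ᵥ b (k, j)) (σ i, l) = 0 := by
      refine Cfsg.Agent.Lib.Helper28.Ld.adaptedBasis_repr D hD (σ k) _ h2 (σ i, l) ?_
      intro h
      exact hk (σ.injective h).symm
    rw [h3, mul_zero]
  · intro h
    exact absurd (Finset.mem_univ i) h

theorem lxplOmega_map (D : Fin t → Submodule F (Fin n → F)) (hD : IsMDecomposition 2 D)
    (g : Matrix (Fin n) (Fin n) F) (σ : Equiv.Perm (Fin t))
    (hσ : ∀ i, (D i).map (Matrix.toLin' g) = D (σ i)) (u v : Fin n → F) (i : Fin t) :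
    lxplOmega (Cfsg.Agent.Lib.Helper28.Ld.adaptedBasis D hD) (σ i) (g *ᵥ u) (g *ᵥ v) =
      lxplD D hD g σ i * lxplOmega (Cfsg.Agent.Lib.Helper28.Ld.adaptedBasis D hD) i u v := by
  unfold lxplOmega lxplD
  rw [lxpl_repr D hD g σ hσ u i 0, lxpl_repr D hD g σ hσ u i 1, lxpl_repr D hD g σ hσ v i 0,
    lxpl_repr D hD g σ hσ v i 1]
  ring

theorem lxplForm_map (D : Fin t → Submodule F (Fin n → F)) (hD : IsMDecomposition 2 D)
    (g : Matrix (Fin n) (Fin n) F) (σ : Equiv.Perm (Fin t))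
    (hσ : ∀ i, (D i).map (Matrix.toLin' g) = D (σ i)) (u v : Fin n → F) :
    lxplForm (Cfsg.Agent.Lib.Helper28.Ld.adaptedBasis D hD) (g *ᵥ u) (g *ᵥ v) =
      ∑ i, lxplD D hD g σ i * lxplOmega (Cfsg.Agent.Lib.Helper28.Ld.adaptedBasis D hD) i u v := by
  unfold lxplForm
  rw [← Equiv.sum_comp σ]
  refine Finset.sum_congr rfl fun i _ => ?_
  exact lxplOmega_map D hD g σ hσ u v i

theorem lxplD_ne_zero (D : Fin t → Submodule F (Fin n → F)) (hD : IsMDecomposition 2 D)
    (g : GL (Fin n) F) (σ : Equiv.Perm (Fin t))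
    (hσ : ∀ i, (D i).map (Matrix.toLin' (g : Matrix (Fin n) (Fin n) F)) = D (σ i)) (i : Fin t) :
    lxplD D hD (g : Matrix (Fin n) (Fin n) F) σ i ≠ 0 := by
  intro h0
  set b := Cfsg.Agent.Lib.Helper28.Ld.adaptedBasis D hD with hb
  have hz : ∀ w, lxplForm b ((g : Matrix (Fin n) (Fin n) F) *ᵥ b (i, 0)) w = 0 := by
    intro w
    have hw : w = (g : Matrix (Fin n) (Fin n) F) *ᵥ
        (((g⁻¹ : GL (Fin n) F) : Matrix (Fin n) (Fin n) F) *ᵥ w) := by
      rw [Matrix.mulVec_mulVec, ← Units.val_mul, mul_inv_cancel, Units.val_one, Matrix.one_mulVec]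
    rw [hw, lxplForm_map D hD _ σ hσ]
    refine Finset.sum_eq_zero fun k _ => ?_
    rw [lxplOmega_basis0]
    by_cases hk : k = i
    · rw [hk, h0, zero_mul]
    · rw [if_neg hk, mul_zero]
  have hne : (g : Matrix (Fin n) (Fin n) F) *ᵥ b (i, 0) ≠ 0 := by
    intro h
    have h2 : ((g⁻¹ : GL (Fin n) F) : Matrix (Fin n) (Fin n) F) *ᵥ
        ((g : Matrix (Fin n) (Fin n) F) *ᵥ b (i, 0)) = 0 := by
      rw [h, Matrix.mulVec_zero]
    rw [Matrix.mulVec_mulVec, ← Units.val_mul, inv_mul_cancel, Units.val_one,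
      Matrix.one_mulVec] at h2
    exact b.ne_zero (i, 0) h2
  obtain ⟨_, ⟨x, hx⟩⟩ := (lxplForm_symplectic b).nondegenerate _ hne
  exact hx (hz x)

end stab

end Cfsg.Agent.Lib.helper7.LX
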