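import Mathlib
import Cfsg.Prelude.Def_GeometricClasses
import Cfsg.Agent.Lib.Helper27.ASC.Defs
import Cfsg.Agent.Lib.Helper28.Ld.Trans
import Cfsg.Agent.Lib.Helper1.LXPLcore

set_option autoImplicit false
set_option linter.unusedVariables false
set_option linter.unusedSectionVars false
set_option linter.style.haveILetI false

namespace Cfsg.Agent.Lib.helper7.LX

open Cfsg Cfsg.Geo Cfsg.Agent.Lib.Helper27.ASC
open scoped MatrixGroups Matrix

variable {n : ℕ} {F : Type*} [Field F] [Fintype F]

theorem lxpl2_zero_or_one (hq : Fintype.card F = 2) (x : F) : x = 0 ∨ x = 1 := by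
  have h := FiniteField.pow_card x
  rw [hq] at h
  have h2 : x * (x - 1) = 0 := by
    rw [mul_sub, mul_one, ← sq, h, sub_self]
  rcases mul_eq_zero.mp h2 with h3 | h3
  · left; exact h3
  · right; exact sub_eq_zero.mp h3

theorem planes_q2 {t : ℕ} (D : Fin t → Submodule F (Fin n → F)) (hD : IsMDecomposition 2 D)
    (hq : Fintype.card F = 2) :
    ∃ f : (Fin n → F) → (Fin n → F) → F, IsSymplecticForm f ∧ decompositionStabilizer D ≤ similarityGroup f := by
  refine ⟨lxplForm (Cfsg.Agent.Lib.Helper28.Ld.adaptedBasis D hD), lxplForm_symplectic _, ?_⟩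
  rintro g ⟨σ, hσ⟩
  refine ⟨1, fun u v => ?_⟩
  rw [lxplForm_map D hD _ σ hσ, Units.val_one, one_mul]
  unfold lxplForm
  refine Finset.sum_congr rfl fun i _ => ?_
  rcases lxpl2_zero_or_one hq (lxplD D hD (g : Matrix (Fin n) (Fin n) F) σ i) with h | h
  · exact absurd h (lxplD_ne_zero D hD g σ hσ i)
  · rw [h, one_mul]

end Cfsg.Agent.Lib.helper7.LX
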