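import Mathlib
import Cfsg.Prelude.Def_GeometricClasses
import Cfsg.Agent.Lib.Helper27.ASC.Defs
import Cfsg.Agent.Lib.Helper28.Ld.Trans
import Cfsg.Agent.Lib.Helper1.LXPLcore

set_option autoImplicit false
set_option linter.unusedVariables false
set_option linter.unusedSectionVars false
set_option linter.style.haveILetI false

namespace Cfsg.Agent.Lib.helper7.LX

open Cfsg Cfsg.Geo Cfsg.Agent.Lib.Helper27.ASC
open scoped MatrixGroups Matrix

theorem lxpl43_det4_diag {R : Type*} [CommRing R] (N : Matrix (Fin 4) (Fin 4) R)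
    (h02 : N 0 2 = 0) (h03 : N 0 3 = 0) (h12 : N 1 2 = 0) (h13 : N 1 3 = 0)
    (h20 : N 2 0 = 0) (h21 : N 2 1 = 0) (h30 : N 3 0 = 0) (h31 : N 3 1 = 0) :
    N.det = (N 0 0 * N 1 1 - N 0 1 * N 1 0) * (N 2 2 * N 3 3 - N 2 3 * N 3 2) := by
  rw [Matrix.det_succ_row_zero]
  simp [Fin.sum_univ_succ, Matrix.det_fin_three, Fin.succAbove, h02, h03, h12, h13, h20, h21, h30, h31]
  ring

theorem lxpl43_det4_anti {R : Type*} [CommRing R] (N : Matrix (Fin 4) (Fin 4) R)
    (h00 : N 0 0 = 0) (h01 : N 0 1 = 0) (h10 : N 1 0 = 0) (h11 : N 1 1 = 0)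
    (h22 : N 2 2 = 0) (h23 : N 2 3 = 0) (h32 : N 3 2 = 0) (h33 : N 3 3 = 0) :
    N.det = (N 2 0 * N 3 1 - N 2 1 * N 3 0) * (N 0 2 * N 1 3 - N 0 3 * N 1 2) := by
  rw [Matrix.det_succ_row_zero]
  simp [Fin.sum_univ_succ, Matrix.det_fin_three, Fin.succAbove, h00, h01, h10, h11, h22, h23, h32, h33]
  ring

theorem lxpl43_perm (σ : Equiv.Perm (Fin 2)) : σ = 1 ∨ σ = Equiv.swap 0 1 := by
  revert σ
  decide

theorem lxpl43_det {F : Type*} [Field F] (D : Fin 2 → Submodule F (Fin 4 → F))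
    (hD : IsMDecomposition 2 D) (g : Matrix (Fin 4) (Fin 4) F) (σ : Equiv.Perm (Fin 2))
    (hσ : ∀ i, (D i).map (Matrix.toLin' g) = D (σ i)) :
    g.det = lxplD D hD g σ 0 * lxplD D hD g σ 1 := by
  set b := Cfsg.Agent.Lib.Helper28.Ld.adaptedBasis D hD with hb
  have hzero : ∀ (k i : Fin 2) (l j : Fin 2), k ≠ σ i → b.repr (g *ᵥ b (i, j)) (k, l) = 0 := by
    intro k i l j hk
    exact Cfsg.Agent.Lib.Helper28.Ld.adaptedBasis_repr D hD (σ i) _
      (lxpl_mem D hD g σ hσ (i, j)) (k, l) hk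
  have hdet : g.det = (Matrix.reindex finProdFinEquiv finProdFinEquiv
      (LinearMap.toMatrix b b (Matrix.toLin' g))).det := by
    rw [Matrix.det_reindex_self, LinearMap.det_toMatrix, LinearMap.det_toLin']
  have hN : ∀ i j : Fin 4, (Matrix.reindex finProdFinEquiv finProdFinEquiv
      (LinearMap.toMatrix b b (Matrix.toLin' g))) i j =
      b.repr (g *ᵥ b (finProdFinEquiv.symm j)) (finProdFinEquiv.symm i) := by
    intro i j
    rw [Matrix.reindex_apply, Matrix.submatrix_apply, LinearMap.toMatrix_apply, Matrix.toLin'_apply]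
  have e0 : (finProdFinEquiv.symm (0 : Fin 4) : Fin 2 × Fin 2) = (0, 0) := by decide
  have e1 : (finProdFinEquiv.symm (1 : Fin 4) : Fin 2 × Fin 2) = (0, 1) := by decide
  have e2 : (finProdFinEquiv.symm (2 : Fin 4) : Fin 2 × Fin 2) = (1, 0) := by decide
  have e3 : (finProdFinEquiv.symm (3 : Fin 4) : Fin 2 × Fin 2) = (1, 1) := by decide
  rw [hdet]
  rcases lxpl43_perm σ with h1 | h1
  · have s0 : σ 0 = 0 := by rw [h1]; rfl
    have s1 : σ 1 = 1 := by rw [h1]; rfl
    rw [lxpl43_det4_diag]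
    · simp only [hN, e0, e1, e2, e3]
      unfold lxplD
      rw [s0, s1]
    · rw [hN, e0, e2]
      exact hzero 0 1 0 0 (by rw [s1]; decide)
    · rw [hN, e0, e3]
      exact hzero 0 1 0 1 (by rw [s1]; decide)
    · rw [hN, e1, e2]
      exact hzero 0 1 1 0 (by rw [s1]; decide)
    · rw [hN, e1, e3]
      exact hzero 0 1 1 1 (by rw [s1]; decide)
    · rw [hN, e2, e0]
      exact hzero 1 0 0 0 (by rw [s0]; decide)
    · rw [hN, e2, e1]
      exact hzero 1 0 0 1 (by rw [s0]; decide)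
    · rw [hN, e3, e0]
      exact hzero 1 0 1 0 (by rw [s0]; decide)
    · rw [hN, e3, e1]
      exact hzero 1 0 1 1 (by rw [s0]; decide)
  · have s0 : σ 0 = 1 := by rw [h1]; rfl
    have s1 : σ 1 = 0 := by rw [h1]; rfl
    rw [lxpl43_det4_anti]
    · simp only [hN, e0, e1, e2, e3]
      unfold lxplD
      rw [s0, s1]
    · rw [hN, e0]
      exact hzero 0 0 0 0 (by rw [s0]; decide)
    · rw [hN, e0, e1]
      exact hzero 0 0 0 1 (by rw [s0]; decide)
    · rw [hN, e1, e0]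
      exact hzero 0 0 1 0 (by rw [s0]; decide)
    · rw [hN, e1]
      exact hzero 0 0 1 1 (by rw [s0]; decide)
    · rw [hN, e2]
      exact hzero 1 1 0 0 (by rw [s1]; decide)
    · rw [hN, e2, e3]
      exact hzero 1 1 0 1 (by rw [s1]; decide)
    · rw [hN, e3, e2]
      exact hzero 1 1 1 0 (by rw [s1]; decide)
    · rw [hN, e3]
      exact hzero 1 1 1 1 (by rw [s1]; decide)

variable {n : ℕ} {F : Type*} [Field F] [Fintype F]

theorem planes4_q3 (D : Fin 2 → Submodule F (Fin 4 → F)) (hD : IsMDecomposition 2 D)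
    (hq : Fintype.card F = 3) :
    ∃ f : (Fin 4 → F) → (Fin 4 → F) → F, IsSymplecticForm f ∧
      decompositionStabilizer D ⊓ specialLinear (Fin 4) F ≤ similarityGroup f := by
  refine ⟨lxplForm (Cfsg.Agent.Lib.Helper28.Ld.adaptedBasis D hD), lxplForm_symplectic _, ?_⟩
  rintro g ⟨⟨σ, hσ⟩, hsl⟩
  have hdet1 : (g : Matrix (Fin 4) (Fin 4) F).det = 1 := by
    have h : g ∈ specialLinear (Fin 4) F := hsl
    unfold specialLinear at h
    rw [MonoidHom.mem_ker] at h
    have := congrArg Units.val h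
    simpa using this
  have hprod := lxpl43_det D hD (g : Matrix (Fin 4) (Fin 4) F) σ hσ
  rw [hdet1] at hprod
  have h0 : lxplD D hD (g : Matrix (Fin 4) (Fin 4) F) σ 0 ≠ 0 := by
    intro h
    rw [h, zero_mul] at hprod
    exact one_ne_zero hprod
  have hsq : lxplD D hD (g : Matrix (Fin 4) (Fin 4) F) σ 0 *
      lxplD D hD (g : Matrix (Fin 4) (Fin 4) F) σ 0 = 1 := by
    have h := FiniteField.pow_card_sub_one_eq_one _ h0
    rw [hq] at h
    rw [← sq]
    exact h
  have heq : lxplD D hD (g : Matrix (Fin 4) (Fin 4) F) σ 1 =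
      lxplD D hD (g : Matrix (Fin 4) (Fin 4) F) σ 0 := by
    apply mul_left_cancel₀ h0
    rw [← hprod, hsq]
  refine ⟨Units.mk0 _ h0, fun u v => ?_⟩
  rw [lxplForm_map D hD _ σ hσ, Units.val_mk0]
  unfold lxplForm
  rw [Fin.sum_univ_two, Fin.sum_univ_two, heq]
  ring

end Cfsg.Agent.Lib.helper7.LX
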