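import Cfsg.Agent.Lib.Helper1.LdA3

set_option autoImplicit false

namespace Cfsg.Agent.Lib.Helper1.Ld

open Matrix Cfsg.Agent.Lib.Helper28.Ld Cfsg.Agent.Lib.Helper11.Ld

section dil

variable {t m : ℕ} {F : Type*} [Field F]

noncomputable def dil (a : F) (f ρ : Fin t × Fin m → F) :
    Matrix (Fin t × Fin m) (Fin t × Fin m) F :=
  1 + a • vecMulVec f ρ

theorem dil_mulVec (a : F) (f ρ x : Fin t × Fin m → F) :
    dil a f ρ *ᵥ x = x + (a * (ρ ⬝ᵥ x)) • f := by
  rw [dil, add_mulVec, one_mulVec, smul_mulVec, vecMulVec_mulVec]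
  funext p
  simp only [Pi.add_apply, Pi.smul_apply, MulOpposite.smul_eq_mul_unop, MulOpposite.unop_op,
    smul_eq_mul]
  ring

theorem vecMul_dil (a : F) (f ρ x : Fin t × Fin m → F) :
    x ᵥ* dil a f ρ = x + (a * (x ⬝ᵥ f)) • ρ := by
  rw [dil, vecMul_add, vecMul_one, vecMul_smul, vecMul_vecMulVec, smul_smul]

theorem det_dil (a : F) (f ρ : Fin t × Fin m → F) :
    (dil a f ρ).det = 1 + a * (ρ ⬝ᵥ f) := by
  have h : dil a f ρ = 1 + replicateCol Unit (a • f) * replicateRow Unit ρ := by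
    rw [dil, ← vecMulVec_eq, smul_vecMulVec]
  rw [h, det_one_add_replicateCol_mul_replicateRow, dotProduct_smul, smul_eq_mul]

theorem dil_maps (a : F) {j : Fin t} {f ρ : Fin t × Fin m → F} (hf : InBlk j f)
    (hρ : InBlk j ρ) (i : Fin t) (x : Fin t × Fin m → F) (hx : InBlk i x) :
    InBlk i (dil a f ρ *ᵥ x) := by
  rw [dil_mulVec]
  by_cases hij : i = j
  · subst hij
    exact inBlk_add hx (inBlk_smul _ hf)
  · have : ρ ⬝ᵥ x = 0 := dot_zero_blk (Ne.symm hij) hρ hx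
    rw [this, mul_zero, zero_smul, add_zero]
    exact hx

end dil

section two

variable {t : ℕ} {F : Type*} [Field F]

theorem claim1 (M : Subgroup (Matrix.GeneralLinearGroup (Fin t × Fin 2) F)) (hHM : H0 t 2 F ≤ M)
    (hNC : ¬ Cross M) {k : Fin t} {w s : Fin t × Fin 2 → F} (hT : T M w s) (hs : s ≠ 0)
    (hwk : res k w ≠ 0) : res k s ≠ 0 := by
  intro hrs
  obtain ⟨p, hp⟩ := exists_ne_zero hwk
  have hpk : p.1 = k := by
    by_contra hne
    exact hp (inBlk_res k w p hne)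
  have hwp : w p ≠ 0 := by
    have : res k w p = w p := by simp [res, hpk]
    rwa [this] at hp
  obtain ⟨i', hi'⟩ : ∃ i' : Fin 2, i' ≠ p.2 := ⟨p.2 + 1, by
    intro h
    have := congrArg Fin.val h
    rcases Fin.exists_fin_two.mp ⟨p.2, rfl⟩ with h0 | h1
    · rw [h0] at this; simp at this
    · rw [h1] at this; simp at this⟩
  have hp' : ((k, i') : Fin t × Fin 2) ≠ p := fun h => hi' (by rw [← h])
  have hsk : InBlk k s := by
    refine F2 M hHM hNC (a := ee (k, i')) (b := ee p) hT (inBlk_ee' _ rfl) (inBlk_ee' p hpk)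
      ?_ ?_ ?_ (ee_ne_zero _)
    · rw [ee_dot]
      simp [ee, hp'.symm]
    · rw [dot_ee]
      have := congrFun hrs (k, i')
      simpa [res] using this
    · rw [ee_dot]
      exact hwp
  apply hs
  rw [← res_eq_self hsk]
  exact hrs

theorem claim2 (M : Subgroup (Matrix.GeneralLinearGroup (Fin t × Fin 2) F)) (hHM : H0 t 2 F ≤ M)
    (hNC : ¬ Cross M) {k : Fin t} {w s : Fin t × Fin 2 → F} (hT : T M w s)
    (h : res k s ⬝ᵥ res k w ≠ 0) : InBlk k s := by
  have hrs : res k s ≠ 0 := by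
    intro h0
    apply h
    rw [h0, zero_dotProduct]
  refine F2 M hHM hNC (a := s (k, 1) • ee (k, 0) - s (k, 0) • ee (k, 1)) (b := res k s) hT
    (inBlk_sub (inBlk_smul _ (inBlk_ee' _ rfl)) (inBlk_smul _ (inBlk_ee' _ rfl)))
    (inBlk_res k s) ?_ ?_ ?_ ?_
  · rw [dotProduct_sub, dotProduct_smul, dotProduct_smul, dot_ee, dot_ee]
    simp only [res, smul_eq_mul, if_true]
    ring
  · rw [dotProduct_sub, dotProduct_smul, dotProduct_smul, dot_ee, dot_ee]
    simp only [smul_eq_mul]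
    ring
  · rwa [dot_res_res] at h
  · intro hzero
    apply hrs
    have e1 := congrFun hzero (k, 0)
    have e2 := congrFun hzero (k, 1)
    have h01 : ((k, 0) : Fin t × Fin 2) ≠ (k, 1) := by
      intro h
      have := congrArg Prod.snd h
      simp at this
    simp [ee, h01, h01.symm] at e1 e2
    funext p
    by_cases hp : p.1 = k
    · obtain ⟨p1, p2⟩ := p
      simp only at hp
      subst hp
      rcases Fin.exists_fin_two.mp ⟨p2, rfl⟩ with h0 | h1
      · rw [h0]; simp [res, e2]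
      · rw [h1]; simp [res, e1]
    · simp [res, hp]

theorem exists_dual {k : Fin t} {ρ : Fin t × Fin 2 → F} (hρ : InBlk k ρ) (h0 : ρ ≠ 0) :
    ∃ (f : Fin t × Fin 2 → F) (q : Fin t × Fin 2), InBlk k f ∧ ρ ⬝ᵥ f = 1 ∧ q.1 = k ∧ ρ q ≠ 0 := by
  obtain ⟨q, hq⟩ := exists_ne_zero h0
  have hqk : q.1 = k := by
    by_contra hne
    exact hq (hρ q hne)
  refine ⟨(ρ q)⁻¹ • ee q, q, inBlk_smul _ (inBlk_ee' q hqk), ?_, hqk, hq⟩
  rw [dotProduct_smul, dot_ee, smul_eq_mul, inv_mul_cancel₀ hq]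

theorem exists_perp (l : Fin t) (w : Fin t × Fin 2 → F) :
    ∃ ρ : Fin t × Fin 2 → F, InBlk l ρ ∧ ρ ≠ 0 ∧ ρ ⬝ᵥ w = 0 := by
  have h01 : ((l, 0) : Fin t × Fin 2) ≠ (l, 1) := by
    intro h
    have := congrArg Prod.snd h
    simp at this
  by_cases h0 : w (l, 0) = 0 ∧ w (l, 1) = 0
  · refine ⟨ee (l, 0), inBlk_ee' _ rfl, ee_ne_zero _, ?_⟩
    rw [ee_dot]
    exact h0.1
  · refine ⟨w (l, 1) • ee (l, 0) - w (l, 0) • ee (l, 1),
      inBlk_sub (inBlk_smul _ (inBlk_ee' _ rfl)) (inBlk_smul _ (inBlk_ee' _ rfl)), ?_, ?_⟩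
    · intro hzero
      apply h0
      have e1 := congrFun hzero (l, 0)
      have e2 := congrFun hzero (l, 1)
      simp [ee, h01, h01.symm] at e1 e2
      exact ⟨e2, e1⟩
    · rw [sub_dotProduct, smul_dotProduct, smul_dotProduct, ee_dot, ee_dot]
      simp only [smul_eq_mul]
      ring

theorem single_block_two (hq : ∃ c : F, c ≠ 0 ∧ c ≠ 1) (ht : 3 ≤ t)
    (M : Subgroup (Matrix.GeneralLinearGroup (Fin t × Fin 2) F)) (hHM : H0 t 2 F ≤ M)
    (hNC : ¬ Cross M) (hNC' : ¬ Cross' M) (w s : Fin t × Fin 2 → F) (hT : T M w s)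
    (hw : w ≠ 0) (hs : s ≠ 0) : ∃ k : Fin t, InBlk k w := by
  by_contra hno
  push Not at hno
  obtain ⟨c, hc0, hc1⟩ := hq
  obtain ⟨p, hp⟩ := exists_ne_zero hw
  have hnk : ¬ InBlk p.1 w := hno p.1
  obtain ⟨p', hp'k, hp'⟩ : ∃ p' : Fin t × Fin 2, p'.1 ≠ p.1 ∧ w p' ≠ 0 := by
    by_contra hcon
    push Not at hcon
    exact hnk hcon
  have hwk : res p.1 w ≠ 0 := by
    intro h
    have := congrFun h p
    simp [res] at this
    exact hp this
  have hwk' : res p'.1 w ≠ 0 := by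
    intro h
    have := congrFun h p'
    simp [res] at this
    exact hp' this
  have stepA : ∀ j : Fin t, res j s ⬝ᵥ res j w = 0 := by
    intro j
    by_contra hne
    have h1 : InBlk j s := claim2 M hHM hNC hT hne
    exact hno j (F1' M hHM hNC' hT h1 hs)
  have hρk0 : res p.1 s ≠ 0 := claim1 M hHM hNC hT hs hwk
  have hρkw : res p.1 s ⬝ᵥ w = 0 := by
    rw [← dot_res_res]
    exact stepA p.1
  obtain ⟨fk, q, hfk, hρfk, hqk, hρq⟩ := exists_dual (inBlk_res p.1 s) hρk0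
  obtain ⟨l, hlk, hlk'⟩ : ∃ l : Fin t, l ≠ p.1 ∧ l ≠ p'.1 := by
    by_contra hcon
    push Not at hcon
    have hsub : (Finset.univ : Finset (Fin t)) ⊆ {p.1, p'.1} := by
      intro l _
      by_cases h : l = p.1
      · simp [h]
      · simp [hcon l h]
    have hle := Finset.card_le_card hsub
    have hle2 : ({p.1, p'.1} : Finset (Fin t)).card ≤ 2 := Finset.card_le_two
    rw [Finset.card_univ, Fintype.card_fin] at hle
    omega
  obtain ⟨ρl, hρl, hρl0, hρlw⟩ := exists_perp l w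
  obtain ⟨fl, q', hfl, hρfl, hq'l, hρq'⟩ := exists_dual hρl hρl0
  set A : Matrix (Fin t × Fin 2) (Fin t × Fin 2) F :=
    dil (c - 1) fk (res p.1 s) * dil (c⁻¹ - 1) fl ρl with hA
  have hdet : A.det = 1 := by
    rw [hA, det_mul, det_dil, det_dil, hρfk, hρfl]
    field_simp
    ring
  have hAw : A *ᵥ w = w := by
    have e1 : dil (c⁻¹ - 1) fl ρl *ᵥ w = w := by
      rw [dil_mulVec, hρlw, mul_zero, zero_smul, add_zero]
    have e2 : dil (c - 1) fk (res p.1 s) *ᵥ w = w := by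
      rw [dil_mulVec, hρkw, mul_zero, zero_smul, add_zero]
    rw [hA, ← mulVec_mulVec, e1, e2]
  have hsA : s ᵥ* A = s + (c - 1) • res p.1 s + ((c⁻¹ - 1) * (s ⬝ᵥ fl)) • ρl := by
    have e1 : s ⬝ᵥ fk = 1 := by
      rw [← dot_res_left p.1 s fk hfk]
      exact hρfk
    have e2 : res p.1 s ⬝ᵥ fl = 0 :=
      dot_zero_blk (Ne.symm hlk) (inBlk_res p.1 s) hfl
    have e3 : s ᵥ* dil (c - 1) fk (res p.1 s) = s + (c - 1) • res p.1 s := by
      rw [vecMul_dil, e1, mul_one]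
    rw [hA, ← vecMul_vecMul, e3, vecMul_dil, add_dotProduct, smul_dotProduct, e2, smul_zero,
      add_zero]
  have hunit : IsUnit A.det := by
    rw [hdet]
    exact isUnit_one
  set h : Matrix.GeneralLinearGroup (Fin t × Fin 2) F :=
    Matrix.GeneralLinearGroup.mk'' A hunit with hh
  have hcoe : (h : Matrix (Fin t × Fin 2) (Fin t × Fin 2) F) = A := rfl
  have hHs : h ∈ Hs t 2 F := by
    apply mem_Hs_of_maps h 1
    intro i x hx
    rw [hcoe, hA, ← mulVec_mulVec]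
    exact dil_maps _ hfk (inBlk_res p.1 s) i _ (dil_maps _ hfl hρl i x hx)
  have hSL : h ∈ Cfsg.Geo.specialLinear (Fin t × Fin 2) F := by
    unfold Cfsg.Geo.specialLinear
    rw [MonoidHom.mem_ker]
    apply Units.ext
    rw [Matrix.GeneralLinearGroup.val_det_apply, hcoe, hdet]
    rfl
  have hM : h ∈ M := hHM (Subgroup.mem_inf.mpr ⟨hHs, hSL⟩)
  have hM' : h⁻¹ ∈ M := M.inv_mem hM
  have hTc := T_conj hM' hT
  rw [inv_inv, hcoe, hsA] at hTc
  have hinvw : ((h⁻¹ : Matrix.GeneralLinearGroup (Fin t × Fin 2) F) :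
      Matrix (Fin t × Fin 2) (Fin t × Fin 2) F) *ᵥ w = w := by
    conv_lhs => rw [← hAw, ← hcoe, mulVec_mulVec]
    rw [← Matrix.GeneralLinearGroup.coe_mul, inv_mul_cancel]
    simp
  rw [hinvw] at hTc
  have hT2 := T_sub_right hTc hT
  set s'' : Fin t × Fin 2 → F := (c - 1) • res p.1 s + ((c⁻¹ - 1) * (s ⬝ᵥ fl)) • ρl with hs''
  have hs''eq : s + (c - 1) • res p.1 s + ((c⁻¹ - 1) * (s ⬝ᵥ fl)) • ρl - s = s'' := by
    rw [hs'']
    abel
  rw [hs''eq] at hT2
  have hs''0 : s'' ≠ 0 := by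
    intro hzero
    have e := congrFun hzero q
    have hql : q.1 ≠ l := by
      rw [hqk]
      exact Ne.symm hlk
    simp only [hs'', Pi.add_apply, Pi.smul_apply, smul_eq_mul, hρl q hql, mul_zero, add_zero,
      Pi.zero_apply] at e
    rcases mul_eq_zero.mp e with h1 | h2
    · exact hc1 (sub_eq_zero.mp h1)
    · exact hρq h2
  have hres : res p'.1 s'' = 0 := by
    funext r
    by_cases hr : r.1 = p'.1
    · have hrk : r.1 ≠ p.1 := by
        rw [hr]
        exact hp'k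
      have hrl : r.1 ≠ l := by
        rw [hr]
        exact Ne.symm hlk'
      simp [res, hr, hs'', hρl r hrl, hp'k]
    · simp [res, hr]
  exact claim1 M hHM hNC hT2 hs''0 hwk' hres

end two

end Cfsg.Agent.Lib.Helper1.Ld
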