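import Cfsg.Agent.Lib.Helper28.Ld.Calc
import Cfsg.Agent.Lib.Helper11.LdSTAB

set_option autoImplicit false

namespace Cfsg.Agent.Lib.Helper1.Ld

open Matrix Cfsg.Agent.Lib.Helper28.Ld Cfsg.Agent.Lib.Helper11.Ld

section common

variable {t m : ℕ} {F : Type*} [Field F]

theorem inBlk_res (k : Fin t) (x : Fin t × Fin m → F) : InBlk k (res k x) := by
  intro p hp
  simp [res, hp]

theorem res_eq_self {k : Fin t} {x : Fin t × Fin m → F} (h : InBlk k x) : res k x = x := by
  funext p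
  by_cases hp : p.1 = k
  · simp [res, hp]
  · simp [res, hp, h p hp]

theorem dot_res_left (k : Fin t) (x y : Fin t × Fin m → F) (hy : InBlk k y) :
    res k x ⬝ᵥ y = x ⬝ᵥ y := by
  simp only [dotProduct]
  apply Finset.sum_congr rfl
  intro p _
  by_cases hp : p.1 = k
  · simp [res, hp]
  · simp [res, hp, hy p hp]

theorem dot_res_right (k : Fin t) (x y : Fin t × Fin m → F) (hx : InBlk k x) :
    x ⬝ᵥ res k y = x ⬝ᵥ y := by
  simp only [dotProduct]
  apply Finset.sum_congr rfl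
  intro p _
  by_cases hp : p.1 = k
  · simp [res, hp]
  · simp [res, hp, hx p hp]

theorem dot_res_res (k : Fin t) (x y : Fin t × Fin m → F) :
    res k x ⬝ᵥ res k y = res k x ⬝ᵥ y :=
  dot_res_right k (res k x) y (inBlk_res k x)

theorem res_sub_res (k : Fin t) (x : Fin t × Fin m → F) : res k (x - res k x) = 0 := by
  funext p
  by_cases hp : p.1 = k <;> simp [res, hp]

theorem dot_zero_blk {i j : Fin t} (hij : i ≠ j) {x y : Fin t × Fin m → F}
    (hx : InBlk i x) (hy : InBlk j y) : x ⬝ᵥ y = 0 := by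
  simp only [dotProduct]
  apply Finset.sum_eq_zero
  intro p _
  by_cases hp : p.1 = i
  · have : p.1 ≠ j := fun h => hij (hp.symm.trans h)
    rw [hy p this, mul_zero]
  · rw [hx p hp, zero_mul]

theorem eq_zero_of_two_blk {i j : Fin t} (hij : i ≠ j) {x : Fin t × Fin m → F}
    (hx : InBlk i x) (hy : InBlk j x) : x = 0 := by
  funext p
  by_cases hp : p.1 = i
  · have : p.1 ≠ j := fun h => hij (hp.symm.trans h)
    exact hy p this
  · exact hx p hp

theorem inBlk_ee (p : Fin t × Fin m) : InBlk p.1 (ee p : Fin t × Fin m → F) := by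
  intro a ha
  have : a ≠ p := fun h => ha (by rw [h])
  simp [ee, this]

theorem inBlk_ee' {k : Fin t} (p : Fin t × Fin m) (hp : p.1 = k) :
    InBlk k (ee p : Fin t × Fin m → F) := hp ▸ inBlk_ee p

theorem ee_dot (p : Fin t × Fin m) (x : Fin t × Fin m → F) : ee p ⬝ᵥ x = x p := by
  simp [ee]

theorem dot_ee (p : Fin t × Fin m) (x : Fin t × Fin m → F) : x ⬝ᵥ ee p = x p := by
  simp [ee]

theorem ee_ne_zero (p : Fin t × Fin m) : (ee p : Fin t × Fin m → F) ≠ 0 := by
  intro h
  have := congrFun h p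
  simp [ee] at this

theorem inBlk_add {k : Fin t} {x y : Fin t × Fin m → F} (hx : InBlk k x) (hy : InBlk k y) :
    InBlk k (x + y) := (stdBlock t m F k).add_mem hx hy

theorem inBlk_sub {k : Fin t} {x y : Fin t × Fin m → F} (hx : InBlk k x) (hy : InBlk k y) :
    InBlk k (x - y) := (stdBlock t m F k).sub_mem hx hy

theorem inBlk_smul {k : Fin t} (c : F) {x : Fin t × Fin m → F} (hx : InBlk k x) :
    InBlk k (c • x) := (stdBlock t m F k).smul_mem c hx

theorem F1 (M : Subgroup (Matrix.GeneralLinearGroup (Fin t × Fin m) F)) (hHM : H0 t m F ≤ M)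
    (hNC : ¬ Cross M) {k : Fin t} {w s : Fin t × Fin m → F} (hT : T M w s)
    (hwk : InBlk k w) (hw : w ≠ 0) : InBlk k s := by
  have h1 : res k s ⬝ᵥ w = 0 := by
    rw [dot_res_left k s w hwk]
    exact hT.1
  have h2 : T M w (res k s) := block_root M hHM k w (res k s) hwk (inBlk_res k s) h1
  have h3 : T M w (s - res k s) := T_sub_right hT h2
  have h5 : s - res k s = 0 := by
    by_contra hne
    exact hNC ⟨k, w, s - res k s, hwk, hw, res_sub_res k s, hne, h3⟩
  have h6 : s = res k s := sub_eq_zero.mp h5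
  rw [h6]
  exact inBlk_res k s

theorem F1' (M : Subgroup (Matrix.GeneralLinearGroup (Fin t × Fin m) F)) (hHM : H0 t m F ≤ M)
    (hNC' : ¬ Cross' M) {k : Fin t} {w s : Fin t × Fin m → F} (hT : T M w s)
    (hsk : InBlk k s) (hs : s ≠ 0) : InBlk k w := by
  have h1 : s ⬝ᵥ res k w = 0 := by
    rw [dot_res_right k s w hsk]
    exact hT.1
  have h2 : T M (res k w) s := block_root M hHM k (res k w) s (inBlk_res k w) hsk h1
  have h3 : T M (w - res k w) s := T_sub_left hT h2
  have h5 : w - res k w = 0 := by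
    by_contra hne
    exact hNC' ⟨k, w - res k w, s, hsk, hs, res_sub_res k w, hne, h3⟩
  have h6 : w = res k w := sub_eq_zero.mp h5
  rw [h6]
  exact inBlk_res k w

theorem F2 (M : Subgroup (Matrix.GeneralLinearGroup (Fin t × Fin m) F)) (hHM : H0 t m F ≤ M)
    (hNC : ¬ Cross M) {k : Fin t} {w s a b : Fin t × Fin m → F} (hT : T M w s)
    (ha : InBlk k a) (hb : InBlk k b) (hba : b ⬝ᵥ a = 0) (hsa : s ⬝ᵥ a = 0)
    (hbw : b ⬝ᵥ w ≠ 0) (ha0 : a ≠ 0) : InBlk k s := by
  have h1 : T M a b := block_root M hHM k a b ha hb hba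
  have h2 : T M a s := T_L3 hT h1 hsa hbw
  exact F1 M hHM hNC h2 ha ha0

theorem exists_ne_zero {x : Fin t × Fin m → F} (hx : x ≠ 0) : ∃ p, x p ≠ 0 := by
  by_contra hcon
  push Not at hcon
  exact hx (funext hcon)

theorem exists_two_other (hm : 3 ≤ m) (i : Fin m) :
    ∃ i' i'' : Fin m, i' ≠ i ∧ i'' ≠ i ∧ i' ≠ i'' := by
  by_cases h0 : i.val = 0
  · refine ⟨⟨1, by omega⟩, ⟨2, by omega⟩, ?_, ?_, ?_⟩ <;> simp [Fin.ext_iff] <;> omega
  · by_cases h1 : i.val = 1
    · refine ⟨⟨0, by omega⟩, ⟨2, by omega⟩, ?_, ?_, ?_⟩ <;> simp [Fin.ext_iff] <;> omega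
    · refine ⟨⟨0, by omega⟩, ⟨1, by omega⟩, ?_, ?_, ?_⟩ <;> simp [Fin.ext_iff] <;> omega

end common

section three

variable {t m : ℕ} {F : Type*} [Field F]

theorem single_block_three (hm : 3 ≤ m)
    (M : Subgroup (Matrix.GeneralLinearGroup (Fin t × Fin m) F)) (hHM : H0 t m F ≤ M)
    (hNC : ¬ Cross M) (hNC' : ¬ Cross' M) (w s : Fin t × Fin m → F) (hT : T M w s)
    (hw : w ≠ 0) (hs : s ≠ 0) : ∃ k : Fin t, InBlk k w := by
  have key : ∀ p : Fin t × Fin m, w p ≠ 0 → InBlk p.1 s := by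
    intro p hp
    obtain ⟨i', i'', hi', hi'', hne⟩ := exists_two_other hm p.2
    have hp' : ((p.1, i') : Fin t × Fin m) ≠ p := fun h => hi' (by rw [← h])
    have hp'' : ((p.1, i'') : Fin t × Fin m) ≠ p := fun h => hi'' (by rw [← h])
    have hpp : ((p.1, i') : Fin t × Fin m) ≠ (p.1, i'') := fun h => hne (by
      have := congrArg Prod.snd h
      exact this)
    have hbw : (ee p : Fin t × Fin m → F) ⬝ᵥ w ≠ 0 := by
      rw [ee_dot]
      exact hp
    by_cases h0 : s (p.1, i') = 0 ∧ s (p.1, i'') = 0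
    · refine F2 M hHM hNC (a := ee (p.1, i')) (b := ee p) hT (inBlk_ee' _ rfl) (inBlk_ee p)
        ?_ ?_ hbw (ee_ne_zero _)
      · rw [ee_dot]
        simp [ee, hp'.symm]
      · rw [dot_ee]
        exact h0.1
    · refine F2 M hHM hNC
        (a := s (p.1, i'') • ee (p.1, i') - s (p.1, i') • ee (p.1, i'')) (b := ee p) hT
        (inBlk_sub (inBlk_smul _ (inBlk_ee' _ rfl)) (inBlk_smul _ (inBlk_ee' _ rfl)))
        (inBlk_ee p) ?_ ?_ hbw ?_
      · rw [ee_dot]
        simp [ee, hp'.symm, hp''.symm]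
      · rw [dotProduct_sub, dotProduct_smul, dotProduct_smul, dot_ee, dot_ee]
        simp only [smul_eq_mul]
        ring
      · intro hzero
        apply h0
        have e1 := congrFun hzero (p.1, i')
        have e2 := congrFun hzero (p.1, i'')
        simp [ee, hpp, hpp.symm] at e1 e2
        exact ⟨e2, e1⟩
  obtain ⟨p, hp⟩ := exists_ne_zero hw
  refine ⟨p.1, ?_⟩
  intro q hq
  by_contra hwq
  exact hs (eq_zero_of_two_blk (Ne.symm hq) (key p hp) (key q hwq))

end three

end Cfsg.Agent.Lib.Helper1.Ld
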