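import Cfsg.Agent.Lib.Helper1.LdA3

set_option autoImplicit false

namespace Cfsg.Agent.Lib.Helper1.Ld

open Matrix Cfsg.Agent.Lib.Helper28.Ld Cfsg.Agent.Lib.Helper11.Ld

section af

variable {t m : ℕ} {F : Type*} [Field F]

theorem exists_perp_gen (hm : 2 ≤ m) (l : Fin t) (w : Fin t × Fin m → F) :
    ∃ ρ : Fin t × Fin m → F, InBlk l ρ ∧ ρ ≠ 0 ∧ ρ ⬝ᵥ w = 0 := by
  have h01 : ((l, ⟨0, by omega⟩) : Fin t × Fin m) ≠ (l, ⟨1, by omega⟩) := by
    intro h
    have := congrArg (fun z => (Prod.snd z).val) h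
    simp at this
  by_cases h0 : w (l, ⟨0, by omega⟩) = 0 ∧ w (l, ⟨1, by omega⟩) = 0
  · refine ⟨ee (l, ⟨0, by omega⟩), inBlk_ee' _ rfl, ee_ne_zero _, ?_⟩
    rw [ee_dot]
    exact h0.1
  · refine ⟨w (l, ⟨1, by omega⟩) • ee (l, ⟨0, by omega⟩) - w (l, ⟨0, by omega⟩) • ee (l, ⟨1, by omega⟩),
      inBlk_sub (inBlk_smul _ (inBlk_ee' _ rfl)) (inBlk_smul _ (inBlk_ee' _ rfl)), ?_, ?_⟩
    · intro hzero
      apply h0
      have e1 := congrFun hzero (l, ⟨0, by omega⟩)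
      have e2 := congrFun hzero (l, ⟨1, by omega⟩)
      simp [ee, h01, h01.symm] at e1 e2
      exact ⟨e2, e1⟩
    · rw [sub_dotProduct, smul_dotProduct, smul_dotProduct, ee_dot, ee_dot]
      simp only [smul_eq_mul]
      ring

theorem gl_mulVec_ne_zero (g : Matrix.GeneralLinearGroup (Fin t × Fin m) F)
    {x : Fin t × Fin m → F} (hx : x ≠ 0) :
    (g : Matrix (Fin t × Fin m) (Fin t × Fin m) F) *ᵥ x ≠ 0 := by
  intro h
  apply hx
  rw [← gl_inv_mulVec g x, h, mulVec_zero]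

theorem gl_vecMul_inv_ne_zero (g : Matrix.GeneralLinearGroup (Fin t × Fin m) F)
    {x : Fin t × Fin m → F} (hx : x ≠ 0) :
    x ᵥ* ((g⁻¹ : Matrix.GeneralLinearGroup (Fin t × Fin m) F) :
      Matrix (Fin t × Fin m) (Fin t × Fin m) F) ≠ 0 := by
  intro h
  apply hx
  have e : (x ᵥ* ((g⁻¹ : Matrix.GeneralLinearGroup (Fin t × Fin m) F) :
      Matrix (Fin t × Fin m) (Fin t × Fin m) F)) ᵥ*
      (g : Matrix (Fin t × Fin m) (Fin t × Fin m) F) = x := by
    rw [vecMul_vecMul, ← Units.val_mul, inv_mul_cancel, Units.val_one, vecMul_one]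
  rw [← e, h, zero_vecMul]

theorem single_image (hm : 2 ≤ m)
    (M : Subgroup (Matrix.GeneralLinearGroup (Fin t × Fin m) F)) (hHM : H0 t m F ≤ M)
    (hsb : ∀ w s : Fin t × Fin m → F, T M w s → w ≠ 0 → s ≠ 0 → ∃ k : Fin t, InBlk k w)
    (g : Matrix.GeneralLinearGroup (Fin t × Fin m) F) (hg : g ∈ M) (i : Fin t)
    (v : Fin t × Fin m → F) (hv : InBlk i v) (hv0 : v ≠ 0) :
    ∃ k : Fin t, InBlk k ((g : Matrix (Fin t × Fin m) (Fin t × Fin m) F) *ᵥ v) := by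
  obtain ⟨r, hr, hr0, hrv⟩ := exists_perp_gen hm i v
  have h1 : T M v r := block_root M hHM i v r hv hr hrv
  have h2 := T_conj hg h1
  exact hsb _ _ h2 (gl_mulVec_ne_zero g hv0) (gl_vecMul_inv_ne_zero g hr0)

theorem exists_blockmap (hm : 2 ≤ m)
    (M : Subgroup (Matrix.GeneralLinearGroup (Fin t × Fin m) F)) (hHM : H0 t m F ≤ M)
    (hsb : ∀ w s : Fin t × Fin m → F, T M w s → w ≠ 0 → s ≠ 0 → ∃ k : Fin t, InBlk k w)
    (g : Matrix.GeneralLinearGroup (Fin t × Fin m) F) (hg : g ∈ M) :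
    ∃ j : Fin t → Fin t, ∀ (i : Fin t) (x : Fin t × Fin m → F), InBlk i x →
      InBlk (j i) ((g : Matrix (Fin t × Fin m) (Fin t × Fin m) F) *ᵥ x) := by
  have hex : ∀ i : Fin t, ∃ k : Fin t, InBlk k
      ((g : Matrix (Fin t × Fin m) (Fin t × Fin m) F) *ᵥ (ee (i, ⟨0, by omega⟩))) := fun i =>
    single_image hm M hHM hsb g hg i _ (inBlk_ee' _ rfl) (ee_ne_zero _)
  choose j hj using hex
  refine ⟨j, ?_⟩
  intro i x hx
  by_cases hx0 : x = 0
  · rw [hx0, mulVec_zero]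
    intro p _
    rfl
  obtain ⟨k', hk'⟩ := single_image hm M hHM hsb g hg i x hx hx0
  by_cases hkk : k' = j i
  · rw [← hkk]
    exact hk'
  exfalso
  set v0 : Fin t × Fin m → F := ee (i, ⟨0, by omega⟩) with hv0
  have hv0i : InBlk i v0 := inBlk_ee' _ rfl
  have hgv0 : (g : Matrix (Fin t × Fin m) (Fin t × Fin m) F) *ᵥ v0 ≠ 0 :=
    gl_mulVec_ne_zero g (ee_ne_zero _)
  have hgx : (g : Matrix (Fin t × Fin m) (Fin t × Fin m) F) *ᵥ x ≠ 0 :=
    gl_mulVec_ne_zero g hx0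
  by_cases hsum : x + v0 = 0
  · have hx' : x = -v0 := eq_neg_of_add_eq_zero_left hsum
    apply hgx
    apply eq_zero_of_two_blk hkk hk'
    rw [hx', mulVec_neg]
    intro p hp
    rw [Pi.neg_apply, hj i p hp, neg_zero]
  · obtain ⟨k'', hk''⟩ := single_image hm M hHM hsb g hg i (x + v0) (inBlk_add hx hv0i) hsum
    rw [mulVec_add] at hk''
    by_cases h1 : k'' = j i
    · apply hgx
      apply eq_zero_of_two_blk hkk hk'
      rw [← h1]
      have : (g : Matrix (Fin t × Fin m) (Fin t × Fin m) F) *ᵥ x =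
          ((g : Matrix (Fin t × Fin m) (Fin t × Fin m) F) *ᵥ x +
            (g : Matrix (Fin t × Fin m) (Fin t × Fin m) F) *ᵥ v0) -
            (g : Matrix (Fin t × Fin m) (Fin t × Fin m) F) *ᵥ v0 := by
        rw [add_sub_cancel_right]
      rw [this]
      exact inBlk_sub hk'' (h1 ▸ hj i)
    · apply hgv0
      apply eq_zero_of_two_blk (Ne.symm h1) (hj i)
      intro p hp
      have e1 := hk'' p hp
      by_cases hpk : p.1 = k'
      · have hpj : p.1 ≠ j i := by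
          rw [hpk]
          exact hkk
        exact hj i p hpj
      · rw [Pi.add_apply, hk' p hpk, zero_add] at e1
        exact e1

theorem mem_Hs_of_single (hm : 2 ≤ m)
    (M : Subgroup (Matrix.GeneralLinearGroup (Fin t × Fin m) F)) (hHM : H0 t m F ≤ M)
    (hsb : ∀ w s : Fin t × Fin m → F, T M w s → w ≠ 0 → s ≠ 0 → ∃ k : Fin t, InBlk k w)
    (g : Matrix.GeneralLinearGroup (Fin t × Fin m) F) (hg : g ∈ M) : g ∈ Hs t m F := by
  obtain ⟨j, hj⟩ := exists_blockmap hm M hHM hsb g hg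
  obtain ⟨j', hj'⟩ := exists_blockmap hm M hHM hsb g⁻¹ (M.inv_mem hg)
  have hl : ∀ i, j' (j i) = i := by
    intro i
    by_contra hne
    have h1 := hj' (j i) _ (hj i (ee (i, ⟨0, by omega⟩)) (inBlk_ee' _ rfl))
    rw [gl_inv_mulVec] at h1
    exact ee_ne_zero _ (eq_zero_of_two_blk hne h1 (inBlk_ee' _ rfl))
  have hr : ∀ i, j (j' i) = i := by
    intro i
    by_contra hne
    have h1 := hj (j' i) _ (hj' i (ee (i, ⟨0, by omega⟩)) (inBlk_ee' _ rfl))
    rw [gl_mulVec_inv] at h1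
    exact ee_ne_zero _ (eq_zero_of_two_blk hne h1 (inBlk_ee' _ rfl))
  exact mem_Hs_of_maps g ⟨j, j', hl, hr⟩ hj

end af

end Cfsg.Agent.Lib.Helper1.Ld
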