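import Mathlib
import Cfsg.Agent.Lib.helper2.MI2.Defs

/-!
# MI2 row F4 (helper1): the Gram matrix of the "cosets versus translates of `Γ`" incidence (VERBATIM vs `helper2/MI2/Skel.lean.txt`).
-/

set_option autoImplicit false
set_option linter.unusedVariables false
set_option linter.unusedSectionVars false

namespace Cfsg.Agent.Lib.helper2.MI2

open Matrix

variable {m : ℕ}

/-- membership in the translate does not depend on the representative of the coset -/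
theorem mi2f4_rep {G Δ : Type*} [Group G] [MulAction G Δ]
    (H : Subgroup G) (Γ : Set Δ) (hΓ : ∀ h ∈ H, ∀ δ : Δ, h • δ ∈ Γ ↔ δ ∈ Γ) (a : G) (δ : Δ) :
    ((a : G ⧸ H).out)⁻¹ • δ ∈ Γ ↔ a⁻¹ • δ ∈ Γ := by
  have h1 : ((a : G ⧸ H).out : G ⧸ H) = (a : G ⧸ H) := Quotient.out_eq' _
  have h2 : a⁻¹ * (a : G ⧸ H).out ∈ H := QuotientGroup.eq.mp h1.symm
  have h3 : ((a : G ⧸ H).out)⁻¹ • δ = (a⁻¹ * (a : G ⧸ H).out)⁻¹ • (a⁻¹ • δ) := by
    rw [smul_smul]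
    congr 1
    group
  rw [h3]
  exact hΓ _ (H.inv_mem h2) _

theorem fisher_gram {G Δ : Type*} [Group G] [MulAction G Δ] [Fintype Δ] [DecidableEq Δ]
    (H : Subgroup G) (hfin : H.index ≠ 0) (Γ : Set Δ) (hΓ : ∀ h ∈ H, ∀ δ : Δ, h • δ ∈ Γ ↔ δ ∈ Γ) :
    ∃ C : Matrix Δ Δ ℚ, C.rank ≤ H.index ∧
      (∀ (g : G) (δ δ' : Δ), C (g • δ) (g • δ') = C δ δ') ∧
      (∀ δ δ', 0 ≤ C δ δ') ∧ (∀ δ ∈ Γ, 1 ≤ C δ δ) ∧
      ((∀ δ δ', C δ δ' = C δ δ) → ∀ δ ∈ Γ, ∀ δ', δ' ∈ Γ) := by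
  classical
  letI : Fintype (G ⧸ H) := Subgroup.fintypeOfIndexNeZero hfin
  let M : Matrix (G ⧸ H) Δ ℚ := Matrix.of fun ω δ => if (ω.out)⁻¹ • δ ∈ Γ then 1 else 0
  have hM01 : ∀ ω δ, M ω δ = 0 ∨ M ω δ = 1 := by
    intro ω δ
    by_cases h : (ω.out)⁻¹ • δ ∈ Γ
    · right; simp [M, h]
    · left; simp [M, h]
  have hM0 : ∀ ω δ, 0 ≤ M ω δ := by
    intro ω δ
    rcases hM01 ω δ with h | h <;> rw [h]
    norm_num
  have hM1 : ∀ ω δ, M ω δ ≤ 1 := by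
    intro ω δ
    rcases hM01 ω δ with h | h <;> rw [h]
    norm_num
  have hMrep : ∀ (a : G) (δ : Δ), M (a : G ⧸ H) δ = if a⁻¹ • δ ∈ Γ then 1 else 0 := by
    intro a δ
    have := mi2f4_rep H Γ hΓ a δ
    simp only [M, Matrix.of_apply]
    by_cases h : a⁻¹ • δ ∈ Γ
    · rw [if_pos h, if_pos (this.2 h)]
    · rw [if_neg h, if_neg (fun h' => h (this.1 h'))]
  have hMg : ∀ (g : G) (ω : G ⧸ H) (δ : Δ), M ω (g • δ) = M (g⁻¹ • ω) δ := by
    intro g ω δ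
    induction ω using QuotientGroup.induction_on with
    | H a =>
      rw [MulAction.Quotient.smul_mk, hMrep, hMrep]
      have : a⁻¹ • g • δ = (g⁻¹ * a)⁻¹ • δ := by
        rw [smul_smul]
        congr 1
        group
      rw [this, smul_eq_mul]
  have hCapp : ∀ δ δ', (Mᵀ * M) δ δ' = ∑ ω, M ω δ * M ω δ' := by
    intro δ δ'
    rw [Matrix.mul_apply]
    rfl
  refine ⟨Mᵀ * M, ?_, ?_, ?_, ?_, ?_⟩
  · calc (Mᵀ * M).rank ≤ M.rank := Matrix.rank_mul_le_right _ _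
      _ ≤ Fintype.card (G ⧸ H) := Matrix.rank_le_card_height M
      _ = H.index := by rw [Subgroup.index_eq_card, Nat.card_eq_fintype_card]
  · intro g δ δ'
    rw [hCapp, hCapp]
    have : ∀ ω, M ω (g • δ) * M ω (g • δ') = (fun ω' => M ω' δ * M ω' δ') ((MulAction.toPerm g⁻¹ : Equiv.Perm (G ⧸ H)) ω) := by
      intro ω
      simp only [MulAction.toPerm_apply]
      rw [hMg, hMg]
    rw [Finset.sum_congr rfl (fun ω _ => this ω)]
    exact Equiv.sum_comp (MulAction.toPerm g⁻¹ : Equiv.Perm (G ⧸ H)) (fun ω' => M ω' δ * M ω' δ')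
  · intro δ δ'
    rw [hCapp]
    exact Finset.sum_nonneg (fun ω _ => mul_nonneg (hM0 ω δ) (hM0 ω δ'))
  · intro δ hδ
    rw [hCapp]
    have h1 : M ((1 : G) : G ⧸ H) δ = 1 := by
      rw [hMrep, inv_one, one_smul, if_pos hδ]
    calc (1 : ℚ) = M ((1 : G) : G ⧸ H) δ * M ((1 : G) : G ⧸ H) δ := by rw [h1, mul_one]
      _ ≤ ∑ ω, M ω δ * M ω δ :=
        Finset.single_le_sum (f := fun ω => M ω δ * M ω δ) (fun ω _ => mul_nonneg (hM0 ω δ) (hM0 ω δ)) (Finset.mem_univ _)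
  · intro hall δ hδ δ'
    have h := hall δ δ'
    rw [hCapp, hCapp] at h
    have hle : ∀ ω ∈ (Finset.univ : Finset (G ⧸ H)), M ω δ * M ω δ' ≤ M ω δ * M ω δ := by
      intro ω _
      rcases hM01 ω δ with h0 | h0
      · rw [h0]; simp
      · rw [h0, one_mul, one_mul]; exact hM1 ω δ'
    have heq := (Finset.sum_eq_sum_iff_of_le hle).1 h ((1 : G) : G ⧸ H) (Finset.mem_univ _)
    have h1 : M ((1 : G) : G ⧸ H) δ = 1 := by
      rw [hMrep, inv_one, one_smul, if_pos hδ]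
    rw [h1, one_mul, one_mul, hMrep, inv_one, one_smul] at heq
    by_contra hn
    rw [if_neg hn] at heq
    exact zero_ne_one heq

end Cfsg.Agent.Lib.helper2.MI2
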