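import Mathlib
import Cfsg.Agent.Lib.helper2.MI2.Defs

/-!
# MI2 row F5 (helper1): a `G`-invariant matrix is constant on the three orbitals of a rank-3 action (VERBATIM vs `helper2/MI2/Skel.lean.txt`).
-/

set_option autoImplicit false
set_option linter.unusedVariables false
set_option linter.unusedSectionVars false

namespace Cfsg.Agent.Lib.helper2.MI2

open Matrix

variable {m : ℕ}

theorem rank3_decomp {G Δ : Type*} [Group G] [MulAction G Δ] [Fintype Δ] [DecidableEq Δ] [Nonempty Δ]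
    (R : Δ → Δ → Prop) [DecidableRel R]
    (h1 : ∀ x y : Δ, ∃ g : G, g • x = y)
    (h2 : ∀ x x' y y' : Δ, R x x' → R y y' → ∃ g : G, g • x = y ∧ g • x' = y')
    (h3 : ∀ x x' y y' : Δ, x ≠ x' → ¬ R x x' → y ≠ y' → ¬ R y y' → ∃ g : G, g • x = y ∧ g • x' = y')
    (C : Matrix Δ Δ ℚ) (hC : ∀ (g : G) (δ δ' : Δ), C (g • δ) (g • δ') = C δ δ') :
    ∃ r a b : ℚ, ∀ δ δ', C δ δ' = if δ = δ' then r else if R δ δ' then a else b := by
  classical
  obtain ⟨δ₀⟩ := ‹Nonempty Δ›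
  refine ⟨C δ₀ δ₀, if h : ∃ x y : Δ, R x y then C h.choose h.choose_spec.choose else 0,
    if h : ∃ x y : Δ, x ≠ y ∧ ¬ R x y then C h.choose h.choose_spec.choose else 0, ?_⟩
  intro δ δ'
  by_cases hd : δ = δ'
  · subst hd
    rw [if_pos rfl]
    obtain ⟨g, hg⟩ := h1 δ₀ δ
    rw [← hg, hC]
  · rw [if_neg hd]
    by_cases hR : R δ δ'
    · rw [if_pos hR]
      have hex : ∃ x y : Δ, R x y := ⟨δ, δ', hR⟩
      rw [dif_pos hex]
      obtain ⟨g, hg1, hg2⟩ := h2 _ _ δ δ' hex.choose_spec.choose_spec hR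
      rw [← hg1, ← hg2, hC]
    · rw [if_neg hR]
      have hex : ∃ x y : Δ, x ≠ y ∧ ¬ R x y := ⟨δ, δ', hd, hR⟩
      rw [dif_pos hex]
      obtain ⟨g, hg1, hg2⟩ := h3 _ _ δ δ' hex.choose_spec.choose_spec.1 hex.choose_spec.choose_spec.2 hd hR
      rw [← hg1, ← hg2, hC]

end Cfsg.Agent.Lib.helper2.MI2
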