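import Mathlib
import Cfsg.Agent.Lib.helper2.MI2.Defs

/-!
# MI2 row S3 (helper1): the matrix identities of the strongly regular graph `ff x y = 1` on the nonzero vectors (VERBATIM vs `helper2/MI2/Skel.lean.txt`).
-/

set_option autoImplicit false
set_option linter.unusedVariables false
set_option linter.unusedSectionVars false

namespace Cfsg.Agent.Lib.helper2.MI2

open Matrix

variable {m : ℕ}

/-- a sum of indicators over the nonzero vectors, of a predicate which fails at `0`, is the `Nat.card` of the predicate on all vectors -/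
theorem mi2s3_sum_ind (P : V m → Prop) [DecidablePred P] (h0 : ¬ P 0) :
    (∑ z : NZ m, (if P z.1 then (1 : ℚ) else 0)) = (Nat.card {z : V m | P z} : ℚ) := by
  classical
  rw [Finset.sum_boole]
  congr 1
  rw [Nat.card_eq_fintype_card, ← Fintype.card_subtype]
  apply Fintype.card_congr
  exact {
    toFun := fun z => ⟨z.1.1, z.2⟩
    invFun := fun z => ⟨⟨z.1, fun h => h0 (h ▸ z.2)⟩, z.2⟩
    left_inv := fun z => rfl
    right_inv := fun z => rfl }

theorem mi2s3_ff_zero_right (x : V m) : ff x 0 = 0 := by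
  have := ff_add_right x 0 0
  rw [add_zero] at this
  have h2 := z2_add_self (ff x 0)
  rw [← this] at h2
  exact h2

theorem mi2s3_ff_zero_left (x : V m) : ff 0 x = 0 := by
  rw [ff_comm]; exact mi2s3_ff_zero_right x

theorem adjM_identities (hm : 1 ≤ m)
    (h1 : ∀ x : V m, x ≠ 0 → Nat.card {y : V m | ff x y = 1} = 2 ^ (2 * m - 1))
    (h2 : ∀ x y : V m, x ≠ 0 → y ≠ 0 → x ≠ y →
      Nat.card {z : V m | ff x z = 1 ∧ ff y z = 1} = 2 ^ (2 * m - 2)) :
    adjM m * adjM m = ((2 : ℚ) ^ (2 * m - 2)) • ((1 : Matrix (NZ m) (NZ m) ℚ) + allOne (NZ m)) ∧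
    adjM m * allOne (NZ m) = ((2 : ℚ) ^ (2 * m - 1)) • allOne (NZ m) ∧
    allOne (NZ m) * adjM m = ((2 : ℚ) ^ (2 * m - 1)) • allOne (NZ m) ∧
    (adjM m).trace = 0 ∧ Fintype.card (NZ m) = 2 ^ (2 * m) - 1 := by
  classical
  have hpow : (2 : ℚ) ^ (2 * m - 1) = 2 ^ (2 * m - 2) * 2 := by
    rw [← pow_succ]
    congr 1
    omega
  have z01 : (0 : ZMod 2) ≠ 1 := by decide
  refine ⟨?_, ?_, ?_, ?_, ?_⟩
  · ext x y
    rw [Matrix.mul_apply]
    have hterm : ∀ z : NZ m, adjM m x z * adjM m z y = if (ff x.1 z.1 = 1 ∧ ff y.1 z.1 = 1) then (1 : ℚ) else 0 := by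
      intro z
      simp only [adjM, Matrix.of_apply]
      rw [ff_comm z.1 y.1]
      by_cases ha : ff x.1 z.1 = 1 <;> by_cases hb : ff y.1 z.1 = 1 <;> simp [ha, hb]
    rw [Finset.sum_congr rfl (fun z _ => hterm z)]
    rw [mi2s3_sum_ind (fun z => ff x.1 z = 1 ∧ ff y.1 z = 1) (by rw [mi2s3_ff_zero_right]; exact fun h => z01 h.1)]
    simp only [Matrix.smul_apply, Matrix.add_apply, allOne, Matrix.of_apply, smul_eq_mul, Matrix.one_apply]
    by_cases hxy : x = y
    · subst hxy
      rw [if_pos rfl]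
      have : {z : V m | ff x.1 z = 1 ∧ ff x.1 z = 1} = {z : V m | ff x.1 z = 1} := by
        ext z; simp
      rw [this, h1 x.1 x.2]
      push_cast
      rw [hpow]
      ring
    · rw [if_neg hxy]
      rw [h2 x.1 y.1 x.2 y.2 (fun h => hxy (Subtype.ext h))]
      push_cast
      ring
  · ext x y
    rw [Matrix.mul_apply]
    have hterm : ∀ z : NZ m, adjM m x z * allOne (NZ m) z y = if ff x.1 z.1 = 1 then (1 : ℚ) else 0 := by
      intro z
      simp only [adjM, allOne, Matrix.of_apply, mul_one]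
    rw [Finset.sum_congr rfl (fun z _ => hterm z)]
    rw [mi2s3_sum_ind (fun z => ff x.1 z = 1) (by rw [mi2s3_ff_zero_right]; exact z01)]
    simp only [Matrix.smul_apply, allOne, Matrix.of_apply, smul_eq_mul, mul_one]
    rw [h1 x.1 x.2]
    push_cast
    rfl
  · ext x y
    rw [Matrix.mul_apply]
    have hterm : ∀ z : NZ m, allOne (NZ m) x z * adjM m z y = if ff y.1 z.1 = 1 then (1 : ℚ) else 0 := by
      intro z
      simp only [adjM, allOne, Matrix.of_apply, one_mul]
      rw [ff_comm z.1 y.1]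
    rw [Finset.sum_congr rfl (fun z _ => hterm z)]
    rw [mi2s3_sum_ind (fun z => ff y.1 z = 1) (by rw [mi2s3_ff_zero_right]; exact z01)]
    simp only [Matrix.smul_apply, allOne, Matrix.of_apply, smul_eq_mul, mul_one]
    rw [h1 y.1 y.2]
    push_cast
    rfl
  · rw [Matrix.trace]
    apply Finset.sum_eq_zero
    intro x _
    simp only [Matrix.diag_apply, adjM, Matrix.of_apply]
    rw [ff_self, if_neg z01]
  · have hV : Fintype.card (V m) = 2 ^ (2 * m) := by
      rw [Fintype.card_fun, ZMod.card, Fintype.card_sum, Fintype.card_fin, two_mul]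
    have : Fintype.card (NZ m) = Fintype.card (V m) - 1 := by
      rw [Fintype.card_subtype_compl, Fintype.card_subtype_eq]
    rw [this, hV]

end Cfsg.Agent.Lib.helper2.MI2
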