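import Mathlib
import Cfsg.Agent.Lib.helper2.MIDefs
import Cfsg.Agent.Lib.helper14.SLnVec

set_option autoImplicit false
set_option linter.unusedSectionVars false
set_option linter.unusedVariables false

namespace Cfsg.Agent.Lib.Helper1.MI

open Matrix Cfsg.Agent.Lib.helper2.MI

variable {n : ℕ} {F : Type*} [Field F]

theorem exists_row (S : Submodule F (Fin n → F)) (w : Fin n → F) (hw : w ∉ S) :
    ∃ φ : Fin n → F, (∀ s ∈ S, φ ⬝ᵥ s = 0) ∧ φ ⬝ᵥ w ≠ 0 := by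
  obtain ⟨f, hfw, hf⟩ := Submodule.exists_dual_map_eq_bot_of_notMem hw inferInstance
  have hzero : ∀ x ∈ S, f x = 0 := by
    intro x hx
    have : f x ∈ S.map f := Submodule.mem_map_of_mem hx
    rw [hf] at this
    exact (Submodule.mem_bot F).mp this
  have hdot : ∀ x : Fin n → F, (fun i => f (fun j => if i = j then 1 else 0)) ⬝ᵥ x = f x := by
    intro x
    rw [LinearMap.pi_apply_eq_sum_univ f x]
    unfold dotProduct
    apply Finset.sum_congr rfl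
    intro i _
    rw [smul_eq_mul, mul_comm]
  refine ⟨fun i => f (fun j => if i = j then 1 else 0), ?_, ?_⟩
  · intro s hs
    rw [hdot]
    exact hzero s hs
  · rw [hdot]
    exact hfw

theorem comm_tv (H : Subgroup (SpecialLinearGroup (Fin n) F)) (v₁ φ₁ v₂ φ₂ : Fin n → F)
    (h₁ : φ₁ ⬝ᵥ v₁ = 0) (h₂ : φ₂ ⬝ᵥ v₂ = 0) (h₂₁ : φ₂ ⬝ᵥ v₁ = 0)
    (hm₁ : tv v₁ φ₁ h₁ ∈ H) (hm₂ : tv v₂ φ₂ h₂ ∈ H) :
    ∃ h' : ((φ₁ ⬝ᵥ v₂) • φ₂) ⬝ᵥ v₁ = 0, tv v₁ ((φ₁ ⬝ᵥ v₂) • φ₂) h' ∈ H := by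
  have h' : ((φ₁ ⬝ᵥ v₂) • φ₂) ⬝ᵥ v₁ = 0 := by rw [smul_dotProduct, h₂₁, smul_zero]
  refine ⟨h', ?_⟩
  have hkey : tv v₁ φ₁ h₁ * tv v₂ φ₂ h₂ =
      (tv v₂ φ₂ h₂ * tv v₁ φ₁ h₁) * tv v₁ ((φ₁ ⬝ᵥ v₂) • φ₂) h' := by
    apply Subtype.ext
    change tvM v₁ φ₁ * tvM v₂ φ₂ = (tvM v₂ φ₂ * tvM v₁ φ₁) * tvM v₁ ((φ₁ ⬝ᵥ v₂) • φ₂)
    rw [tvM_mul_tvM, tvM_mul_tvM, h₂₁, zero_smul, add_zero]
    have e1 : vecMulVec v₂ φ₂ * vecMulVec v₁ ((φ₁ ⬝ᵥ v₂) • φ₂) = 0 := by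
      rw [vecMulVec_mul_vecMulVec, h₂₁, zero_smul, vecMulVec_zero]
    have e2 : vecMulVec v₁ φ₁ * vecMulVec v₁ ((φ₁ ⬝ᵥ v₂) • φ₂) = 0 := by
      rw [vecMulVec_mul_vecMulVec, h₁, zero_smul, vecMulVec_zero]
    unfold tvM
    rw [Matrix.mul_add, Matrix.mul_one, Matrix.add_mul, Matrix.add_mul, Matrix.one_mul, e1, e2,
      vecMulVec_smul]
    abel
  have hmem : (tv v₂ φ₂ h₂ * tv v₁ φ₁ h₁)⁻¹ * (tv v₁ φ₁ h₁ * tv v₂ φ₂ h₂) ∈ H :=
    H.mul_mem (H.inv_mem (H.mul_mem hm₂ hm₁)) (H.mul_mem hm₁ hm₂)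
  rw [hkey, inv_mul_cancel_left] at hmem
  exact hmem

def IsAxis (H : Subgroup (SpecialLinearGroup (Fin n) F)) (v y : Fin n → F) : Prop :=
  (¬ ∃ c : F, y = c • v) ∧
    ∀ (φ : Fin n → F) (h : φ ⬝ᵥ v = 0), (tv v φ h ∈ H ↔ φ ⬝ᵥ y = 0)

theorem key (H : Subgroup (SpecialLinearGroup (Fin n) F)) {v₁ y₁ v₂ y₂ : Fin n → F}
    (d₁ : IsAxis H v₁ y₁) (d₂ : IsAxis H v₂ y₂) (φ₁ φ₂ : Fin n → F)
    (a1 : φ₁ ⬝ᵥ v₁ = 0) (a2 : φ₁ ⬝ᵥ y₁ = 0) (b1 : φ₂ ⬝ᵥ v₂ = 0) (b2 : φ₂ ⬝ᵥ y₂ = 0)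
    (b3 : φ₂ ⬝ᵥ v₁ = 0) : (φ₁ ⬝ᵥ v₂) * (φ₂ ⬝ᵥ y₁) = 0 := by
  have hm₁ := (d₁.2 φ₁ a1).2 a2
  have hm₂ := (d₂.2 φ₂ b1).2 b2
  obtain ⟨h', hm⟩ := comm_tv H v₁ φ₁ v₂ φ₂ a1 b1 b3 hm₁ hm₂
  have := (d₁.2 _ h').1 hm
  rw [smul_dotProduct, smul_eq_mul] at this
  exact this

theorem two_by_two {V : Type*} [AddCommGroup V] [Module F V] (u w p r : V) (a b a' b' : F)
    (hp : p = a • u + b • w) (hr : r = a' • u + b' • w) (hp0 : p ≠ 0)
    (hind : ¬ ∃ c : F, r = c • p) :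
    u ∈ Submodule.span F ({p, r} : Set V) := by
  obtain ⟨D, hD⟩ : ∃ D : F, a * b' - a' * b = D := ⟨_, rfl⟩
  have hd : D ≠ 0 := by
    intro hd
    rw [hd] at hD
    apply hind
    by_cases ha : a = 0
    · have hb : b ≠ 0 := by
        intro hb
        apply hp0
        rw [hp, ha, hb, zero_smul, zero_smul, add_zero]
      have ha' : a' = 0 := by
        rw [ha, zero_mul, zero_sub, neg_eq_zero] at hD
        rcases mul_eq_zero.mp hD with h | h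
        · exact h
        · exact absurd h hb
      refine ⟨b' / b, ?_⟩
      rw [hr, hp, ha, ha', zero_smul, zero_add, zero_add, smul_smul,
        div_mul_cancel₀ b' hb]
    · refine ⟨a' / a, ?_⟩
      rw [hr, hp, smul_add, smul_smul, smul_smul, div_mul_cancel₀ a' ha]
      congr 2
      field_simp
      linear_combination hD
  rw [Submodule.mem_span_pair]
  refine ⟨b' / D, -b / D, ?_⟩
  rw [hp, hr, smul_add, smul_add, smul_smul, smul_smul, smul_smul, smul_smul]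
  have e1 : b' / D * a + -b / D * a' = 1 := by
    field_simp
    linear_combination hD
  have e2 : b' / D * b + -b / D * b' = 0 := by
    field_simp
    ring
  calc (b' / D * a) • u + (b' / D * b) • w + ((-b / D * a') • u + (-b / D * b') • w)
      = (b' / D * a + -b / D * a') • u + (b' / D * b + -b / D * b') • w := by
        rw [add_smul, add_smul]
        abel
    _ = u := by rw [e1, e2, one_smul, zero_smul, add_zero]


theorem ruleA (H : Subgroup (SpecialLinearGroup (Fin n) F)) {v₁ y₁ v₂ y₂ : Fin n → F}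
    (hv₁ : v₁ ≠ 0) (d₁ : IsAxis H v₁ y₁) (d₂ : IsAxis H v₂ y₂)
    (hmem : v₂ ∈ Submodule.span F ({v₁, y₁} : Set (Fin n → F))) (hne : ¬ ∃ c : F, v₂ = c • v₁) :
    y₂ ∈ Submodule.span F ({v₁, y₁} : Set (Fin n → F)) := by
  by_contra hy₂
  obtain ⟨φ₁, hφ₁, hφ₁y⟩ := exists_row _ y₂ hy₂
  have hv₁L : v₁ ∈ Submodule.span F ({v₁, y₁} : Set (Fin n → F)) :=
    Submodule.subset_span (by simp)
  have hy₁L : y₁ ∈ Submodule.span F ({v₁, y₁} : Set (Fin n → F)) :=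
    Submodule.subset_span (by simp)
  have hall : ∀ φ₂ : Fin n → F, φ₂ ⬝ᵥ v₂ = 0 → φ₂ ⬝ᵥ y₂ = 0 → φ₂ ⬝ᵥ v₁ = 0 := by
    intro φ₂ b1 b2
    have := key H d₂ d₁ φ₂ φ₁ b1 b2 (hφ₁ v₁ hv₁L) (hφ₁ y₁ hy₁L) (hφ₁ v₂ hmem)
    rcases mul_eq_zero.mp this with h | h
    · exact h
    · exact absurd h hφ₁y
  have hv₁L₂ : v₁ ∈ Submodule.span F ({v₂, y₂} : Set (Fin n → F)) := by
    by_contra hcon
    obtain ⟨φ₂, hφ₂, hφ₂v⟩ := exists_row _ v₁ hcon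
    exact hφ₂v (hall φ₂ (hφ₂ v₂ (Submodule.subset_span (by simp)))
      (hφ₂ y₂ (Submodule.subset_span (by simp))))
  obtain ⟨a, b, hab⟩ := Submodule.mem_span_pair.mp hv₁L₂
  by_cases hb : b = 0
  · rw [hb, zero_smul, add_zero] at hab
    have ha : a ≠ 0 := by
      intro ha
      rw [ha, zero_smul] at hab
      exact hv₁ hab.symm
    apply hne
    refine ⟨a⁻¹, ?_⟩
    rw [← hab, smul_smul, inv_mul_cancel₀ ha, one_smul]
  · apply hy₂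
    have : y₂ = b⁻¹ • v₁ - (b⁻¹ * a) • v₂ := by
      rw [← hab, smul_add, smul_smul, smul_smul, inv_mul_cancel₀ hb, one_smul]
      abel
    rw [this]
    exact Submodule.sub_mem _ (Submodule.smul_mem _ _ hv₁L) (Submodule.smul_mem _ _ hmem)

theorem ruleB (hn : 3 ≤ n) (H : Subgroup (SpecialLinearGroup (Fin n) F)) (h : CaseI H)
    {v₁ y₁ v₂ y₂ : Fin n → F} (hv₁ : v₁ ≠ 0) (hv₂ : v₂ ≠ 0)
    (d₁ : IsAxis H v₁ y₁) (d₂ : IsAxis H v₂ y₂) :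
    v₂ ∈ Submodule.span F ({v₁, y₁} : Set (Fin n → F)) := by
  by_contra hv₂L
  have hv₁L : v₁ ∈ Submodule.span F ({v₁, y₁} : Set (Fin n → F)) :=
    Submodule.subset_span (by simp)
  have hy₁L : y₁ ∈ Submodule.span F ({v₁, y₁} : Set (Fin n → F)) :=
    Submodule.subset_span (by simp)
  have hstar : y₁ ∈ Submodule.span F ({v₂, y₂, v₁} : Set (Fin n → F)) := by
    by_contra hcon
    obtain ⟨φ₂, hφ₂, hφ₂y⟩ := exists_row _ y₁ hcon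
    obtain ⟨φ₁, hφ₁, hφ₁v⟩ := exists_row _ v₂ hv₂L
    have := key H d₁ d₂ φ₁ φ₂ (hφ₁ v₁ hv₁L) (hφ₁ y₁ hy₁L)
      (hφ₂ v₂ (Submodule.subset_span (by simp))) (hφ₂ y₂ (Submodule.subset_span (by simp)))
      (hφ₂ v₁ (Submodule.subset_span (by simp)))
    rcases mul_eq_zero.mp this with h1 | h1
    · exact hφ₁v h1
    · exact hφ₂y h1
  obtain ⟨a, b, c, habc⟩ := Submodule.mem_span_triple.mp hstar
  set x : Fin n → F := a • v₂ + b • y₂ with hx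
  have hxy : x = y₁ - c • v₁ := by
    rw [← habc]
    abel
  have hx0 : x ≠ 0 := by
    intro h0
    apply d₁.1
    refine ⟨c, ?_⟩
    rw [h0] at hxy
    exact (sub_eq_zero.mp hxy.symm)
  have hxL₁ : x ∈ Submodule.span F ({v₁, y₁} : Set (Fin n → F)) := by
    rw [hxy]
    exact Submodule.sub_mem _ hy₁L (Submodule.smul_mem _ _ hv₁L)
  have hxne₁ : ¬ ∃ c' : F, x = c' • v₁ := by
    rintro ⟨c', hc'⟩
    apply d₁.1
    refine ⟨c' + c, ?_⟩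
    rw [add_smul, ← hc', hxy]
    abel
  obtain ⟨yx, dx⟩ := h x hx0
  have hyxL₁ := ruleA H hv₁ d₁ dx hxL₁ hxne₁
  have hxL₂ : x ∈ Submodule.span F ({v₂, y₂} : Set (Fin n → F)) :=
    Submodule.mem_span_pair.mpr ⟨a, b, rfl⟩
  by_cases hxv₂ : ∃ c' : F, x = c' • v₂
  · obtain ⟨c', hc'⟩ := hxv₂
    have hc'0 : c' ≠ 0 := by
      intro h0
      rw [h0, zero_smul] at hc'
      exact hx0 hc'
    apply hv₂L
    have : v₂ = c'⁻¹ • x := by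
      rw [hc', smul_smul, inv_mul_cancel₀ hc'0, one_smul]
    rw [this]
    exact Submodule.smul_mem _ _ hxL₁
  · have hyxL₂ := ruleA H hv₂ d₂ dx hxL₂ hxv₂
    obtain ⟨a', b', hab'⟩ := Submodule.mem_span_pair.mp hyxL₂
    have hmem := two_by_two v₂ y₂ x yx a b a' b' hx hab'.symm hx0 dx.1
    apply hv₂L
    have hle : Submodule.span F ({x, yx} : Set (Fin n → F)) ≤
        Submodule.span F ({v₁, y₁} : Set (Fin n → F)) := by
      rw [Submodule.span_le]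
      intro z hz
      rcases hz with rfl | hz
      · exact hxL₁
      · rw [Set.mem_singleton_iff] at hz
        rw [hz]
        exact hyxL₁
    exact hle hmem

theorem caseI_false (hn : 3 ≤ n) (H : Subgroup (SpecialLinearGroup (Fin n) F)) (h : CaseI H) :
    False := by
  have hv₁ : (e0 hn : Fin n → F) ≠ 0 := by
    intro h0
    have := congrFun h0 ⟨0, by omega⟩
    simp [e0] at this
  obtain ⟨y₁, d₁⟩ := h (e0 hn) hv₁
  obtain ⟨v₂, hv₂L⟩ := Cfsg.Agent.Lib.helper14.SLnVec.exists_notMem_span_pair hn (e0 hn) y₁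
  have hv₂ : v₂ ≠ 0 := by
    intro h0
    apply hv₂L
    rw [h0]
    exact Submodule.zero_mem _
  obtain ⟨y₂, d₂⟩ := h v₂ hv₂
  exact hv₂L (ruleB hn H h hv₁ hv₂ d₁ d₂)

end Cfsg.Agent.Lib.Helper1.MI
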