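import Mathlib
import Cfsg.Agent.Lib.helper2.MIDefs

set_option autoImplicit false
set_option linter.unusedSectionVars false
set_option linter.unusedVariables false

namespace Cfsg.Agent.Lib.Helper1.MI

open Matrix Cfsg.Agent.Lib.helper2.MI

variable {n : ℕ} {F : Type*} [Field F]

theorem eL_dot (hn : 3 ≤ n) (y : Fin n → F) :
    (eL hn : Fin n → F) ⬝ᵥ y = y ⟨n - 1, by omega⟩ := by
  unfold eL
  rw [single_dotProduct, one_mul]

theorem dot_e0 (hn : 3 ≤ n) (ψ : Fin n → F) :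
    ψ ⬝ᵥ (e0 hn : Fin n → F) = ψ ⟨0, by omega⟩ := by
  unfold e0
  rw [dotProduct_single, mul_one]

theorem eL_dot_e0 (hn : 3 ≤ n) : (eL hn : Fin n → F) ⬝ᵥ e0 hn = 0 := by
  rw [eL_dot]
  unfold e0
  rw [Pi.single_apply, if_neg]
  intro h
  have := congrArg Fin.val h
  simp at this
  omega

theorem e0_ne_zero (hn : 3 ≤ n) : (e0 hn : Fin n → F) ≠ 0 := by
  intro h
  have := congrFun h ⟨0, by omega⟩
  simp [e0] at this

theorem eL_ne_zero (hn : 3 ≤ n) : (eL hn : Fin n → F) ≠ 0 := by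
  intro h
  have := congrFun h ⟨n - 1, by omega⟩
  simp [eL] at this

def Mm (hn : 3 ≤ n) (ψ y : Fin n → F) : Matrix (Fin n) (Fin n) F :=
  1 + vecMulVec (e0 hn) ψ + vecMulVec y (eL hn)

def InH (H : Subgroup (SpecialLinearGroup (Fin n) F)) (M : Matrix (Fin n) (Fin n) F) : Prop :=
  ∃ g ∈ H, (g : Matrix (Fin n) (Fin n) F) = M

theorem Mm_mul (hn : 3 ≤ n) (ψ y ψ' y' : Fin n → F) (hψ : ψ ⬝ᵥ e0 hn = 0)
    (hy' : eL hn ⬝ᵥ y' = 0) :
    Mm hn ψ y * Mm hn ψ' y' = Mm hn (ψ + ψ' + (ψ ⬝ᵥ y') • eL hn) (y + y') := by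
  unfold Mm
  have h1 : vecMulVec (e0 hn) ψ * vecMulVec (e0 hn) ψ' = 0 := by
    rw [vecMulVec_mul_vecMulVec, hψ, zero_smul, vecMulVec_zero]
  have h2 : vecMulVec (e0 hn) ψ * vecMulVec y' (eL hn) = (ψ ⬝ᵥ y') • vecMulVec (e0 hn) (eL hn) := by
    rw [vecMulVec_mul_vecMulVec, vecMulVec_smul]
  have h3 : vecMulVec y (eL hn) * vecMulVec (e0 hn) ψ' = 0 := by
    rw [vecMulVec_mul_vecMulVec, eL_dot_e0, zero_smul, vecMulVec_zero]
  have h4 : vecMulVec y (eL hn) * vecMulVec y' (eL hn) = 0 := by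
    rw [vecMulVec_mul_vecMulVec, hy', zero_smul, vecMulVec_zero]
  rw [vecMulVec_add, vecMulVec_add, vecMulVec_smul, add_vecMulVec]
  simp only [Matrix.add_mul, Matrix.mul_add, Matrix.one_mul, Matrix.mul_one, h1, h2, h3, h4]
  abel

theorem Mm_zero_right (hn : 3 ≤ n) (χ : Fin n → F) : Mm hn χ 0 = tvM (e0 hn) χ := by
  unfold Mm tvM
  rw [zero_vecMulVec, add_zero]

theorem tvM_mul_eq_Mm (hn : 3 ≤ n) (φ y : Fin n → F) :
    tvM (e0 hn) φ * tvM y (eL hn) = Mm hn (φ + (φ ⬝ᵥ y) • eL hn) y := by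
  rw [tvM_mul_tvM]
  unfold Mm
  rw [vecMulVec_add, vecMulVec_smul]
  abel


theorem InH_mul {H : Subgroup (SpecialLinearGroup (Fin n) F)} {M M' : Matrix (Fin n) (Fin n) F}
    (h : InH H M) (h' : InH H M') : InH H (M * M') := by
  obtain ⟨g, hg, rfl⟩ := h
  obtain ⟨g', hg', rfl⟩ := h'
  exact ⟨g * g', H.mul_mem hg hg', rfl⟩

theorem InH_of_mul_eq_one {H : Subgroup (SpecialLinearGroup (Fin n) F)}
    {M M' : Matrix (Fin n) (Fin n) F} (h : InH H M) (h1 : M * M' = 1) : InH H M' := by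
  obtain ⟨g, hg, rfl⟩ := h
  refine ⟨g⁻¹, H.inv_mem hg, ?_⟩
  have hgg : (g⁻¹ : SpecialLinearGroup (Fin n) F).1 * g.1 = 1 :=
    congrArg Subtype.val (inv_mul_cancel g)
  calc (g⁻¹ : SpecialLinearGroup (Fin n) F).1
      = (g⁻¹ : SpecialLinearGroup (Fin n) F).1 * (g.1 * M') := by rw [h1, Matrix.mul_one]
    _ = M' := by rw [← Matrix.mul_assoc, hgg, Matrix.one_mul]

theorem InH_conj {H : Subgroup (SpecialLinearGroup (Fin n) F)} {M : Matrix (Fin n) (Fin n) F}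
    (x : SpecialLinearGroup (Fin n) F) (hx : x ∈ H) (h : InH H M) :
    InH H (x.1 * M * (x⁻¹ : SpecialLinearGroup (Fin n) F).1) := by
  obtain ⟨g, hg, rfl⟩ := h
  exact ⟨x * g * x⁻¹, H.mul_mem (H.mul_mem hx hg) (H.inv_mem hx), rfl⟩

theorem Mm_zero_zero (hn : 3 ≤ n) : Mm hn (0 : Fin n → F) 0 = 1 := by
  unfold Mm
  rw [zero_vecMulVec, vecMulVec_zero, add_zero, add_zero]

theorem uniq (hn : 3 ≤ n) (H : Subgroup (SpecialLinearGroup (Fin n) F)) (h : CaseII H)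
    (y ψ ψ' : Fin n → F) (hy : eL hn ⬝ᵥ y = 0) (hψ : ψ ⬝ᵥ e0 hn = 0) (hψ' : ψ' ⬝ᵥ e0 hn = 0)
    (h1 : InH H (Mm hn ψ y)) (h2 : InH H (Mm hn ψ' y)) : ψ = ψ' := by
  have hny : eL hn ⬝ᵥ (-y) = 0 := by rw [dotProduct_neg, hy, neg_zero]
  have hinv : Mm hn ψ' y * Mm hn (-ψ' + (ψ' ⬝ᵥ y) • eL hn) (-y) = 1 := by
    rw [Mm_mul hn _ _ _ _ hψ' hny, ← Mm_zero_zero hn]
    congr 1
    · rw [dotProduct_neg, neg_smul]
      abel
    · abel
  have h3 := InH_of_mul_eq_one h2 hinv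
  have h4 := InH_mul h1 h3
  rw [Mm_mul hn _ _ _ _ hψ hny] at h4
  have hy0 : y + -y = 0 := by abel
  rw [hy0, Mm_zero_right] at h4
  set χ : Fin n → F := ψ + (-ψ' + (ψ' ⬝ᵥ y) • eL hn) + (ψ ⬝ᵥ (-y)) • eL hn with hχ
  have hχ0 : χ ⬝ᵥ e0 hn = 0 := by
    rw [hχ]
    simp only [add_dotProduct, neg_dotProduct, smul_dotProduct, hψ, hψ', eL_dot_e0]
    simp
  obtain ⟨g, hg, hgM⟩ := h4
  have hgt : g = tv (e0 hn) χ hχ0 := Subtype.ext hgM
  rw [hgt] at hg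
  have hzero : χ = 0 := (h (e0 hn) (e0_ne_zero hn)).1 χ hχ0 hg
  have hc : (ψ - ψ') ⬝ᵥ y = 0 := by
    have h5 : ψ - ψ' = ((ψ ⬝ᵥ y) - (ψ' ⬝ᵥ y)) • eL hn := by
      have h6 : χ = (ψ - ψ') - ((ψ ⬝ᵥ y) - (ψ' ⬝ᵥ y)) • eL hn := by
        rw [hχ, dotProduct_neg, sub_smul, neg_smul]
        abel
      rw [hzero] at h6
      exact (sub_eq_zero.mp h6.symm)
    rw [h5, smul_dotProduct, hy, smul_zero]
  have h7 : χ = ψ - ψ' := by
    rw [hχ, dotProduct_neg]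
    have : (ψ' ⬝ᵥ y) = (ψ ⬝ᵥ y) := by
      rw [sub_dotProduct] at hc
      exact (sub_eq_zero.mp hc).symm
    rw [this, neg_smul]
    abel
  rw [hzero] at h7
  exact sub_eq_zero.mp h7.symm

theorem exists_psi (hn : 3 ≤ n) (H : Subgroup (SpecialLinearGroup (Fin n) F)) (h : CaseII H)
    (y : Fin n → F) (hy : eL hn ⬝ᵥ y = 0) :
    ∃ ψ : Fin n → F, ψ ⬝ᵥ e0 hn = 0 ∧ InH H (Mm hn ψ y) := by
  have hfix : (tv y (eL hn) hy : SpecialLinearGroup (Fin n) F).1 *ᵥ e0 hn = (1 : F) • e0 hn := by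
    rw [tv_val, tvM_mulVec, eL_dot_e0, zero_smul, add_zero, one_smul]
  obtain ⟨φ, hφ, hmem⟩ := (h (e0 hn) (e0_ne_zero hn)).2 (tv y (eL hn) hy) ⟨1, hfix⟩
  refine ⟨φ + (φ ⬝ᵥ y) • eL hn, ?_, ?_⟩
  · rw [add_dotProduct, smul_dotProduct, hφ, eL_dot_e0, smul_zero, add_zero]
  · exact ⟨_, hmem, tvM_mul_eq_Mm hn φ y⟩


theorem conj_Mm (hn : 3 ≤ n) (X Xi : Matrix (Fin n) (Fin n) F) (hX : X * Xi = 1)
    (ψ y : Fin n → F) :
    X * Mm hn ψ y * Xi =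
      1 + vecMulVec (X *ᵥ e0 hn) (ψ ᵥ* Xi) + vecMulVec (X *ᵥ y) (eL hn ᵥ* Xi) := by
  unfold Mm
  rw [Matrix.mul_add, Matrix.mul_add, Matrix.mul_one, Matrix.add_mul, Matrix.add_mul, hX,
    Matrix.mul_vecMulVec, Matrix.vecMulVec_mul, Matrix.mul_vecMulVec, Matrix.vecMulVec_mul]

theorem exists_Psi (hn : 3 ≤ n) (H : Subgroup (SpecialLinearGroup (Fin n) F)) (h : CaseII H) :
    ∃ Ψ : (Fin n → F) → (Fin n → F), PsiData hn Ψ := by
  classical
  let Ψ : (Fin n → F) → (Fin n → F) := fun y =>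
    if hy : eL hn ⬝ᵥ y = 0 then Classical.choose (exists_psi hn H h y hy) else 0
  have spec : ∀ y : Fin n → F, eL hn ⬝ᵥ y = 0 →
      Ψ y ⬝ᵥ e0 hn = 0 ∧ InH H (Mm hn (Ψ y) y) := by
    intro y hy
    have : Ψ y = Classical.choose (exists_psi hn H h y hy) := dif_pos hy
    rw [this]
    exact Classical.choose_spec (exists_psi hn H h y hy)
  have char : ∀ y ψ : Fin n → F, eL hn ⬝ᵥ y = 0 → ψ ⬝ᵥ e0 hn = 0 → InH H (Mm hn ψ y) →
      Ψ y = ψ := by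
    intro y ψ hy hψ hin
    exact uniq hn H h y (Ψ y) ψ hy (spec y hy).1 hψ (spec y hy).2 hin
  have hadd : ∀ y y' : Fin n → F, eL hn ⬝ᵥ y = 0 → eL hn ⬝ᵥ y' = 0 →
      Ψ (y + y') = Ψ y + Ψ y' + (Ψ y ⬝ᵥ y') • eL hn := by
    intro y y' hy hy'
    have hyy : eL hn ⬝ᵥ (y + y') = 0 := by rw [dotProduct_add, hy, hy', add_zero]
    apply char _ _ hyy
    · rw [add_dotProduct, add_dotProduct, smul_dotProduct, (spec y hy).1, (spec y' hy').1,
        eL_dot_e0, smul_zero, add_zero, add_zero]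
    · rw [← Mm_mul hn _ _ _ _ (spec y hy).1 hy']
      exact InH_mul (spec y hy).2 (spec y' hy').2
  refine ⟨Ψ, ?_, hadd, ?_, ?_, ?_⟩
  · intro y hy
    exact (spec y hy).1
  · intro y y' hy hy'
    have h1 := hadd y y' hy hy'
    have h2 := hadd y' y hy' hy
    rw [add_comm y' y, h1] at h2
    have h3 : (Ψ y ⬝ᵥ y') • (eL hn : Fin n → F) = (Ψ y' ⬝ᵥ y) • (eL hn : Fin n → F) := by
      have : Ψ y + Ψ y' + (Ψ y ⬝ᵥ y') • (eL hn : Fin n → F) =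
          Ψ y + Ψ y' + (Ψ y' ⬝ᵥ y) • (eL hn : Fin n → F) := by
        rw [h2]
        abel
      exact add_left_cancel this
    have h4 := congrFun h3 ⟨n - 1, by omega⟩
    have h5 : (eL hn : Fin n → F) ⟨n - 1, by omega⟩ = 1 := by
      unfold eL
      exact Pi.single_eq_same _ _
    simp only [Pi.smul_apply, h5, smul_eq_mul, mul_one] at h4
    exact h4
  · intro y hy hc
    obtain ⟨c, hc⟩ := hc
    have hin := (spec y hy).2
    rw [hc] at hin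
    have hM : Mm hn (c • eL hn) y = tvM (y + c • e0 hn) (eL hn) := by
      unfold Mm tvM
      rw [vecMulVec_smul, add_vecMulVec, smul_vecMulVec]
      abel
    rw [hM] at hin
    by_cases hv : y + c • e0 hn = 0
    · refine ⟨-c, ?_⟩
      rw [neg_smul]
      exact eq_neg_of_add_eq_zero_left hv
    · exfalso
      have hperp : eL hn ⬝ᵥ (y + c • e0 hn) = 0 := by
        rw [dotProduct_add, dotProduct_smul, hy, eL_dot_e0, smul_zero, add_zero]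
      obtain ⟨g, hg, hgM⟩ := hin
      have hgt : g = tv (y + c • e0 hn) (eL hn) hperp := Subtype.ext hgM
      rw [hgt] at hg
      exact eL_ne_zero hn ((h _ hv).1 (eL hn) hperp hg)
  · intro g α μ hα hμ y hy
    have hgi : (g⁻¹ : SpecialLinearGroup (Fin n) F).1 * g.1 = 1 :=
      congrArg Subtype.val (inv_mul_cancel g)
    have hgi' : g.1 * (g⁻¹ : SpecialLinearGroup (Fin n) F).1 = 1 :=
      congrArg Subtype.val (mul_inv_cancel g)
    have hα0 : α ≠ 0 := by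
      intro h0
      rw [h0, zero_smul] at hα
      have : e0 hn = (g⁻¹ : SpecialLinearGroup (Fin n) F).1 *ᵥ (g.1 *ᵥ e0 hn) := by
        rw [Matrix.mulVec_mulVec, hgi, Matrix.one_mulVec]
      rw [hα, Matrix.mulVec_zero] at this
      exact e0_ne_zero hn this
    have hμ0 : μ ≠ 0 := by
      intro h0
      rw [h0, zero_smul] at hμ
      have : eL hn = (eL hn ᵥ* g.1) ᵥ* (g⁻¹ : SpecialLinearGroup (Fin n) F).1 := by
        rw [Matrix.vecMul_vecMul, hgi', Matrix.vecMul_one]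
      rw [hμ, Matrix.zero_vecMul] at this
      exact eL_ne_zero hn this
    have hginv_e0 : (g⁻¹ : SpecialLinearGroup (Fin n) F).1 *ᵥ e0 hn = α⁻¹ • e0 hn := by
      have h1 : (g⁻¹ : SpecialLinearGroup (Fin n) F).1 *ᵥ (g.1 *ᵥ e0 hn) = e0 hn := by
        rw [Matrix.mulVec_mulVec, hgi, Matrix.one_mulVec]
      rw [hα, Matrix.mulVec_smul] at h1
      calc (g⁻¹ : SpecialLinearGroup (Fin n) F).1 *ᵥ e0 hn
          = α⁻¹ • (α • ((g⁻¹ : SpecialLinearGroup (Fin n) F).1 *ᵥ e0 hn)) := by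
            rw [smul_smul, inv_mul_cancel₀ hα0, one_smul]
        _ = α⁻¹ • e0 hn := by rw [h1]
    have heL_ginv : eL hn ᵥ* (g⁻¹ : SpecialLinearGroup (Fin n) F).1 = μ⁻¹ • eL hn := by
      have h1 : (eL hn ᵥ* g.1) ᵥ* (g⁻¹ : SpecialLinearGroup (Fin n) F).1 = eL hn := by
        rw [Matrix.vecMul_vecMul, hgi', Matrix.vecMul_one]
      rw [hμ, Matrix.smul_vecMul] at h1
      calc eL hn ᵥ* (g⁻¹ : SpecialLinearGroup (Fin n) F).1
          = μ⁻¹ • (μ • (eL hn ᵥ* (g⁻¹ : SpecialLinearGroup (Fin n) F).1)) := by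
            rw [smul_smul, inv_mul_cancel₀ hμ0, one_smul]
        _ = μ⁻¹ • eL hn := by rw [h1]
    obtain ⟨φg, hφg, hx⟩ := (h (e0 hn) (e0_ne_zero hn)).2 g ⟨α, hα⟩
    have hconj := InH_conj _ hx (spec y hy).2
    have hxval : (tv (e0 hn) φg hφg * g : SpecialLinearGroup (Fin n) F).1 =
        tvM (e0 hn) φg * g.1 := rfl
    have hxinv : ((tv (e0 hn) φg hφg * g)⁻¹ : SpecialLinearGroup (Fin n) F).1 =
        (g⁻¹ : SpecialLinearGroup (Fin n) F).1 * tvM (e0 hn) (-φg) := by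
      rw [_root_.mul_inv_rev, tv_inv]
      rfl
    have hXXi : (tv (e0 hn) φg hφg * g : SpecialLinearGroup (Fin n) F).1 *
        ((tv (e0 hn) φg hφg * g)⁻¹ : SpecialLinearGroup (Fin n) F).1 = 1 :=
      congrArg Subtype.val (mul_inv_cancel (tv (e0 hn) φg hφg * g))
    rw [conj_Mm hn _ _ hXXi, hxval, hxinv] at hconj
    have hψ := (spec y hy).1
    have e1 : (tvM (e0 hn) φg * g.1) *ᵥ e0 hn = α • e0 hn := by
      rw [← Matrix.mulVec_mulVec, hα, tvM_mulVec, dotProduct_smul, hφg, smul_zero, zero_smul,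
        add_zero]
    have e2 : (tvM (e0 hn) φg * g.1) *ᵥ y = g.1 *ᵥ y + (φg ⬝ᵥ (g.1 *ᵥ y)) • e0 hn := by
      rw [← Matrix.mulVec_mulVec, tvM_mulVec]
    have e3 : Ψ y ᵥ* ((g⁻¹ : SpecialLinearGroup (Fin n) F).1 * tvM (e0 hn) (-φg)) =
        Ψ y ᵥ* (g⁻¹ : SpecialLinearGroup (Fin n) F).1 := by
      rw [← Matrix.vecMul_vecMul, tvM_vecMul, ← Matrix.dotProduct_mulVec, hginv_e0,
        dotProduct_smul, hψ, smul_zero, zero_smul, add_zero]
    have e4 : eL hn ᵥ* ((g⁻¹ : SpecialLinearGroup (Fin n) F).1 * tvM (e0 hn) (-φg)) =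
        μ⁻¹ • eL hn := by
      rw [← Matrix.vecMul_vecMul, heL_ginv, tvM_vecMul, smul_dotProduct, eL_dot_e0, smul_zero,
        zero_smul, add_zero]
    rw [e1, e2, e3, e4] at hconj
    set κ : F := μ⁻¹ * (φg ⬝ᵥ (g.1 *ᵥ y)) with hκ
    refine ⟨κ, ?_⟩
    have hker : eL hn ⬝ᵥ (μ⁻¹ • (g.1 *ᵥ y)) = 0 := by
      rw [dotProduct_smul, Matrix.dotProduct_mulVec, hμ, smul_dotProduct, hy, smul_zero, smul_zero]
    apply char _ _ hker
    · rw [add_dotProduct, smul_dotProduct, smul_dotProduct, ← Matrix.dotProduct_mulVec, hginv_e0,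
        dotProduct_smul, hψ, eL_dot_e0]
      simp
    · have hM : Mm hn (α • (Ψ y ᵥ* (g⁻¹ : SpecialLinearGroup (Fin n) F).1) + κ • eL hn)
          (μ⁻¹ • (g.1 *ᵥ y)) =
          1 + vecMulVec (α • e0 hn) (Ψ y ᵥ* (g⁻¹ : SpecialLinearGroup (Fin n) F).1) +
            vecMulVec (g.1 *ᵥ y + (φg ⬝ᵥ (g.1 *ᵥ y)) • e0 hn) (μ⁻¹ • eL hn) := by
        unfold Mm
        rw [vecMulVec_add, vecMulVec_smul, vecMulVec_smul, smul_vecMulVec, smul_vecMulVec,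
          add_vecMulVec, vecMulVec_smul, vecMulVec_smul, smul_vecMulVec, hκ]
        module
      rw [hM]
      exact hconj

end Cfsg.Agent.Lib.Helper1.MI
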