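import Mathlib
import Cfsg.Agent.Lib.Helper24.MNP.Defs

/-!
Project MNP, row F6: at most `p ^ m` roots of `X ^ (p ^ m) ∓ X`.
-/

set_option autoImplicit false

namespace Cfsg.Agent.Lib.Helper24.MNP

open scoped commutatorElement
open Cfsg.Agent.Lib.Helper24.SCH (SchAct)

universe u

section F

variable {K : Type u} [Field K] [Finite K] {p q : ℕ} [Fact p.Prime] [Fact q.Prime] [CharP K p]

omit [Finite K] in
/-- at most `n` solutions of `x ^ n = c * x` for `2 ≤ n` -/
theorem mnpf6_card_le (n : ℕ) (hn : 2 ≤ n) (c : K) :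
    Nat.card {x : K // x ^ n = c * x} ≤ n := by
  classical
  set f : Polynomial K := Polynomial.X ^ n - Polynomial.C c * Polynomial.X with hf
  have hdeg : f.natDegree = n := by
    rw [hf, Polynomial.natDegree_sub_eq_left_of_natDegree_lt]
    · exact Polynomial.natDegree_X_pow n
    · rw [Polynomial.natDegree_X_pow]
      calc (Polynomial.C c * Polynomial.X : Polynomial K).natDegree
          ≤ 1 := (Polynomial.natDegree_C_mul_le c Polynomial.X).trans Polynomial.natDegree_X_le
        _ < n := by omega
  have hf0 : f ≠ 0 := by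
    intro h0
    rw [h0, Polynomial.natDegree_zero] at hdeg
    omega
  have hfin : Set.Finite {x : K | x ^ n = c * x} := by
    apply Set.Finite.subset (f.roots.toFinset.finite_toSet)
    intro x hx
    rw [Finset.mem_coe, Multiset.mem_toFinset, Polynomial.mem_roots hf0, Polynomial.IsRoot, hf]
    simp only [Polynomial.eval_sub, Polynomial.eval_pow, Polynomial.eval_X, Polynomial.eval_mul,
      Polynomial.eval_C]
    have hx' : x ^ n = c * x := hx
    rw [hx', sub_self]
  have h1 : Nat.card {x : K // x ^ n = c * x} = hfin.toFinset.card := by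
    show Nat.card ↥{x : K | x ^ n = c * x} = _
    rw [_root_.Nat.card_coe_set_eq, Set.ncard_eq_toFinset_card _ hfin]
  rw [h1]
  refine le_trans (Polynomial.card_le_degree_of_subset_roots (p := f) ?_) (le_of_eq hdeg)
  intro x hx
  rw [Finset.mem_val, Set.Finite.mem_toFinset] at hx
  have hx : x ^ n = c * x := hx
  rw [Polynomial.mem_roots hf0, Polynomial.IsRoot, hf]
  simp only [Polynomial.eval_sub, Polynomial.eval_pow, Polynomial.eval_X, Polynomial.eval_mul,
    Polynomial.eval_C]
  rw [hx, sub_self]

/-- F6 [S-M]. Roots of the polynomials `X ^ (p ^ m) - X` and `X ^ (p ^ m) + X` of degree `p ^ m`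
(`Polynomial.card_roots'`, or `Polynomial.card_le_degree_of_subset_roots`). Does not use `Finite K`. -/
theorem card_half_le {m : ℕ} (hm : 1 ≤ m) :
    Nat.card {x : K // x ^ (p ^ m) = x} ≤ p ^ m ∧ Nat.card {x : K // x ^ (p ^ m) = -x} ≤ p ^ m := by
  have hp : 2 ≤ p := (Fact.out : p.Prime).two_le
  have hn : 2 ≤ p ^ m := by
    calc 2 ≤ p ^ 1 := by rw [pow_one]; exact hp
      _ ≤ p ^ m := Nat.pow_le_pow_right (by omega) hm
  constructor
  · have := mnpf6_card_le (K := K) (p ^ m) hn 1
    simpa only [one_mul] using this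
  · have := mnpf6_card_le (K := K) (p ^ m) hn (-1)
    simpa only [neg_mul, one_mul] using this

end F

end Cfsg.Agent.Lib.Helper24.MNP
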