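import Mathlib
import Cfsg.Agent.Lib.Helper24.MNP.Defs
import Cfsg.Agent.Lib.Helper1.MNPF6

/-!
Project MNP, row F7: the structure of `K` under the involution `σ = Frob ^ m`, `|K| = p ^ (2 m)`.
-/

set_option autoImplicit false

namespace Cfsg.Agent.Lib.Helper24.MNP

open scoped commutatorElement
open Cfsg.Agent.Lib.Helper24.SCH (SchAct)

universe u

/-- counting lemma: kernel inside `SA`, image inside `SB`, `|SA| ≤ a`, `|SB| ≤ b`, `|A| = a b`. -/
theorem mnpf7_count {A : Type*} [AddCommGroup A] [Finite A] (f : A →+ A) (SA SB : Set A)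
    (hker : ∀ x, f x = 0 → x ∈ SA) (hrange : ∀ x, f x ∈ SB) (a b : ℕ)
    (ha : SA.ncard ≤ a) (hb : SB.ncard ≤ b) (hab : Nat.card A = a * b) :
    SA.ncard = a ∧ SB.ncard = b ∧ ∀ y ∈ SB, ∃ x, f x = y := by
  have hcard : Nat.card f.ker * Nat.card f.range = Nat.card A := by
    rw [← AddSubgroup.index_ker f]
    exact AddSubgroup.card_mul_index f.ker
  have hk : Nat.card f.ker ≤ SA.ncard := by
    have : Nat.card f.ker = ((f.ker : AddSubgroup A) : Set A).ncard := rfl
    rw [this]
    apply Set.ncard_le_ncard _ (Set.toFinite SA)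
    intro x hx
    exact hker x ((AddMonoidHom.mem_ker).1 hx)
  have hr : Nat.card f.range ≤ SB.ncard := by
    have : Nat.card f.range = ((f.range : AddSubgroup A) : Set A).ncard := rfl
    rw [this]
    apply Set.ncard_le_ncard _ (Set.toFinite SB)
    rintro y ⟨x, rfl⟩
    exact hrange x
  have hApos : 0 < Nat.card A := Nat.card_pos
  have hapos : 0 < a := by
    rcases Nat.eq_zero_or_pos a with h | h
    · rw [h, zero_mul] at hab; omega
    · exact h
  have hbpos : 0 < b := by
    rcases Nat.eq_zero_or_pos b with h | h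
    · rw [h, mul_zero] at hab; omega
    · exact h
  have hk' : Nat.card f.ker ≤ a := hk.trans ha
  have hr' : Nat.card f.range ≤ b := hr.trans hb
  have hka : Nat.card f.ker = a := by
    by_contra hne
    have hlt : Nat.card f.ker < a := lt_of_le_of_ne hk' hne
    have : Nat.card f.ker * Nat.card f.range < a * b :=
      calc Nat.card f.ker * Nat.card f.range ≤ Nat.card f.ker * b := Nat.mul_le_mul_left _ hr'
        _ < a * b := Nat.mul_lt_mul_of_pos_right hlt hbpos
    rw [hcard, hab] at this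
    exact lt_irrefl _ this
  have hrb : Nat.card f.range = b := by
    by_contra hne
    have hlt : Nat.card f.range < b := lt_of_le_of_ne hr' hne
    have : Nat.card f.ker * Nat.card f.range < a * b :=
      calc Nat.card f.ker * Nat.card f.range ≤ a * Nat.card f.range := Nat.mul_le_mul_right _ hk'
        _ < a * b := Nat.mul_lt_mul_of_pos_left hlt hapos
    rw [hcard, hab] at this
    exact lt_irrefl _ this
  refine ⟨le_antisymm ha (hka ▸ hk), le_antisymm hb (hrb ▸ hr), ?_⟩
  have hsub : ((f.range : AddSubgroup A) : Set A) ⊆ SB := by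
    rintro y ⟨x, rfl⟩
    exact hrange x
  have heq : ((f.range : AddSubgroup A) : Set A) = SB := by
    apply Set.eq_of_subset_of_ncard_le hsub _ (Set.toFinite SB)
    have : ((f.range : AddSubgroup A) : Set A).ncard = Nat.card f.range := rfl
    rw [this, hrb]
    exact hb
  intro y hy
  rw [← heq] at hy
  exact hy

section F

variable {K : Type u} [Field K] [Finite K] {p q : ℕ} [Fact p.Prime] [Fact q.Prime] [CharP K p]

/-- F7 [M]. `f₊ = 1 + σ`, `f₋ = σ - 1` are additive endomorphisms of `K` with `ker f₋ = k := {σ x = x}`,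
`ker f₊ = K₋ := {σ x = -x}`, `im f₊ ⊆ k`, `im f₋ ⊆ K₋`; `|K| = |ker| |im|` gives
`p ^ (2 m) = |k| |im f₋| ≤ |k| |K₋| ≤ p ^ m p ^ m` (F6), so equality everywhere. -/
theorem half_structure {m : ℕ} (hm : 1 ≤ m) (hK : Nat.card K = p ^ (2 * m)) (σ : InvHom K)
    (hσ : ∀ x, σ.s x = x ^ (p ^ m)) :
    Nat.card {x : K // σ.s x = -x} = p ^ m ∧ (∀ t, σ.s t = t → ∃ w, t = w + σ.s w) ∧
      ∀ t, σ.s t = -t → ∃ w, t = σ.s w - w := by
  obtain ⟨h6a, h6b⟩ := card_half_le (K := K) (p := p) hm
  have hPA : {x : K | σ.s x = x}.ncard ≤ p ^ m := by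
    have : {x : K | σ.s x = x} = {x : K | x ^ (p ^ m) = x} := by
      ext x
      show σ.s x = x ↔ x ^ (p ^ m) = x
      rw [hσ]
    rw [this, ← _root_.Nat.card_coe_set_eq]
    exact h6a
  have hPB : {x : K | σ.s x = -x}.ncard ≤ p ^ m := by
    have : {x : K | σ.s x = -x} = {x : K | x ^ (p ^ m) = -x} := by
      ext x
      show σ.s x = -x ↔ x ^ (p ^ m) = -x
      rw [hσ]
    rw [this, ← _root_.Nat.card_coe_set_eq]
    exact h6b
  have hab : Nat.card K = p ^ m * p ^ m := by
    rw [hK, ← pow_add]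
    congr 1
    ring
  set fm : K →+ K := σ.s.toAddMonoidHom - AddMonoidHom.id K with hfm
  set fp : K →+ K := AddMonoidHom.id K + σ.s.toAddMonoidHom with hfp
  have hfm_apply : ∀ w, fm w = σ.s w - w := fun w => rfl
  have hfp_apply : ∀ w, fp w = w + σ.s w := fun w => rfl
  obtain ⟨_, h2, h3⟩ := mnpf7_count fm {x : K | σ.s x = x} {x : K | σ.s x = -x}
    (fun x hx => by
      rw [hfm_apply, sub_eq_zero] at hx
      exact hx)
    (fun x => by
      show σ.s (fm x) = -(fm x)
      rw [hfm_apply, map_sub, σ.inv]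
      ring)
    (p ^ m) (p ^ m) hPA hPB hab
  obtain ⟨_, _, h5⟩ := mnpf7_count fp {x : K | σ.s x = -x} {x : K | σ.s x = x}
    (fun x hx => by
      rw [hfp_apply] at hx
      show σ.s x = -x
      linear_combination hx)
    (fun x => by
      show σ.s (fp x) = fp x
      rw [hfp_apply, map_add, σ.inv]
      ring)
    (p ^ m) (p ^ m) hPB hPA hab
  refine ⟨?_, ?_, ?_⟩
  · show Nat.card ↥{x : K | σ.s x = -x} = p ^ m
    rw [_root_.Nat.card_coe_set_eq]
    exact h2
  · intro t ht
    obtain ⟨w, hw⟩ := h5 t ht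
    exact ⟨w, by rw [← hw, hfp_apply]⟩
  · intro t ht
    obtain ⟨w, hw⟩ := h3 t ht
    exact ⟨w, by rw [← hw, hfm_apply]⟩

end F

end Cfsg.Agent.Lib.Helper24.MNP
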