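import Mathlib
import Cfsg.Agent.Lib.Helper24.MNP.Defs
import Cfsg.Agent.Lib.Helper1.MNPF7
import Cfsg.Agent.Lib.Helper26.MNPF2
import Cfsg.Agent.Lib.Helper9.MNPF4

/-!
Project MNP, row F8: an invariant alternating biadditive form on `K` (`|K| = p ^ (2 m)`) is
`L (x σ y)` with `L` additive, vanishing on the fixed field of `σ`.
-/

set_option autoImplicit false

namespace Cfsg.Agent.Lib.Helper24.MNP

open scoped commutatorElement
open Cfsg.Agent.Lib.Helper24.SCH (SchAct)

universe u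

section F

variable {K : Type u} [Field K] [Finite K] {p q : ℕ} [Fact p.Prime] [Fact q.Prime] [CharP K p]

omit [Finite K] in
/-- F8 (core): the statements of F2 (`hF2`), F4 (`hF4`) and F7 (`hF7`, second part) are
hypotheses. -/
theorem mnpf8_core (ζ : K) (σ : InvHom K)
    (hF2 : AddSubgroup.closure (Set.range fun j : ℕ => ζ ^ j) = ⊤)
    (hF4 : σ.s ζ * ζ = 1)
    (hF7 : ∀ t, σ.s t = t → ∃ w, t = w + σ.s w)
    {Z : Type u} [AddCommGroup Z] (β : K → K → Z)
    (hadd1 : ∀ x x' y, β (x + x') y = β x y + β x' y) (hadd2 : ∀ x y y', β x (y + y') = β x y + β x y')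
    (halt : ∀ x, β x x = 0) (hinv : ∀ x y, β (ζ * x) (ζ * y) = β x y) :
    ∃ L : K →+ Z, (∀ x y, β x y = L (x * σ.s y)) ∧ ∀ t, σ.s t = t → L t = 0 := by
  have hζ0 : ζ ≠ 0 := by
    rintro rfl
    rw [mul_zero] at hF4
    exact zero_ne_one hF4
  have hσζ : σ.s ζ = ζ⁻¹ := eq_inv_of_mul_eq_one_left hF4
  -- zero and negation for `β`
  have hz1 : ∀ y, β 0 y = 0 := by
    intro y
    have := hadd1 0 0 y
    rw [add_zero] at this
    exact (add_eq_left.1 this.symm)
  have hz2 : ∀ x, β x 0 = 0 := by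
    intro x
    have := hadd2 x 0 0
    rw [add_zero] at this
    exact (add_eq_left.1 this.symm)
  have hn2 : ∀ x y, β x (-y) = -β x y := by
    intro x y
    have := hadd2 x y (-y)
    rw [add_neg_cancel, hz2] at this
    exact (neg_eq_of_add_eq_zero_right this.symm).symm
  -- the additive map `L = β (·, 1)`
  let L : K →+ Z :=
    { toFun := fun x => β x 1
      map_zero' := hz1 1
      map_add' := fun x x' => hadd1 x x' 1 }
  have hL : ∀ x, L x = β x 1 := fun x => rfl
  -- the additive subgroup of good `y`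
  let A : AddSubgroup K :=
    { carrier := {y | ∀ x, β x y = β (x * σ.s y) 1}
      zero_mem' := by
        intro x
        rw [hz2, map_zero, mul_zero, hz1]
      add_mem' := by
        intro y y' hy hy' x
        rw [hadd2, hy x, hy' x, map_add, mul_add, hadd1]
      neg_mem' := by
        intro y hy x
        rw [hn2, hy x, map_neg, mul_neg]
        have := hadd1 (x * σ.s y) (-(x * σ.s y)) 1
        rw [add_neg_cancel, hz1] at this
        exact (neg_eq_of_add_eq_zero_right this.symm) }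
  have hA : ∀ y, y ∈ A ↔ ∀ x, β x y = β (x * σ.s y) 1 := fun y => Iff.rfl
  have hA1 : (1 : K) ∈ A := by
    intro x
    rw [map_one, mul_one]
  have hAζ : ∀ y ∈ A, ζ * y ∈ A := by
    intro y hy x
    have h1 : β x (ζ * y) = β (ζ⁻¹ * x) y := by
      have := hinv (ζ⁻¹ * x) y
      rw [← mul_assoc, mul_inv_cancel₀ hζ0, one_mul] at this
      exact this
    rw [h1, hy (ζ⁻¹ * x), map_mul, hσζ]
    congr 1
    ring
  have hApow : ∀ j : ℕ, ζ ^ j ∈ A := by
    intro j
    induction j with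
    | zero => rw [pow_zero]; exact hA1
    | succ j ih =>
      rw [pow_succ, mul_comm]
      exact hAζ _ ih
  have hAtop : A = ⊤ := by
    apply top_le_iff.1
    rw [← hF2, AddSubgroup.closure_le]
    rintro _ ⟨j, rfl⟩
    exact hApow j
  have hform : ∀ x y, β x y = L (x * σ.s y) := by
    intro x y
    have : y ∈ A := by rw [hAtop]; exact AddSubgroup.mem_top y
    exact this x
  refine ⟨L, hform, ?_⟩
  intro t ht
  obtain ⟨w, rfl⟩ := hF7 t ht
  have hLn : ∀ x, L (x * σ.s x) = 0 := by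
    intro x
    rw [← hform, halt]
  have e : w + σ.s w = (w + 1) * σ.s (w + 1) - w * σ.s w - 1 * σ.s 1 := by
    rw [map_add, map_one]
    ring
  rw [e, map_sub, map_sub, hLn, hLn, hLn, sub_zero, sub_zero]

/-- F8 [M]. `L := β (·, 1)`.  `{y | ∀ x, β x y = β (x * σ y) 1}` is an additive subgroup containing `1` and closed
under `y ↦ ζ y` (`β x (ζ y) = β (ζ⁻¹ x) y`, `σ ζ = ζ⁻¹` by F4), so it contains all `ζ ^ j` and is `⊤` (F2).
For `σ t = t` write `t = w + σ w` (F7) `= (w + 1) σ (w + 1) - w σ w - 1 σ 1` and use `L (x σ x) = β x x = 0`. -/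
theorem univ_form_even (hpq : p ≠ q) {m : ℕ} (hm : 1 ≤ m) (hK : Nat.card K = p ^ (2 * m))
    (ha : 2 * m = orderOf (p : ZMod q)) (ζ : K) (hζ : orderOf ζ = q) (σ : InvHom K)
    (hσ : ∀ x, σ.s x = x ^ (p ^ m)) {Z : Type u} [AddCommGroup Z] (β : K → K → Z)
    (hadd1 : ∀ x x' y, β (x + x') y = β x y + β x' y) (hadd2 : ∀ x y y', β x (y + y') = β x y + β x y')
    (halt : ∀ x, β x x = 0) (hinv : ∀ x y, β (ζ * x) (ζ * y) = β x y) :
    ∃ L : K →+ Z, (∀ x y, β x y = L (x * σ.s y)) ∧ ∀ t, σ.s t = t → L t = 0 := by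
  have hF4 : σ.s ζ * ζ = 1 := by
    rw [hσ]
    exact zeta_pow_half hpq ha ζ hζ
  exact mnpf8_core ζ σ (span_zeta hpq hK ha ζ hζ) hF4 (half_structure hm hK σ hσ).2.1 β hadd1 hadd2
    halt hinv

end F

end Cfsg.Agent.Lib.Helper24.MNP
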