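import Mathlib

set_option autoImplicit false

namespace Cfsg.Agent.Lib.Helper27.MSS

theorem msscard2_card_gl (q : ℕ) [Fact q.Prime] (n : ℕ) (hn : q = n + 1) :
    Nat.card (GL (Fin 2) (ZMod q)) = (n * (n + 2)) * ((n + 1) * n) := by
  have h1 := Matrix.card_GL_field (𝔽 := ZMod q) 2
  rw [Fin.prod_univ_two, ZMod.card] at h1
  rw [h1, hn]
  have e1 : (n + 1) ^ 2 - (n + 1) ^ ((0 : Fin 2) : ℕ) = n * (n + 2) := by
    have : (n + 1) ^ 2 = n * (n + 2) + 1 := by ring
    simp only [Fin.val_zero, pow_zero]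
    omega
  have e2 : (n + 1) ^ 2 - (n + 1) ^ ((1 : Fin 2) : ℕ) = (n + 1) * n := by
    have : (n + 1) ^ 2 = (n + 1) * n + (n + 1) := by ring
    simp only [Fin.val_one, pow_one]
    omega
  rw [e1, e2]

theorem msscard2_card_ker (q : ℕ) [Fact q.Prime] (n : ℕ) (hn : q = n + 1) :
    Nat.card (MonoidHom.ker
      (Matrix.GeneralLinearGroup.det : GL (Fin 2) (ZMod q) →* (ZMod q)ˣ)) = n * (n + 1) * (n + 2) := by
  have hq : q.Prime := Fact.out
  have hn0 : 0 < n := by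
    have := hq.two_le
    omega
  set K := MonoidHom.ker
    (Matrix.GeneralLinearGroup.det : GL (Fin 2) (ZMod q) →* (ZMod q)ˣ) with hK
  have hidx : K.index = n := by
    rw [hK, Subgroup.index_ker]
    have hsurj : Function.Surjective
        (Matrix.GeneralLinearGroup.det : GL (Fin 2) (ZMod q) →* (ZMod q)ˣ) :=
      Matrix.GeneralLinearGroup.det_surjective
    rw [MonoidHom.range_eq_top.mpr hsurj, Subgroup.card_top, Nat.card_eq_fintype_card,
      ZMod.card_units_eq_totient, Nat.totient_prime hq, hn]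
    simp
  have h1 := Subgroup.card_mul_index K
  rw [hidx, msscard2_card_gl q n hn] at h1
  have h2 : Nat.card K * n = (n * (n + 1) * (n + 2)) * n := by
    rw [h1]; ring
  exact Nat.eq_of_mul_eq_mul_right hn0 h2

theorem card_sl_two (q k : ℕ) [Fact q.Prime] (hk : 3 ≤ k) (hq : q % 2 ^ k = 2 ^ (k - 1) - 1) :
    ∃ m : ℕ, Odd m ∧ Nat.card (MonoidHom.ker
      (Matrix.GeneralLinearGroup.det : GL (Fin 2) (ZMod q) →* (ZMod q)ˣ)) = 2 ^ k * m := by
  obtain ⟨j, rfl⟩ : ∃ j, k = j + 3 := ⟨k - 3, by omega⟩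
  have hdm := Nat.div_add_mod q (2 ^ (j + 3))
  rw [hq] at hdm
  set t := q / 2 ^ (j + 3) with ht
  set b := 2 ^ j with hb
  have hb0 : 0 < b := by rw [hb]; positivity
  have e3 : 2 ^ (j + 3) = 8 * b := by rw [hb]; ring
  have e2 : 2 ^ (j + 3 - 1) = 4 * b := by
    rw [show j + 3 - 1 = j + 2 by omega, hb]; ring
  rw [e3, e2] at hdm
  set w := b * (2 * t + 1) with hw
  have hw0 : 0 < w := by rw [hw]; positivity
  have hw' : 8 * b * t + 4 * b = 4 * w := by rw [hw]; ring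
  have hqv : q = (2 * (2 * w - 1)) + 1 := by omega
  have hker := msscard2_card_ker q (2 * (2 * w - 1)) hqv
  refine ⟨(2 * w - 1) * q * (2 * t + 1), ?_, ?_⟩
  · have ho1 : Odd (2 * w - 1) := ⟨w - 1, by omega⟩
    have ho2 : Odd q := ⟨2 * w - 1, by omega⟩
    have ho3 : Odd (2 * t + 1) := ⟨t, rfl⟩
    exact (ho1.mul ho2).mul ho3
  · rw [hker, e3]
    have e5 : 2 * (2 * w - 1) + 1 = q := hqv.symm
    have e6 : 2 * (2 * w - 1) + 2 = 4 * (b * (2 * t + 1)) := by
      rw [← hw]; omega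
    rw [e5, e6]
    ring

end Cfsg.Agent.Lib.Helper27.MSS
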