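import Mathlib

set_option autoImplicit false

namespace Cfsg.Agent.Lib.Helper27.MSS

theorem msspow2_of_two_mul {n m c : ℕ} (hc : 0 < c) (h : c * n = 2 ^ m) : ∃ j : ℕ, n = 2 ^ j := by
  have hdvd : n ∣ 2 ^ m := Dvd.intro_left c h
  obtain ⟨j, _, hj⟩ := (Nat.dvd_prime_pow Nat.prime_two).mp hdvd
  exact ⟨j, hj⟩

theorem dihedral_pow_two {X : Type*} [Group X] [Finite X] (hX : IsPGroup 2 X) (n : ℕ)
    (e : X ≃* DihedralGroup n) : ∃ j : ℕ, n = 2 ^ j := by
  haveI : Fact (Nat.Prime 2) := ⟨Nat.prime_two⟩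
  obtain ⟨m, hm⟩ := IsPGroup.iff_card.mp hX
  have h1 : Nat.card X = Nat.card (DihedralGroup n) := Nat.card_congr e.toEquiv
  rw [DihedralGroup.nat_card, hm] at h1
  exact msspow2_of_two_mul (by norm_num) h1.symm

theorem quaternion_pow_two {X : Type*} [Group X] [Finite X] (hX : IsPGroup 2 X) (n : ℕ)
    (e : X ≃* QuaternionGroup n) : ∃ j : ℕ, n = 2 ^ j := by
  haveI : Fact (Nat.Prime 2) := ⟨Nat.prime_two⟩
  obtain ⟨m, hm⟩ := IsPGroup.iff_card.mp hX
  have h1 : Nat.card X = Nat.card (QuaternionGroup n) := Nat.card_congr e.toEquiv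
  have hn : n ≠ 0 := by
    rintro rfl
    haveI : Finite (QuaternionGroup 0) := Finite.of_equiv X e.toEquiv
    have hinf : Infinite (QuaternionGroup 0) := by
      have : Infinite (ZMod (2 * 0)) := by
        simp only [mul_zero]
        exact (inferInstance : Infinite ℤ)
      exact Infinite.of_injective (fun i : ZMod (2 * 0) => QuaternionGroup.a i)
        (fun i j h => by injection h)
    exact not_finite (QuaternionGroup 0)
  haveI : NeZero n := ⟨hn⟩
  rw [Nat.card_eq_fintype_card (α := QuaternionGroup n), QuaternionGroup.card, hm] at h1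
  exact msspow2_of_two_mul (by norm_num) h1.symm

end Cfsg.Agent.Lib.Helper27.MSS
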