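import Mathlib
import Cfsg.Agent.Lib.Helper27.MSS.Base

set_option autoImplicit false

namespace Cfsg.Agent.Lib.Helper27.MSS

open Cfsg.Agent.Lib.Helper27.AbInvNeg

def mssv4_f : DihedralGroup 2 → DihedralGroup 2
  | DihedralGroup.r i => if i = 0 then DihedralGroup.r 0 else DihedralGroup.sr 0
  | DihedralGroup.sr i => if i = 0 then DihedralGroup.sr 1 else DihedralGroup.r 1

theorem mssv4_f_mul : ∀ x y : DihedralGroup 2, mssv4_f (x * y) = mssv4_f x * mssv4_f y := by
  decide

theorem mssv4_f_cube : ∀ x : DihedralGroup 2, mssv4_f (mssv4_f (mssv4_f x)) = x := by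
  decide

def mssv4_phi : MulAut (DihedralGroup 2) where
  toFun := mssv4_f
  invFun := fun x => mssv4_f (mssv4_f x)
  left_inv := fun x => mssv4_f_cube x
  right_inv := fun x => mssv4_f_cube x
  map_mul' := mssv4_f_mul

theorem mssv4_phi_ne_one : mssv4_phi ≠ 1 := by
  intro h
  have h1 : mssv4_phi (DihedralGroup.r 1) = DihedralGroup.r 1 := by rw [h]; rfl
  revert h1
  decide

theorem mssv4_phi_pow_three : mssv4_phi ^ 3 = 1 := by
  ext x
  show mssv4_f (mssv4_f (mssv4_f x)) = x
  exact mssv4_f_cube x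

theorem mssv4_orderOf : orderOf mssv4_phi = 3 := by
  haveI : Fact (Nat.Prime 3) := ⟨Nat.prime_three⟩
  exact orderOf_eq_prime mssv4_phi_pow_three mssv4_phi_ne_one

theorem not_smallAut_dihedral_two : ¬ SmallAut 2 (DihedralGroup 2) := by
  intro h
  have hcard : Nat.card (Subgroup.zpowers mssv4_phi) = 3 := by
    rw [Nat.card_zpowers, mssv4_orderOf]
  obtain ⟨-, h2⟩ := h (Subgroup.zpowers mssv4_phi) (by rw [hcard]; norm_num)
  have h3 := h2 mssv4_phi (Subgroup.mem_zpowers _)
  rw [show (2 - 1 : ℕ) = 1 from rfl, pow_one] at h3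
  exact mssv4_phi_ne_one h3

end Cfsg.Agent.Lib.Helper27.MSS
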