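import Mathlib
import Cfsg.Agent.Lib.helper8.SylowBasic
import Cfsg.Agent.Lib.helper8.SimpleEmbed
import Cfsg.Agent.Lib.helper8.Burnside

set_option autoImplicit false
set_option linter.unusedVariables false
set_option linter.unusedSectionVars false

namespace Cfsg.Agent.Lib.Helper10.N5400

open Classical

open Cfsg.Agent.Lib.helper8

universe u

variable {G : Type u} [Group G] [Finite G]

theorem setup [IsSimpleGroup G] (hG : Nat.card G = 5400) (P : Sylow 5 G) :
    Nat.card ↥(P : Subgroup G) = 25 ∧ Nat.card (Sylow 5 G) = 36 ∧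
      Nat.card ↥(Subgroup.normalizer ((P : Subgroup G) : Set G)) = 150 := by
  have : Fact (Nat.Prime 5) := ⟨by norm_num⟩
  have hG' : Nat.card G = 5 ^ 2 * 216 := by rw [hG]; norm_num
  have hnd : ¬ 5 ∣ 216 := by norm_num
  have hnc : ¬ IsMulCommutative G := h8_not_comm_of_card (by rw [hG]; norm_num)
  have hP : Nat.card ↥(P : Subgroup G) = 25 := by
    have := h8_sylow_card 5 2 216 hG' hnd P
    simpa using this
  have hmem := h8_nsylow_mem 5 2 216 hG' hnd
  have hne1 := h8_simple_nsylow_ne_one 5 2 216 hG' hnd (by norm_num) (by norm_num)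
  have hNn := h8_card_normalizer_sylow 5 P
  have hdiv : (Nat.divisors 216).filter (fun d => d % 5 = 1) = {1, 6, 36, 216} := by decide
  rw [hdiv] at hmem
  simp only [Finset.mem_insert, Finset.mem_singleton] at hmem
  rw [hG] at hNn
  rcases hmem with h | h | h | h
  · exact absurd h hne1
  · exfalso
    have hidx := h8_nsylow_eq_index_normalizer 5 P
    have hNtop : Subgroup.normalizer ((P : Subgroup G) : Set G) ≠ ⊤ := by
      intro htop
      rw [htop, Subgroup.index_top] at hidx
      omega
    have := h8_simple_two_mul_card_dvd_factorial hnc _ hNtop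
    rw [← hidx, h, hG] at this
    revert this
    decide
  · refine ⟨hP, h, ?_⟩
    rw [h] at hNn
    omega
  · exfalso
    rw [h] at hNn
    have hN : Nat.card ↥(Subgroup.normalizer ((P : Subgroup G) : Set G)) = 25 := by omega
    have hle : (P : Subgroup G) ≤ Subgroup.normalizer ((P : Subgroup G) : Set G) :=
      Subgroup.le_normalizer
    have heq : (P : Subgroup G) = Subgroup.normalizer ((P : Subgroup G) : Set G) := by
      apply Subgroup.eq_of_le_of_card_ge hle
      rw [hN, hP]
    apply h8_simple_not_normalizer_le_centralizer 5 2 216 hG' hnd (by norm_num) (by norm_num) P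
    intro x hx
    rw [← heq] at hx
    rw [Subgroup.mem_centralizer_iff]
    intro y hy
    exact h8_comm_of_card_prime_sq 5 (P : Subgroup G) (by rw [hP]; norm_num) y hy x hx

end Cfsg.Agent.Lib.Helper10.N5400
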