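import Mathlib

set_option autoImplicit false
set_option linter.unusedVariables false
set_option linter.unusedSectionVars false

namespace Cfsg.Agent.Lib.Helper10.N5400

open Classical

universe u

variable {G : Type u} [Group G] [Finite G]

theorem stab_card (p : ℕ) [Fact p.Prime] (P Q : Sylow p G) :
    ∃ j : ℕ, j ∣ (P : Subgroup G).relIndex (Subgroup.normalizer ((P : Subgroup G) : Set G)) ∧
      Nat.card ↥(Subgroup.normalizer ((P : Subgroup G) : Set G) ⊓ Subgroup.normalizer ((Q : Subgroup G) : Set G)) =
        Nat.card ↥((P : Subgroup G) ⊓ (Q : Subgroup G)) * j := by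
  set N := Subgroup.normalizer ((P : Subgroup G) : Set G) with hNdef
  set T := N ⊓ Subgroup.normalizer ((Q : Subgroup G) : Set G) with hTdef
  have hTN : T ≤ N := inf_le_left
  have hPN : (P : Subgroup G) ≤ N := Subgroup.le_normalizer
  have hinf : (P : Subgroup G) ⊓ T = (P : Subgroup G) ⊓ (Q : Subgroup G) := by
    rw [hTdef, ← inf_assoc, inf_eq_left.mpr hPN]
    exact P.2.inf_normalizer_sylow Q
  refine ⟨(P : Subgroup G).relIndex T, ?_, ?_⟩
  · have hnorm : ((P : Subgroup G).subgroupOf N).Normal := Subgroup.normal_in_normalizer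
    have h1 : ((P : Subgroup G).subgroupOf N).relIndex (T.subgroupOf N) ∣
        ((P : Subgroup G).subgroupOf N).index :=
      Subgroup.relIndex_dvd_index_of_normal _ _
    rw [Subgroup.relIndex_subgroupOf hTN] at h1
    exact h1
  · have h2 := Subgroup.relIndex_mul_relIndex (⊥ : Subgroup G) ((P : Subgroup G) ⊓ T) T bot_le
      inf_le_right
    rw [Subgroup.relIndex_bot_left, Subgroup.relIndex_bot_left, Subgroup.inf_relIndex_right,
      hinf] at h2
    exact h2.symm

end Cfsg.Agent.Lib.Helper10.N5400
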