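import Mathlib
import Cfsg.Agent.Lib.helper7.NCV.Defs

/-!
Project NCV, row A4 (GT): in a nilpotent group a nonempty set closed under `a ↦ [d, a]`
contains `1`.
-/

set_option autoImplicit false

namespace Cfsg.Agent.Lib.helper7.NCV

open Matrix
open scoped commutatorElement

universe u

variable {F : Type u} [Field F] {n : ℕ}

theorem gt_abstract {Γ : Type*} [Group Γ] [Group.IsNilpotent Γ] (d : Γ) (S : Set Γ) (a₀ : Γ)
    (ha₀ : a₀ ∈ S) (hS : ∀ a ∈ S, d * a * d⁻¹ * a⁻¹ ∈ S) : (1 : Γ) ∈ S := by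
  have key : ∀ k : ℕ, ∃ a ∈ S, a ∈ (⊤ : Subgroup Γ).lowerCentralSeries k := by
    intro k
    induction k with
    | zero => exact ⟨a₀, ha₀, by rw [Subgroup.lowerCentralSeries_zero]; exact Subgroup.mem_top _⟩
    | succ k ih =>
      obtain ⟨a, haS, hak⟩ := ih
      refine ⟨d * a * d⁻¹ * a⁻¹, hS a haS, ?_⟩
      rw [Subgroup.lowerCentralSeries_succ]
      have h1 : ⁅d, a⁆ ∈ ⁅(⊤ : Subgroup Γ), (⊤ : Subgroup Γ).lowerCentralSeries k⁆ :=
        Subgroup.commutator_mem_commutator (Subgroup.mem_top d) hak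
      rw [Subgroup.commutator_comm] at h1
      rw [commutatorElement_def] at h1
      exact h1
  obtain ⟨k, hk⟩ := Subgroup.nilpotent_iff_lowerCentralSeries.1
    (inferInstance : Group.IsNilpotent Γ)
  obtain ⟨a, haS, hak⟩ := key k
  rw [hk, Subgroup.mem_bot] at hak
  rw [← hak]
  exact haS

end Cfsg.Agent.Lib.helper7.NCV
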