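import Mathlib
import Cfsg.Agent.Lib.helper7.NCV.Defs

/-!
Project NCV, row A5 (LR), corrected statement (with the hypothesis `act u v = v`).
-/

set_option autoImplicit false

namespace Cfsg.Agent.Lib.helper7.NCV

open Matrix
open scoped commutatorElement

universe u

variable {F : Type u} [Field F] {n : ℕ}

/-- **A5 (LR)**, with the hypothesis `huv : act u v = v`. -/
theorem ncva5_core {Γ : Type*} [Group Γ] [Group.IsNilpotent Γ] {V : Type*} [AddCommGroup V]
    [Module F V] (act : Γ → V → V) (h1 : ∀ w, act 1 w = w)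
    (hmul : ∀ x y w, act (x * y) w = act x (act y w))
    (hsm : ∀ x (c : F) w, act x (c • w) = c • act x w)
    (u : Γ) (v : V) (huv : act u v = v) (hfix : ∀ w, act u w = w → ∃ c : F, w = c • v)
    (heig : ∀ (c : F) (w : V), w ≠ 0 → act u w = c • w → c = 1) :
    ∀ x : Γ, ∃ c : F, act x v = c • v := by
  have key : ∀ i : ℕ, ∀ x ∈ Subgroup.upperCentralSeries Γ i, ∃ c : F, act x v = c • v := by
    intro i
    induction i with
    | zero =>
      intro x hx
      rw [Subgroup.upperCentralSeries_zero, Subgroup.mem_bot] at hx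
      exact ⟨1, by rw [hx, h1, one_smul]⟩
    | succ i ih =>
      intro x hx
      have hx' : x⁻¹ ∈ Subgroup.upperCentralSeries Γ (i + 1) := Subgroup.inv_mem _ hx
      have hz : ⁅x⁻¹, u⁆ ∈ Subgroup.upperCentralSeries Γ i :=
        Subgroup.mem_upperCentralSeries_succ_iff.1 hx' u
      obtain ⟨c, hc⟩ := ih _ hz
      have e : u * x = x * ⁅x⁻¹, u⁆ * u := by
        rw [commutatorElement_def]
        group
      have h2 : act u (act x v) = c • act x v := by
        rw [← hmul, e, hmul, hmul, huv, hc, hsm]
      by_cases h0 : act x v = 0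
      · refine ⟨0, ?_⟩
        rw [h0, zero_smul]
      · have hc1 : c = 1 := heig c _ h0 h2
        rw [hc1, one_smul] at h2
        exact hfix _ h2
  obtain ⟨k, hk⟩ := (Group.isNilpotent_iff (G := Γ)).1 inferInstance
  intro x
  exact key k x (by rw [hk]; exact Subgroup.mem_top x)

end Cfsg.Agent.Lib.helper7.NCV
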