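import Mathlib
import Cfsg.Agent.Lib.helper7.NCV.Defs
import Cfsg.Agent.Lib.Helper1.NCVA5core

/-!
Project NCV, row A5 (LR), verbatim (statement as patched by helper7: with `huv`).
-/

set_option autoImplicit false

namespace Cfsg.Agent.Lib.helper7.NCV

open Matrix

universe u

variable {F : Type u} [Field F] {n : ℕ}

theorem lr_abstract {Γ : Type*} [Group Γ] [Group.IsNilpotent Γ] {V : Type*} [AddCommGroup V]
    [Module F V] (act : Γ → V → V) (h1 : ∀ w, act 1 w = w)
    (hmul : ∀ x y w, act (x * y) w = act x (act y w))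
    (hsm : ∀ x (c : F) w, act x (c • w) = c • act x w)
    (u : Γ) (v : V) (huv : act u v = v) (hfix : ∀ w, act u w = w → ∃ c : F, w = c • v)
    (heig : ∀ (c : F) (w : V), w ≠ 0 → act u w = c • w → c = 1) :
    ∀ x : Γ, ∃ c : F, act x v = c • v :=
  ncva5_core act h1 hmul hsm u v huv hfix heig

end Cfsg.Agent.Lib.helper7.NCV
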