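import Mathlib
import Cfsg.Agent.Lib.helper7.NCV.Defs
import Cfsg.Agent.Lib.Helper1.NCVA4

/-!
Project NCV, row C15b (POW2): if `d` inverts `g` modulo scalars inside a nilpotent subgroup of
`GL_2(F)` then some `g ^ (2 ^ k)` is scalar.
-/

set_option autoImplicit false

namespace Cfsg.Agent.Lib.helper7.NCV

open Matrix

universe u

variable {F : Type u} [Field F] {n : ℕ}

/-- Cayley-Hamilton for `2 × 2` matrices in the form `(tr g - g) g = det g`. -/
theorem ncvc15b_adj (g : Matrix (Fin 2) (Fin 2) F) :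
    (g.trace • (1 : Matrix (Fin 2) (Fin 2) F) - g) * g = g.det • (1 : Matrix (Fin 2) (Fin 2) F) := by
  ext i j
  fin_cases i <;> fin_cases j <;>
    simp [Matrix.mul_apply, Fin.sum_univ_two, Matrix.det_fin_two, Matrix.trace_fin_two,
      Matrix.sub_apply, Matrix.smul_apply, Matrix.one_apply] <;> ring

/-- an element of `GL` whose matrix is scalar is central -/
theorem ncvc15b_central (c : GL (Fin 2) F) (z : F)
    (hc : (c : Matrix (Fin 2) (Fin 2) F) = z • (1 : Matrix (Fin 2) (Fin 2) F)) :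
    c ∈ Subgroup.center (GL (Fin 2) F) := by
  rw [Matrix.GeneralLinearGroup.mem_center_iff_val_mem_range_scalar]
  refine ⟨z, ?_⟩
  rw [hc]
  ext i j
  simp [Matrix.scalar_apply, Matrix.smul_apply, Matrix.one_apply, Matrix.diagonal_apply]

/-- the matrix of a central element of `GL` is scalar -/
theorem ncvc15b_scalar_of_central (c : GL (Fin 2) F) (hc : c ∈ Subgroup.center (GL (Fin 2) F)) :
    ∃ z : F, (c : Matrix (Fin 2) (Fin 2) F) = z • (1 : Matrix (Fin 2) (Fin 2) F) := by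
  rw [Matrix.GeneralLinearGroup.mem_center_iff_val_mem_range_scalar] at hc
  obtain ⟨z, hz⟩ := hc
  refine ⟨z, ?_⟩
  have : (c : Matrix (Fin 2) (Fin 2) F) = Matrix.scalar (Fin 2) z := hz.symm
  rw [this]
  ext i j
  simp [Matrix.scalar_apply, Matrix.smul_apply, Matrix.one_apply, Matrix.diagonal_apply]

theorem pow2_of_inverted (X : Subgroup (GL (Fin 2) F)) [Group.IsNilpotent ↥X] (d g : GL (Fin 2) F)
    (hd : d ∈ X) (hg : g ∈ X)
    (h : (d : Matrix (Fin 2) (Fin 2) F) * (g : Matrix (Fin 2) (Fin 2) F) *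
        ((d⁻¹ : GL (Fin 2) F) : Matrix (Fin 2) (Fin 2) F)
      = (g : Matrix (Fin 2) (Fin 2) F).trace • (1 : Matrix (Fin 2) (Fin 2) F)
        - (g : Matrix (Fin 2) (Fin 2) F)) :
    ∃ k : ℕ, ∃ z : F, (g : Matrix (Fin 2) (Fin 2) F) ^ (2 ^ k)
      = z • (1 : Matrix (Fin 2) (Fin 2) F) := by
  -- the central element `c = d g d⁻¹ g`
  set c : GL (Fin 2) F := d * g * d⁻¹ * g with hc
  have hcZ : c ∈ Subgroup.center (GL (Fin 2) F) := by
    apply ncvc15b_central c (g : Matrix (Fin 2) (Fin 2) F).det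
    rw [hc, Units.val_mul, Units.val_mul, Units.val_mul, h, ncvc15b_adj]
  have hdg : d * g * d⁻¹ = c * g⁻¹ := by
    rw [hc]
    group
  have hcomm : ∀ (s : GL (Fin 2) F), s ∈ Subgroup.center (GL (Fin 2) F) →
      ∀ y : GL (Fin 2) F, y * s = s * y := fun s hs y => Subgroup.mem_center_iff.1 hs y
  -- conjugation by `d` of a power of `g`
  have hconj : ∀ m : ℤ, d * g ^ m * d⁻¹ = c ^ m * g ^ (-m) := by
    intro m
    have h1 : d * g ^ m * d⁻¹ = (d * g * d⁻¹) ^ m := by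
      have := map_zpow (MulAut.conj d) g m
      simp only [MulAut.conj_apply] at this
      exact this
    rw [h1, hdg]
    have hcg : Commute c g⁻¹ := (hcomm c hcZ g⁻¹).symm
    rw [hcg.mul_zpow, _root_.inv_zpow']
  set S : Set ↥X := {x | ∃ (k : ℕ) (s : GL (Fin 2) F) (m : ℤ),
    s ∈ Subgroup.center (GL (Fin 2) F) ∧ (m = 2 ^ k ∨ m = -2 ^ k) ∧ (x : GL (Fin 2) F) = s * g ^ m}
    with hS
  have h0 : (⟨g, hg⟩ : ↥X) ∈ S :=
    ⟨0, 1, 1, Subgroup.one_mem _, Or.inl (by norm_num), by simp⟩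
  have hclosed : ∀ a ∈ S, (⟨d, hd⟩ : ↥X) * a * (⟨d, hd⟩ : ↥X)⁻¹ * a⁻¹ ∈ S := by
    rintro a ⟨k, s, m, hs, hm, ha⟩
    refine ⟨k + 1, c ^ m, -(2 * m), Subgroup.zpow_mem _ hcZ m, ?_, ?_⟩
    · rcases hm with rfl | rfl
      · right
        rw [pow_succ]
        ring
      · left
        rw [pow_succ]
        ring
    · have e1 : (((⟨d, hd⟩ : ↥X) * a * (⟨d, hd⟩ : ↥X)⁻¹ * a⁻¹ : ↥X) : GL (Fin 2) F) =
          d * (a : GL (Fin 2) F) * d⁻¹ * (a : GL (Fin 2) F)⁻¹ := rfl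
      rw [e1, ha]
      have e2 : d * (s * g ^ m) * d⁻¹ = s * (d * g ^ m * d⁻¹) := by
        rw [← mul_assoc, hcomm s hs d, mul_assoc, mul_assoc, mul_assoc]
      rw [e2, hconj m, _root_.mul_inv_rev]
      have e3 : s * (c ^ m * g ^ (-m)) * ((g ^ m)⁻¹ * s⁻¹) =
          s * (c ^ m * g ^ (-m) * (g ^ m)⁻¹) * s⁻¹ := by group
      rw [e3, ← hcomm s hs (c ^ m * g ^ (-m) * (g ^ m)⁻¹), mul_assoc, mul_inv_cancel, mul_one]
      rw [mul_assoc]
      congr 1
      rw [← _root_.zpow_neg, ← _root_.zpow_add]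
      congr 1
      ring
  have h1S := gt_abstract (⟨d, hd⟩ : ↥X) S ⟨g, hg⟩ h0 hclosed
  obtain ⟨k, s, m, hs, hm, h1⟩ := h1S
  have h1' : (1 : GL (Fin 2) F) = s * g ^ m := h1
  refine ⟨k, ?_⟩
  have hpow : ∀ t : GL (Fin 2) F, t ∈ Subgroup.center (GL (Fin 2) F) → g ^ (2 ^ k : ℕ) = t →
      ∃ z : F, (g : Matrix (Fin 2) (Fin 2) F) ^ (2 ^ k) = z • (1 : Matrix (Fin 2) (Fin 2) F) := by
    intro t ht e
    obtain ⟨z, hz⟩ := ncvc15b_scalar_of_central t ht
    refine ⟨z, ?_⟩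
    rw [← hz, ← e, Units.val_pow_eq_pow_val]
  have hcast : ((2 : ℤ) ^ k) = ((2 ^ k : ℕ) : ℤ) := by push_cast; rfl
  rcases hm with rfl | rfl
  · apply hpow s⁻¹ (Subgroup.inv_mem _ hs)
    rw [hcast, zpow_natCast] at h1'
    exact eq_inv_of_mul_eq_one_right h1'.symm
  · apply hpow s hs
    rw [hcast, _root_.zpow_neg, zpow_natCast] at h1'
    have := h1'.symm
    rw [mul_inv_eq_one] at this
    exact this.symm

end Cfsg.Agent.Lib.helper7.NCV
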