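import Mathlib
import Cfsg.Agent.Lib.helper7.NPC.Defs

set_option autoImplicit false
set_option linter.unusedVariables false
set_option linter.unusedSectionVars false

namespace Cfsg.Agent.Lib.helper7.NPC

universe u

variable {H : Type u} [Group H] [Finite H] {p : ℕ} [Fact p.Prime]

theorem npch1_normal_of_quot (N : Subgroup H) [N.Normal] (hN : IsPGroup p ↥N)
    (hq : Cfsg.IsPClosed p (H ⧸ N)) (P : Sylow p H) : (P : Subgroup H).Normal := by
  have h1 : ((P.mapSurjective (QuotientGroup.mk'_surjective N) : Sylow p (H ⧸ N)) :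
      Subgroup (H ⧸ N)).Normal := hq _
  rw [Sylow.coe_mapSurjective] at h1
  have h2 := h1.comap (QuotientGroup.mk' N)
  rw [Subgroup.comap_map_eq, QuotientGroup.ker_mk'] at h2
  have h3 := P.is_maximal' (P.isPGroup'.to_sup_of_normal_right hN) le_sup_left
  rwa [h3] at h2

theorem npch1_normal_of_sub (K : Subgroup H) [K.Normal] (hK : Cfsg.IsPClosed p ↥K) (P : Sylow p H)
    (hPK : (P : Subgroup H) ≤ K) : (P : Subgroup H).Normal := by
  have h1 : ((P.subtype hPK : Sylow p ↥K) : Subgroup ↥K).Normal := hK _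
  have hch := Sylow.characteristic_of_normal (P.subtype hPK) h1
  have h2 := ConjAct.normal_of_characteristic_of_normal (H := K)
    (K := ((P.subtype hPK : Sylow p ↥K) : Subgroup ↥K))
  rw [Sylow.coe_subtype, Subgroup.map_subgroupOf_eq_of_le hPK] at h2
  exact h2

end Cfsg.Agent.Lib.helper7.NPC
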