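import Mathlib
import Cfsg.Agent.Lib.helper7.NPC.Defs
import Cfsg.Agent.Lib.Helper1.NPCGaux

set_option autoImplicit false
set_option linter.unusedVariables false
set_option linter.unusedSectionVars false

namespace Cfsg.Agent.Lib.helper7.NPC

universe u

variable {H : Type u} [Group H] [Finite H] {p : ℕ} [Fact p.Prime]

theorem sylow_sup_commutator (hM : MinNPC p H) (hnp : commutator H ≠ ⊤) (P : Sylow p H)
    (hP : ¬ (P : Subgroup H).Normal) : (P : Subgroup H) ⊔ commutator H = ⊤ := by
  by_contra hne
  have hKn : ((P : Subgroup H) ⊔ commutator H).Normal :=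
    Subgroup.Normal.of_commutator_le H le_sup_right
  exact hP (npch1_normal_of_sub ((P : Subgroup H) ⊔ commutator H) (hM.sub _ hne) P le_sup_left)

end Cfsg.Agent.Lib.helper7.NPC
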