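import Mathlib
import Cfsg.Agent.Lib.helper7.NPC.Defs
import Cfsg.Agent.Lib.Helper1.NPCGaux
import Cfsg.Agent.Lib.Helper1.NPCA2

set_option autoImplicit false
set_option linter.unusedVariables false
set_option linter.unusedSectionVars false

namespace Cfsg.Agent.Lib.helper7.NPC

universe u

variable {H : Type u} [Group H] [Finite H] {p : ℕ} [Fact p.Prime]

theorem npca3_mem_cent_iff (y : H) :
    y ∈ Subgroup.centralizer (commutator H : Set H) ↔ ∀ r ∈ commutator H, y * r = r * y := by
  rw [Subgroup.mem_centralizer_iff]
  constructor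
  · intro h r hr
    exact (h r hr).symm
  · intro h r hr
    exact (h r hr).symm

theorem npca3_conj_mem_cent (y g : H) (hy : y ∈ Subgroup.centralizer (commutator H : Set H)) :
    g * y * g⁻¹ ∈ Subgroup.centralizer (commutator H : Set H) := by
  rw [npca3_mem_cent_iff] at hy ⊢
  intro r hr
  have hn : (commutator H).Normal := inferInstance
  have h1 : g⁻¹ * r * g ∈ commutator H := by
    have := hn.conj_mem r hr g⁻¹
    simpa using this
  have h2 := hy _ h1
  have e1 : g * y * g⁻¹ * r = g * (y * (g⁻¹ * r * g)) * g⁻¹ := by group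
  have e2 : r * (g * y * g⁻¹) = g * ((g⁻¹ * r * g) * y) * g⁻¹ := by group
  rw [e1, e2, h2]

theorem sylow_faithful (hM : MinNPC p H) (hnp : commutator H ≠ ⊤) (P : Sylow p H)
    (hP : ¬ (P : Subgroup H).Normal) (x : H) (hx : x ∈ (P : Subgroup H))
    (hc : ∀ r ∈ commutator H, x * r = r * x) : x = 1 := by
  have hsup := sylow_sup_commutator hM hnp P hP
  have hnorm : Subgroup.normalizer
      (((P : Subgroup H) ⊓ Subgroup.centralizer (commutator H : Set H) : Subgroup H) : Set H) = ⊤ := by
    rw [eq_top_iff, ← hsup, sup_le_iff]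
    constructor
    · intro y hy
      rw [Subgroup.mem_normalizer_iff]
      intro h
      constructor
      · intro hh
        rw [Subgroup.mem_inf] at hh ⊢
        exact ⟨(P : Subgroup H).mul_mem ((P : Subgroup H).mul_mem hy hh.1)
          ((P : Subgroup H).inv_mem hy), npca3_conj_mem_cent h y hh.2⟩
      · intro hh
        rw [Subgroup.mem_inf] at hh ⊢
        have e : h = y⁻¹ * (y * h * y⁻¹) * y := by group
        refine ⟨?_, ?_⟩
        · rw [e]
          exact (P : Subgroup H).mul_mem ((P : Subgroup H).mul_mem
            ((P : Subgroup H).inv_mem hy) hh.1) hy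
        · have := npca3_conj_mem_cent _ y⁻¹ hh.2
          rw [inv_inv, ← e] at this
          exact this
    · intro r hr
      rw [Subgroup.mem_normalizer_iff]
      intro h
      have key : ∀ z : H, z ∈ Subgroup.centralizer (commutator H : Set H) → r * z * r⁻¹ = z := by
        intro z hz
        rw [npca3_mem_cent_iff] at hz
        rw [← hz r hr]
        group
      constructor
      · intro hh
        rw [Subgroup.mem_inf] at hh
        rw [key h hh.2]
        exact Subgroup.mem_inf.mpr hh
      · intro hh
        have hh' := hh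
        rw [Subgroup.mem_inf] at hh'
        have hz : r⁻¹ * (r * h * r⁻¹) * r = r * h * r⁻¹ := by
          have hr' : r⁻¹ ∈ commutator H := (commutator H).inv_mem hr
          have hz2 := hh'.2
          rw [npca3_mem_cent_iff] at hz2
          have := hz2 r⁻¹ hr'
          calc r⁻¹ * (r * h * r⁻¹) * r = (r * h * r⁻¹) * r⁻¹ * r := by rw [this]
            _ = r * h * r⁻¹ := by group
        have e : h = r⁻¹ * (r * h * r⁻¹) * r := by group
        rw [e, hz]
        exact hh
  have hN : ((P : Subgroup H) ⊓ Subgroup.centralizer (commutator H : Set H)).Normal :=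
    Subgroup.normalizer_eq_top_iff.mp hnorm
  by_contra hx1
  have hne : (P : Subgroup H) ⊓ Subgroup.centralizer (commutator H : Set H) ≠ ⊥ := by
    intro hbot
    have hxm : x ∈ (P : Subgroup H) ⊓ Subgroup.centralizer (commutator H : Set H) :=
      Subgroup.mem_inf.mpr ⟨hx, (npca3_mem_cent_iff x).mpr hc⟩
    rw [hbot, Subgroup.mem_bot] at hxm
    exact hx1 hxm
  have hq := hM.quot _ hne
  have hpg : IsPGroup p ↥((P : Subgroup H) ⊓ Subgroup.centralizer (commutator H : Set H)) :=
    P.isPGroup'.to_le inf_le_left
  exact hP (npch1_normal_of_quot _ hpg hq P)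

end Cfsg.Agent.Lib.helper7.NPC
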