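import Mathlib
import Cfsg.Agent.Lib.helper7.NPC.Defs
import Cfsg.Agent.Lib.Helper1.NPCGaux

set_option autoImplicit false
set_option linter.unusedVariables false
set_option linter.unusedSectionVars false

namespace Cfsg.Agent.Lib.helper7.NPC

universe u

variable {H : Type u} [Group H] [Finite H] {p : ℕ} [Fact p.Prime]

theorem npcq2_central (N : Subgroup H) (hN : N.Normal) (hc : Nat.card ↥N = 2) (z : H) (hz : z ∈ N)
    (g : H) : g * z * g⁻¹ = z := by
  by_cases hz1 : z = 1
  · subst hz1
    group
  · obtain ⟨y, hy, hu⟩ := (Nat.card_eq_two_iff' (1 : ↥N)).mp hc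
    have h1 : (⟨z, hz⟩ : ↥N) = y := by
      apply hu
      intro h
      apply hz1
      exact congrArg Subtype.val h
    have h2 : (⟨g * z * g⁻¹, hN.conj_mem z hz g⟩ : ↥N) = y := by
      apply hu
      intro h
      apply hz1
      have h3 : g * z * g⁻¹ = 1 := congrArg Subtype.val h
      have e : z = g⁻¹ * (g * z * g⁻¹) * g := by group
      rw [e, h3]
      group
    have := h2.trans h1.symm
    exact congrArg Subtype.val this

theorem npcq2_exists_nonnormal (hM : MinNPC p H) : ∃ P : Sylow p H, ¬ (P : Subgroup H).Normal := by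
  by_contra h
  push Not at h
  exact hM.npc h

theorem no_normal_two (hM : MinNPC p H) (hp2 : p ≠ 2) (N : Subgroup H) (hN : N.Normal) :
    Nat.card ↥N ≠ 2 := by
  intro hc
  obtain ⟨P, hP⟩ := npcq2_exists_nonnormal hM
  have hNi : N.Normal := hN
  have hNbot : N ≠ ⊥ := by
    intro h
    rw [h, Subgroup.card_bot] at hc
    omega
  have hq := hM.quot N hNbot
  have hKn : ((P : Subgroup H) ⊔ N).Normal := by
    have h1 : ((P.mapSurjective (QuotientGroup.mk'_surjective N) : Sylow p (H ⧸ N)) :
        Subgroup (H ⧸ N)).Normal := hq _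
    rw [Sylow.coe_mapSurjective] at h1
    have h2 := h1.comap (QuotientGroup.mk' N)
    rw [Subgroup.comap_map_eq, QuotientGroup.ker_mk'] at h2
    exact h2
  by_cases hK : (P : Subgroup H) ⊔ N = ⊤
  · apply hP
    rw [← Subgroup.normalizer_eq_top_iff, eq_top_iff, ← hK, sup_le_iff]
    refine ⟨Subgroup.le_normalizer, ?_⟩
    intro z hz
    rw [Subgroup.mem_normalizer_iff]
    intro h
    have e : z * h * z⁻¹ = h := by
      have := npcq2_central N hN hc z hz h⁻¹
      calc z * h * z⁻¹ = h * (h⁻¹ * z * h⁻¹⁻¹) * z⁻¹ := by group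
        _ = h := by rw [this]; group
    rw [e]
  · exact hP (npch1_normal_of_sub ((P : Subgroup H) ⊔ N) (hM.sub _ hK) P le_sup_left)

end Cfsg.Agent.Lib.helper7.NPC
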