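import Mathlib
import Cfsg.Agent.Lib.helper7.NPC.Defs

set_option autoImplicit false
set_option linter.unusedVariables false
set_option linter.unusedSectionVars false

namespace Cfsg.Agent.Lib.helper7.NPC

universe u

variable {H : Type u} [Group H] [Finite H] {p : ℕ} [Fact p.Prime]

theorem npcstep_card_sub_lt (K : Subgroup H) (hK : K ≠ ⊤) : Nat.card ↥K < Nat.card H := by
  rcases lt_or_eq_of_le (Subgroup.card_le_card_group K) with h | h
  · exact h
  · exact absurd (Subgroup.card_eq_iff_eq_top K |>.mp h) hK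

theorem npcstep_card_quot_lt (N : Subgroup H) [N.Normal] (hN : N ≠ ⊥) :
    Nat.card (H ⧸ N) < Nat.card H := by
  have h1 : Nat.card H = Nat.card (H ⧸ N) * Nat.card ↥N := Subgroup.card_eq_card_quotient_mul_card_subgroup N
  have h2 : 1 < Nat.card ↥N := by
    rcases Nat.lt_or_ge 1 (Nat.card ↥N) with h | h
    · exact h
    · exfalso
      apply hN
      have hpos : 0 < Nat.card ↥N := Nat.card_pos
      have : Nat.card ↥N = 1 := by omega
      exact Subgroup.card_eq_one.mp this
  have h3 : 0 < Nat.card (H ⧸ N) := Nat.card_pos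
  rw [h1]
  nlinarith

theorem npcstep_aux (m : ℕ)
    (hA6 : ∀ (K : Type u) [Group K] [Finite K], MinNPC p K → commutator K ≠ ⊤ →
      p * m ≤ Nat.card K)
    (hPERF : ∀ (K : Type u) [Group K] [Finite K], MinNPC p K → commutator K = ⊤ →
      p * (p ^ 2 - 1) / 2 ≤ Nat.card K) :
    ∀ n : ℕ, ∀ (K : Type u) [Group K] [Finite K], Nat.card K = n → ¬ Cfsg.IsPClosed p K →
      min (p * m) (p * (p ^ 2 - 1) / 2) ≤ n := by
  intro n
  induction n using Nat.strong_induction_on with
  | _ n ih =>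
    intro K _ _ hn hK
    by_cases h1 : ∃ L : Subgroup K, L ≠ ⊤ ∧ ¬ Cfsg.IsPClosed p ↥L
    · obtain ⟨L, hL, hLc⟩ := h1
      have hlt : Nat.card ↥L < n := hn ▸ npcstep_card_sub_lt L hL
      exact (ih _ hlt ↥L rfl hLc).trans hlt.le
    · by_cases h2 : ∃ N : Subgroup K, ∃ _ : N.Normal, N ≠ ⊥ ∧ ¬ Cfsg.IsPClosed p (K ⧸ N)
      · obtain ⟨N, hNn, hN, hNc⟩ := h2
        have hlt : Nat.card (K ⧸ N) < n := hn ▸ npcstep_card_quot_lt N hN
        exact (ih _ hlt (K ⧸ N) rfl hNc).trans hlt.le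
      · have hM : MinNPC p K := by
          refine ⟨hK, ?_, ?_⟩
          · intro L hL
            by_contra hc
            exact h1 ⟨L, hL, hc⟩
          · intro N hNn hN
            by_contra hc
            exact h2 ⟨N, hNn, hN, hc⟩
        by_cases hperf : commutator K = ⊤
        · exact (min_le_right _ _).trans (hn ▸ hPERF K hM hperf)
        · exact (min_le_left _ _).trans (hn ▸ hA6 K hM hperf)

theorem npcstep_lower_bound_core (m : ℕ)
    (hA6 : ∀ (K : Type u) [Group K] [Finite K], MinNPC p K → commutator K ≠ ⊤ →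
      p * m ≤ Nat.card K)
    (hPERF : ∀ (K : Type u) [Group K] [Finite K], MinNPC p K → commutator K = ⊤ →
      p * (p ^ 2 - 1) / 2 ≤ Nat.card K) (hH : ¬ Cfsg.IsPClosed p H) :
    min (p * m) (p * (p ^ 2 - 1) / 2) ≤ Nat.card H :=
  npcstep_aux m hA6 hPERF (Nat.card H) H rfl hH

end Cfsg.Agent.Lib.helper7.NPC
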