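import Mathlib
import Cfsg.Prelude.Def_GeometricClasses
import Cfsg.Agent.Lib.Helper9.NPNP1
import Cfsg.Agent.Lib.Helper9.NPNP3B
import Cfsg.Agent.Lib.Helper24.ElT

set_option autoImplicit false
set_option linter.unusedVariables false
set_option linter.unusedSectionVars false

namespace Cfsg.Agent.Lib.Helper9.NotPlus

open Cfsg Cfsg.Geo
open scoped MatrixGroups Matrix

variable {n : ℕ} {F : Type*} [Field F]

theorem npnp3_indep (Q : QuadraticForm F (Fin n → F)) {t : ℕ} (D : Fin t → Submodule F (Fin n → F))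
    (hnd : ∀ i, IsNondegenerateOn (QuadraticMap.polar (⇑Q)) (D i))
    (horth : ∀ i j, i ≠ j → AreOrthogonalFor (QuadraticMap.polar (⇑Q)) (D i) (D j)) : iSupIndep D := by
  classical
  rw [iSupIndep_def]
  intro i
  rw [Submodule.disjoint_def]
  intro x hxi hx
  by_contra hx0
  obtain ⟨⟨y, hy, hyx⟩, _⟩ := hnd i x hxi hx0
  apply hyx
  have hle : (⨆ j, ⨆ (_ : j ≠ i), D j) ≤ LinearMap.ker (QuadraticMap.polarBilin Q y) := by
    apply iSup_le
    intro j
    apply iSup_le
    intro hji z hz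
    rw [LinearMap.mem_ker]
    exact horth i j (Ne.symm hji) y hy z hz
  have := hle hx
  rw [LinearMap.mem_ker] at this
  exact this

theorem npnp3_Q_pair (Q : QuadraticForm F (Fin n → F)) (u v : Fin n → F) (x y : F) :
    Q (x • u + y • v) = x * x * Q u + y * y * Q v + x * y * QuadraticMap.polar (⇑Q) u v := by
  rw [QuadraticMap.map_add Q, QuadraticMap.map_smul, QuadraticMap.map_smul, QuadraticMap.polar_smul_left,
    QuadraticMap.polar_smul_right]
  simp only [smul_eq_mul]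
  ring

theorem npnp3_polar_sim (Q : QuadraticForm F (Fin n → F)) (W W' : Submodule F (Fin n → F)) (σ : W ≃ₗ[F] W') (c : F)
    (hσ : ∀ w : W, Q ((σ w : W') : Fin n → F) = c * Q (w : Fin n → F)) (u v : W) :
    QuadraticMap.polar (⇑Q) ((σ u : W') : Fin n → F) ((σ v : W') : Fin n → F) =
      c * QuadraticMap.polar (⇑Q) (u : Fin n → F) (v : Fin n → F) := by
  unfold QuadraticMap.polar
  rw [← Submodule.coe_add, ← map_add, hσ, hσ, hσ, Submodule.coe_add]
  ring

theorem npnp3_aniso_of_nonsquare (c : F) (h : ¬ IsSquare (-c)) (x y : F) (hxy : x * x + c * (y * y) = 0) :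
    x = 0 ∧ y = 0 := by
  by_cases hy : y = 0
  · subst hy
    refine ⟨?_, rfl⟩
    have : x * x = 0 := by linear_combination hxy
    exact mul_self_eq_zero.mp this
  · exfalso
    apply h
    refine ⟨x / y, ?_⟩
    have hy2 : y * y ≠ 0 := mul_ne_zero hy hy
    rw [div_mul_div_comm, eq_div_iff hy2]
    linear_combination (-1 : F) * hxy

theorem npnp3_plus_of_sim (Q : QuadraticForm F (Fin n → F)) {m : ℕ} (D : Fin 2 → Submodule F (Fin n → F))
    (hD : IsNondegenerateMDecomposition (QuadraticMap.polar (⇑Q)) m D) (σ : D 0 ≃ₗ[F] D 1) (c l : F)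
    (hσ : ∀ w : D 0, Q ((σ w : D 1) : Fin n → F) = c * Q (w : Fin n → F)) (hl : l * l * c = -1) :
    IsPlusTypeOn (⇑Q) ⊤ := by
  classical
  have hn : 2 * m = n := Cfsg.Agent.Lib.Helper28.Ld.card_eq D hD.decomp
  set g : D 0 →ₗ[F] (Fin n → F) := (D 0).subtype + l • ((D 1).subtype ∘ₗ σ.toLinearMap) with hg
  have hgx : ∀ x : D 0, g x = (x : Fin n → F) + l • ((σ x : D 1) : Fin n → F) := by
    intro x
    rfl
  have hdis : Disjoint (D 0) (D 1) := hD.decomp.indep.pairwiseDisjoint (by decide : (0 : Fin 2) ≠ 1)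
  have hinj : Function.Injective g := by
    rw [injective_iff_map_eq_zero]
    intro x hx
    rw [hgx] at hx
    have h1 : (x : Fin n → F) = -(l • ((σ x : D 1) : Fin n → F)) := eq_neg_of_add_eq_zero_left hx
    have h2 : (x : Fin n → F) ∈ D 1 := by
      rw [h1]
      exact (D 1).neg_mem ((D 1).smul_mem l (σ x).2)
    have h3 := Submodule.disjoint_def.mp hdis (x : Fin n → F) x.2 h2
    exact Subtype.ext h3
  refine ⟨LinearMap.range g, le_top, ?_, ?_⟩
  · rintro _ ⟨x, rfl⟩
    rw [hgx]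
    have h1 := npnp3_Q_pair Q (x : Fin n → F) ((σ x : D 1) : Fin n → F) 1 l
    rw [one_smul] at h1
    rw [h1, hσ, hD.orthogonal 0 1 (by decide) _ x.2 _ (σ x).2]
    linear_combination (Q (x : Fin n → F)) * hl
  · rw [LinearMap.finrank_range_of_inj hinj, hD.decomp.finrank_eq 0, finrank_top, Module.finrank_fin_fun]
    exact hn

theorem npnp3_not_plus_of_sim [Fintype F] (h2 : (2 : F) ≠ 0) (Q : QuadraticForm F (Fin n → F)) {m : ℕ}
    (hm : Odd m) (D : Fin 2 → Submodule F (Fin n → F))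
    (hD : IsNondegenerateMDecomposition (QuadraticMap.polar (⇑Q)) m D) (σ : D 0 ≃ₗ[F] D 1) (c : F)
    (hc0 : c ≠ 0)
    (hσ : ∀ w : D 0, Q ((σ w : D 1) : Fin n → F) = c * Q (w : Fin n → F))
    (hc : ∀ x y : F, x * x + c * (y * y) = 0 → x = 0 ∧ y = 0) :
    ¬ IsPlusTypeOn (⇑Q) ⊤ := by
  classical
  have hn : 2 * m = n := Cfsg.Agent.Lib.Helper28.Ld.card_eq D hD.decomp
  obtain ⟨k, rfl⟩ : ∃ k, m = k + 1 := by
    obtain ⟨j, hj⟩ := hm
    exact ⟨2 * j, hj⟩
  obtain ⟨b, hb, -, hborth, hb1, hblast⟩ :=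
    odd_normal_form h2 Q k (D 0) (hD.nondegenerate 0) (hD.decomp.finrank_eq 0)
  have hbne : ∀ j, Q (b j) ≠ 0 := by
    intro j
    rcases Fin.eq_castSucc_or_eq_last j with ⟨i, rfl⟩ | rfl
    · rw [hb1]
      exact one_ne_zero
    · exact hblast
  set sb : Fin (k + 1) → (Fin n → F) := fun j => ((σ ⟨b j, hb j⟩ : D 1) : Fin n → F) with hsb
  have hsbmem : ∀ j, sb j ∈ D 1 := fun j => (σ ⟨b j, hb j⟩).2
  have hQsb : ∀ j, Q (sb j) = c * Q (b j) := fun j => hσ ⟨b j, hb j⟩
  have hpol01 : ∀ i j, QuadraticMap.polar (⇑Q) (b i) (sb j) = 0 := fun i j =>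
    hD.orthogonal 0 1 (by decide) _ (hb i) _ (hsbmem j)
  have hpol10 : ∀ i j, QuadraticMap.polar (⇑Q) (sb i) (b j) = 0 := fun i j => by
    rw [QuadraticMap.polar_comm]
    exact hpol01 j i
  have hpol11 : ∀ i j, i ≠ j → QuadraticMap.polar (⇑Q) (sb i) (sb j) = 0 := fun i j hij => by
    have := npnp3_polar_sim Q (D 0) (D 1) σ c hσ ⟨b i, hb i⟩ ⟨b j, hb j⟩
    rw [hsb]
    simp only
    rw [this, hborth i j hij, mul_zero]
  set φ : Fin (k + 1) → ((Fin 2 → F) →ₗ[F] (Fin n → F)) := fun j =>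
    (LinearMap.proj (0 : Fin 2) : (Fin 2 → F) →ₗ[F] F).smulRight (b j) +
      (LinearMap.proj (1 : Fin 2) : (Fin 2 → F) →ₗ[F] F).smulRight (sb j) with hφdef
  have hφ : ∀ j (x : Fin 2 → F), φ j x = x 0 • b j + x 1 • sb j := by
    intro j x
    rfl
  have hQφ : ∀ j (x : Fin 2 → F), Q (φ j x) = Q (b j) * (x 0 * x 0 + c * (x 1 * x 1)) := by
    intro j x
    rw [hφ, npnp3_Q_pair, hQsb, hpol01]
    ring
  have hφ0 : ∀ j (x : Fin 2 → F), Q (φ j x) = 0 → x = 0 := by
    intro j x hx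
    rw [hQφ] at hx
    rcases mul_eq_zero.mp hx with h | h
    · exact absurd h (hbne j)
    · obtain ⟨h0, h1⟩ := hc _ _ h
      funext i
      fin_cases i
      · exact h0
      · exact h1
  have hinj : ∀ j, Function.Injective (φ j) := by
    intro j
    rw [injective_iff_map_eq_zero]
    intro x hx
    apply hφ0 j
    rw [hx, map_zero]
  set P : Fin (k + 1) → Submodule F (Fin n → F) := fun j => LinearMap.range (φ j) with hP
  have hfin : ∀ j, Module.finrank F (P j) = 2 := by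
    intro j
    rw [hP]
    simp only
    rw [LinearMap.finrank_range_of_inj (hinj j), Module.finrank_fin_fun]
  have haniso : ∀ j, ∀ v ∈ P j, v ≠ 0 → Q v ≠ 0 := by
    rintro j _ ⟨x, rfl⟩ hv hQ
    apply hv
    rw [hφ0 j x hQ, map_zero]
  have hnd : ∀ j, IsNondegenerateOn (QuadraticMap.polar (⇑Q)) (P j) := by
    intro j w hw hw0
    have h : QuadraticMap.polar (⇑Q) w w ≠ 0 := by
      rw [QuadraticMap.polar_self, nsmul_eq_mul, Nat.cast_ofNat]
      exact mul_ne_zero h2 (haniso j w hw hw0)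
    exact ⟨⟨w, hw, h⟩, ⟨w, hw, h⟩⟩
  have horth : ∀ i j, i ≠ j → AreOrthogonalFor (QuadraticMap.polar (⇑Q)) (P i) (P j) := by
    rintro i j hij _ ⟨x, rfl⟩ _ ⟨y, rfl⟩
    rw [hφ, hφ]
    simp only [QuadraticMap.polar_add_left, QuadraticMap.polar_add_right, QuadraticMap.polar_smul_left,
      QuadraticMap.polar_smul_right, hborth i j hij, hpol01, hpol10, hpol11 i j hij, smul_zero, add_zero]
  have hindep : iSupIndep P := npnp3_indep Q P hnd horth
  have hsup : iSup P = ⊤ := by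
    apply Submodule.eq_top_of_finrank_eq
    rw [Cfsg.Agent.Lib.Helper24.el_finrank_iSup P hindep, Module.finrank_fin_fun]
    simp only [hfin, Finset.sum_const, Finset.card_univ, Fintype.card_fin, smul_eq_mul]
    omega
  rcases Nat.eq_zero_or_pos k with hk | hk
  · subst hk
    rintro ⟨U, -, hU, hdim⟩
    rw [finrank_top, Module.finrank_fin_fun] at hdim
    have hU1 : Module.finrank F U = 1 := by omega
    have hUne : U ≠ ⊥ := by
      intro h
      rw [h, finrank_bot] at hU1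
      omega
    obtain ⟨u, hu, hu0⟩ := Submodule.exists_mem_ne_zero_of_ne_bot hUne
    have hu' : u ∈ iSup P := by
      rw [hsup]
      exact Submodule.mem_top
    have hle : iSup P ≤ P ⟨0, by omega⟩ := by
      apply iSup_le
      intro j
      have hj : j = ⟨0, by omega⟩ := Fin.ext (by have := j.2; omega)
      rw [hj]
    exact haniso _ u (hle hu') hu0 (hU u hu)
  · apply not_plus_of_odd_aniso_planes Q hm P
      ⟨⟨by omega, by norm_num, hfin, hindep, hsup⟩, hnd, horth⟩ haniso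
    intro i j
    refine ⟨(LinearEquiv.ofInjective (φ i) (hinj i)).symm ≪≫ₗ LinearEquiv.ofInjective (φ j) (hinj j),
      Q (b j) / Q (b i), div_ne_zero (hbne j) (hbne i), ?_⟩
    intro w
    set x := (LinearEquiv.ofInjective (φ i) (hinj i)).symm w with hx
    have hw : (w : Fin n → F) = φ i x := by
      have h1 : w = LinearEquiv.ofInjective (φ i) (hinj i) x := by
        rw [hx, LinearEquiv.apply_symm_apply]
      rw [h1]
      rfl
    have hw' : ((((LinearEquiv.ofInjective (φ i) (hinj i)).symm ≪≫ₗ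
        LinearEquiv.ofInjective (φ j) (hinj j)) w : P j) : Fin n → F) = φ j x := rfl
    rw [hw', hw, hQφ, hQφ]
    field_simp [hbne i]

theorem halves_plus_iff [Fintype F] (h2 : (2 : F) ≠ 0) (Q : QuadraticForm F (Fin n → F))
    (hQ : (QuadraticMap.polarBilin Q).Nondegenerate) {m : ℕ} (hm : Odd m)
    (D : Fin 2 → Submodule F (Fin n → F))
    (hD : IsNondegenerateMDecomposition (QuadraticMap.polar (⇑Q)) m D) :
    IsPlusTypeOn (⇑Q) ⊤ ↔ (AreIsometricFor (⇑Q) (D 0) (D 1) ↔ IsSquare (-1 : F)) := by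
  classical
  have hchar : ringChar F ≠ 2 := by
    intro h
    apply h2
    have := (ringChar.spec F 2).mpr (by rw [h])
    exact_mod_cast this
  obtain ⟨δ, hδ⟩ := FiniteField.exists_nonsquare hchar
  have hδ0 : δ ≠ 0 := by
    rintro rfl
    exact hδ ⟨0, by simp⟩
  have hfr : Module.finrank F (D 0) = Module.finrank F (D 1) := by
    rw [hD.decomp.finrank_eq 0, hD.decomp.finrank_eq 1]
  have hodd : Odd (Module.finrank F (D 0)) := by
    rw [hD.decomp.finrank_eq 0]
    exact hm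
  by_cases hiso : AreIsometricFor (⇑Q) (D 0) (D 1)
  · obtain ⟨σ, hσ⟩ := hiso
    have hσ1 : ∀ w : D 0, Q ((σ w : D 1) : Fin n → F) = 1 * Q (w : Fin n → F) := by
      intro w
      rw [hσ, one_mul]
    by_cases hsq : IsSquare (-1 : F)
    · obtain ⟨i, hi⟩ := hsq
      have hplus := npnp3_plus_of_sim Q D hD σ 1 i hσ1 (by rw [mul_one, ← hi])
      exact ⟨fun _ => ⟨fun _ => ⟨i, hi⟩, fun _ => ⟨σ, hσ⟩⟩, fun _ => hplus⟩
    · have hnp := npnp3_not_plus_of_sim h2 Q hm D hD σ 1 one_ne_zero hσ1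
        (npnp3_aniso_of_nonsquare 1 hsq)
      exact ⟨fun h => absurd h hnp, fun h => absurd (h.mp ⟨σ, hσ⟩) hsq⟩
  · by_cases hsq : IsSquare (-1 : F)
    · obtain ⟨i, hi⟩ := hsq
      rcases odd_similar h2 Q (D 0) (D 1) (hD.nondegenerate 0) (hD.nondegenerate 1) hfr hodd δ hδ with h | ⟨σ, hσ⟩
      · exact absurd h hiso
      · have hnd : ¬ IsSquare (-δ) := by
          rintro ⟨s, hs⟩
          apply hδ
          refine ⟨i * s, ?_⟩
          have : δ = -(s * s) := by rw [← hs, neg_neg]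
          rw [this]
          linear_combination (s * s) * hi
        have hnp := npnp3_not_plus_of_sim h2 Q hm D hD σ δ hδ0 hσ (npnp3_aniso_of_nonsquare δ hnd)
        exact ⟨fun h => absurd h hnp, fun h => absurd (h.mpr ⟨i, hi⟩) hiso⟩
    · rcases odd_similar h2 Q (D 0) (D 1) (hD.nondegenerate 0) (hD.nondegenerate 1) hfr hodd (-1) hsq with h | ⟨σ, hσ⟩
      · exact absurd h hiso
      · have hplus := npnp3_plus_of_sim Q D hD σ (-1) 1 hσ (by ring)
        exact ⟨fun _ => ⟨fun h => absurd h hiso, fun h => absurd h hsq⟩, fun _ => hplus⟩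

end Cfsg.Agent.Lib.Helper9.NotPlus
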