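import Mathlib
import Cfsg.Agent.Lib.Helper1.StrongControl

set_option autoImplicit false

namespace Cfsg.Agent.Lib.Helper1

open Cfsg.Agent.Lib.Helper13 Cfsg.Agent.S0116 Cfsg.Agent.Lib.Helper18

open scoped commutatorElement

universe u

variable {G : Type u} [Group G]

def CtrlIn (N Q V : Subgroup G) : Prop :=
  ∀ B : Subgroup G, B ≤ Q → ∀ n ∈ N, B.map (MulAut.conj n).toMonoidHom ≤ Q →
    ∃ h ∈ N ⊓ Subgroup.normalizer (V : Set G), ∃ c ∈ N ⊓ Subgroup.centralizer (B : Set G),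
      n = h * c

theorem ctrlIn_conj (N Q V : Subgroup G) [hN : N.Normal] (x : G)
    (hx : x ∈ Subgroup.normalizer (Q : Set G)) (hc : CtrlIn N Q V) :
    CtrlIn N Q (V.map (MulAut.conj x).toMonoidHom) := by
  intro B hB n hn hBn
  have hxi : x⁻¹ ∈ Subgroup.normalizer (Q : Set G) := Subgroup.inv_mem _ hx
  have hQx : Q.map (MulAut.conj x⁻¹).toMonoidHom = Q := mem_normalizer_iff_cj_eq.mp hxi
  obtain ⟨B', hB'def⟩ : ∃ B' : Subgroup G, B' = B.map (MulAut.conj x⁻¹).toMonoidHom := ⟨_, rfl⟩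
  have hBB' : B'.map (MulAut.conj x).toMonoidHom = B := by rw [hB'def]; exact cj_cj_inv x B
  have hB' : B' ≤ Q := by
    rw [hB'def, ← hQx]; exact cj_mono hB
  obtain ⟨n', hn'def⟩ : ∃ n' : G, n' = x⁻¹ * n * x := ⟨_, rfl⟩
  have hn' : n' ∈ N := by
    have := hN.conj_mem n hn x⁻¹
    rw [inv_inv] at this
    rw [hn'def]; exact this
  have hle : B'.map (MulAut.conj n').toMonoidHom ≤ Q := by
    rw [hB'def, cj_cj]
    have e : n' * x⁻¹ = x⁻¹ * n := by rw [hn'def]; group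
    rw [e, ← cj_cj, ← hQx]
    exact cj_mono hBn
  obtain ⟨h', hh', c', hc', hnhc⟩ := hc B' hB' n' hn' hle
  refine ⟨x * h' * x⁻¹, Subgroup.mem_inf.mpr ⟨hN.conj_mem h' hh'.1 x, ?_⟩, x * c' * x⁻¹,
    Subgroup.mem_inf.mpr ⟨hN.conj_mem c' hc'.1 x, ?_⟩, ?_⟩
  · rw [normalizer_cj]
    exact cj_mem hh'.2
  · rw [← hBB', centralizer_cj]
    exact cj_mem hc'.2
  · have e : n = x * n' * x⁻¹ := by rw [hn'def]; group
    rw [e, hnhc]; group

theorem multi_control [Finite G] (N Q : Subgroup G) (s : Finset (Subgroup G))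
    (hs : ∀ V' ∈ s, V' ≤ Q ∧ CtrlIn N Q V') :
    ∀ B : Subgroup G, B ≤ Q → ∀ n ∈ N, B.map (MulAut.conj n).toMonoidHom ≤ Q →
      ∃ h ∈ N, (∀ V' ∈ s, h ∈ Subgroup.normalizer (V' : Set G)) ∧
        ∃ c ∈ N ⊓ Subgroup.centralizer (B : Set G), n = h * c := by
  classical
  induction s using Finset.induction_on with
  | empty =>
    intro B _ n hn _
    exact ⟨n, hn, by simp, 1, one_mem _, (mul_one n).symm⟩
  | insert V' s hV's ih =>
    intro B hB n hn hBn
    have hs' : ∀ V'' ∈ s, V'' ≤ Q ∧ CtrlIn N Q V'' :=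
      fun V'' h => hs V'' (Finset.mem_insert_of_mem h)
    obtain ⟨h₁, hh₁N, hh₁, c₁, hc₁, hn1⟩ := ih hs' B hB n hn hBn
    obtain ⟨hV'Q, hV'c⟩ := hs V' (Finset.mem_insert_self _ _)
    obtain ⟨B', hB'def⟩ : ∃ B' : Subgroup G, B' = B ⊔ s.sup id := ⟨_, rfl⟩
    have hBB' : B ≤ B' := by rw [hB'def]; exact le_sup_left
    have hsB' : ∀ V'' ∈ s, V'' ≤ B' := by
      intro V'' hV''
      rw [hB'def]
      exact le_trans (Finset.le_sup (f := id) hV'') le_sup_right
    have hB' : B' ≤ Q := by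
      rw [hB'def]
      exact sup_le hB (Finset.sup_le (fun V'' h => (hs' V'' h).1))
    have hcB := Subgroup.mem_centralizer_iff.mp hc₁.2
    have hB'h : B'.map (MulAut.conj h₁).toMonoidHom ≤ Q := by
      rw [hB'def, Subgroup.map_le_iff_le_comap]
      apply sup_le
      · intro b hb
        show (MulAut.conj h₁).toMonoidHom b ∈ Q
        have e : (MulAut.conj h₁).toMonoidHom b = n * b * n⁻¹ := by
          show h₁ * b * h₁⁻¹ = n * b * n⁻¹
          have h3 := hcB b hb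
          rw [hn1]
          calc h₁ * b * h₁⁻¹ = h₁ * (b * c₁) * c₁⁻¹ * h₁⁻¹ := by group
            _ = h₁ * (c₁ * b) * c₁⁻¹ * h₁⁻¹ := by rw [h3]
            _ = h₁ * c₁ * b * (h₁ * c₁)⁻¹ := by group
        rw [e]
        exact hBn (cj_mem hb)
      · apply Finset.sup_le
        intro V'' hV'' v hv
        show (MulAut.conj h₁).toMonoidHom v ∈ Q
        exact (hs' V'' hV'').1 (conj_mem_of_mem_normalizer (hh₁ V'' hV'') hv)
    obtain ⟨h₂, hh₂, c₂, hc₂, h12⟩ := hV'c B' hB' h₁ hh₁N hB'h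
    have hc₂B' := Subgroup.mem_centralizer_iff.mp hc₂.2
    have hh₂eq : h₂ = h₁ * c₂⁻¹ := by rw [h12]; group
    refine ⟨h₂, hh₂.1, ?_, c₂ * c₁, Subgroup.mem_inf.mpr ⟨N.mul_mem hc₂.1 hc₁.1, ?_⟩, ?_⟩
    · intro V'' hV''
      rcases Finset.mem_insert.mp hV'' with rfl | hV''s
      · exact hh₂.2
      · rw [hh₂eq]
        apply Subgroup.mul_mem _ (hh₁ V'' hV''s)
        apply Subgroup.inv_mem
        have h4 : c₂ ∈ Subgroup.centralizer (V'' : Set G) :=
          Subgroup.centralizer_le (hsB' V'' hV''s) hc₂.2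
        exact Subgroup.centralizer_le_normalizer _ h4
    · exact Subgroup.mul_mem _ (Subgroup.centralizer_le hBB' hc₂.2) hc₁.2
    · rw [hn1, h12]; group

theorem normalizer_le_normalizer_lcs (W : Subgroup G) (i : ℕ) :
    Subgroup.normalizer (W : Set G) ≤ Subgroup.normalizer ((W.lowerCentralSeries i : Subgroup G) : Set G) := by
  intro h hh
  rw [mem_normalizer_iff_cj_eq] at hh ⊢
  rw [Subgroup.map_lowerCentralSeries, hh]

theorem normal_control [Finite G] {p : ℕ} [hp : Fact p.Prime] (N : Subgroup G) [hN : N.Normal]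
    (P : Sylow p G) (V : Subgroup G) (hV : V ≤ (P : Subgroup G) ⊓ N)
    (hctrl : CtrlIn N ((P : Subgroup G) ⊓ N) V)
    (W : Subgroup G)
    (hW : W = Subgroup.closure (⋃ x ∈ Subgroup.normalizer (((P : Subgroup G) ⊓ N : Subgroup G) : Set G),
      ((V.map (MulAut.conj x).toMonoidHom : Subgroup G) : Set G))) :
    ∀ A : Subgroup G, A ≤ (P : Subgroup G) → ∀ g : G,
      A.map (MulAut.conj g).toMonoidHom ≤ (P : Subgroup G) →
        ∃ h ∈ Subgroup.normalizer (W : Set G), ∃ c ∈ Subgroup.centralizer (A : Set G),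
          g = h * c := by
  classical
  obtain ⟨Q, hQ⟩ : ∃ Q : Subgroup G, Q = (P : Subgroup G) ⊓ N := ⟨_, rfl⟩
  rw [← hQ] at hV hctrl hW
  obtain ⟨Tn, hTn⟩ : ∃ Tn : Subgroup G, Tn = Subgroup.normalizer (Q : Set G) := ⟨_, rfl⟩
  rw [← hTn] at hW
  have hQP : Q ≤ (P : Subgroup G) := hQ ▸ inf_le_left
  have hQN : Q ≤ N := hQ ▸ inf_le_right
  have hVx : ∀ x ∈ Tn, V.map (MulAut.conj x).toMonoidHom ≤ Q ∧
      CtrlIn N Q (V.map (MulAut.conj x).toMonoidHom) := by
    intro x hx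
    refine ⟨?_, ctrlIn_conj N Q V x (hTn ▸ hx) hctrl⟩
    have h1 : Q.map (MulAut.conj x).toMonoidHom = Q := mem_normalizer_iff_cj_eq.mp (hTn ▸ hx)
    rw [← h1]
    exact cj_mono hV
  have hgenW : ∀ x ∈ Tn, V.map (MulAut.conj x).toMonoidHom ≤ W := by
    intro x hx v hv
    rw [hW]
    apply Subgroup.subset_closure
    exact Set.mem_biUnion hx hv
  have hWQ : W ≤ Q := by
    rw [hW, Subgroup.closure_le]
    intro v hv
    obtain ⟨x, hx, hv⟩ := Set.mem_iUnion₂.mp hv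
    exact (hVx x hx).1 hv
  have hnormW : ∀ h : G, (∀ x ∈ Tn, h ∈ Subgroup.normalizer
      ((V.map (MulAut.conj x).toMonoidHom : Subgroup G) : Set G)) →
      h ∈ Subgroup.normalizer (W : Set G) := by
    intro h hh
    apply mem_normalizer_of_cj_le
    rw [Subgroup.map_le_iff_le_comap]
    conv_lhs => rw [hW]
    rw [Subgroup.closure_le]
    intro v hv
    obtain ⟨x, hx, hv⟩ := Set.mem_iUnion₂.mp hv
    show (MulAut.conj h).toMonoidHom v ∈ W
    exact hgenW x hx (conj_mem_of_mem_normalizer (hh x hx) hv)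
  have hTW : Tn ≤ Subgroup.normalizer (W : Set G) := by
    intro t ht
    apply mem_normalizer_of_cj_le
    rw [Subgroup.map_le_iff_le_comap]
    conv_lhs => rw [hW]
    rw [Subgroup.closure_le]
    intro v hv
    obtain ⟨x, hx, hv⟩ := Set.mem_iUnion₂.mp hv
    show (MulAut.conj t).toMonoidHom v ∈ W
    apply hgenW (t * x) (Tn.mul_mem ht hx)
    rw [← cj_cj]
    exact cj_mem hv
  obtain ⟨s, hs⟩ : ∃ s : Finset (Subgroup G), s = (Set.toFinite
      (Set.range fun x : Tn => V.map (MulAut.conj (x : G)).toMonoidHom)).toFinset := ⟨_, rfl⟩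
  have hsmem : ∀ V' ∈ s, V' ≤ Q ∧ CtrlIn N Q V' := by
    intro V' hV'
    rw [hs, Set.Finite.mem_toFinset] at hV'
    obtain ⟨x, rfl⟩ := hV'
    exact hVx x x.2
  have hM : ∀ B : Subgroup G, B ≤ Q → ∀ n ∈ N, B.map (MulAut.conj n).toMonoidHom ≤ Q →
      ∃ h ∈ Subgroup.normalizer (W : Set G), ∃ c ∈ Subgroup.centralizer (B : Set G),
        n = h * c := by
    intro B hB n hn hBn
    obtain ⟨h, _, hh, c, hc, hnc⟩ := multi_control N Q s hsmem B hB n hn hBn
    refine ⟨h, hnormW h ?_, c, hc.2, hnc⟩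
    intro x hx
    apply hh
    rw [hs, Set.Finite.mem_toFinset]
    exact ⟨⟨x, hx⟩, rfl⟩
  have hSylQ : IsSylowIn p Q N := by
    rw [hQ]
    apply (isSylowIn_top_of_sylow P).inf_of_normal le_top
    rw [Subgroup.normalizer_eq_top_iff.mpr hN]
  have hSC : ∀ Z : Subgroup G, Z ≤ Q →
      Subgroup.normalizer (W : Set G) ≤ Subgroup.normalizer (Z : Set G) →
      Cfsg.IsStronglyClosed Z (P : Subgroup G) := by
    intro Z hZQ hZn
    refine ⟨hZQ.trans hQP, ?_⟩
    intro z hz g hg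
    have hgN : g ∈ Subgroup.normalizer (N : Set G) := by
      rw [Subgroup.normalizer_eq_top_iff.mpr hN]; exact Subgroup.mem_top g
    obtain ⟨n₀, hn₀, hn₀g⟩ := hSylQ.frattini hgN
    obtain ⟨t, ht⟩ : ∃ t : G, t = n₀ * g := ⟨_, rfl⟩
    have htT : t ∈ Tn := by rw [hTn, ht]; exact hn₀g
    have hg2 : g = n₀⁻¹ * t := by rw [ht]; group
    obtain ⟨z', hz'⟩ : ∃ z' : G, z' = t * z * t⁻¹ := ⟨_, rfl⟩
    have hz'Z : z' ∈ Z := by
      rw [hz']
      exact conj_mem_of_mem_normalizer (hZn (hTW htT)) hz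
    have e1 : g * z * g⁻¹ = n₀⁻¹ * z' * n₀⁻¹⁻¹ := by rw [hg2, hz']; group
    have hBQ : Subgroup.zpowers z' ≤ Q := (Subgroup.zpowers_le).mpr (hZQ hz'Z)
    have hBn : (Subgroup.zpowers z').map (MulAut.conj n₀⁻¹).toMonoidHom ≤ Q := by
      rw [Subgroup.map_le_iff_le_comap, Subgroup.zpowers_le]
      show (MulAut.conj n₀⁻¹).toMonoidHom z' ∈ Q
      have e2 : (MulAut.conj n₀⁻¹).toMonoidHom z' = g * z * g⁻¹ := by
        rw [e1]; rfl
      rw [e2, hQ]
      refine Subgroup.mem_inf.mpr ⟨hg, ?_⟩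
      rw [e1]
      exact hN.conj_mem z' (hQN (hZQ hz'Z)) n₀⁻¹
    obtain ⟨h, hh, c, hc, hnc⟩ := hM _ hBQ n₀⁻¹ (N.inv_mem hn₀) hBn
    have hcz : z' * c = c * z' :=
      Subgroup.mem_centralizer_iff.mp hc z' (Subgroup.mem_zpowers z')
    have e3 : g * z * g⁻¹ = h * z' * h⁻¹ := by
      rw [e1, hnc]
      calc h * c * z' * (h * c)⁻¹ = h * (c * z') * c⁻¹ * h⁻¹ := by group
        _ = h * (z' * c) * c⁻¹ * h⁻¹ := by rw [hcz]
        _ = h * z' * h⁻¹ := by group
    rw [e3]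
    exact conj_mem_of_mem_normalizer (hZn hh) hz'Z
  have hWsc : Cfsg.IsStronglyClosed W (P : Subgroup G) := hSC W hWQ le_rfl
  have hWp : IsPGroup p W := P.2.to_le hWsc.1
  haveI : Group.IsNilpotent W := hWp.isNilpotent
  obtain ⟨c, hc⟩ := (Subgroup.isNilpotent_iff_lowerCentralSeries W).mp inferInstance
  obtain ⟨Ws, hWs⟩ : ∃ Ws : ℕ → Subgroup G,
      Ws = fun i => if i ≤ c then W.lowerCentralSeries (c - i) else (P : Subgroup G) := ⟨_, rfl⟩
  have hWs_le : ∀ i, i ≤ c → Ws i = W.lowerCentralSeries (c - i) := by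
    intro i hi; rw [hWs]; simp [hi]
  have hWs_gt : ∀ i, ¬ i ≤ c → Ws i = (P : Subgroup G) := by
    intro i hi; rw [hWs]; simp [hi]
  have hlcsW : ∀ j, W.lowerCentralSeries j ≤ W := by
    intro j
    have := Subgroup.lowerCentralSeries_antitone W (Nat.zero_le j)
    rwa [Subgroup.lowerCentralSeries_zero] at this
  have hsc : ∀ i, Cfsg.IsStronglyClosed (Ws i) (P : Subgroup G) := by
    intro i
    by_cases hi : i ≤ c
    · rw [hWs_le i hi]
      exact hSC _ ((hlcsW _).trans hWQ) (normalizer_le_normalizer_lcs W _)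
    · rw [hWs_gt i hi]
      exact ⟨le_rfl, fun x _ g h => h⟩
  have h0 : Ws 0 = ⊥ := by
    rw [hWs_le 0 (Nat.zero_le c), Nat.sub_zero, hc]
  have hm : Ws (c + 1) = (P : Subgroup G) := hWs_gt (c + 1) (by omega)
  have hPW : (P : Subgroup G) ≤ Subgroup.normalizer (W : Set G) :=
    le_normalizer_of_stronglyClosed hWsc
  have hcomm : ∀ i < c + 1, ⁅Ws (i + 1), W⁆ ≤ Ws i := by
    intro i hi
    by_cases hic : i < c
    · rw [hWs_le (i + 1) (by omega), hWs_le i (by omega)]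
      have e : c - i = (c - (i + 1)) + 1 := by omega
      rw [e, Subgroup.lowerCentralSeries_succ]
    · have hic' : i = c := by omega
      rw [hWs_gt (i + 1) (by omega), hWs_le i (by omega), hic', Nat.sub_self,
        Subgroup.lowerCentralSeries_zero, Subgroup.commutator_le]
      intro y hy w hw
      rw [commutatorElement_def]
      exact W.mul_mem (conj_mem_of_mem_normalizer (hPW hy) hw) (W.inv_mem hw)
  intro A hAP g hg
  have hrc : rc A g⁻¹ ≤ (P : Subgroup G) := by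
    rw [rc_def, inv_inv]; exact hg
  obtain ⟨c', hc', h, hh, hgch⟩ := controls_strong_of_series P W Ws (c + 1) hWsc h0 hm hsc hcomm
    A hAP g⁻¹ hrc
  refine ⟨h⁻¹, Subgroup.inv_mem _ hh, c'⁻¹, Subgroup.inv_mem _ hc', ?_⟩
  rw [← inv_inv g, hgch]; group

end Cfsg.Agent.Lib.Helper1
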