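import Mathlib
import Cfsg.Agent.Lib.Helper13.O5760.Defs
import Cfsg.Agent.Lib.Helper24.O5760YSQ
import Cfsg.Agent.Lib.Helper20.PSLQGEN
import Cfsg.Agent.Lib.Helper10.PSLYSQcore
import Cfsg.Agent.Lib.helper23.PSLT1SUM

set_option autoImplicit false
set_option linter.unusedVariables false
set_option linter.unusedSectionVars false
open scoped ComplexConjugate
open Classical

namespace Cfsg.Agent.Lib.Helper13.O5760

open Cfsg.Agent.Lib.helper7 Cfsg.Agent.Lib.helper7.BR Cfsg.Agent.Lib.helper2 Cfsg.Agent.Lib.Helper25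
  Cfsg.Agent.Lib.Helper29 Cfsg.Agent.Lib.helper15.BH Cfsg.Agent.Lib.helper15.PSL

universe u

variable {G : Type u} [Group G] [Fintype G]

theorem o5760col_qy {p : ℕ} [Fact p.Prime] {f : ℕ} {P : Sylow p G}
    {X Y : Finset (Cfsg.IrrCharacter G)}
    {a : Cfsg.IrrCharacter G → ℤ} {ε : ℤ} (hL : Loc p f P)
    (hB : PB0 p f (P : Subgroup G) X Y a ε)
    (hysq : ∀ η ∈ Y, ∑ x : ↥(P : Subgroup G),
        (if (x : G) = 1 then 0 else (η : G → ℂ) (x : G) * conj ((η : G → ℂ) (x : G))) =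
      (f : ℂ) * ((f : ℂ) + 1))
    (a₀ b : G) (ha₀ : a₀ ∈ (P : Subgroup G)) (ha₀1 : a₀ ≠ 1) (hb : b ∈ (P : Subgroup G))
    (hb1 : b ≠ 1) :
    ∑ η ∈ Y, (η : G → ℂ) a₀ * (η : G → ℂ) b =
      if IsConj a₀⁻¹ b then (f : ℂ) + 1 else -(f : ℂ) := by
  have hne0 : Y.Nonempty := by
    rw [← Finset.card_pos, hB.cardY]; norm_num
  obtain ⟨η₁, hη₁⟩ := hne0
  obtain ⟨η₂, hη₂, hne, hY⟩ := pslysq_pair hB η₁ hη₁
  have hε : ((ε : ℂ) = 1 ∨ (ε : ℂ) = -1) := by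
    rcases hB.eps_pm with h | h
    · left; rw [h]; norm_num
    · right; rw [h]; norm_num
  have hsum : ∀ x ∈ (P : Subgroup G), x ≠ 1 → (η₁ : G → ℂ) x + (η₂ : G → ℂ) x = -(ε : ℂ) := by
    intro x hx hx1
    have hxs := pslysq_sing hL.cardP ⟨x, hx⟩ hx1
    have := hB.sumY x hxs
    rw [hY, Finset.sum_pair hne.symm] at this
    exact this
  have h := Q_gen hL η₁ η₂ (ε : ℂ) hε hsum (pslysq_sumP1 hB η₁ hη₁) (hysq η₁ hη₁) a₀ b ha₀ ha₀1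
    hb hb1
  rw [hY, Finset.sum_pair hne.symm]
  exact h

theorem o5760col_core {p : ℕ} [Fact p.Prime] {f : ℕ} {P : Sylow p G}
    {X Y : Finset (Cfsg.IrrCharacter G)}
    {a : Cfsg.IrrCharacter G → ℤ} {ε : ℤ} (hL : Loc p f P)
    (hB : PB0 p f (P : Subgroup G) X Y a ε)
    (hysq : ∀ η ∈ Y, ∑ x : ↥(P : Subgroup G),
        (if (x : G) = 1 then 0 else (η : G → ℂ) (x : G) * conj ((η : G → ℂ) (x : G))) =
      (f : ℂ) * ((f : ℂ) + 1))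
    (x : G) (hx : x ∈ (P : Subgroup G)) (hx1 : x ≠ 1) :
    ∑ ξ ∈ X ∪ Y, (ξ : G → ℂ) x * conj ((ξ : G → ℂ) x) = (p : ℂ) := by
  have hsa : p ∣ orderOf x := pslt1sum_sing hL x hx hx1
  rw [Finset.sum_union hB.disj]
  have hX : ∑ ξ ∈ X, (ξ : G → ℂ) x * conj ((ξ : G → ℂ) x) = (f : ℂ) := by
    have h1 : ∀ ξ ∈ X, (ξ : G → ℂ) x * conj ((ξ : G → ℂ) x) = 1 := by
      intro ξ hξ
      rw [hB.valX ξ hξ x hsa]
      rcases hB.a_pm ξ hξ with h | h <;> rw [h] <;> simp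
    rw [Finset.sum_congr rfl h1]
    simp [hB.cardX]
  have hY : ∑ η ∈ Y, (η : G → ℂ) x * conj ((η : G → ℂ) x) = (f : ℂ) + 1 := by
    have h1 := o5760col_qy hL hB hysq x x⁻¹ hx hx1 (inv_mem hx) (inv_ne_one.mpr hx1)
    rw [if_pos (IsConj.refl _)] at h1
    rw [← h1]
    refine Finset.sum_congr rfl fun η _ => ?_
    rw [irr_inv]
  rw [hX, hY, ← hL.two_f]
  push_cast
  ring

theorem colsum {p : ℕ} [Fact p.Prime] {f : ℕ} {P : Sylow p G} {X Y : Finset (Cfsg.IrrCharacter G)}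
    {a : Cfsg.IrrCharacter G → ℤ} {ε : ℤ} (hL : Loc p f P) (hB : PB0 p f (P : Subgroup G) X Y a ε)
    (hZ : Subgroup.center G = ⊥) (x : G) (hx : x ∈ (P : Subgroup G)) (hx1 : x ≠ 1) :
    ∑ ξ ∈ X ∪ Y, (ξ : G → ℂ) x * conj ((ξ : G → ℂ) x) = (p : ℂ) :=
  o5760col_core hL hB (fun η hη => ysq hL hB hZ η hη) x hx hx1

end Cfsg.Agent.Lib.Helper13.O5760
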