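import Mathlib
import Cfsg.Agent.Lib.Helper1.O9L.Defs
import Cfsg.Agent.Lib.Helper18.OmegaOdd

set_option autoImplicit false
set_option linter.unusedVariables false
set_option linter.unusedSectionVars false

/-!
# Project O9L, row SQ (helper1): `omr_sq`, verbatim from `Helper1/O9L/Skel.lean.txt`.
-/

namespace Cfsg.Agent.Lib.Helper1.O9L

open Matrix Module Cfsg.Agent.Lib.Helper13.OTS

/-- the square of an isometry lies in `Ω` (as an element of the isometry group) -/
theorem o9lsq_mem {F : Type*} [Field F] (h2 : (2 : F) ≠ 0) {ι : Type} [Fintype ι] [DecidableEq ι]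
    (Qs : QuadraticForm F (ι → F)) (hQ : (QuadraticMap.polarBilin Qs).Nondegenerate)
    (g : ↥(Cfsg.isometryGroup F (⇑Qs))) : g * g ∈ Cfsg.Omega F (⇑Qs) := by
  have h := Cfsg.Agent.Lib.Helper18.OmegaOdd.omegaodd_sq_mem h2 Qs hQ (g : GL ι F) g.2
  obtain ⟨x, hx, hxe⟩ := h
  have : x = g * g := by
    apply Subtype.ext
    rw [Subgroup.coe_mul]
    exact hxe
  rw [← this]
  exact hx

theorem omr_sq {F : Type*} [Field F] [Fintype F] (h2 : (2 : F) ≠ 0) (d : ℕ) (s : ℤ) (M : ℕ)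
    (h : OmN F d s (2 * M)) : OmR F d s M := by
  obtain ⟨ι, fι, dι, Qs, hs, g, hg, hdet, ho⟩ := h
  refine ⟨ι, fι, dι, Qs, hs, g * g, o9lsq_mem h2 Qs hs.nd g, ?_⟩
  have hpos : 0 < orderOf g := orderOf_pos g
  have hM : 0 < M := by
    rw [ho] at hpos
    omega
  rw [← pow_two, orderOf_pow, ho, Nat.gcd_mul_right_left, Nat.mul_div_cancel_left M (by norm_num)]

end Cfsg.Agent.Lib.Helper1.O9L
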