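import Mathlib
import Cfsg.Agent.Lib.Helper1.O9L.Defs
import Cfsg.Agent.Lib.Helper16.SpinE3
import Cfsg.Agent.Lib.Helper16.CDG
import Cfsg.Agent.Lib.Helper16.SumQF2
import Cfsg.Agent.Lib.Helper16.SO8SUM

set_option autoImplicit false
set_option linter.unusedVariables false
set_option linter.unusedSectionVars false

/-!
# Project O9L, row SUMN (helper1): `omn_sum`, verbatim from `Helper1/O9L/Skel.lean.txt`.
Two isometries of determinant `1` outside `Ω` add up to an element of `Ω` of the orthogonal sum.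
-/

namespace Cfsg.Agent.Lib.Helper1.O9L

open Matrix Module Cfsg.Agent.Lib.Helper13.OTS Cfsg.Agent.Lib.Helper16 Cfsg.Agent.Lib.Helper19.SO8
  Cfsg.Agent.Lib.helper6

section lists

variable {ι : Type} [Fintype ι] [DecidableEq ι] {F : Type*} [Field F]

theorem o9lsumn_reflG'_sq (Q : QuadraticForm F (ι → F)) (v : ι → F) : reflG' Q v * reflG' Q v = 1 := by
  by_cases h : Q v ≠ 0
  · rw [reflG'_eq Q v h, reflG_mul_self]
  · unfold reflG'
    rw [dif_neg h, one_mul]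

theorem o9lsumn_reflG'_inv (Q : QuadraticForm F (ι → F)) (v : ι → F) : (reflG' Q v)⁻¹ = reflG' Q v :=
  inv_eq_of_mul_eq_one_left (o9lsumn_reflG'_sq Q v)

theorem o9lsumn_prod_inv (Q : QuadraticForm F (ι → F)) (vs : List (ι → F)) :
    ((vs.map (reflG' Q)).prod)⁻¹ = (vs.reverse.map (reflG' Q)).prod := by
  induction vs with
  | nil => simp
  | cons v vs ih =>
    rw [List.map_cons, List.prod_cons, _root_.mul_inv_rev, ih, o9lsumn_reflG'_inv, List.reverse_cons,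
      List.map_append, List.prod_append, List.map_cons, List.map_nil, List.prod_cons, List.prod_nil,
      mul_one]

/-- Cartan–Dieudonné: every isometry is a product of reflections -/
theorem o9lsumn_list (h2 : (2 : F) ≠ 0) (Q : QuadraticForm F (ι → F))
    (hQ : (QuadraticMap.polarBilin Q).Nondegenerate) (g : ↥(Cfsg.isometryGroup F ⇑Q)) :
    ∃ vs : List (ι → F), (∀ v ∈ vs, Q v ≠ 0) ∧ g = (vs.map (reflG' Q)).prod := by
  have hg : g ∈ Subgroup.closure (Cfsg.Agent.Lib.Helper16.CDG.Rset Q) := by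
    rw [Cfsg.Agent.Lib.Helper16.CDG.cartan_dieudonne h2 Q hQ]
    trivial
  induction hg using Subgroup.closure_induction with
  | mem r hr =>
    obtain ⟨v, hv, hrv⟩ := hr
    refine ⟨[v], ?_, ?_⟩
    · intro w hw
      rw [List.mem_singleton] at hw
      rw [hw]
      exact hv
    · rw [List.map_cons, List.map_nil, List.prod_cons, List.prod_nil, mul_one]
      apply iso_ext'
      rw [hrv, reflG'_eq Q v hv, reflG_coe]
  | one => exact ⟨[], by simp, by simp⟩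
  | mul x y _ _ hx hy =>
    obtain ⟨vs, hvs, rfl⟩ := hx
    obtain ⟨ws, hws, rfl⟩ := hy
    refine ⟨vs ++ ws, ?_, ?_⟩
    · intro v hv
      rcases List.mem_append.mp hv with h | h
      · exact hvs v h
      · exact hws v h
    · rw [List.map_append, List.prod_append]
  | inv x _ hx =>
    obtain ⟨vs, hvs, rfl⟩ := hx
    refine ⟨vs.reverse, ?_, o9lsumn_prod_inv Q vs⟩
    intro v hv
    exact hvs v (List.mem_reverse.mp hv)

/-- an isometry of determinant `1` outside `Ω` is a product of an even number of reflections with non-square product of norms -/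
theorem o9lsumn_class [Fintype F] (h2 : (2 : F) ≠ 0) (Q : QuadraticForm F (ι → F))
    (hQ : (QuadraticMap.polarBilin Q).Nondegenerate) (g : ↥(Cfsg.isometryGroup F ⇑Q))
    (hg : g ∉ Cfsg.Omega F ⇑Q) (hdet : ((g : GL ι F) : Matrix ι ι F).det = 1) :
    ∃ vs : List (ι → F), (∀ v ∈ vs, Q v ≠ 0) ∧ g = (vs.map (reflG' Q)).prod ∧ Even vs.length ∧
      ¬ IsSquare (vs.map (fun v => Q v)).prod := by
  obtain ⟨vs, hvs, rfl⟩ := o9lsumn_list h2 Q hQ g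
  have heven : Even vs.length := by
    have h1 : isoDet (⇑Q) (vs.map (reflG' Q)).prod = 1 := by
      apply Units.ext
      rw [isoDet_coe, hdet]
      rfl
    rw [isoDet_prod Q vs hvs] at h1
    have hne : (-1 : Fˣ) ≠ 1 := by
      intro h
      have h3 := congrArg Units.val h
      simp only [Units.val_neg, Units.val_one] at h3
      apply h2
      linear_combination -h3
    exact (neg_one_pow_eq_one_iff_even hne).mp h1
  refine ⟨vs, hvs, rfl, heven, ?_⟩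
  intro hsq
  exact hg (master_backward h2 Q vs hvs heven hsq)

end lists

section sums

variable {ι₁ ι₂ : Type} [Fintype ι₁] [DecidableEq ι₁] [Fintype ι₂] [DecidableEq ι₂]
  {F : Type*} [Field F]

theorem o9lsumn_sumQF_inr (Q₁ : QuadraticForm F (ι₁ → F)) (Q₂ : QuadraticForm F (ι₂ → F)) (u : ι₂ → F) :
    sumQF Q₁ Q₂ (Sum.elim 0 u) = Q₂ u := by
  rw [sumQF_apply]
  have h0 : (Sum.elim (0 : ι₁ → F) u) ∘ Sum.inl = 0 := rfl
  have h1 : (Sum.elim (0 : ι₁ → F) u) ∘ Sum.inr = u := rfl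
  rw [h0, h1, QuadraticMap.map_zero, zero_add]

theorem o9lsumn_embR_refl_coe (Q₁ : QuadraticForm F (ι₁ → F)) (Q₂ : QuadraticForm F (ι₂ → F))
    (u : ι₂ → F) :
    Matrix.fromBlocks (1 : Matrix ι₁ ι₁ F) 0 0 (Cfsg.reflectionMatrix ⇑Q₂ u)
      = Cfsg.reflectionMatrix ⇑(sumQF Q₁ Q₂) (Sum.elim 0 u) := by
  rw [Matrix.ext_iff_mulVec]
  intro x
  have := blkR_mulVec (ι₁ := ι₁) (Cfsg.reflectionMatrix ⇑Q₂ u) x
  rw [show blkR ι₁ ι₂ F (Cfsg.reflectionMatrix ⇑Q₂ u)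
    = Matrix.fromBlocks 1 0 0 (Cfsg.reflectionMatrix ⇑Q₂ u) from rfl] at this
  rw [this, reflectionMatrix_mulVec, reflectionMatrix_mulVec, o9lsumn_sumQF_inr, sumQF_polar]
  have h0 : (Sum.elim (0 : ι₁ → F) u) ∘ Sum.inl = 0 := rfl
  have h1 : (Sum.elim (0 : ι₁ → F) u) ∘ Sum.inr = u := rfl
  rw [h0, h1, QuadraticMap.polar_zero_left, zero_add]
  funext i
  rcases i with i | j
  · simp
  · simp

theorem o9lsumn_embL_refl (Q₁ : QuadraticForm F (ι₁ → F)) (Q₂ : QuadraticForm F (ι₂ → F)) (v : ι₁ → F)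
    (hv : Q₁ v ≠ 0) : embL Q₁ Q₂ (reflG' Q₁ v) = reflG' (sumQF Q₁ Q₂) (Sum.elim v 0) := by
  have hv' : sumQF Q₁ Q₂ (Sum.elim v 0) ≠ 0 := by rw [sumQF_inl]; exact hv
  apply iso_ext'
  rw [embL_coe, reflG'_eq Q₁ v hv, reflG_coe, reflG'_eq _ _ hv', reflG_coe, embL_refl_coe]

theorem o9lsumn_embR_refl (Q₁ : QuadraticForm F (ι₁ → F)) (Q₂ : QuadraticForm F (ι₂ → F)) (w : ι₂ → F)
    (hw : Q₂ w ≠ 0) : embR Q₁ Q₂ (reflG' Q₂ w) = reflG' (sumQF Q₁ Q₂) (Sum.elim 0 w) := by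
  have hw' : sumQF Q₁ Q₂ (Sum.elim 0 w) ≠ 0 := by rw [o9lsumn_sumQF_inr]; exact hw
  apply iso_ext'
  rw [embR_coe, reflG'_eq Q₂ w hw, reflG_coe, reflG'_eq _ _ hw', reflG_coe, o9lsumn_embR_refl_coe]

theorem o9lsumn_embL_list (Q₁ : QuadraticForm F (ι₁ → F)) (Q₂ : QuadraticForm F (ι₂ → F))
    (vs : List (ι₁ → F)) (hvs : ∀ v ∈ vs, Q₁ v ≠ 0) :
    embL Q₁ Q₂ (vs.map (reflG' Q₁)).prod =
      ((vs.map (fun v => (Sum.elim v 0 : ι₁ ⊕ ι₂ → F))).map (reflG' (sumQF Q₁ Q₂))).prod := by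
  induction vs with
  | nil => simp
  | cons v vs ih =>
    rw [List.map_cons, List.prod_cons, map_mul, ih (fun w hw => hvs w (List.mem_cons_of_mem _ hw)),
      o9lsumn_embL_refl Q₁ Q₂ v (hvs v List.mem_cons_self), List.map_cons, List.map_cons,
      List.prod_cons]

theorem o9lsumn_embR_list (Q₁ : QuadraticForm F (ι₁ → F)) (Q₂ : QuadraticForm F (ι₂ → F))
    (ws : List (ι₂ → F)) (hws : ∀ w ∈ ws, Q₂ w ≠ 0) :
    embR Q₁ Q₂ (ws.map (reflG' Q₂)).prod =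
      ((ws.map (fun w => (Sum.elim 0 w : ι₁ ⊕ ι₂ → F))).map (reflG' (sumQF Q₁ Q₂))).prod := by
  induction ws with
  | nil => simp
  | cons w ws ih =>
    rw [List.map_cons, List.prod_cons, map_mul, ih (fun u hu => hws u (List.mem_cons_of_mem _ hu)),
      o9lsumn_embR_refl Q₁ Q₂ w (hws w List.mem_cons_self), List.map_cons, List.map_cons,
      List.prod_cons]

theorem o9lsumn_Qprod_L (Q₁ : QuadraticForm F (ι₁ → F)) (Q₂ : QuadraticForm F (ι₂ → F))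
    (vs : List (ι₁ → F)) :
    ((vs.map (fun v => (Sum.elim v 0 : ι₁ ⊕ ι₂ → F))).map (fun u => sumQF Q₁ Q₂ u)).prod =
      (vs.map (fun v => Q₁ v)).prod := by
  induction vs with
  | nil => simp
  | cons v vs ih =>
    rw [List.map_cons, List.map_cons, List.prod_cons, ih, sumQF_inl, List.map_cons, List.prod_cons]

theorem o9lsumn_Qprod_R (Q₁ : QuadraticForm F (ι₁ → F)) (Q₂ : QuadraticForm F (ι₂ → F))
    (ws : List (ι₂ → F)) :
    ((ws.map (fun w => (Sum.elim 0 w : ι₁ ⊕ ι₂ → F))).map (fun u => sumQF Q₁ Q₂ u)).prod =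
      (ws.map (fun w => Q₂ w)).prod := by
  induction ws with
  | nil => simp
  | cons w ws ih =>
    rw [List.map_cons, List.map_cons, List.prod_cons, ih, o9lsumn_sumQF_inr, List.map_cons,
      List.prod_cons]

/-- the sum of two isometries of determinant `1` outside `Ω` lies in `Ω` -/
theorem o9lsumn_mem [Fintype F] (h2 : (2 : F) ≠ 0) (Q₁ : QuadraticForm F (ι₁ → F)) (Q₂ : QuadraticForm F (ι₂ → F))
    (hQ₁ : (QuadraticMap.polarBilin Q₁).Nondegenerate) (hQ₂ : (QuadraticMap.polarBilin Q₂).Nondegenerate)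
    (g₁ : ↥(Cfsg.isometryGroup F ⇑Q₁)) (g₂ : ↥(Cfsg.isometryGroup F ⇑Q₂))
    (hg₁ : g₁ ∉ Cfsg.Omega F ⇑Q₁) (hd₁ : ((g₁ : GL ι₁ F) : Matrix ι₁ ι₁ F).det = 1)
    (hg₂ : g₂ ∉ Cfsg.Omega F ⇑Q₂) (hd₂ : ((g₂ : GL ι₂ F) : Matrix ι₂ ι₂ F).det = 1) :
    embL Q₁ Q₂ g₁ * embR Q₁ Q₂ g₂ ∈ Cfsg.Omega F ⇑(sumQF Q₁ Q₂) := by
  obtain ⟨vs, hvs, rfl, hev1, hns1⟩ := o9lsumn_class h2 Q₁ hQ₁ g₁ hg₁ hd₁
  obtain ⟨ws, hws, rfl, hev2, hns2⟩ := o9lsumn_class h2 Q₂ hQ₂ g₂ hg₂ hd₂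
  rw [o9lsumn_embL_list Q₁ Q₂ vs hvs, o9lsumn_embR_list Q₁ Q₂ ws hws, ← List.prod_append,
    ← List.map_append]
  apply master_backward h2
  · intro u hu
    rcases List.mem_append.mp hu with h | h
    · obtain ⟨v, hv, rfl⟩ := List.mem_map.mp h
      rw [sumQF_inl]
      exact hvs v hv
    · obtain ⟨w, hw, rfl⟩ := List.mem_map.mp h
      rw [o9lsumn_sumQF_inr]
      exact hws w hw
  · rw [List.length_append, List.length_map, List.length_map]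
    exact hev1.add hev2
  · rw [List.map_append, List.prod_append, o9lsumn_Qprod_L, o9lsumn_Qprod_R]
    exact nonsq_mul_nonsq hns1 hns2

end sums

theorem omn_sum {F : Type*} [Field F] [Fintype F] (h2 : (2 : F) ≠ 0) (d₁ d₂ : ℕ) (hd₁ : 1 ≤ d₁) (s₁ s₂ : ℤ) (N₁ N₂ : ℕ)
    (h₁ : OmN F d₁ s₁ N₁) (h₂ : OmN F d₂ s₂ N₂) : OmR F (d₁ + d₂) (s₁ * s₂) (Nat.lcm N₁ N₂) := by
  obtain ⟨ι₁, i₁, j₁, Q₁, hQ₁, g₁, hg₁, hdet₁, ho₁⟩ := h₁
  obtain ⟨ι₂, i₂, j₂, Q₂, hQ₂, g₂, hg₂, hdet₂, ho₂⟩ := h₂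
  refine ⟨ι₁ ⊕ ι₂, inferInstance, inferInstance, sumQF Q₁ Q₂, ?_, so8sum_phi Q₁ Q₂ (g₁, g₂), ?_, ?_⟩
  · refine ⟨sumQF_nondeg Q₁ Q₂ hQ₁.nd hQ₂.nd, ?_, ?_, ?_⟩
    · rw [Fintype.card_sum, hQ₁.card, hQ₂.card]
      ring
    · exact OSemi.isType_sumQF Q₁ Q₂ hQ₁.nd d₁ d₂ hd₁ hQ₁.card hQ₂.card s₁ s₂ hQ₁.ty hQ₂.ty
    · rcases hQ₁.eps with h | h <;> rcases hQ₂.eps with h' | h' <;> subst h <;> subst h' <;> simp
  · rw [so8sum_phi_apply]
    exact o9lsumn_mem h2 Q₁ Q₂ hQ₁.nd hQ₂.nd g₁ g₂ hg₁ hdet₁ hg₂ hdet₂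
  · rw [orderOf_injective (so8sum_phi Q₁ Q₂) (so8sum_phi_inj Q₁ Q₂) (g₁, g₂), Prod.orderOf, ho₁, ho₂]

end Cfsg.Agent.Lib.Helper1.O9L
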