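import Mathlib
import Cfsg.Agent.Lib.Helper1.O9L.Defs
import Cfsg.Agent.Lib.Helper1.O9LSUMN
import Cfsg.Agent.Lib.Helper1.O9LSQ
import Cfsg.Agent.Lib.Lead.O9LARITH

set_option autoImplicit false
set_option linter.unusedVariables false
set_option linter.unusedSectionVars false

/-!
# Project O9L, row ASMA (helper1): core of `asm_a` on the statements of PIECES (`omn_plus`, `omn_minus`).
-/

namespace Cfsg.Agent.Lib.Helper1.O9L

open Matrix Module Cfsg.Agent.Lib.Helper13.OTS

theorem o9lasma_core {F : Type*} [Field F] [Fintype F] (hF : Odd (Fintype.card F)) (a b : F) (hab : Aniso a b)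
    (hplus : ∀ k : ℕ, 1 ≤ k → OmN F k 1 (Fintype.card F ^ k - 1))
    (hminus : ∀ k : ℕ, 1 ≤ k → OmN F k (-1) (Fintype.card F ^ k + 1)) (N : ℕ)
    (hN : 2 * N = Fintype.card F ^ 4 + 1 ∨ 2 * N = Fintype.card F ^ 4 - 1 ∨
      2 * N = (Fintype.card F ^ 3 - 1) * (Fintype.card F + 1) ∨
      2 * N = (Fintype.card F ^ 3 + 1) * (Fintype.card F - 1)) : OmR F 4 (-1) N := by
  have h2 : (2 : F) ≠ 0 := two_ne_zero_of_odd hF
  have hq3 : 3 ≤ Fintype.card F := by
    have h1 : 1 < Fintype.card F := Fintype.one_lt_card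
    obtain ⟨t, ht⟩ := hF
    omega
  obtain ⟨e1, e2, e3, e4, e5, e6⟩ := o9l_arith (Fintype.card F) hF hq3
  rcases hN with h | h | h | h
  · have h1 := hminus 4 (by norm_num)
    rw [← h] at h1
    exact omr_sq h2 4 (-1) N h1
  · have h1 := omn_sum h2 2 2 (by norm_num) (-1) 1 _ _ (hminus 2 (by norm_num)) (hplus 2 (by norm_num))
    have h3 : Nat.lcm (Fintype.card F ^ 2 + 1) (Fintype.card F ^ 2 - 1) = N := by omega
    rw [h3] at h1
    have h4 : ((-1 : ℤ) * 1) = -1 := by norm_num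
    rw [h4] at h1
    exact h1
  · have h1 := omn_sum h2 3 1 (by norm_num) 1 (-1) _ _ (hplus 3 (by norm_num)) (hminus 1 (by norm_num))
    have h3 : Nat.lcm (Fintype.card F ^ 3 - 1) (Fintype.card F ^ 1 + 1) = N := by
      rw [pow_one]; omega
    rw [h3] at h1
    have h4 : ((1 : ℤ) * -1) = -1 := by norm_num
    rw [h4] at h1
    exact h1
  · have h1 := omn_sum h2 3 1 (by norm_num) (-1) 1 _ _ (hminus 3 (by norm_num)) (hplus 1 (by norm_num))
    have h3 : Nat.lcm (Fintype.card F ^ 3 + 1) (Fintype.card F ^ 1 - 1) = N := by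
      rw [pow_one]; omega
    rw [h3] at h1
    have h4 : ((-1 : ℤ) * 1) = -1 := by norm_num
    rw [h4] at h1
    exact h1

end Cfsg.Agent.Lib.Helper1.O9L
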