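import Mathlib
import Cfsg.Agent.Lib.Helper18.ONE.Defs
import Cfsg.Agent.Lib.Helper16.QuadClass

set_option autoImplicit false
set_option linter.unusedVariables false
set_option linter.unusedSectionVars false

namespace Cfsg.Agent.Lib.Helper18.ONE

open Polynomial Module Cfsg.Agent.Lib.Helper13.S5955 Cfsg.Agent.Lib.helper15.S5972

theorem repr_symm {F : Type*} [Field F] [Fintype F] (h2 : (2 : F) ≠ 0)
    {V : Type*} [AddCommGroup V] [Module F V] [FiniteDimensional F V]
    (B : LinearMap.BilinForm F V) (hsymm : ∀ u v, B u v = B v u)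
    (N : Submodule F V) (hN : SND B N) (hdim : 2 ≤ finrank F N) (t : F) (ht : t ≠ 0) :
    ∃ u ∈ N, B u u = t := by
  set B' : LinearMap.BilinForm F ↥N := t⁻¹ • (B.restrict N) with hB'
  have hB'app : ∀ a b : ↥N, B' a b = t⁻¹ * B (a : V) (b : V) := by
    intro a b
    rw [hB']
    rfl
  have hS : B'.IsSymm := ⟨fun a b => by
    show B' a b = B' b a
    rw [hB'app, hB'app, hsymm]⟩
  have hleft : ∀ a : ↥N, (∀ b : ↥N, B' a b = 0) → a = 0 := by
    intro a ha
    have h1 : (a : V) = 0 := by
      apply hN (a : V) a.2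
      intro v hv
      have h3 := ha ⟨v, hv⟩
      rw [hB'app] at h3
      rcases mul_eq_zero.mp h3 with h4 | h4
      · exact absurd h4 (inv_ne_zero ht)
      · exact h4
    exact Subtype.ext h1
  have hnd : B'.Nondegenerate := by
    constructor
    · intro a ha
      exact hleft a ha
    · intro a ha
      apply hleft a
      intro b
      have := ha b
      rw [hB'app] at this ⊢
      rw [hsymm]
      exact this
  obtain ⟨d, hd⟩ : ∃ d, finrank F ↥N = d + 2 := ⟨finrank F ↥N - 2, by omega⟩
  obtain ⟨x, hx⟩ := Cfsg.Agent.Lib.Helper16.exists_unit_vec h2 hd B' hS hnd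
  refine ⟨(x : V), x.2, ?_⟩
  rw [hB'app] at hx
  field_simp at hx
  exact hx

end Cfsg.Agent.Lib.Helper18.ONE
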