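import Mathlib
import Cfsg.Agent.Lib.Helper1.O9L.Defs
import Cfsg.Agent.Lib.helper4.O9LFREENcore
import Cfsg.Agent.Lib.Helper18.O9LNONMEM
import Cfsg.Agent.Lib.Helper28.O9LDETFREE

set_option autoImplicit false
set_option linter.unusedVariables false

/-!
# Project O9L, row FREEN: the verbatim wrapper `omn_of_free` on helper4's core `o9lfreen_core` (landed by helper1, the designer,
because NONMEM + DETFREE are on main and the wrapper gates PIECES).
-/

namespace Cfsg.Agent.Lib.Helper1.O9L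

open Matrix Module Cfsg.Agent.Lib.Helper13.OTS

theorem omn_of_free {F : Type*} [Field F] [Fintype F] (h2 : (2 : F) ≠ 0) {ι : Type} [Fintype ι] [DecidableEq ι]
    (Qs : QuadraticForm F (ι → F)) (d : ℕ) (s : ℤ) (hs : QStd Qs d s) (hd : 1 ≤ d)
    (g : ↥(Cfsg.isometryGroup F (⇑Qs))) (N : ℕ) (hN : (N : ℤ) = (Fintype.card F : ℤ) ^ d - s)
    (hfree : FreeG (g : GL ι F) N) : OmN F d s N :=
  o9lfreen_core h2 Qs d s hs hd g N hN hfree (free_not_mem h2 Qs d s hs hd g N hN hfree)
    (fun hc hf => free_det h2 Qs hs.nd hc g hf)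

end Cfsg.Agent.Lib.Helper1.O9L
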