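import Mathlib
import Cfsg.Agent.Lib.Helper1.O9L.Defs
import Cfsg.Agent.Lib.Helper21.OTSISOSTD
import Cfsg.Agent.Lib.Helper16.OTSTYTOP
import Cfsg.Agent.Lib.helper15.OTSSTDCTX
import Cfsg.Agent.Lib.helper15.SO8XFER
import Cfsg.Agent.Lib.Helper25.BCGX4

set_option autoImplicit false
set_option linter.unusedVariables false
set_option linter.unusedSectionVars false

/-!
# Project O9L, row FTRANS (helper1): `free_transport`, verbatim from `Helper1/O9L/Skel.lean.txt`.
-/

namespace Cfsg.Agent.Lib.Helper1.O9L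

open Matrix Module Cfsg.Agent.Lib.Helper13.OTS Cfsg.Agent.Lib.Helper19.SO8

theorem free_transport {F : Type*} [Field F] [Fintype F] {ι : Type} [Fintype ι] [DecidableEq ι]
    (Qs : QuadraticForm F (ι → F)) (d : ℕ) (s : ℤ) (hs : QStd Qs d s)
    {V : Type*} [AddCommGroup V] [Module F V] [FiniteDimensional F V] (Q : QuadraticForm F V)
    (hnd : ∀ u, (∀ v, QuadraticMap.polar Q u v = 0) → u = 0) (hV : finrank F V = 2 * d)
    (hty : QTy Q ⊤ s) (x : Module.End F V) (N : ℕ) (hx : FreeE Q x N) :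
    ∃ g : ↥(Cfsg.isometryGroup F (⇑Qs)), FreeG (g : GL ι F) N := by
  obtain ⟨ψ, hψ⟩ := q_iso_std Qs d s hs Q hnd hV hty
  obtain ⟨hnd0, hV0, hnd1⟩ := q_ty_top Qs d s hs
  have hctx : QCtx N Qs (ψ.symm.toLinearMap ∘ₗ x ∘ₗ ψ.toLinearMap) := by
    refine ⟨hnd1, ?_, ?_⟩
    · intro v
      rw [← hψ]
      simp only [LinearMap.coe_comp, LinearEquiv.coe_coe, Function.comp_apply,
        LinearEquiv.apply_symm_apply]
      rw [hx.pres, hψ]
    · rw [so8xfer_conj_pow, (hx.pow N).mpr dvd_rfl]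
      exact (so8xfer_conj_eq_one ψ 1).mpr rfl
  obtain ⟨g, hg, hgy, hgN⟩ := q_realize Qs N _ hctx
  refine ⟨⟨g, hg⟩, ?_, ?_⟩
  · show orderOf g = N
    have key : ∀ k, g ^ k = 1 ↔ N ∣ k := by
      intro k
      rw [Cfsg.Agent.Lib.Lead.BCG.gl_same, hgy, so8xfer_conj_pow, so8xfer_conj_eq_one, hx.pow]
    exact Nat.dvd_antisymm (orderOf_dvd_of_pow_eq_one ((key N).mpr dvd_rfl))
      ((key _).mp (pow_orderOf_eq_one _))
  · intro k hk v hv
    have h1 : Matrix.toLin' ((g ^ k : GL ι F) : Matrix ι ι F) v = v := by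
      rw [Matrix.toLin'_apply]
      exact hv
    rw [Units.val_pow_eq_pow_val, Matrix.toLin'_pow, hgy, so8xfer_conj_pow] at h1
    simp only [LinearMap.coe_comp, LinearEquiv.coe_coe, Function.comp_apply] at h1
    have h2 : (x ^ k) (ψ v) = ψ v := by
      have := congrArg ψ h1
      rwa [LinearEquiv.apply_symm_apply] at this
    have h3 := hx.free k hk (ψ v) h2
    exact ψ.map_eq_zero_iff.mp h3

end Cfsg.Agent.Lib.Helper1.O9L
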