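import Mathlib
import Cfsg.Agent.Lib.Helper1.O9L.Defs
import Cfsg.Agent.Lib.Helper1.O9LASMAcore
import Cfsg.Agent.Lib.helper15.O9LPIECES

set_option autoImplicit false
set_option linter.unusedVariables false

/-!
# Project O9L, row ASMA (helper1): `asm_a`, verbatim from `Helper1/O9L/Skel.lean.txt`.
-/

namespace Cfsg.Agent.Lib.Helper1.O9L

theorem asm_a {F : Type*} [Field F] [Fintype F] (hF : Odd (Fintype.card F)) (a b : F) (hab : Aniso a b) (N : ℕ)
    (hN : 2 * N = Fintype.card F ^ 4 + 1 ∨ 2 * N = Fintype.card F ^ 4 - 1 ∨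
      2 * N = (Fintype.card F ^ 3 - 1) * (Fintype.card F + 1) ∨
      2 * N = (Fintype.card F ^ 3 + 1) * (Fintype.card F - 1)) : OmR F 4 (-1) N :=
  o9lasma_core hF a b hab (fun k hk => omn_plus (two_ne_zero_of_odd hF) k hk)
    (fun k hk => omn_minus (two_ne_zero_of_odd hF) a b hab k hk) N hN

end Cfsg.Agent.Lib.Helper1.O9L
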