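import Mathlib
import Cfsg.Agent.Lib.Helper1.O9L.Defs
import Cfsg.Agent.Lib.Helper16.SumQF2
import Cfsg.Agent.Lib.Helper16.SO8SUM

set_option autoImplicit false
set_option linter.unusedVariables false
set_option linter.unusedSectionVars false

/-!
# Project O9L, rows SUMR + SUMV (helper1): `omr_sum`, `omv_sum`, verbatim from `Helper1/O9L/Skel.lean.txt`.
-/

namespace Cfsg.Agent.Lib.Helper1.O9L

open Matrix Module Cfsg.Agent.Lib.Helper13.OTS Cfsg.Agent.Lib.Helper16 Cfsg.Agent.Lib.Helper19.SO8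

/-- a homomorphism maps the commutator subgroup into the commutator subgroup -/
theorem o9lsumr_map_comm {G H : Type*} [Group G] [Group H] (f : G →* H) (g : G) (hg : g ∈ commutator G) :
    f g ∈ commutator H := by
  have h1 : f g ∈ (commutator G).map f := Subgroup.mem_map_of_mem f hg
  rw [commutator_def, Subgroup.map_commutator] at h1
  exact Subgroup.commutator_mono le_top le_top h1

section sums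

variable {ι₁ ι₂ : Type} [Fintype ι₁] [DecidableEq ι₁] [Fintype ι₂] [DecidableEq ι₂]
  {F : Type*} [Field F]

theorem o9lsumr_mem (Q₁ : QuadraticForm F (ι₁ → F)) (Q₂ : QuadraticForm F (ι₂ → F))
    (g₁ : ↥(Cfsg.isometryGroup F ⇑Q₁)) (g₂ : ↥(Cfsg.isometryGroup F ⇑Q₂))
    (hg₁ : g₁ ∈ Cfsg.Omega F ⇑Q₁) (hg₂ : g₂ ∈ Cfsg.Omega F ⇑Q₂) :
    embL Q₁ Q₂ g₁ * embR Q₁ Q₂ g₂ ∈ Cfsg.Omega F ⇑(sumQF Q₁ Q₂) :=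
  Subgroup.mul_mem _ (o9lsumr_map_comm (embL Q₁ Q₂) g₁ hg₁) (o9lsumr_map_comm (embR Q₁ Q₂) g₂ hg₂)

theorem o9lsumr_std [Fintype F] (Q₁ : QuadraticForm F (ι₁ → F)) (Q₂ : QuadraticForm F (ι₂ → F)) (d₁ d₂ : ℕ)
    (hd₁ : 1 ≤ d₁) (s₁ s₂ : ℤ) (hQ₁ : QStd Q₁ d₁ s₁) (hQ₂ : QStd Q₂ d₂ s₂) :
    QStd (sumQF Q₁ Q₂) (d₁ + d₂) (s₁ * s₂) := by
  refine ⟨sumQF_nondeg Q₁ Q₂ hQ₁.nd hQ₂.nd, ?_, ?_, ?_⟩
  · rw [Fintype.card_sum, hQ₁.card, hQ₂.card]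
    ring
  · exact OSemi.isType_sumQF Q₁ Q₂ hQ₁.nd d₁ d₂ hd₁ hQ₁.card hQ₂.card s₁ s₂ hQ₁.ty hQ₂.ty
  · rcases hQ₁.eps with h | h <;> rcases hQ₂.eps with h' | h' <;> subst h <;> subst h' <;> simp

theorem o9lsumr_pow_coe (Q₁ : QuadraticForm F (ι₁ → F)) (Q₂ : QuadraticForm F (ι₂ → F))
    (g₁ : ↥(Cfsg.isometryGroup F ⇑Q₁)) (g₂ : ↥(Cfsg.isometryGroup F ⇑Q₂)) (i : ℕ) :
    ((((so8sum_phi Q₁ Q₂ (g₁, g₂) : ↥(Cfsg.isometryGroup F ⇑(sumQF Q₁ Q₂))) : GL (ι₁ ⊕ ι₂) F) ^ i :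
        GL (ι₁ ⊕ ι₂) F) : Matrix (ι₁ ⊕ ι₂) (ι₁ ⊕ ι₂) F)
      = Matrix.fromBlocks ((((g₁ : GL ι₁ F) ^ i : GL ι₁ F)) : Matrix ι₁ ι₁ F) 0 0
          ((((g₂ : GL ι₂ F) ^ i : GL ι₂ F)) : Matrix ι₂ ι₂ F) := by
  have h1 : ((so8sum_phi Q₁ Q₂ (g₁, g₂) : ↥(Cfsg.isometryGroup F ⇑(sumQF Q₁ Q₂))) : GL (ι₁ ⊕ ι₂) F) ^ i
      = ((so8sum_phi Q₁ Q₂ (g₁ ^ i, g₂ ^ i) : ↥(Cfsg.isometryGroup F ⇑(sumQF Q₁ Q₂))) : GL (ι₁ ⊕ ι₂) F) := by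
    rw [← SubgroupClass.coe_pow, ← map_pow, Prod.pow_mk]
  rw [h1, so8sum_phi_apply, so8sum_coe_mul]
  rfl

theorem o9lsumr_geoS (Q₁ : QuadraticForm F (ι₁ → F)) (Q₂ : QuadraticForm F (ι₂ → F))
    (g₁ : ↥(Cfsg.isometryGroup F ⇑Q₁)) (g₂ : ↥(Cfsg.isometryGroup F ⇑Q₂)) (L : ℕ) :
    geoS ((so8sum_phi Q₁ Q₂ (g₁, g₂) : ↥(Cfsg.isometryGroup F ⇑(sumQF Q₁ Q₂))) : GL (ι₁ ⊕ ι₂) F) L
      = Matrix.fromBlocks (geoS (g₁ : GL ι₁ F) L) 0 0 (geoS (g₂ : GL ι₂ F) L) := by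
  unfold geoS
  induction L with
  | zero =>
    simp only [Finset.range_zero, Finset.sum_empty]
    exact (Matrix.fromBlocks_zero).symm
  | succ n ih =>
    rw [Finset.sum_range_succ, Finset.sum_range_succ, Finset.sum_range_succ, ih, o9lsumr_pow_coe,
      Matrix.fromBlocks_add]
    simp

end sums

/-- `∑_{i < N t} g^i = t • ∑_{i < N} g^i` when `g ^ N = 1` -/
theorem o9lsumr_geoS_mul {ι : Type} [Fintype ι] [DecidableEq ι] {F : Type*} [Field F] (g : GL ι F) (N : ℕ)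
    (hg : g ^ N = 1) (t : ℕ) : geoS g (N * t) = (t : F) • geoS g N := by
  unfold geoS
  induction t with
  | zero => simp
  | succ t ih =>
    rw [Nat.mul_succ, Finset.sum_range_add, ih]
    have h1 : ∀ x ∈ Finset.range N, (((g ^ (N * t + x) : GL ι F)) : Matrix ι ι F) = ((g ^ x : GL ι F) : Matrix ι ι F) := by
      intro x _
      rw [pow_add, pow_mul, hg, one_pow, one_mul]
    rw [Finset.sum_congr rfl h1]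
    push_cast
    rw [add_smul, one_smul]

theorem omr_sum {F : Type*} [Field F] [Fintype F] (d₁ d₂ : ℕ) (hd₁ : 1 ≤ d₁) (s₁ s₂ : ℤ) (N₁ N₂ : ℕ)
    (h₁ : OmR F d₁ s₁ N₁) (h₂ : OmR F d₂ s₂ N₂) : OmR F (d₁ + d₂) (s₁ * s₂) (Nat.lcm N₁ N₂) := by
  obtain ⟨ι₁, i₁, j₁, Q₁, hQ₁, g₁, hg₁, ho₁⟩ := h₁
  obtain ⟨ι₂, i₂, j₂, Q₂, hQ₂, g₂, hg₂, ho₂⟩ := h₂
  refine ⟨ι₁ ⊕ ι₂, inferInstance, inferInstance, sumQF Q₁ Q₂, o9lsumr_std Q₁ Q₂ d₁ d₂ hd₁ s₁ s₂ hQ₁ hQ₂,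
    so8sum_phi Q₁ Q₂ (g₁, g₂), ?_, ?_⟩
  · rw [so8sum_phi_apply]
    exact o9lsumr_mem Q₁ Q₂ g₁ g₂ hg₁ hg₂
  · rw [orderOf_injective (so8sum_phi Q₁ Q₂) (so8sum_phi_inj Q₁ Q₂) (g₁, g₂), Prod.orderOf, ho₁, ho₂]

theorem omv_sum {F : Type*} [Field F] [Fintype F] (d₁ d₂ : ℕ) (hd₁ : 1 ≤ d₁) (s₁ s₂ : ℤ) (N₁ N₂ : ℕ)
    (h₁ : OmV F d₁ s₁ N₁) (h₂ : OmR F d₂ s₂ N₂) (hc : ((Nat.lcm N₁ N₂ / N₁ : ℕ) : F) ≠ 0) :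
    OmV F (d₁ + d₂) (s₁ * s₂) (Nat.lcm N₁ N₂) := by
  obtain ⟨ι₁, i₁, j₁, Q₁, hQ₁, g₁, hg₁, ho₁, hgeo⟩ := h₁
  obtain ⟨ι₂, i₂, j₂, Q₂, hQ₂, g₂, hg₂, ho₂⟩ := h₂
  refine ⟨ι₁ ⊕ ι₂, inferInstance, inferInstance, sumQF Q₁ Q₂, o9lsumr_std Q₁ Q₂ d₁ d₂ hd₁ s₁ s₂ hQ₁ hQ₂,
    so8sum_phi Q₁ Q₂ (g₁, g₂), ?_, ?_, ?_⟩
  · rw [so8sum_phi_apply]
    exact o9lsumr_mem Q₁ Q₂ g₁ g₂ hg₁ hg₂
  · rw [orderOf_injective (so8sum_phi Q₁ Q₂) (so8sum_phi_inj Q₁ Q₂) (g₁, g₂), Prod.orderOf, ho₁, ho₂]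
  · rw [o9lsumr_geoS]
    intro h0
    have h1 : geoS (g₁ : GL ι₁ F) (Nat.lcm N₁ N₂) = 0 := by
      have h3 := congrArg Matrix.toBlocks₁₁ h0
      rw [Matrix.toBlocks_fromBlocks₁₁] at h3
      rw [h3]
      rfl
    obtain ⟨t, ht⟩ := Nat.dvd_lcm_left N₁ N₂
    have hN1 : (g₁ : GL ι₁ F) ^ N₁ = 1 := by
      rw [← ho₁, ← SubgroupClass.coe_pow, pow_orderOf_eq_one]
      rfl
    rw [ht, o9lsumr_geoS_mul _ N₁ hN1 t] at h1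
    have ht' : Nat.lcm N₁ N₂ / N₁ = t ∨ N₁ = 0 := by
      rcases Nat.eq_zero_or_pos N₁ with h | h
      · exact Or.inr h
      · left
        rw [ht, Nat.mul_div_cancel_left t h]
    rcases ht' with ht' | ht'
    · rw [ht'] at hc
      rcases smul_eq_zero.mp h1 with h | h
      · exact hc h
      · exact hgeo h
    · rw [ht'] at hc
      simp at hc

end Cfsg.Agent.Lib.Helper1.O9L
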