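import Mathlib
import Cfsg.Agent.Lib.Helper1.O9L.Defs
import Cfsg.Agent.Lib.Helper13.O9LASMBcore
import Cfsg.Agent.Lib.helper6.O9LASMCcore
import Cfsg.Agent.Lib.helper15.O9LPIECES
import Cfsg.Agent.Lib.helper17.O9LUNIPV
import Cfsg.Agent.Lib.Helper1.O9LSUMN
import Cfsg.Agent.Lib.Helper1.O9LSUMR
import Cfsg.Agent.Lib.Helper1.O9LSQ
import Cfsg.Agent.Lib.Lead.O9LARITH

set_option autoImplicit false

/-!
# Project O9L, rows ASMB + ASMC: the verbatim wrappers `asm_b`, `asm_c` on the cores of helper13 and helper6 (landed by helper1, the designer).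
-/ 
set_option linter.unusedVariables false

namespace Cfsg.Agent.Lib.Helper1.O9L

open Matrix Module Cfsg.Agent.Lib.Helper13.OTS

theorem asm_b {F : Type*} [Field F] [Fintype F] (p : ℕ) [Fact p.Prime] [CharP F p] (hp2 : p ≠ 2) (hF : Odd (Fintype.card F)) (a b : F)
    (hab : Aniso a b) (n : ℕ)
    (hn : 2 * n = Fintype.card F ^ 3 - 1 ∨ 2 * n = Fintype.card F ^ 3 + 1 ∨
      2 * n = (Fintype.card F ^ 2 + 1) * (Fintype.card F - 1) ∨
      2 * n = (Fintype.card F ^ 2 + 1) * (Fintype.card F + 1) ∨ n = Fintype.card F ^ 2 - 1) :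
    OmV F 4 (-1) n :=
  o9lasmb_core p hp2 hF a b hab n hn (fun Qs d s hs hd => omv_triv Qs d s hs hd) omv_sum omr_sq omn_plus omn_minus
    omn_sum o9l_arith

theorem asm_c {F : Type*} [Field F] [Fintype F] (p : ℕ) [Fact p.Prime] [CharP F p] (hF : Odd (Fintype.card F)) (a b : F)
    (hab : Aniso a b) (n : ℕ)
    (hn : (p = 3 ∧ (2 * n = 3 * (Fintype.card F ^ 2 + 1) ∨ 2 * n = 3 * (Fintype.card F ^ 2 - 1))) ∨
      (p = 5 ∧ (2 * n = 5 * (Fintype.card F - 1) ∨ 2 * n = 5 * (Fintype.card F + 1))) ∨ (p = 7 ∧ n = 7)) :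
    OmV F 4 (-1) n := by
  have h2 : (2 : F) ≠ 0 := two_ne_zero_of_odd hF
  have hp2 : p ≠ 2 := by
    rintro rfl
    have h1 : (2 : ℕ) ∣ Fintype.card F := char_dvd_card 2
    obtain ⟨t, ht⟩ := hF
    omega
  exact o9lasmc_core p hF a b hab (fun Qs d s hs hd => omv_unip p hp2 Qs d s hs hd) (fun d s M h => omr_sq h2 d s M h)
    omv_sum (fun k hk => omn_plus h2 k hk) (fun k hk => omn_minus h2 a b hab k hk) n hn

end Cfsg.Agent.Lib.Helper1.O9L
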