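import Mathlib
import Cfsg.Agent.Lib.Helper1.O9L.Defs
import Cfsg.Agent.Lib.Helper16.SpinA
import Cfsg.Agent.Lib.Helper21.OTSISOSTD
import Cfsg.Agent.Lib.Helper16.OTSTYTOP

set_option autoImplicit false
set_option linter.unusedVariables false
set_option linter.unusedSectionVars false

/-!
# Project O9L, rows ISOCONJ + XFER (helper1): `iso_conj`, `omr_xfer`, `omv_xfer`, verbatim from `Helper1/O9L/Skel.lean.txt`.
-/

namespace Cfsg.Agent.Lib.Helper1.O9L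

open Matrix Module Cfsg.Agent.Lib.Helper13.OTS Cfsg.Agent.Lib.Helper16

section conj

variable {F : Type*} [Field F] {ι ι' : Type} [Fintype ι] [DecidableEq ι] [Fintype ι'] [DecidableEq ι']

/-- the matrix of a linear equivalence of coordinate spaces -/
noncomputable def o9lxfer_P (ψ : (ι → F) ≃ₗ[F] (ι' → F)) : Matrix ι' ι F :=
  LinearMap.toMatrix' (ψ : (ι → F) →ₗ[F] (ι' → F))

theorem o9lxfer_P_mulVec (ψ : (ι → F) ≃ₗ[F] (ι' → F)) (v : ι → F) : o9lxfer_P ψ *ᵥ v = ψ v := by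
  unfold o9lxfer_P
  rw [LinearMap.toMatrix'_mulVec]
  rfl

theorem o9lxfer_P_mul (ψ : (ι → F) ≃ₗ[F] (ι' → F)) : o9lxfer_P ψ * o9lxfer_P ψ.symm = 1 := by
  unfold o9lxfer_P
  rw [← LinearMap.toMatrix'_comp]
  have : ((ψ : (ι → F) →ₗ[F] (ι' → F)) ∘ₗ (ψ.symm : (ι' → F) →ₗ[F] (ι → F))) = LinearMap.id := by
    apply LinearMap.ext
    intro v
    simp
  rw [this, LinearMap.toMatrix'_id]

theorem o9lxfer_P_mul' (ψ : (ι → F) ≃ₗ[F] (ι' → F)) : o9lxfer_P ψ.symm * o9lxfer_P ψ = 1 := by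
  have := o9lxfer_P_mul ψ.symm
  rwa [LinearEquiv.symm_symm] at this

/-- conjugation of matrices by a linear equivalence of coordinate spaces -/
noncomputable def o9lxfer_c (ψ : (ι → F) ≃ₗ[F] (ι' → F)) : Matrix ι ι F →* Matrix ι' ι' F where
  toFun M := o9lxfer_P ψ * M * o9lxfer_P ψ.symm
  map_one' := by rw [Matrix.mul_one, o9lxfer_P_mul]
  map_mul' A B := by
    calc o9lxfer_P ψ * (A * B) * o9lxfer_P ψ.symm
        = o9lxfer_P ψ * A * (1 : Matrix ι ι F) * B * o9lxfer_P ψ.symm := by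
          rw [Matrix.mul_one, Matrix.mul_assoc (o9lxfer_P ψ) A B]
      _ = o9lxfer_P ψ * A * (o9lxfer_P ψ.symm * o9lxfer_P ψ) * B * o9lxfer_P ψ.symm := by
          rw [o9lxfer_P_mul']
      _ = o9lxfer_P ψ * A * o9lxfer_P ψ.symm * (o9lxfer_P ψ * B * o9lxfer_P ψ.symm) := by
          simp only [Matrix.mul_assoc]

theorem o9lxfer_c_apply (ψ : (ι → F) ≃ₗ[F] (ι' → F)) (M : Matrix ι ι F) :
    o9lxfer_c ψ M = o9lxfer_P ψ * M * o9lxfer_P ψ.symm := rfl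

theorem o9lxfer_c_mulVec (ψ : (ι → F) ≃ₗ[F] (ι' → F)) (M : Matrix ι ι F) (v : ι → F) :
    o9lxfer_c ψ M *ᵥ (ψ v) = ψ (M *ᵥ v) := by
  rw [o9lxfer_c_apply, ← Matrix.mulVec_mulVec, ← Matrix.mulVec_mulVec, o9lxfer_P_mulVec ψ.symm,
    LinearEquiv.symm_apply_apply, o9lxfer_P_mulVec]

theorem o9lxfer_c_symm (ψ : (ι → F) ≃ₗ[F] (ι' → F)) (M : Matrix ι ι F) :
    o9lxfer_c ψ.symm (o9lxfer_c ψ M) = M := by
  rw [o9lxfer_c_apply, o9lxfer_c_apply, LinearEquiv.symm_symm]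
  calc o9lxfer_P ψ.symm * (o9lxfer_P ψ * M * o9lxfer_P ψ.symm) * o9lxfer_P ψ
      = (o9lxfer_P ψ.symm * o9lxfer_P ψ) * M * (o9lxfer_P ψ.symm * o9lxfer_P ψ) := by
        simp only [Matrix.mul_assoc]
    _ = M := by rw [o9lxfer_P_mul', Matrix.one_mul, Matrix.mul_one]

theorem o9lxfer_mem (Qs : QuadraticForm F (ι → F)) (Qs' : QuadraticForm F (ι' → F)) (ψ : (ι → F) ≃ₗ[F] (ι' → F))
    (hψ : ∀ v, Qs' (ψ v) = Qs v) (g : ↥(Cfsg.isometryGroup F (⇑Qs))) :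
    Units.map (o9lxfer_c ψ) (g : GL ι F) ∈ Cfsg.isometryGroup F (⇑Qs') := by
  rw [mem_iso_iff]
  intro w
  obtain ⟨v, rfl⟩ := ψ.surjective w
  rw [Units.coe_map]
  show Qs' (o9lxfer_c ψ ((g : GL ι F) : Matrix ι ι F) *ᵥ (ψ v)) = Qs' (ψ v)
  rw [o9lxfer_c_mulVec, hψ, hψ, iso_pres (⇑Qs) g]

/-- the homomorphism of isometry groups -/
noncomputable def o9lxfer_hom (Qs : QuadraticForm F (ι → F)) (Qs' : QuadraticForm F (ι' → F))
    (ψ : (ι → F) ≃ₗ[F] (ι' → F)) (hψ : ∀ v, Qs' (ψ v) = Qs v) :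
    ↥(Cfsg.isometryGroup F (⇑Qs)) →* ↥(Cfsg.isometryGroup F (⇑Qs')) :=
  MonoidHom.codRestrict ((Units.map (o9lxfer_c ψ)).comp (Subgroup.subtype _)) _
    (fun g => o9lxfer_mem Qs Qs' ψ hψ g)

theorem o9lxfer_hom_coe (Qs : QuadraticForm F (ι → F)) (Qs' : QuadraticForm F (ι' → F))
    (ψ : (ι → F) ≃ₗ[F] (ι' → F)) (hψ : ∀ v, Qs' (ψ v) = Qs v) (g : ↥(Cfsg.isometryGroup F (⇑Qs))) :
    (((o9lxfer_hom Qs Qs' ψ hψ g : ↥(Cfsg.isometryGroup F (⇑Qs'))) : GL ι' F) : Matrix ι' ι' F)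
      = o9lxfer_c ψ ((g : GL ι F) : Matrix ι ι F) := rfl

end conj

theorem iso_conj {F : Type*} [Field F] {ι ι' : Type} [Fintype ι] [DecidableEq ι] [Fintype ι'] [DecidableEq ι']
    (Qs : QuadraticForm F (ι → F)) (Qs' : QuadraticForm F (ι' → F)) (ψ : (ι → F) ≃ₗ[F] (ι' → F))
    (hψ : ∀ v, Qs' (ψ v) = Qs v) :
    ∃ Φ : ↥(Cfsg.isometryGroup F (⇑Qs)) ≃* ↥(Cfsg.isometryGroup F (⇑Qs')),
      ∀ (g : ↥(Cfsg.isometryGroup F (⇑Qs))) (v : ι → F),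
        (((Φ g : ↥(Cfsg.isometryGroup F (⇑Qs'))) : GL ι' F) : Matrix ι' ι' F) *ᵥ (ψ v) =
          ψ (((g : GL ι F) : Matrix ι ι F) *ᵥ v) := by
  have hψ' : ∀ w, Qs (ψ.symm w) = Qs' w := by
    intro w
    rw [← hψ, LinearEquiv.apply_symm_apply]
  refine ⟨{ toFun := o9lxfer_hom Qs Qs' ψ hψ
            invFun := o9lxfer_hom Qs' Qs ψ.symm hψ'
            left_inv := ?_
            right_inv := ?_
            map_mul' := fun a b => map_mul _ a b }, ?_⟩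
  · intro g
    apply iso_ext'
    rw [o9lxfer_hom_coe, o9lxfer_hom_coe, o9lxfer_c_symm]
  · intro g
    apply iso_ext'
    rw [o9lxfer_hom_coe, o9lxfer_hom_coe]
    have := o9lxfer_c_symm ψ.symm ((g : GL ι' F) : Matrix ι' ι' F)
    rwa [LinearEquiv.symm_symm] at this
  · intro g v
    show o9lxfer_c ψ ((g : GL ι F) : Matrix ι ι F) *ᵥ (ψ v) = _
    rw [o9lxfer_c_mulVec]

/-- an isomorphism maps the commutator subgroup into the commutator subgroup -/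
theorem o9lxfer_map_comm {G H : Type*} [Group G] [Group H] (f : G →* H) (g : G) (hg : g ∈ commutator G) :
    f g ∈ commutator H := by
  have h1 : f g ∈ (commutator G).map f := Subgroup.mem_map_of_mem f hg
  rw [commutator_def, Subgroup.map_commutator] at h1
  exact Subgroup.commutator_mono le_top le_top h1

/-- transfer of `geoS` along a conjugation -/
theorem o9lxfer_geoS {F : Type*} [Field F] {ι ι' : Type} [Fintype ι] [DecidableEq ι] [Fintype ι'] [DecidableEq ι']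
    (Qs : QuadraticForm F (ι → F)) (Qs' : QuadraticForm F (ι' → F)) (ψ : (ι → F) ≃ₗ[F] (ι' → F))
    (Φ : ↥(Cfsg.isometryGroup F (⇑Qs)) ≃* ↥(Cfsg.isometryGroup F (⇑Qs')))
    (hΦ : ∀ (g : ↥(Cfsg.isometryGroup F (⇑Qs))) (v : ι → F),
        (((Φ g : ↥(Cfsg.isometryGroup F (⇑Qs'))) : GL ι' F) : Matrix ι' ι' F) *ᵥ (ψ v) =
          ψ (((g : GL ι F) : Matrix ι ι F) *ᵥ v))
    (g : ↥(Cfsg.isometryGroup F (⇑Qs))) (N : ℕ) (v : ι → F) :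
    geoS ((Φ g : ↥(Cfsg.isometryGroup F (⇑Qs'))) : GL ι' F) N *ᵥ (ψ v) = ψ (geoS (g : GL ι F) N *ᵥ v) := by
  unfold geoS
  rw [Matrix.sum_mulVec, Matrix.sum_mulVec, map_sum]
  apply Finset.sum_congr rfl
  intro i _
  have h1 : ((Φ g : ↥(Cfsg.isometryGroup F (⇑Qs'))) : GL ι' F) ^ i
      = ((Φ (g ^ i) : ↥(Cfsg.isometryGroup F (⇑Qs'))) : GL ι' F) := by
    rw [map_pow, SubgroupClass.coe_pow]
  have h2 : (g : GL ι F) ^ i = ((g ^ i : ↥(Cfsg.isometryGroup F (⇑Qs))) : GL ι F) := by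
    rw [SubgroupClass.coe_pow]
  rw [h1, h2, hΦ]

theorem omr_xfer {F : Type*} [Field F] [Fintype F] {ι : Type} [Fintype ι] [DecidableEq ι]
    (Qs : QuadraticForm F (ι → F)) (d : ℕ) (s : ℤ) (hs : QStd Qs d s) (N : ℕ) (h : OmR F d s N) :
    ∃ g : ↥(Cfsg.isometryGroup F (⇑Qs)), g ∈ Cfsg.Omega F (⇑Qs) ∧ orderOf g = N := by
  obtain ⟨ι', fι', dι', Qs', hs', g', hg', ho'⟩ := h
  obtain ⟨hty, hV, hnd⟩ := q_ty_top Qs d s hs
  obtain ⟨ψ, hψ⟩ := q_iso_std Qs' d s hs' Qs hnd hV hty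
  obtain ⟨Φ, hΦ⟩ := iso_conj Qs' Qs ψ hψ
  refine ⟨Φ g', o9lxfer_map_comm Φ.toMonoidHom g' hg', ?_⟩
  rw [← ho']
  exact MulEquiv.orderOf_eq Φ g'

theorem omv_xfer {F : Type*} [Field F] [Fintype F] {ι : Type} [Fintype ι] [DecidableEq ι]
    (Qs : QuadraticForm F (ι → F)) (d : ℕ) (s : ℤ) (hs : QStd Qs d s) (N : ℕ) (h : OmV F d s N) :
    ∃ g : ↥(Cfsg.isometryGroup F (⇑Qs)), g ∈ Cfsg.Omega F (⇑Qs) ∧ orderOf g = N ∧
      geoS (g : GL ι F) N ≠ 0 := by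
  obtain ⟨ι', fι', dι', Qs', hs', g', hg', ho', hgeo'⟩ := h
  obtain ⟨hty, hV, hnd⟩ := q_ty_top Qs d s hs
  obtain ⟨ψ, hψ⟩ := q_iso_std Qs' d s hs' Qs hnd hV hty
  obtain ⟨Φ, hΦ⟩ := iso_conj Qs' Qs ψ hψ
  refine ⟨Φ g', o9lxfer_map_comm Φ.toMonoidHom g' hg', ?_, ?_⟩
  · rw [← ho']
    exact MulEquiv.orderOf_eq Φ g'
  · intro h0
    apply hgeo'
    rw [Matrix.ext_iff_mulVec]
    intro v
    have h1 := o9lxfer_geoS Qs' Qs ψ Φ hΦ g' N v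
    rw [h0, Matrix.zero_mulVec] at h1
    have h2 : geoS (g' : GL ι' F) N *ᵥ v = 0 := by
      apply ψ.injective
      rw [← h1, map_zero]
    rw [h2, Matrix.zero_mulVec]

end Cfsg.Agent.Lib.Helper1.O9L
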