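import Mathlib
import Cfsg.Agent.Lib.Helper1.O9L.Defs
import Cfsg.Agent.Lib.Helper28.O9AFF8
import Cfsg.Agent.Lib.helper4.OTSSTDP
import Cfsg.Agent.Lib.Helper1.O9LXFER
import Cfsg.Agent.Lib.Helper1.O9LASMA
import Cfsg.Agent.Lib.Helper1.O9LASMBC
import Cfsg.Agent.Lib.Helper26.O9LGEOGLUE

set_option autoImplicit false

/-!
# Project O9L: MAIN (helper1).  PART L of S2517: every `N` with `InT9 q p N` is an element order of `F^8 ⋊ Ω⁻₈(F)`.
-/

namespace Cfsg.Agent.Lib.Helper1.O9L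

open Matrix Module Polynomial Cfsg.Agent.Lib.Helper13.OTS Cfsg.Agent.Lib.Helper16 Cfsg.Agent.Lib.Helper19.O9U
  Cfsg.Agent.Lib.Helper28.O9AFF

/-- elements of `Ω` of the frozen space from `OmR` -/
theorem o9lmain_r {F : Type*} [Field F] [Fintype F] (a b : F) (hab : Aniso a b) (N : ℕ) (h : OmR F 4 (-1) N) :
    ∃ g : ↥(Cfsg.Omega F (Cfsg.quadFormMinus 3 F a b)), orderOf g = N := by
  obtain ⟨g, hg, hord⟩ := omr_xfer (qfMinus 3 F a b) 4 (-1) (otsstdp_minus 3 a b hab) N h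
  refine ⟨⟨g, hg⟩, ?_⟩
  rw [← hord]
  exact Subgroup.orderOf_mk g hg

/-- elements of `Ω` of the frozen space from `OmV` -/
theorem o9lmain_v {F : Type*} [Field F] [Fintype F] (a b : F) (hab : Aniso a b) (n : ℕ) (h : OmV F 4 (-1) n) :
    ∃ g : ↥(Cfsg.Omega F (Cfsg.quadFormMinus 3 F a b)), orderOf g = n ∧ geo (h8 F a b) g (orderOf g) ≠ 0 := by
  obtain ⟨g, hg, hord, hgeo⟩ := omv_xfer (qfMinus 3 F a b) 4 (-1) (otsstdp_minus 3 a b hab) n h
  have ho : orderOf (⟨g, hg⟩ : ↥(Cfsg.Omega F (Cfsg.quadFormMinus 3 F a b))) = n := by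
    rw [← hord]
    exact Subgroup.orderOf_mk g hg
  refine ⟨⟨g, hg⟩, ho, ?_⟩
  rw [ho]
  exact geo_glue a b ⟨g, hg⟩ n hgeo

/-- PART L of S2517: every `N` with `InT9 q p N` is an element order of `F^8 ⋊ Ω⁻₈(F)` -/
theorem o9l_main {F : Type*} [Field F] [Fintype F] (p : ℕ) [Fact p.Prime] [CharP F p] (hF : Odd (Fintype.card F)) (a b : F)
    (hab : ∀ z₁ z₂ : F, z₁ ^ 2 + a * z₁ * z₂ + b * z₂ ^ 2 = 0 → z₁ = 0 ∧ z₂ = 0) (N : ℕ)
    (hN : InT9 (Fintype.card F) p N) :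
    N ∈ Set.range (orderOf :
        (Multiplicative (((Fin 3 ⊕ Fin 3) ⊕ Fin 2) → F)) ⋊[
          (MulAutMultiplicative (((Fin 3 ⊕ Fin 3) ⊕ Fin 2) → F)).symm.toMonoidHom.comp
           ((DistribMulAction.toAddAut (LinearMap.GeneralLinearGroup F (((Fin 3 ⊕ Fin 3) ⊕ Fin 2) → F))
              (((Fin 3 ⊕ Fin 3) ⊕ Fin 2) → F)).comp
            (Matrix.GeneralLinearGroup.toLin.toMonoidHom.comp
              ((Cfsg.isometryGroup F (Cfsg.quadFormMinus 3 F a b)).subtype.comp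
                (Cfsg.Omega F (Cfsg.quadFormMinus 3 F a b)).subtype)))]
          ↥(Cfsg.Omega F (Cfsg.quadFormMinus 3 F a b)) → ℕ) := by
  rw [o9aff_range_frozen p a b N]
  have hab' : Aniso a b := hab
  set q := Fintype.card F with hq
  have hq3 : 3 ≤ q := by
    have h1 : 1 < q := Fintype.one_lt_card
    obtain ⟨t, ht⟩ := hF
    omega
  have hp2 : p ≠ 2 := by
    rintro rfl
    have h1 : (2 : ℕ) ∣ q := by
      have h2 : ((q : ℕ) : F) = 0 := by rw [hq]; exact Nat.cast_card_eq_zero F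
      exact (CharP.cast_eq_zero_iff F 2 q).mp h2
    obtain ⟨t, ht⟩ := hF
    omega
  have hpp : p.Prime := Fact.out
  have hp0 : 0 < p := hpp.pos
  -- parities
  have hqodd : ∀ j : ℕ, Odd (q ^ j) := fun j => hF.pow
  have vcase : ∀ n : ℕ, OmV F 4 (-1) n → N = p * n →
      (∃ g : ↥(Cfsg.Omega F (Cfsg.quadFormMinus 3 F a b)), orderOf g = N) ∨
        (∃ g : ↥(Cfsg.Omega F (Cfsg.quadFormMinus 3 F a b)),
          p * orderOf g = N ∧ geo (h8 F a b) g (orderOf g) ≠ 0) := by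
    intro n hV hNn
    obtain ⟨g, hg, hgeo⟩ := o9lmain_v a b hab' n hV
    exact Or.inr ⟨g, by rw [hg, hNn], hgeo⟩
  have rcase : OmR F 4 (-1) N →
      (∃ g : ↥(Cfsg.Omega F (Cfsg.quadFormMinus 3 F a b)), orderOf g = N) ∨
        (∃ g : ↥(Cfsg.Omega F (Cfsg.quadFormMinus 3 F a b)),
          p * orderOf g = N ∧ geo (h8 F a b) g (orderOf g) ≠ 0) := fun h =>
    Or.inl (o9lmain_r a b hab' N h)
  -- halving helper: `2 N = p * E`, `E` even gives `N = p * (E / 2)`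
  have half : ∀ E : ℕ, Even E → 2 * N = p * E → ∃ n, 2 * n = E ∧ N = p * n := by
    intro E hE h
    obtain ⟨n, hn⟩ := hE
    refine ⟨n, by omega, ?_⟩
    rw [hn] at h
    have : 2 * N = 2 * (p * n) := by rw [h]; ring
    omega
  have e3m : Even (q ^ 3 - 1) := by
    obtain ⟨t, ht⟩ := hqodd 3
    exact ⟨t, by omega⟩
  have e3p : Even (q ^ 3 + 1) := by
    obtain ⟨t, ht⟩ := hqodd 3
    exact ⟨t + 1, by omega⟩
  have e2p : Even (q ^ 2 + 1) := by
    obtain ⟨t, ht⟩ := hqodd 2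
    exact ⟨t + 1, by omega⟩
  have e2m : Even (q ^ 2 - 1) := by
    obtain ⟨t, ht⟩ := hqodd 2
    exact ⟨t, by omega⟩
  have e1m : Even (q - 1) := by
    obtain ⟨t, ht⟩ := hF
    exact ⟨t, by omega⟩
  have e1p : Even (q + 1) := by
    obtain ⟨t, ht⟩ := hF
    exact ⟨t + 1, by omega⟩
  rcases hN with h | h | h | h | h | h | h | h | h | h | h | h
  · exact rcase (asm_a hF a b hab' N (Or.inl h))
  · exact rcase (asm_a hF a b hab' N (Or.inr (Or.inl h)))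
  · exact rcase (asm_a hF a b hab' N (Or.inr (Or.inr (Or.inl h))))
  · exact rcase (asm_a hF a b hab' N (Or.inr (Or.inr (Or.inr h))))
  · obtain ⟨n, hn, hNn⟩ := half _ e3m h
    exact vcase n (asm_b p hp2 hF a b hab' n (Or.inl hn)) hNn
  · obtain ⟨n, hn, hNn⟩ := half _ e3p h
    exact vcase n (asm_b p hp2 hF a b hab' n (Or.inr (Or.inl hn))) hNn
  · obtain ⟨n, hn, hNn⟩ := half _ (e2p.mul_right _) h
    exact vcase n (asm_b p hp2 hF a b hab' n (Or.inr (Or.inr (Or.inl hn)))) hNn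
  · obtain ⟨n, hn, hNn⟩ := half _ (e2p.mul_right _) h
    exact vcase n (asm_b p hp2 hF a b hab' n (Or.inr (Or.inr (Or.inr (Or.inl hn))))) hNn
  · exact vcase (q ^ 2 - 1) (asm_b p hp2 hF a b hab' _ (Or.inr (Or.inr (Or.inr (Or.inr rfl))))) h
  · obtain ⟨hp3, h | h⟩ := h
    · obtain ⟨t, ht⟩ := e2p
      refine vcase (3 * t) (asm_c p hF a b hab' _ (Or.inl ⟨hp3, Or.inl (by
        show 2 * (3 * t) = 3 * (q ^ 2 + 1)
        omega)⟩)) ?_
      rw [hp3]; omega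
    · obtain ⟨t, ht⟩ := e2m
      refine vcase (3 * t) (asm_c p hF a b hab' _ (Or.inl ⟨hp3, Or.inr (by
        show 2 * (3 * t) = 3 * (q ^ 2 - 1)
        omega)⟩)) ?_
      rw [hp3]; omega
  · obtain ⟨hp5, h | h⟩ := h
    · obtain ⟨t, ht⟩ := e1m
      refine vcase (5 * t) (asm_c p hF a b hab' _ (Or.inr (Or.inl ⟨hp5, Or.inl (by
        show 2 * (5 * t) = 5 * (q - 1)
        omega)⟩))) ?_
      rw [hp5]; omega
    · obtain ⟨t, ht⟩ := e1p
      refine vcase (5 * t) (asm_c p hF a b hab' _ (Or.inr (Or.inl ⟨hp5, Or.inr (by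
        show 2 * (5 * t) = 5 * (q + 1)
        omega)⟩))) ?_
      rw [hp5]; omega
  · obtain ⟨hp7, h⟩ := h
    refine vcase 7 (asm_c p hF a b hab' _ (Or.inr (Or.inr ⟨hp7, rfl⟩))) ?_
    rw [hp7, h]

end Cfsg.Agent.Lib.Helper1.O9L
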