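import Mathlib
import Cfsg.Prelude.Def_GeometricClasses
import Cfsg.Agent.Lib.Helper27.ASC.Defs
import Cfsg.Agent.Lib.helper23.ASCO.Defs
import Cfsg.Agent.Lib.Lead.Reindex
import Cfsg.Agent.Lib.Helper25.O9.Defs
import Cfsg.Agent.Lib.Helper24.ASCOTRND
import Cfsg.Agent.Lib.Helper24.ASOTR7

set_option autoImplicit false
set_option linter.unusedVariables false
set_option linter.unusedSectionVars false

namespace Cfsg.Agent.Lib.Helper25.O9

open Cfsg Cfsg.Geo Cfsg.Agent.Lib.Helper27.ASC Cfsg.Agent.Lib.helper23.ASCO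
open scoped MatrixGroups Matrix

variable {n : ℕ} {F : Type*} [Field F] [Fintype F]

section transport

open Cfsg.Agent.Lib.Lead

variable {ι κ : Type} [Fintype ι] [DecidableEq ι] [Fintype κ] [DecidableEq κ]

theorem classPow32_transport (e : ι ≃ κ) (Q : (ι → F) → F) (H : Subgroup (GL ι F))
    (h : ClassPow32 (fun x : κ → F => Q (x ∘ e)) (H.map (RI.glReindex (F := F) e).toMonoidHom)) :
    ClassPow32 Q H := by
  obtain ⟨e', P', f₁, hf₁, hT, hH⟩ := h
  refine ⟨e.trans e', (RI.glReindex (F := F) e).symm P', f₁, hf₁, ?_, ?_⟩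
  · obtain ⟨c, hc, hcf⟩ := hT
    refine ⟨c, hc, fun x y => ?_⟩
    rw [← Cfsg.Agent.Lib.Helper25.ASO.asotr7_key, ← Cfsg.Agent.Lib.Helper25.ASO.asotr7_key]
    exact hcf x y
  · apply ascotrnd_group e Q H _ _ _ hH
    rw [Cfsg.Agent.Lib.Helper18.ASP.asptrct_map_wreath, Cfsg.Agent.Lib.Helper25.ASO.asotr7_trans,
      MulEquiv.apply_symm_apply]

end transport

end Cfsg.Agent.Lib.Helper25.O9
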