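import Mathlib
import Cfsg.Agent.Lib.Helper16.OneBlk.Defs
import Cfsg.Agent.Lib.Helper22.AxB

set_option autoImplicit false

namespace Cfsg.Agent.Lib.Helper16.OneBlk

open Cfsg

theorem obaxb1_normalizer_growth {G : Type*} [Group G] [Finite G] (p : ℕ) [Fact p.Prime]
    (D : Subgroup G) (hD : IsPGroup p D) (S : Subgroup G) (hlt : S < D) :
    ∃ s ∈ D, s ∉ S ∧ (∀ d ∈ S, s * d * s⁻¹ ∈ S) ∧ (∀ d ∈ S, s⁻¹ * d * s ∈ S) := by
  have hnil : Group.IsNilpotent D := hD.isNilpotent
  have hnc := Group.normalizerCondition_of_isNilpotent (G := D)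
  have hlt' : S.subgroupOf D < ⊤ := by
    rw [lt_top_iff_ne_top]
    intro h
    rw [Subgroup.subgroupOf_eq_top] at h
    exact hlt.ne (le_antisymm hlt.le h)
  have h2 := hnc _ hlt'
  obtain ⟨s, hsN, hsS⟩ := SetLike.exists_of_lt h2
  refine ⟨s, s.2, fun h => hsS (Subgroup.mem_subgroupOf.mpr h), ?_, ?_⟩
  · intro d hd
    have h3 := (Subgroup.mem_normalizer_iff.mp hsN ⟨d, hlt.le hd⟩).mp
      (Subgroup.mem_subgroupOf.mpr hd)
    exact Subgroup.mem_subgroupOf.mp h3
  · intro d hd
    have h3 := (Subgroup.mem_normalizer_iff.mp hsN (s⁻¹ * ⟨d, hlt.le hd⟩ * s)).mpr (by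
      rw [Subgroup.mem_subgroupOf]
      have : ((s * (s⁻¹ * ⟨d, hlt.le hd⟩ * s) * s⁻¹ : D) : G) = d := by
        push_cast
        group
      rw [this]
      exact hd)
    exact Subgroup.mem_subgroupOf.mp h3

theorem obaxb1_conj_mem {G : Type*} [Group G] (Q D S : Subgroup G)
    (hDQ : ∀ d ∈ D, ∀ q ∈ Q, d * q * d⁻¹ ∈ Q) (t : G) (htD : t ∈ D)
    (ht : ∀ d ∈ S, t⁻¹ * d * t ∈ S) (c : G)
    (hc : c ∈ Q ⊓ Subgroup.centralizer (S : Set G)) :
    t * c * t⁻¹ ∈ Q ⊓ Subgroup.centralizer (S : Set G) := by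
  rw [Subgroup.mem_inf] at hc ⊢
  refine ⟨hDQ t htD c hc.1, ?_⟩
  rw [Subgroup.mem_centralizer_iff]
  intro d hd
  have h1 := (Subgroup.mem_centralizer_iff.mp hc.2) (t⁻¹ * d * t) (ht d hd)
  calc d * (t * c * t⁻¹) = t * ((t⁻¹ * d * t) * c) * t⁻¹ := by group
    _ = t * (c * (t⁻¹ * d * t)) * t⁻¹ := by rw [h1]
    _ = t * c * t⁻¹ * d := by group

theorem axb_general {G : Type*} [Group G] [Finite G] (p : ℕ) [Fact p.Prime] (Q D : Subgroup G)
    (hQ : IsPGroup p Q) (hD : IsPGroup p D) (hDQ : ∀ d ∈ D, ∀ q ∈ Q, d * q * d⁻¹ ∈ Q)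
    (h : G) (hhQ : ∀ q ∈ Q, h * q * h⁻¹ ∈ Q) (hhD : ∀ d ∈ D, h * d = d * h)
    (hord : (orderOf h).Coprime p)
    (hcent : ∀ q ∈ Q, (∀ d ∈ D, d * q = q * d) → h * q = q * h) :
    ∀ q ∈ Q, h * q = q * h := by
  have key : ∀ n : ℕ, ∀ S : Subgroup G, S ≤ D → Nat.card D - Nat.card S = n →
      ∀ q ∈ Q, (∀ d ∈ S, d * q = q * d) → h * q = q * h := by
    intro n
    induction n using Nat.strong_induction_on with
    | _ n IH =>
    intro S hSD hn
    by_cases hS : S = D
    · subst hS
      exact hcent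
    have hlt : S < D := lt_of_le_of_ne hSD hS
    obtain ⟨s, hsD, hsS, hsn1, hsn2⟩ := obaxb1_normalizer_growth p D hD S hlt
    have hS'D : S ⊔ Subgroup.zpowers s ≤ D := sup_le hSD (Subgroup.zpowers_le.mpr hsD)
    have hSS' : S < S ⊔ Subgroup.zpowers s := by
      refine lt_of_le_of_ne le_sup_left ?_
      intro he
      apply hsS
      rw [he]
      exact (le_sup_right : Subgroup.zpowers s ≤ S ⊔ Subgroup.zpowers s)
        (Subgroup.mem_zpowers s)
    have hcard1 : Nat.card S < Nat.card (S ⊔ Subgroup.zpowers s : Subgroup G) := by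
      by_contra hge
      push Not at hge
      exact hSS'.ne (Subgroup.eq_of_le_of_card_ge hSS'.le hge)
    have hcard2 : Nat.card (S ⊔ Subgroup.zpowers s : Subgroup G) ≤ Nat.card D :=
      Subgroup.card_le_of_le hS'D
    have hP' := IH (Nat.card D - Nat.card (S ⊔ Subgroup.zpowers s : Subgroup G)) (by omega)
      (S ⊔ Subgroup.zpowers s) hS'D rfl
    have hsnorm : Subgroup.zpowers s ≤
        Subgroup.normalizer ((Q ⊓ Subgroup.centralizer (S : Set G) : Subgroup G) : Set G) := by
      rw [Subgroup.zpowers_le, Subgroup.mem_normalizer_iff]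
      intro c
      constructor
      · intro hc
        exact obaxb1_conj_mem Q D S hDQ s hsD hsn2 c hc
      · intro hc
        have h1 := obaxb1_conj_mem Q D S hDQ s⁻¹ (D.inv_mem hsD)
          (fun d hd => by simpa using hsn1 d hd) _ hc
        have h2 : s⁻¹ * (s * c * s⁻¹) * s⁻¹⁻¹ = c := by group
        rwa [h2] at h1
    have hCp : IsPGroup p (Q ⊓ Subgroup.centralizer (S : Set G) : Subgroup G) :=
      hQ.to_le inf_le_left
    have hsp : IsPGroup p (Subgroup.zpowers s) :=
      hD.to_le (Subgroup.zpowers_le.mpr hsD)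
    have hN : IsPGroup p ((Q ⊓ Subgroup.centralizer (S : Set G)) ⊔ Subgroup.zpowers s :
        Subgroup G) := IsPGroup.to_sup_of_normal_left' hCp hsp hsnorm
    have hmem : ∀ n ∈ ((Q ⊓ Subgroup.centralizer (S : Set G)) ⊔ Subgroup.zpowers s : Subgroup G),
        ∃ c ∈ (Q ⊓ Subgroup.centralizer (S : Set G) : Subgroup G),
          ∃ t ∈ Subgroup.zpowers s, n = c * t := by
      intro n hn
      have h1 : n ∈ (((Q ⊓ Subgroup.centralizer (S : Set G)) ⊔ Subgroup.zpowers s : Subgroup G) :
          Set G) := hn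
      rw [Subgroup.coe_mul_of_right_le_normalizer_left _ _ hsnorm] at h1
      obtain ⟨c, hc, t, ht, rfl⟩ := h1
      exact ⟨c, hc, t, ht, rfl⟩
    have hcomm : h * s = s * h := hhD s hsD
    have hhz : ∀ t ∈ Subgroup.zpowers s, h * t = t * h := fun t ht =>
      hhD t (Subgroup.zpowers_le.mpr hsD ht)
    have hhC : ∀ c ∈ (Q ⊓ Subgroup.centralizer (S : Set G) : Subgroup G),
        h * c * h⁻¹ ∈ (Q ⊓ Subgroup.centralizer (S : Set G) : Subgroup G) := by
      intro c hc
      rw [Subgroup.mem_inf] at hc ⊢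
      refine ⟨hhQ c hc.1, ?_⟩
      rw [Subgroup.mem_centralizer_iff]
      intro d hd
      have h1 := (Subgroup.mem_centralizer_iff.mp hc.2) d hd
      have h2 : h * d = d * h := hhD d (hSD hd)
      have h3 : d * h⁻¹ = h⁻¹ * d := by
        rw [eq_inv_mul_iff_mul_eq, ← mul_assoc, h2, mul_inv_cancel_right]
      calc d * (h * c * h⁻¹) = (d * h) * c * h⁻¹ := by group
        _ = (h * d) * c * h⁻¹ := by rw [← h2]
        _ = h * (d * c) * h⁻¹ := by group
        _ = h * (c * d) * h⁻¹ := by rw [h1]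
        _ = h * c * (d * h⁻¹) := by group
        _ = h * c * (h⁻¹ * d) := by rw [h3]
        _ = h * c * h⁻¹ * d := by group
    have hnorm : ∀ n ∈ ((Q ⊓ Subgroup.centralizer (S : Set G)) ⊔ Subgroup.zpowers s :
        Subgroup G), h * n * h⁻¹ ∈
        ((Q ⊓ Subgroup.centralizer (S : Set G)) ⊔ Subgroup.zpowers s : Subgroup G) := by
      intro n hn
      obtain ⟨c, hc, t, ht, rfl⟩ := hmem n hn
      have h1 : h * (c * t) * h⁻¹ = (h * c * h⁻¹) * t := by
        calc h * (c * t) * h⁻¹ = h * c * (t * h⁻¹) := by group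
          _ = h * c * (h⁻¹ * (h * t) * h⁻¹) := by group
          _ = h * c * (h⁻¹ * (t * h) * h⁻¹) := by rw [hhz t ht]
          _ = (h * c * h⁻¹) * t := by group
      rw [h1]
      exact Subgroup.mul_mem _ (Subgroup.mem_sup_left (hhC c hc)) (Subgroup.mem_sup_right ht)
    have hcentN : ∀ n ∈ ((Q ⊓ Subgroup.centralizer (S : Set G)) ⊔ Subgroup.zpowers s :
        Subgroup G), n * s = s * n → h * n = n * h := by
      intro n hn hns
      obtain ⟨c, hc, t, ht, rfl⟩ := hmem n hn
      have hts : t * s = s * t := by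
        obtain ⟨k, rfl⟩ := Subgroup.mem_zpowers_iff.mp ht
        exact ((Commute.refl s).zpow_left k).eq
      have hcs : c * s = s * c := by
        have h1 : c * s * t = s * c * t := by
          calc c * s * t = c * (s * t) := by group
            _ = c * (t * s) := by rw [hts]
            _ = c * t * s := by group
            _ = s * (c * t) := hns
            _ = s * c * t := by group
        exact mul_right_cancel h1
      have hc' := Subgroup.mem_inf.mp hc
      have hcS' : ∀ d ∈ S ⊔ Subgroup.zpowers s, d * c = c * d := by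
        have hle : S ⊔ Subgroup.zpowers s ≤ Subgroup.centralizer ({c} : Set G) := by
          refine sup_le ?_ ?_
          · intro d hd
            rw [Subgroup.mem_centralizer_singleton_iff]
            exact ((Subgroup.mem_centralizer_iff.mp hc'.2) d hd)
          · rw [Subgroup.zpowers_le, Subgroup.mem_centralizer_singleton_iff]
            exact hcs.symm
        intro d hd
        have := hle hd
        rw [Subgroup.mem_centralizer_singleton_iff] at this
        exact this
      have hhc : h * c = c * h := hP' c hc'.1 hcS'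
      calc h * (c * t) = (h * c) * t := by group
        _ = c * h * t := by rw [hhc]
        _ = c * (h * t) := by group
        _ = c * (t * h) := by rw [hhz t ht]
        _ = c * t * h := by group
    have hsN : s ∈ ((Q ⊓ Subgroup.centralizer (S : Set G)) ⊔ Subgroup.zpowers s : Subgroup G) :=
      Subgroup.mem_sup_right (Subgroup.mem_zpowers s)
    have hfin := Cfsg.Agent.Lib.Helper22.thompson_axb p
      ((Q ⊓ Subgroup.centralizer (S : Set G)) ⊔ Subgroup.zpowers s) hN s hsN h hnorm hcomm hord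
      hcentN
    intro q hq hqS
    apply hfin q
    apply Subgroup.mem_sup_left
    rw [Subgroup.mem_inf]
    refine ⟨hq, ?_⟩
    rw [Subgroup.mem_centralizer_iff]
    exact hqS
  intro q hq
  exact key _ ⊥ bot_le rfl q hq (fun d hd => by
    rw [Subgroup.mem_bot] at hd
    rw [hd, one_mul, mul_one])

end Cfsg.Agent.Lib.Helper16.OneBlk
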