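import Mathlib
import Cfsg.Agent.Lib.Helper16.OneBlk.Defs
import Cfsg.Agent.Lib.Helper1.OBTAXB1
import Cfsg.Agent.Lib.helper17.Cores

set_option autoImplicit false

namespace Cfsg.Agent.Lib.Helper16.OneBlk

open Cfsg

theorem obaxb2_pCore_normal (p : ℕ) (X : Type*) [Group X] : (Cfsg.pCore p X).Normal := by
  unfold Cfsg.pCore
  rw [sSup_eq_iSup']
  have : ∀ i : {N : Subgroup X | N.Normal ∧ IsPGroup p N}, (i : Subgroup X).Normal :=
    fun i => i.2.1
  infer_instance

theorem obaxb2_isPGroup_of_prime_order {X : Type*} [Group X] [Finite X] (p : ℕ) [Fact p.Prime]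
    (C : Subgroup X)
    (h : ∀ x ∈ C, ∀ r : ℕ, r.Prime → orderOf x = r → r = p) : IsPGroup p C := by
  have hcard : Nat.card C = p ^ (Nat.card C).primeFactorsList.length := by
    apply Nat.eq_prime_pow_of_unique_prime_dvd Nat.card_pos.ne'
    intro r hr hdvd
    have : Fact r.Prime := ⟨hr⟩
    obtain ⟨x, hx⟩ := exists_prime_orderOf_dvd_card' r hdvd
    exact h x x.2 r hr (by rw [← hx, Subgroup.orderOf_coe])
  exact IsPGroup.of_card hcard

theorem obaxb2_exists_central {G : Type*} [Group G] [Finite G] (p : ℕ) [Fact p.Prime]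
    (D : Subgroup G) (hD : IsPGroup p D) (hD1 : D ≠ ⊥) :
    ∃ z ∈ D, orderOf z = p ∧ ∀ d ∈ D, d * z = z * d := by
  have hnt : Nontrivial D := (Subgroup.nontrivial_iff_ne_bot D).mpr hD1
  have hcn : Nontrivial (Subgroup.center D) := hD.center_nontrivial
  obtain ⟨k, hk⟩ := (hD.to_subgroup (Subgroup.center D)).exists_card_eq
  have hk0 : k ≠ 0 := by
    intro h0
    rw [h0, pow_zero] at hk
    have := Finite.one_lt_card (α := Subgroup.center D)
    omega
  have hdvd : p ∣ Nat.card (Subgroup.center D) := by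
    rw [hk]
    exact dvd_pow_self p hk0
  obtain ⟨zc, hzc⟩ := exists_prime_orderOf_dvd_card' p hdvd
  refine ⟨((zc : D) : G), (zc : D).2, ?_, ?_⟩
  · rw [Subgroup.orderOf_coe, Subgroup.orderOf_coe]
    exact hzc
  · intro d hd
    have h1 := Subgroup.mem_center_iff.mp zc.2 ⟨d, hd⟩
    exact congrArg Subtype.val h1

theorem constrained_of_localHyp {G : Type*} [Group G] [Finite G] (p : ℕ) [Fact p.Prime]
    (hL : LocalHyp p G) (D : Subgroup G) (hD : IsPGroup p D) (hD1 : D ≠ ⊥) :
    Subgroup.centralizer ((Cfsg.pCore p ↥(D ⊔ Subgroup.centralizer (D : Set G))) :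
      Set ↥(D ⊔ Subgroup.centralizer (D : Set G))) ≤
      Cfsg.pCore p ↥(D ⊔ Subgroup.centralizer (D : Set G)) := by
  have hp : p.Prime := Fact.out
  obtain ⟨z, hzD, hzo, hzc⟩ := obaxb2_exists_central p D hD hD1
  have hDz : D ≤ Subgroup.centralizer ({z} : Set G) := by
    intro d hd
    rw [Subgroup.mem_centralizer_singleton_iff]
    exact hzc d hd
  have hCz : Subgroup.centralizer (D : Set G) ≤ Subgroup.centralizer ({z} : Set G) := by
    apply Subgroup.centralizer_le
    intro x hx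
    rw [Set.mem_singleton_iff] at hx
    rw [hx]
    exact hzD
  have hHz : D ⊔ Subgroup.centralizer (D : Set G) ≤ Subgroup.centralizer ({z} : Set G) :=
    sup_le hDz hCz
  obtain ⟨Q, hQp, hQz, hQn, hQc⟩ := hL z hzo
  have hHD : D ⊔ Subgroup.centralizer (D : Set G) ≤ Subgroup.normalizer (D : Set G) :=
    sup_le Subgroup.le_normalizer (Subgroup.centralizer_le_normalizer _)
  have hDn : (D.subgroupOf (D ⊔ Subgroup.centralizer (D : Set G))).Normal := by
    refine ⟨fun n hn g => ?_⟩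
    rw [Subgroup.mem_subgroupOf] at hn ⊢
    have h1 := (Subgroup.mem_normalizer_iff.mp (hHD g.2) n).mp hn
    simpa using h1
  have hQn' : (Q.subgroupOf (D ⊔ Subgroup.centralizer (D : Set G))).Normal := by
    refine ⟨fun n hn g => ?_⟩
    rw [Subgroup.mem_subgroupOf] at hn ⊢
    have h1 := hQn g (hHz g.2) n hn
    simpa using h1
  have hDO : D.subgroupOf (D ⊔ Subgroup.centralizer (D : Set G)) ≤
      Cfsg.pCore p ↥(D ⊔ Subgroup.centralizer (D : Set G)) :=
    Cfsg.Agent.Lib.helper17.le_pCore hDn hD.comap_subtype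
  have hQO : Q.subgroupOf (D ⊔ Subgroup.centralizer (D : Set G)) ≤
      Cfsg.pCore p ↥(D ⊔ Subgroup.centralizer (D : Set G)) :=
    Cfsg.Agent.Lib.helper17.le_pCore hQn' hQp.comap_subtype
  have hOn : (Cfsg.pCore p ↥(D ⊔ Subgroup.centralizer (D : Set G))).Normal :=
    obaxb2_pCore_normal p _
  have hCn : (Subgroup.centralizer ((Cfsg.pCore p ↥(D ⊔ Subgroup.centralizer (D : Set G))) :
      Set ↥(D ⊔ Subgroup.centralizer (D : Set G)))).Normal := Subgroup.normal_centralizer
  apply Cfsg.Agent.Lib.helper17.le_pCore hCn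
  apply obaxb2_isPGroup_of_prime_order
  intro x hx r hr hxr
  by_contra hrp
  have hcop : (orderOf (x : G)).Coprime p := by
    rw [Subgroup.orderOf_coe, hxr]
    exact (Nat.coprime_primes hr hp).mpr hrp
  rw [Subgroup.mem_centralizer_iff] at hx
  have hxD : ∀ d ∈ D, (x : G) * d = d * (x : G) := by
    intro d hd
    have hdH : d ∈ D ⊔ Subgroup.centralizer (D : Set G) := Subgroup.mem_sup_left hd
    have h1 := hx ⟨d, hdH⟩ (hDO (Subgroup.mem_subgroupOf.mpr hd))
    exact (congrArg Subtype.val h1).symm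
  have hxQ : ∀ q ∈ Q, (x : G) * q = q * (x : G) := by
    apply axb_general p Q D hQp hD (fun d hd q hq => hQn d (hDz hd) q hq) (x : G)
      (fun q hq => hQn x (hHz x.2) q hq) hxD hcop
    intro q hq hqD
    have hqC : q ∈ Subgroup.centralizer (D : Set G) := by
      rw [Subgroup.mem_centralizer_iff]
      exact hqD
    have hqH : q ∈ D ⊔ Subgroup.centralizer (D : Set G) := Subgroup.mem_sup_right hqC
    have h1 := hx ⟨q, hqH⟩ (hQO (Subgroup.mem_subgroupOf.mpr hq))
    exact (congrArg Subtype.val h1).symm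
  have hxinQ : (x : G) ∈ Q := hQc x (hHz x.2) hxQ
  obtain ⟨k, hk⟩ := (IsPGroup.iff_orderOf.mp hQp) ⟨x, hxinQ⟩
  rw [Subgroup.orderOf_mk, Subgroup.orderOf_coe, hxr] at hk
  have h2 : p ∣ r := by
    have hk0 : k ≠ 0 := by
      intro h0
      rw [h0, pow_zero] at hk
      exact hr.one_lt.ne' hk
    rw [hk]
    exact dvd_pow_self p hk0
  exact hrp ((Nat.prime_dvd_prime_iff_eq hp hr).mp h2).symm

end Cfsg.Agent.Lib.Helper16.OneBlk
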