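import Mathlib
import Cfsg.Agent.Lib.Helper16.OneBlk.Defs
import Cfsg.Agent.S0908
import Cfsg.Agent.Lib.helper7.LocalIdeal
import Cfsg.Agent.Lib.helper2.CharInt
import Cfsg.Agent.Lib.helper14.DegGraph

set_option autoImplicit false

namespace Cfsg.Agent.Lib.Helper16.OneBlk

open Cfsg

theorem obdz0_charDegree_dvd_card {G : Type*} [Group G] [Finite G] (χ : Cfsg.IrrCharacter G) :
    Cfsg.charDegree (χ : G → ℂ) ∣ Nat.card G := by
  obtain ⟨n, hn, h1, hdvd⟩ := Cfsg.Agent.Lib.helper2.irr_degree_dvd_card χ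
  rw [Cfsg.Agent.Lib.helper14.charDegree_of_natCast _ n h1]
  exact hdvd

theorem defect_ne_bot {G : Type*} [Group G] [Finite G] (p : ℕ) [Fact p.Prime]
    (M : Ideal Cfsg.AlgInt) (hM : Cfsg.IsPModular p M) (B : Set (Cfsg.IrrCharacter G))
    (hB : Cfsg.IsPBlock M B) (D : Subgroup G) (hD : Cfsg.IsDefectGroup p M B D)
    (h : ∀ χ ∈ B, p ∣ Nat.card G / Cfsg.charDegree ((χ : Cfsg.IrrCharacter G) : G → ℂ)) :
    D ≠ ⊥ := by
  intro hbot
  have hp : p.Prime := Fact.out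
  have hP : M.IsPrime := hM.2.1.isPrime
  have hcard := Cfsg.Agent.S0908.result p M hM B hB D hD
  rw [hbot, Subgroup.card_bot] at hcard
  have hdef : Cfsg.blockDefect p B = 0 := by
    by_contra hne
    have : 1 < p ^ Cfsg.blockDefect p B := Nat.one_lt_pow hne hp.one_lt
    omega
  obtain ⟨χ₀, hχ₀⟩ := hB
  have hmem : χ₀ ∈ B := by
    rw [hχ₀]
    intro g
    rw [sub_self]
    exact Cfsg.Agent.Lib.helper7.h7_memLocalIdeal_zero hP
  have hne : ((fun χ : Cfsg.IrrCharacter G =>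
      (Cfsg.charDegree (χ : G → ℂ)).factorization p) '' B).Nonempty := ⟨_, χ₀, hmem, rfl⟩
  obtain ⟨χ, hχB, hχ⟩ := Nat.sInf_mem hne
  unfold Cfsg.blockDefect at hdef
  rw [← hχ] at hdef
  have hχ' : (Cfsg.charDegree (χ : G → ℂ)).factorization p =
      (fun χ : Cfsg.IrrCharacter G => (Cfsg.charDegree (χ : G → ℂ)).factorization p) χ := rfl
  rw [← hχ'] at hdef
  have hdvd : Cfsg.charDegree (χ : G → ℂ) ∣ Nat.card G := obdz0_charDegree_dvd_card χ
  have hpd := h χ hχB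
  have hdpos : 0 < Cfsg.charDegree (χ : G → ℂ) := Nat.pos_of_dvd_of_pos hdvd Nat.card_pos
  have hqpos : 0 < Nat.card G / Cfsg.charDegree (χ : G → ℂ) :=
    Nat.div_pos (Nat.le_of_dvd Nat.card_pos hdvd) hdpos
  have hf : (Nat.card G / Cfsg.charDegree (χ : G → ℂ)).factorization p =
      (Nat.card G).factorization p - (Cfsg.charDegree (χ : G → ℂ)).factorization p := by
    rw [Nat.factorization_div hdvd]
    rfl
  have hpos : 0 < (Nat.card G / Cfsg.charDegree (χ : G → ℂ)).factorization p :=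
    hp.factorization_pos_of_dvd hqpos.ne' hpd
  omega

end Cfsg.Agent.Lib.Helper16.OneBlk
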