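import Mathlib
import Cfsg.Agent.Lib.Helper1.ODN.Defs

set_option autoImplicit false
set_option linter.unusedVariables false
set_option linter.unusedSectionVars false

namespace Cfsg.Agent.Lib.Helper1.ODN

open Polynomial Module Cfsg.Agent.Lib.Helper13.S5955 Cfsg.Agent.Lib.helper15.S5972 Cfsg.Agent.Lib.Helper18.ONE

/-- the sum map `X₁ × X₂ → X₁ ⊔ X₂` as a linear equivalence, for disjoint `X₁`, `X₂` -/
noncomputable def odnglue_equiv {F : Type*} [Field F] {V : Type*} [AddCommGroup V] [Module F V]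
    (X₁ X₂ : Submodule F V) (hd : Disjoint X₁ X₂) : (↥X₁ × ↥X₂) ≃ₗ[F] ↥(X₁ ⊔ X₂) :=
  (LinearEquiv.ofInjective (X₁.subtype.coprod X₂.subtype) (by
    rw [← LinearMap.ker_eq_bot, LinearMap.ker_eq_bot']
    rintro ⟨a, b⟩ hab
    simp only [LinearMap.coprod_apply, Submodule.subtype_apply] at hab
    have ha : (a : V) = -(b : V) := eq_neg_of_add_eq_zero_left hab
    have hmem : (a : V) ∈ X₁ ⊓ X₂ := ⟨a.2, by rw [ha]; exact X₂.neg_mem b.2⟩
    rw [hd.eq_bot, Submodule.mem_bot] at hmem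
    have hb : (b : V) = 0 := by
      rw [hmem] at hab
      simpa using hab
    exact Prod.ext (Subtype.ext hmem) (Subtype.ext hb))).trans
  (LinearEquiv.ofEq _ _ (by rw [LinearMap.range_coprod, Submodule.range_subtype, Submodule.range_subtype]))

theorem odnglue_equiv_apply {F : Type*} [Field F] {V : Type*} [AddCommGroup V] [Module F V]
    (X₁ X₂ : Submodule F V) (hd : Disjoint X₁ X₂) (a : ↥X₁) (b : ↥X₂) :
    ((odnglue_equiv X₁ X₂ hd (a, b) : ↥(X₁ ⊔ X₂)) : V) = (a : V) + (b : V) := rfl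

theorem siso_sup {F : Type*} [Field F] (h2 : (2 : F) ≠ 0) {V : Type*} [AddCommGroup V] [Module F V]
    [FiniteDimensional F V] (B : LinearMap.BilinForm F V) (hsymm : ∀ u v, B u v = B v u)
    (X₁ X₂ Z₁ Z₂ : Submodule F V) (hX : SOrth B X₁ X₂) (hXd : Disjoint X₁ X₂) (hZ : SOrth B Z₁ Z₂)
    (hZd : Disjoint Z₁ Z₂) (h₁ : SIso B X₁ Z₁) (h₂ : SIso B X₂ Z₂) : SIso B (X₁ ⊔ X₂) (Z₁ ⊔ Z₂) := by
  obtain ⟨e₁, he₁⟩ := h₁
  obtain ⟨e₂, he₂⟩ := h₂
  refine ⟨(odnglue_equiv X₁ X₂ hXd).symm.trans ((e₁.prodCongr e₂).trans (odnglue_equiv Z₁ Z₂ hZd)), ?_⟩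
  intro w
  obtain ⟨⟨a, b⟩, rfl⟩ := (odnglue_equiv X₁ X₂ hXd).surjective w
  simp only [LinearEquiv.trans_apply, LinearEquiv.symm_apply_apply, LinearEquiv.prodCongr_apply,
    odnglue_equiv_apply]
  simp only [map_add, LinearMap.add_apply]
  rw [hZ _ (e₁ a).2 _ (e₂ b).2, hsymm ((e₂ b : ↥Z₂) : V) ((e₁ a : ↥Z₁) : V), hZ _ (e₁ a).2 _ (e₂ b).2,
    hX _ a.2 _ b.2, hsymm (b : V) (a : V), hX _ a.2 _ b.2, he₁ a, he₂ b]

end Cfsg.Agent.Lib.Helper1.ODN
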