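import Mathlib
import Cfsg.Agent.Lib.Helper1.ODN.Defs
import Cfsg.Agent.Lib.Helper1.ODNGLUE
import Cfsg.Agent.Lib.Helper1.ONEREPR
import Cfsg.Agent.Lib.helper17.ONENDPERPS
import Cfsg.Agent.Lib.Helper19.ONETYEXcore

set_option autoImplicit false
set_option linter.unusedVariables false
set_option linter.unusedSectionVars false

namespace Cfsg.Agent.Lib.Helper1.ODN

open Polynomial Module Cfsg.Agent.Lib.Helper13.S5955 Cfsg.Agent.Lib.helper15.S5972 Cfsg.Agent.Lib.Helper18.ONE

/-- a line spanned by a nonsingular vector is nondegenerate -/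
theorem odncl2_nd_span {F : Type*} [Field F] {V : Type*} [AddCommGroup V] [Module F V]
    (B : LinearMap.BilinForm F V) (u : V) (hu : B u u ≠ 0) : SND B (Submodule.span F {u}) := by
  intro w hw hall
  obtain ⟨c, rfl⟩ := Submodule.mem_span_singleton.mp hw
  have h1 := hall u (Submodule.mem_span_singleton_self u)
  rw [map_smul, LinearMap.smul_apply, smul_eq_mul] at h1
  rcases mul_eq_zero.mp h1 with h | h
  · rw [h, zero_smul]
  · exact absurd h hu

/-- two lines spanned by vectors of the same value are isometric -/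
theorem odncl2_line {F : Type*} [Field F] {V : Type*} [AddCommGroup V] [Module F V]
    (B : LinearMap.BilinForm F V) (u v : V) (hu : u ≠ 0) (hv : v ≠ 0) (huv : B u u = B v v) :
    SIso B (Submodule.span F {u}) (Submodule.span F {v}) := by
  refine ⟨(LinearEquiv.toSpanNonzeroSingleton F V u hu).symm.trans
    (LinearEquiv.toSpanNonzeroSingleton F V v hv), ?_⟩
  intro w
  obtain ⟨c, rfl⟩ := (LinearEquiv.toSpanNonzeroSingleton F V u hu).surjective w
  rw [LinearEquiv.trans_apply, LinearEquiv.symm_apply_apply]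
  simp only [LinearEquiv.toSpanNonzeroSingleton_apply, map_smul, LinearMap.smul_apply, smul_eq_mul]
  rw [huv]

/-- a nondegenerate subspace orthogonal to another one is disjoint from it -/
theorem odncl2_disjoint {F : Type*} [Field F] {V : Type*} [AddCommGroup V] [Module F V]
    (B : LinearMap.BilinForm F V) (hsymm : ∀ u v, B u v = B v u) (U W : Submodule F V)
    (hU : SND B U) (hUW : SOrth B U W) : Disjoint U W := by
  rw [Submodule.disjoint_def]
  intro w hwU hwW
  apply hU w hwU
  intro u hu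
  rw [hsymm]
  exact hUW u hu w hwW

theorem cl_two {F : Type*} [Field F] [Fintype F] (h2 : (2 : F) ≠ 0) {V : Type*} [AddCommGroup V] [Module F V]
    [FiniteDimensional F V] (B : LinearMap.BilinForm F V) (hsymm : ∀ u v, B u v = B v u)
    (X Y : Submodule F V) (hX : SND B X) (hY : SND B Y) (hdim : finrank F X = finrank F Y + 1) :
    ∃ t : F, t ≠ 0 ∧ ∀ v : V, (∀ y ∈ Y, B y v = 0) → B v v = t →
      SIso B X (Y ⊔ Submodule.span F {v}) := by
  induction hn : finrank F Y generalizing X Y with
  | zero =>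
    have hYbot : Y = ⊥ := Submodule.finrank_eq_zero.mp hn
    have hX1 : finrank F X = 1 := by rw [hdim, hn]
    have hX0 : X ≠ ⊥ := by
      intro h
      rw [h, finrank_bot] at hX1
      omega
    obtain ⟨u, huX, hu⟩ := onetyex_nonsing h2 B hsymm X hX hX0
    have hu0 : u ≠ 0 := by
      rintro rfl
      simp at hu
    have hXspan : X = Submodule.span F {u} := by
      symm
      apply Submodule.eq_of_le_of_finrank_eq
      · rw [Submodule.span_singleton_le_iff_mem]
        exact huX
      · rw [finrank_span_singleton hu0, hX1]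
    refine ⟨B u u, hu, ?_⟩
    intro v _ hv
    have hv0 : v ≠ 0 := by
      rintro rfl
      apply hu
      rw [← hv]
      simp
    rw [hYbot, bot_sup_eq, hXspan]
    exact odncl2_line B u v hu0 hv0 hv.symm
  | succ n ih =>
    have hY0 : Y ≠ ⊥ := by
      intro h
      rw [h, finrank_bot] at hn
      omega
    obtain ⟨y₁, hy₁Y, hy₁⟩ := onetyex_nonsing h2 B hsymm Y hY hY0
    have hy₁0 : y₁ ≠ 0 := by
      rintro rfl
      simp at hy₁
    obtain ⟨x₁, hx₁X, hx₁⟩ := repr_symm h2 B hsymm X hX (by omega) (B y₁ y₁) hy₁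
    have hx₁ne : B x₁ x₁ ≠ 0 := by rw [hx₁]; exact hy₁
    have hx₁0 : x₁ ≠ 0 := by
      rintro rfl
      simp at hx₁ne
    obtain ⟨hYd, hYsup, hY'nd, hYorth, hYdim⟩ := nd_perp_symm B hsymm Y (Submodule.span F {y₁}) hY
      (by rw [Submodule.span_singleton_le_iff_mem]; exact hy₁Y) (odncl2_nd_span B y₁ hy₁)
    obtain ⟨hXd, hXsup, hX'nd, hXorth, hXdim⟩ := nd_perp_symm B hsymm X (Submodule.span F {x₁}) hX
      (by rw [Submodule.span_singleton_le_iff_mem]; exact hx₁X) (odncl2_nd_span B x₁ hx₁ne)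
    rw [finrank_span_singleton hy₁0] at hYdim
    rw [finrank_span_singleton hx₁0] at hXdim
    set Y' := Y ⊓ B.orthogonal (Submodule.span F {y₁}) with hY'def
    set X' := X ⊓ B.orthogonal (Submodule.span F {x₁}) with hX'def
    obtain ⟨t, ht, hall⟩ := ih X' Y' hX'nd hY'nd (by omega) (by omega)
    refine ⟨t, ht, ?_⟩
    intro v hvY hvt
    have h1 : SIso B X' (Y' ⊔ Submodule.span F {v}) := hall v (fun y hy => hvY y hy.1) hvt
    have h0 : SIso B (Submodule.span F {x₁}) (Submodule.span F {y₁}) := odncl2_line B x₁ y₁ hx₁0 hy₁0 hx₁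
    have hZorth : SOrth B (Submodule.span F {y₁}) (Y' ⊔ Submodule.span F {v}) := by
      intro a ha w hw
      obtain ⟨w₁, hw₁, w₂, hw₂, rfl⟩ := Submodule.mem_sup.mp hw
      obtain ⟨c, rfl⟩ := Submodule.mem_span_singleton.mp hw₂
      obtain ⟨c', rfl⟩ := Submodule.mem_span_singleton.mp ha
      rw [map_add, hYorth _ (Submodule.mem_span_singleton.mpr ⟨c', rfl⟩) w₁ hw₁, zero_add, map_smul,
        map_smul, LinearMap.smul_apply, hvY y₁ hy₁Y]
      simp
    have hZd : Disjoint (Submodule.span F {y₁}) (Y' ⊔ Submodule.span F {v}) :=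
      odncl2_disjoint B hsymm _ _ (odncl2_nd_span B y₁ hy₁) hZorth
    have hg := siso_sup h2 B hsymm (Submodule.span F {x₁}) X' (Submodule.span F {y₁}) (Y' ⊔ Submodule.span F {v})
      hXorth hXd hZorth hZd h0 h1
    rw [hXsup, ← sup_assoc, hYsup] at hg
    exact hg

end Cfsg.Agent.Lib.Helper1.ODN
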