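import Mathlib
import Cfsg.Agent.Lib.Helper1.ODN.Defs
import Cfsg.Agent.Lib.Helper1.ODNCL2
import Cfsg.Agent.Lib.helper8.ODNSISO
import Cfsg.Agent.Lib.helper17.ONENDSUPS

set_option autoImplicit false
set_option linter.unusedVariables false
set_option linter.unusedSectionVars false

namespace Cfsg.Agent.Lib.Helper1.ODN

open Polynomial Module Cfsg.Agent.Lib.Helper13.S5955 Cfsg.Agent.Lib.helper15.S5972 Cfsg.Agent.Lib.Helper18.ONE

/-- EXCLS with the statement of EXND (for `N`) as a hypothesis -/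
theorem odnexcls_core {F : Type*} [Field F] [Fintype F] (h2 : (2 : F) ≠ 0) {V : Type*} [AddCommGroup V] [Module F V]
    [FiniteDimensional F V] (B : LinearMap.BilinForm F V) (hsymm : ∀ u v, B u v = B v u)
    (N M W₀ : Submodule F V) (hN : SND B N) (hM : SND B M) (hNM : SOrth B N M) (hW₀ : SND B W₀)
    (hEXND : ∀ k : ℕ, k ≤ finrank F N → ∃ W : Submodule F V, W ≤ N ∧ SND B W ∧ finrank F W = k)
    (e : ℕ) (he : 1 ≤ e) (heN : e < finrank F N) (hdim : finrank F W₀ = e + finrank F M) :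
    ∃ W₁ : Submodule F V, W₁ ≤ N ∧ SND B W₁ ∧ finrank F W₁ = e ∧ SND B (W₁ ⊔ M) ∧
      finrank F ↥(W₁ ⊔ M) = e + finrank F M ∧ SIso B (W₁ ⊔ M) W₀ := by
  obtain ⟨W', hW'N, hW'nd, hW'dim⟩ := hEXND (e - 1) (by omega)
  have hW'M : SOrth B W' M := fun u hu w hw => hNM u (hW'N hu) w hw
  obtain ⟨hYnd, -, hYdim⟩ := nd_sup_symm B hsymm W' M hW'nd hM hW'M
  obtain ⟨t, ht, hall⟩ := cl_two h2 B hsymm W₀ (W' ⊔ M) hW₀ hYnd (by rw [hdim, hYdim, hW'dim]; omega)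
  obtain ⟨-, -, hN'nd, hN'orth, hN'dim⟩ := nd_perp_symm B hsymm N W' hN hW'N hW'nd
  obtain ⟨v, hvN', hvt⟩ := repr_symm h2 B hsymm (N ⊓ B.orthogonal W') hN'nd (by omega) t ht
  have hvN : v ∈ N := hvN'.1
  have hvY : ∀ y ∈ W' ⊔ M, B y v = 0 := by
    intro y hy
    obtain ⟨w, hw, μ, hμ, rfl⟩ := Submodule.mem_sup.mp hy
    rw [map_add, LinearMap.add_apply, hN'orth w hw v hvN', hsymm μ v, hNM v hvN μ hμ, add_zero]
  have hiso : SIso B ((W' ⊔ M) ⊔ Submodule.span F {v}) W₀ := siso_symm (hall v hvY hvt)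
  have hv0 : v ≠ 0 := by
    rintro rfl
    apply ht
    rw [← hvt]
    simp
  have hvtne : B v v ≠ 0 := by rw [hvt]; exact ht
  have hW'v : SOrth B W' (Submodule.span F {v}) := by
    intro u hu w hw
    obtain ⟨c, rfl⟩ := Submodule.mem_span_singleton.mp hw
    rw [map_smul, hN'orth u hu v hvN', smul_zero]
  obtain ⟨hW₁nd, -, hW₁dim⟩ := nd_sup_symm B hsymm W' (Submodule.span F {v}) hW'nd (odncl2_nd_span B v hvtne) hW'v
  rw [finrank_span_singleton hv0, hW'dim] at hW₁dim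
  have hW₁N : W' ⊔ Submodule.span F {v} ≤ N := by
    apply sup_le hW'N
    rw [Submodule.span_singleton_le_iff_mem]
    exact hvN
  have hW₁M : SOrth B (W' ⊔ Submodule.span F {v}) M := fun u hu w hw => hNM u (hW₁N hu) w hw
  obtain ⟨hWnd, -, hWdim⟩ := nd_sup_symm B hsymm (W' ⊔ Submodule.span F {v}) M hW₁nd hM hW₁M
  have heq : (W' ⊔ Submodule.span F {v}) ⊔ M = (W' ⊔ M) ⊔ Submodule.span F {v} := by
    rw [sup_assoc, sup_comm (Submodule.span F {v}) M, ← sup_assoc]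
  refine ⟨W' ⊔ Submodule.span F {v}, hW₁N, hW₁nd, by omega, hWnd, by rw [hWdim, hW₁dim]; omega, ?_⟩
  rw [heq]
  exact hiso

end Cfsg.Agent.Lib.Helper1.ODN
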