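import Mathlib
import Cfsg.Agent.Lib.Helper1.ODN.Defs
import Cfsg.Agent.Lib.Helper1.ODNEXCLScore
import Cfsg.Agent.Lib.Helper20.ODNEXND

set_option autoImplicit false
set_option linter.unusedVariables false
set_option linter.unusedSectionVars false

namespace Cfsg.Agent.Lib.Helper1.ODN

open Polynomial Module Cfsg.Agent.Lib.Helper13.S5955 Cfsg.Agent.Lib.helper15.S5972 Cfsg.Agent.Lib.Helper18.ONE

theorem ex_cls {F : Type*} [Field F] [Fintype F] (h2 : (2 : F) ≠ 0) {V : Type*} [AddCommGroup V] [Module F V]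
    [FiniteDimensional F V] (B : LinearMap.BilinForm F V) (hsymm : ∀ u v, B u v = B v u)
    (N M W₀ : Submodule F V) (hN : SND B N) (hM : SND B M) (hNM : SOrth B N M) (hW₀ : SND B W₀)
    (e : ℕ) (he : 1 ≤ e) (heN : e < finrank F N) (hdim : finrank F W₀ = e + finrank F M) :
    ∃ W₁ : Submodule F V, W₁ ≤ N ∧ SND B W₁ ∧ finrank F W₁ = e ∧ SND B (W₁ ⊔ M) ∧
      finrank F ↥(W₁ ⊔ M) = e + finrank F M ∧ SIso B (W₁ ⊔ M) W₀ :=
  odnexcls_core h2 B hsymm N M W₀ hN hM hNM hW₀ (fun k hk => ex_nd h2 B hsymm N hN k hk) e he heN hdim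

end Cfsg.Agent.Lib.Helper1.ODN
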