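import Mathlib
import Cfsg.Agent.Lib.Helper1.ODN.Defs
import Cfsg.Agent.Lib.helper15.S5972OS2CTX
import Cfsg.Agent.Lib.helper17.ONETYSUM

set_option autoImplicit false
set_option linter.unusedVariables false
set_option linter.unusedSectionVars false

namespace Cfsg.Agent.Lib.Helper1.ODN

open Polynomial Module Cfsg.Agent.Lib.Helper13.S5955 Cfsg.Agent.Lib.helper15.S5972 Cfsg.Agent.Lib.Helper18.ONE
  Cfsg.Agent.Lib.Helper16.OSemi

theorem odnprodctx_pow {F : Type*} [Field F] {V₁ V₂ : Type*} [AddCommGroup V₁] [Module F V₁]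
    [AddCommGroup V₂] [Module F V₂] (x₁ : Module.End F V₁) (n : ℕ) (u : V₁ × V₂) :
    ((x₁.prodMap (LinearMap.id : V₂ →ₗ[F] V₂)) ^ n) u = ((x₁ ^ n) u.1, u.2) := by
  induction n generalizing u with
  | zero => simp
  | succ n ih =>
    rw [pow_succ, Module.End.mul_apply, ih, pow_succ, Module.End.mul_apply]
    rfl

theorem odnprodctx_octx {F : Type*} [Field F]
    {V₁ V₂ : Type*} [AddCommGroup V₁] [Module F V₁] [AddCommGroup V₂] [Module F V₂] {r : ℕ}
    (B₁ : LinearMap.BilinForm F V₁) (x₁ : Module.End F V₁) (h₁ : OCtx r B₁ x₁)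
    (B₂ : LinearMap.BilinForm F V₂) (hsymm₂ : ∀ u v, B₂ u v = B₂ v u) (hnd₂ : ∀ u, (∀ v, B₂ u v = 0) → u = 0) :
    OCtx r (prodB B₁ B₂) (x₁.prodMap LinearMap.id) := by
  refine ⟨?_, ?_, ?_, ?_⟩
  · intro u v
    rw [prodB_apply, prodB_apply, h₁.symm, hsymm₂]
  · intro u hu
    have hu1 : u.1 = 0 := by
      apply h₁.nd
      intro v
      have := hu (v, 0)
      rw [prodB_apply] at this
      simpa using this
    have hu2 : u.2 = 0 := by
      apply hnd₂
      intro v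
      have := hu (0, v)
      rw [prodB_apply] at this
      simpa using this
    exact Prod.ext hu1 hu2
  · intro u v
    rw [prodB_apply, prodB_apply]
    show B₁ (x₁ u.1) (x₁ v.1) + B₂ u.2 v.2 = _
    rw [h₁.pres]
  · apply LinearMap.ext
    intro u
    rw [odnprodctx_pow, h₁.pow]
    rfl

theorem odnprodctx_fix {F : Type*} [Field F]
    {V₁ V₂ : Type*} [AddCommGroup V₁] [Module F V₁] [FiniteDimensional F V₁]
    [AddCommGroup V₂] [Module F V₂] [FiniteDimensional F V₂] (x₁ : Module.End F V₁) :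
    finrank F (fixS (x₁.prodMap (LinearMap.id : V₂ →ₗ[F] V₂))) = finrank F (fixS x₁) + finrank F V₂ := by
  have hinj : Function.Injective ((fixS x₁).subtype.prodMap (LinearMap.id : V₂ →ₗ[F] V₂)) := by
    rintro ⟨a, b⟩ ⟨a', b'⟩ hab
    simp only [LinearMap.prodMap_apply, Submodule.subtype_apply, LinearMap.id_apply, Prod.mk.injEq] at hab
    exact Prod.ext (Subtype.ext hab.1) hab.2
  have hrange : LinearMap.range ((fixS x₁).subtype.prodMap (LinearMap.id : V₂ →ₗ[F] V₂)) =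
      fixS (x₁.prodMap (LinearMap.id : V₂ →ₗ[F] V₂)) := by
    ext u
    rw [s5972os2_mem_fixS, LinearMap.mem_range]
    constructor
    · rintro ⟨⟨a, b⟩, rfl⟩
      have ha := (s5972os2_mem_fixS x₁ (a : V₁)).mp a.2
      simp only [LinearMap.prodMap_apply, Submodule.subtype_apply, LinearMap.id_apply]
      rw [ha]
    · intro hu
      have hu1 : x₁ u.1 = u.1 := by
        have := congrArg Prod.fst hu
        simpa using this
      refine ⟨(⟨u.1, (s5972os2_mem_fixS x₁ u.1).mpr hu1⟩, u.2), ?_⟩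
      simp
  rw [← hrange, LinearMap.finrank_range_of_inj hinj, Module.finrank_prod]

theorem odn_prod_ctx {F : Type*} [Field F] [Fintype F] (h2 : (2 : F) ≠ 0)
    {V₁ V₂ : Type*} [AddCommGroup V₁] [Module F V₁] [FiniteDimensional F V₁]
    [AddCommGroup V₂] [Module F V₂] [FiniteDimensional F V₂] {r : ℕ}
    (B₁ : LinearMap.BilinForm F V₁) (x₁ : Module.End F V₁) (h₁ : OCtx r B₁ x₁)
    (B₂ : LinearMap.BilinForm F V₂) (hsymm₂ : ∀ u v, B₂ u v = B₂ v u) (hnd₂ : ∀ u, (∀ v, B₂ u v = 0) → u = 0) :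
    OCtx r (prodB B₁ B₂) (x₁.prodMap LinearMap.id) ∧
      finrank F (fixS (x₁.prodMap (LinearMap.id : V₂ →ₗ[F] V₂))) = finrank F (fixS x₁) + finrank F V₂ ∧
      (x₁ ≠ 1 → x₁.prodMap (LinearMap.id : V₂ →ₗ[F] V₂) ≠ 1) ∧
      (Even (finrank F V₁) → Even (finrank F V₂) → ∀ s₁ s₂ : ℤ, OTy B₁ ⊤ s₁ → OTy B₂ ⊤ s₂ → OTy (prodB B₁ B₂) ⊤ (s₁ * s₂)) := by
  have hctx := odnprodctx_octx B₁ x₁ h₁ B₂ hsymm₂ hnd₂
  refine ⟨hctx, odnprodctx_fix x₁, ?_, ?_⟩
  · intro hne hone
    apply hne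
    apply LinearMap.ext
    intro u
    have := congrArg (fun f : Module.End F (V₁ × V₂) => (f (u, 0)).1) hone
    simpa using this
  · intro he₁ he₂ s₁ s₂ hs₁ hs₂
    set W₁ : Submodule F (V₁ × V₂) := LinearMap.range (LinearMap.inl F V₁ V₂) with hW₁
    set W₂ : Submodule F (V₁ × V₂) := LinearMap.range (LinearMap.inr F V₁ V₂) with hW₂
    let e₁ : V₁ ≃ₗ[F] ↥W₁ := LinearEquiv.ofInjective (LinearMap.inl F V₁ V₂) LinearMap.inl_injective
    let e₂ : V₂ ≃ₗ[F] ↥W₂ := LinearEquiv.ofInjective (LinearMap.inr F V₁ V₂) LinearMap.inr_injective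
    have he₁v : ∀ u : V₁, ((e₁ u : ↥W₁) : V₁ × V₂) = (u, 0) := fun u => rfl
    have he₂v : ∀ u : V₂, ((e₂ u : ↥W₂) : V₁ × V₂) = (0, u) := fun u => rfl
    have hd₁ : finrank F W₁ = finrank F V₁ := (LinearEquiv.finrank_eq e₁).symm
    have hd₂ : finrank F W₂ = finrank F V₂ := (LinearEquiv.finrank_eq e₂).symm
    have hnd₁ : SND (prodB B₁ B₂) W₁ := by
      intro u hu hall
      obtain ⟨a, rfl⟩ := hu
      have ha : a = 0 := by
        apply h₁.nd
        intro v
        have := hall (v, 0) ⟨v, rfl⟩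
        rw [prodB_apply] at this
        simpa using this
      rw [ha]
      simp
    have hnd₂' : SND (prodB B₁ B₂) W₂ := by
      intro u hu hall
      obtain ⟨a, rfl⟩ := hu
      have ha : a = 0 := by
        apply hnd₂
        intro v
        have := hall (0, v) ⟨v, rfl⟩
        rw [prodB_apply] at this
        simpa using this
      rw [ha]
      simp
    have horth : SOrth (prodB B₁ B₂) W₁ W₂ := by
      rintro u ⟨a, rfl⟩ w ⟨b, rfl⟩
      rw [prodB_apply]
      simp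
    have ht₁ : OTy (prodB B₁ B₂) W₁ s₁ := by
      unfold OTy at hs₁ ⊢
      rw [hd₁]
      rw [finrank_top] at hs₁
      refine (isType_congr ((e₁.symm.trans (Submodule.topEquiv (R := F) (M := V₁)).symm).toEquiv)
        (fun w : ↥(⊤ : Submodule F V₁) => B₁ (w : V₁) (w : V₁)) (fun w : ↥W₁ => prodB B₁ B₂ (w : V₁ × V₂) (w : V₁ × V₂)) ?_ _ _).mp hs₁
      intro w'
      obtain ⟨u, rfl⟩ := e₁.surjective w'
      simp only [LinearEquiv.coe_toEquiv, LinearEquiv.trans_apply, LinearEquiv.symm_apply_apply]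
      rw [he₁v, prodB_apply]
      simp
    have ht₂ : OTy (prodB B₁ B₂) W₂ s₂ := by
      unfold OTy at hs₂ ⊢
      rw [hd₂]
      rw [finrank_top] at hs₂
      refine (isType_congr ((e₂.symm.trans (Submodule.topEquiv (R := F) (M := V₂)).symm).toEquiv)
        (fun w : ↥(⊤ : Submodule F V₂) => B₂ (w : V₂) (w : V₂)) (fun w : ↥W₂ => prodB B₁ B₂ (w : V₁ × V₂) (w : V₁ × V₂)) ?_ _ _).mp hs₂
      intro w'
      obtain ⟨u, rfl⟩ := e₂.surjective w'
      simp only [LinearEquiv.coe_toEquiv, LinearEquiv.trans_apply, LinearEquiv.symm_apply_apply]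
      rw [he₂v, prodB_apply]
      simp
    have hsum := ty_sum h2 (prodB B₁ B₂) hctx.symm W₁ W₂ hnd₁ hnd₂' horth (by rw [hd₁]; exact he₁)
      (by rw [hd₂]; exact he₂) s₁ s₂ ht₁ ht₂
    rw [hW₁, hW₂, LinearMap.sup_range_inl_inr] at hsum
    exact hsum

end Cfsg.Agent.Lib.Helper1.ODN
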