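import Mathlib
import Cfsg.Agent.Lib.Helper13.S5955.Defs
import Cfsg.Agent.S0245

set_option autoImplicit false
set_option linter.unusedVariables false
set_option linter.unusedSectionVars false

namespace Cfsg.Agent.Lib.Helper13.S5955

open Polynomial Module Cfsg.Agent.Lib.helper6

theorem s5955n2_toLin_pow {F : Type*} [Field F] {d : ℕ}
    (A : Matrix (Fin d ⊕ Fin d) (Fin d ⊕ Fin d) F) (k : ℕ) :
    (Matrix.toLin' A) ^ k = Matrix.toLin' (A ^ k) := by
  induction k with
  | zero => rw [pow_zero, pow_zero, Matrix.toLin'_one]; rfl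
  | succ k ih => rw [pow_succ, ih, pow_succ, Matrix.toLin'_mul]; rfl

theorem s5955n2_ctx_of_symp {F : Type*} [Field F] {d : ℕ} (r : ℕ)
    (g : ↥(Matrix.symplecticGroup (Fin d) F))
    (hg : ((g ^ r : ↥(Matrix.symplecticGroup (Fin d) F)) :
      Matrix (Fin d ⊕ Fin d) (Fin d ⊕ Fin d) F) = 1) :
    SCtx r (stdB d F) (Matrix.toLin' (g : Matrix (Fin d ⊕ Fin d) (Fin d ⊕ Fin d) F)) := by
  refine ⟨fun v => ?_, fun u hu => ?_, fun u v => ?_, ?_⟩
  · rw [stdB_apply]
    exact sympForm_self d v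
  · by_contra hne
    obtain ⟨x, hx⟩ := sympForm_nondeg d u hne
    exact hx (by rw [← stdB_apply]; exact hu x)
  · rw [stdB_apply, stdB_apply, Matrix.toLin'_apply, Matrix.toLin'_apply]
    exact (mem_symplecticGroup_iff_sympForm d _).mp g.2 u v
  · rw [s5955n2_toLin_pow]
    have : ((g : Matrix (Fin d ⊕ Fin d) (Fin d ⊕ Fin d) F)) ^ r = 1 := by
      rw [← hg]
      rfl
    rw [this, Matrix.toLin'_one]
    rfl

theorem cauchy {F : Type*} [Field F] [Fintype F] {p : ℕ} [Fact p.Prime] [CharP F p]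
    (r : ℕ) [Fact r.Prime] (hrp : r ≠ p) (h : ℕ) (hh : 1 ≤ h)
    (hdvd : r ∣ Fintype.card F ^ (2 * h) - 1) :
    ∃ y : Module.End F (Fin h ⊕ Fin h → F), SCtx r (stdB h F) y ∧ y ≠ 1 := by
  classical
  have hcard := Cfsg.Agent.S0245.result (F := F) (q := Fintype.card F) rfl h
  have hr : r ∣ Nat.card (Matrix.symplecticGroup (Fin h) F) := by
    rw [hcard]
    apply Dvd.dvd.mul_left
    apply Dvd.dvd.trans hdvd
    have hmem : h - 1 ∈ Finset.range h := by
      rw [Finset.mem_range]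
      omega
    have := Finset.dvd_prod_of_mem (fun i => Fintype.card F ^ (2 * (i + 1)) - 1) hmem
    have h2 : h - 1 + 1 = h := by omega
    simp only [h2] at this
    exact this
  obtain ⟨g, hg⟩ := exists_prime_orderOf_dvd_card' r hr
  refine ⟨Matrix.toLin' (g : Matrix (Fin h ⊕ Fin h) (Fin h ⊕ Fin h) F), ?_, ?_⟩
  · apply s5955n2_ctx_of_symp
    have : g ^ r = 1 := by rw [← hg]; exact pow_orderOf_eq_one g
    rw [this]
    rfl
  · intro h1
    have hg1 : g = 1 := by
      apply Subtype.ext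
      apply Matrix.toLin'.injective
      rw [h1]
      show (1 : Module.End F (Fin h ⊕ Fin h → F)) = Matrix.toLin' 1
      rw [Matrix.toLin'_one]
      rfl
    rw [hg1, orderOf_one] at hg
    have hrp' : r.Prime := Fact.out
    exact hrp'.one_lt.ne hg

end Cfsg.Agent.Lib.Helper13.S5955
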