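import Mathlib
import Cfsg.Agent.Lib.Helper1.ODN.Defs
import Cfsg.Agent.Lib.Helper1.ODNPRODCTX
import Cfsg.Agent.Lib.Helper21.S5955N10w
import Cfsg.Agent.Lib.helper15.S5972OS2CTX
import Cfsg.Agent.Lib.Helper18.ONETYCLASS
import Cfsg.Agent.Lib.Helper18.ONETYFPF
import Cfsg.Agent.Lib.helper23.ONETYARITH
import Cfsg.Agent.Lib.Helper16.SpinG
import Cfsg.Agent.Lib.Helper16.SpinG2
import Cfsg.Agent.Lib.Helper16.PlusFam
import Cfsg.Agent.Lib.Helper16.OHelp

set_option autoImplicit false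
set_option linter.unusedVariables false
set_option linter.unusedSectionVars false

namespace Cfsg.Agent.Lib.Helper1.ODN

open Polynomial Module Cfsg.Agent.Lib.Helper13.S5955 Cfsg.Agent.Lib.helper15.S5972 Cfsg.Agent.Lib.Helper18.ONE
  Cfsg.Agent.Lib.Helper16.OSemi

/-- the counting type of a whole standard space in the abstract vocabulary -/
theorem odnmodel_oty_std {F : Type*} [Field F] [Fintype F] (h2 : (2 : F) ≠ 0) {ι : Type} [Fintype ι] [DecidableEq ι]
    (Q : QuadraticForm F (ι → F)) (t : ℕ) (hcard : Fintype.card ι = 2 * t) (s : ℤ) (hs : IsType (⇑Q) t s) :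
    OTy (QuadraticMap.polarBilin Q) ⊤ s := by
  unfold OTy
  have hfr : finrank F ↥(⊤ : Submodule F (ι → F)) / 2 = t := by
    rw [finrank_top, Module.finrank_fintype_fun_eq_card, hcard]
    omega
  rw [hfr]
  unfold IsType at hs ⊢
  have hcnt : Cfsg.Agent.Lib.Helper16.OSemi.cnt (fun w : ↥(⊤ : Submodule F (ι → F)) =>
      QuadraticMap.polarBilin Q (w : ι → F) (w : ι → F)) 0 = Cfsg.Agent.Lib.Helper16.OSemi.cnt (⇑Q) 0 := by
    unfold Cfsg.Agent.Lib.Helper16.OSemi.cnt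
    apply Nat.card_congr
    refine ⟨fun w => ⟨(w.1 : ι → F), ?_⟩, fun v => ⟨⟨v.1, Submodule.mem_top⟩, ?_⟩, fun w => rfl, fun v => rfl⟩
    · have h : QuadraticMap.polarBilin Q (w.1 : ι → F) (w.1 : ι → F) = 0 := w.2
      rw [QuadraticMap.polarBilin_apply_apply, QuadraticMap.polar_self, two_nsmul, ← two_mul] at h
      rcases mul_eq_zero.mp h with h | h
      · exact absurd h h2
      · exact h
    · show QuadraticMap.polarBilin Q v.1 v.1 = 0
      rw [QuadraticMap.polarBilin_apply_apply, QuadraticMap.polar_self, v.2]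
      simp
  rw [hcnt]
  exact hs

theorem odnmodel_polar_facts {F : Type*} [Field F] {ι : Type} [Fintype ι] [DecidableEq ι]
    (Q : QuadraticForm F (ι → F)) (hQ : (QuadraticMap.polarBilin Q).Nondegenerate) :
    (∀ u v, QuadraticMap.polarBilin Q u v = QuadraticMap.polarBilin Q v u) ∧
      (∀ u, (∀ v, QuadraticMap.polarBilin Q u v = 0) → u = 0) := by
  refine ⟨?_, ?_⟩
  · intro u v
    rw [QuadraticMap.polarBilin_apply_apply, QuadraticMap.polarBilin_apply_apply, QuadraticMap.polar_comm]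
  · intro u hu
    exact hQ.1 u hu

/-- a space with trivial action of prescribed even dimension `f ≥ 2` and type -/
theorem odnmodel_triv.{u} {F : Type u} [Field F] [Fintype F] (h2 : (2 : F) ≠ 0) (f : ℕ) (hf : Even f) (hf2 : 2 ≤ f)
    (s : ℤ) (hs : s = 1 ∨ s = -1) :
    ∃ (V₂ : Type u) (_ : AddCommGroup V₂) (_ : Module F V₂) (_ : FiniteDimensional F V₂)
      (B₂ : LinearMap.BilinForm F V₂),
      (∀ u v, B₂ u v = B₂ v u) ∧ (∀ u, (∀ v, B₂ u v = 0) → u = 0) ∧ finrank F V₂ = f ∧ OTy B₂ ⊤ s := by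
  obtain ⟨t, ht⟩ := hf
  have ht1 : 1 ≤ t := by omega
  rcases hs with rfl | rfl
  · have hcard : Fintype.card (Fin t ⊕ Fin t) = 2 * t := by simp; omega
    obtain ⟨h1, h2'⟩ := odnmodel_polar_facts (Cfsg.Agent.Lib.Helper16.qfPlus t F) (Cfsg.Agent.Lib.Helper16.qfPlus_nondeg t F)
    refine ⟨Fin t ⊕ Fin t → F, inferInstance, inferInstance, inferInstance,
      QuadraticMap.polarBilin (Cfsg.Agent.Lib.Helper16.qfPlus t F), h1, h2', ?_, ?_⟩
    · rw [Module.finrank_fintype_fun_eq_card, hcard]; omega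
    · exact odnmodel_oty_std h2 _ t hcard 1 (isType_plus t)
  · have hchar : ringChar F ≠ 2 := by
      intro h
      apply h2
      have := ringChar.spec F 2
      have h3 : ((2 : ℕ) : F) = 0 := by rw [this, h]
      exact_mod_cast h3
    obtain ⟨ν, hν⟩ := FiniteField.exists_nonsquare hchar
    have hac : ∀ z₁ z₂ : F, z₁ ^ 2 + 0 * z₁ * z₂ + (-ν) * z₂ ^ 2 = 0 → z₁ = 0 ∧ z₂ = 0 := by
      intro z₁ z₂ h
      have h' : z₁ ^ 2 = ν * z₂ ^ 2 := by linear_combination h
      by_cases hz : z₂ = 0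
      · rw [hz] at h'
        simp at h'
        exact ⟨h', hz⟩
      · exfalso
        apply hν
        refine ⟨z₁ / z₂, ?_⟩
        field_simp
        exact h'.symm
    have hcard : Fintype.card ((Fin (t - 1) ⊕ Fin (t - 1)) ⊕ Fin 2) = 2 * t := by simp; omega
    obtain ⟨h1, h2'⟩ := odnmodel_polar_facts (Cfsg.Agent.Lib.Helper16.qfMinus (t - 1) F 0 (-ν))
      (Cfsg.Agent.Lib.Helper16.OSemi.qfMinus_nondeg (t - 1) 0 (-ν) hac)
    refine ⟨(Fin (t - 1) ⊕ Fin (t - 1)) ⊕ Fin 2 → F, inferInstance, inferInstance, inferInstance,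
      QuadraticMap.polarBilin (Cfsg.Agent.Lib.Helper16.qfMinus (t - 1) F 0 (-ν)), h1, h2', ?_, ?_⟩
    · rw [Module.finrank_fintype_fun_eq_card, hcard]; omega
    · apply odnmodel_oty_std h2 _ t hcard (-1)
      have h := isType_minus (t - 1) 0 (-ν) hac
      rw [show t - 1 + 1 = t by omega] at h
      rw [Cfsg.Agent.Lib.Helper16.qfMinus_coe]
      exact h

/-- the fixed-point-free part: an orthogonal context of dimension `c A` without fixed vectors, with its forced type -/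
theorem odnmodel_fpf.{u} {F : Type u} [Field F] [Fintype F] {p : ℕ} [Fact p.Prime] [CharP F p]
    (hp2 : p ≠ 2) (h2 : (2 : F) ≠ 0) (r : ℕ) [Fact r.Prime] (hrp : r ≠ p) (hr2 : r ≠ 2) (i c : ℕ)
    (hi : i = orderOf ((Fintype.card F : ℕ) : ZMod r)) (hc : c = if Even i then i else 2 * i)
    (hi1 : 1 ≤ i) (A : ℕ) (hA : 1 ≤ A) :
    ∃ (V₁ : Type u) (_ : AddCommGroup V₁) (_ : Module F V₁) (_ : FiniteDimensional F V₁)
      (B₁ : LinearMap.BilinForm F V₁) (x₁ : Module.End F V₁) (s₁ : ℤ),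
      OCtx r B₁ x₁ ∧ x₁ ≠ 1 ∧ finrank F V₁ = c * A ∧ finrank F (fixS x₁) = 0 ∧ (s₁ = 1 ∨ s₁ = -1) ∧ OTy B₁ ⊤ s₁ ∧
        (s₁ = 1 ↔ (Odd i ∨ Even (c * A / i))) := by
  have hr := (Fact.out : r.Prime)
  have hrodd : Odd r := hr.odd_of_ne_two hr2
  have hce : Even c := by
    rw [hc]; split_ifs with h
    · exact h
    · exact even_two_mul i
  have hc2 : 2 ≤ c := by
    obtain ⟨k, hk⟩ := hce
    have hc0 : 0 < c := by
      rw [hc]; split_ifs <;> omega
    omega
  obtain ⟨k, hk⟩ := hce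
  set h := k * A with hh
  have h2h : 2 * h = c * A := by rw [hh, hk]; ring
  have hh1 : 1 ≤ h := by
    have : 1 ≤ k := by omega
    exact Nat.one_le_iff_ne_zero.mpr (Nat.mul_ne_zero (by omega) (by omega))
  have hcle : c ≤ 2 * h := by
    rw [h2h]
    exact Nat.le_mul_of_pos_right c (by omega)
  obtain ⟨y, hy, -, hyfix⟩ := Cfsg.Agent.Lib.Helper13.S5955.maxel (F := F) (p := p) r hrp hr2 h i c hi hc hcle
  have hmod : (2 * h) % c = 0 := by rw [h2h]; exact Nat.mul_mod_right c A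
  rw [hmod] at hyfix
  have hyfix' : fixS y = ⊥ := Submodule.finrank_eq_zero.mp hyfix
  obtain ⟨hctx, hdim, hfix, hne⟩ := os2_ctx r 0 hrodd hr.one_lt y hy hyfix'
  have hsymm := hctx.symm
  have hndtop : SND (os2B y r 0) ⊤ := fun u _ hall => hctx.nd u (fun v => hall v Submodule.mem_top)
  have hfrtop : finrank F ↥(⊤ : Submodule F (OS2 F h 0)) = 2 * h := by rw [finrank_top, hdim]; omega
  have hevtop : Even (finrank F ↥(⊤ : Submodule F (OS2 F h 0))) := by rw [hfrtop]; exact even_two_mul h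
  obtain ⟨-, hcompl, -, -⟩ := o_split (p := p) hrp hctx
  have hfixbot : fixS (os2X y 0) = ⊥ := Submodule.finrank_eq_zero.mp hfix
  have hcyc : cycS r (os2X y 0) = ⊤ := by
    have := hcompl.sup_eq_top
    rwa [hfixbot, bot_sup_eq] at this
  have htopne : (⊤ : Submodule F (OS2 F h 0)) ≠ ⊥ := by
    intro hbot
    have : finrank F ↥(⊤ : Submodule F (OS2 F h 0)) = 0 := by rw [hbot, finrank_bot]
    omega
  have key : ∀ s₁ : ℤ, (s₁ = 1 ∨ s₁ = -1) → OTy (os2B y r 0) ⊤ s₁ → (s₁ = 1 ↔ (Odd i ∨ Even (c * A / i))) := by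
    intro s₁ hs₁ hty
    have hq := ty_fpf (p := p) h2 hrp hctx ⊤ (fun w _ => Submodule.mem_top) hndtop (by rw [hcyc]) htopne hevtop s₁ hty
    rw [hfrtop] at hq
    have := ty_arith r hr2 (Fintype.card F) i c (2 * h) hi hc (by rw [h2h]; exact Dvd.intro A rfl) (by omega) s₁ hs₁ hq
    rw [h2h] at this
    exact this
  rcases ty_class h2 (os2B y r 0) hsymm ⊤ hndtop hevtop with ⟨-, hty⟩ | ⟨-, hty⟩
  · exact ⟨OS2 F h 0, inferInstance, inferInstance, inferInstance, os2B y r 0, os2X y 0, 1, hctx, hne hh1,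
      by rw [hdim]; omega, hfix, Or.inl rfl, hty, key 1 (Or.inl rfl) hty⟩
  · exact ⟨OS2 F h 0, inferInstance, inferInstance, inferInstance, os2B y r 0, os2X y 0, -1, hctx, hne hh1,
      by rw [hdim]; omega, hfix, Or.inr rfl, hty, key (-1) (Or.inr rfl) hty⟩

theorem odn_model.{u} {F : Type u} [Field F] [Fintype F] {p : ℕ} [Fact p.Prime] [CharP F p]
    (hp2 : p ≠ 2) (r : ℕ) [Fact r.Prime] (hrp : r ≠ p) (hr2 : r ≠ 2) (i c : ℕ)
    (hi : i = orderOf ((Fintype.card F : ℕ) : ZMod r)) (hc : c = if Even i then i else 2 * i)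
    (A f : ℕ) (hA : 1 ≤ A) (hf : Even f) (ε : ℤ) (hε : ε = 1 ∨ ε = -1)
    (hadm : f = 0 → (ε = 1 ↔ (Odd i ∨ Even (c * A / i)))) :
    ∃ (V' : Type u) (_ : AddCommGroup V') (_ : Module F V') (_ : FiniteDimensional F V')
      (B' : LinearMap.BilinForm F V') (x' : Module.End F V'),
      OCtx r B' x' ∧ x' ≠ 1 ∧ finrank F V' = c * A + f ∧ finrank F (fixS x') = f ∧ OTy B' ⊤ ε := by
  have hp := (Fact.out : p.Prime)
  have hr := (Fact.out : r.Prime)
  have h2 : (2 : F) ≠ 0 := by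
    intro h
    have h3 : ((2 : ℕ) : F) = 0 := by exact_mod_cast h
    have h4 := (CharP.cast_eq_zero_iff F p 2).mp h3
    have h5 := (Nat.prime_dvd_prime_iff_eq hp Nat.prime_two).mp h4
    exact hp2 h5
  have hi1 : 1 ≤ i := by
    rw [hi]
    apply Nat.one_le_iff_ne_zero.mpr
    intro h0
    rw [orderOf_eq_zero_iff] at h0
    apply h0
    have hcop : Nat.Coprime (Fintype.card F) r := by
      obtain ⟨⟨n, hn⟩, -, hn2⟩ := FiniteField.card F p
      rw [hn2]
      apply Nat.Coprime.pow_left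
      exact (Nat.coprime_primes hp hr).mpr (Ne.symm hrp)
    exact (ZMod.unitOfCoprime _ hcop).isUnit.isOfFinOrder
  obtain ⟨V₁, i1, i2, i3, B₁, x₁, s₁, hctx, hne, hdim, hfix, hs₁, hty, hiff⟩ :=
    odnmodel_fpf hp2 h2 r hrp hr2 i c hi hc hi1 A hA
  by_cases hf0 : f = 0
  · subst hf0
    have hεs : ε = s₁ := by
      have h1 := hadm rfl
      rcases hε with rfl | rfl <;> rcases hs₁ with rfl | rfl
      · rfl
      · exfalso
        have := hiff.mpr (h1.mp rfl)
        norm_num at this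
      · exfalso
        have := h1.mpr (hiff.mp rfl)
        norm_num at this
      · rfl
    rw [hεs]
    exact ⟨V₁, i1, i2, i3, B₁, x₁, hctx, hne, by rw [hdim]; omega, hfix, hty⟩
  · have hf2 : 2 ≤ f := by
      obtain ⟨t, ht⟩ := hf
      omega
    have hs₂ : ε * s₁ = 1 ∨ ε * s₁ = -1 := by
      rcases hε with rfl | rfl <;> rcases hs₁ with rfl | rfl <;> norm_num
    obtain ⟨V₂, j1, j2, j3, B₂, hsymm₂, hnd₂, hdim₂, hty₂⟩ := odnmodel_triv (F := F) h2 f hf hf2 (ε * s₁) hs₂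
    obtain ⟨hctx', hfix', hne', htyp⟩ := odn_prod_ctx h2 B₁ x₁ hctx B₂ hsymm₂ hnd₂
    refine ⟨V₁ × V₂, inferInstance, inferInstance, inferInstance, prodB B₁ B₂, x₁.prodMap LinearMap.id,
      hctx', hne' hne, ?_, ?_, ?_⟩
    · rw [Module.finrank_prod, hdim, hdim₂]
    · rw [hfix', hfix, hdim₂]; omega
    · have hev₁ : Even (finrank F V₁) := by
        rw [hdim]
        have hce : Even c := by
          rw [hc]; split_ifs with h
          · exact h
          · exact even_two_mul i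
        exact hce.mul_right A
      have := htyp hev₁ (by rw [hdim₂]; exact hf) s₁ (ε * s₁) hty hty₂
      have he : s₁ * (ε * s₁) = ε := by
        rcases hs₁ with rfl | rfl <;> ring
      rwa [he] at this

end Cfsg.Agent.Lib.Helper1.ODN
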