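import Mathlib
import Cfsg.Agent.Lib.Helper1.ODN.Defs
import Cfsg.Agent.Lib.helper8.ODNCORNERABScore
import Cfsg.Agent.Lib.Helper20.ODNCONG
import Cfsg.Agent.Lib.Helper25.ODNCORNERFIX
import Cfsg.Agent.Lib.Helper1.ODNEXCLS
import Cfsg.Agent.Lib.Helper24.ODNSUBCARD
import Cfsg.Agent.Lib.Helper25.ODNORBABS
import Cfsg.Agent.Lib.Helper20.ODNMAXEL
import Cfsg.Agent.Lib.Helper24.ODNNECSTDcore

set_option autoImplicit false
set_option linter.unusedVariables false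
set_option linter.unusedSectionVars false

/-! Project ODN: helper1's own (prefixed) copies of the two assembly wrappers CORNERABS and NECSTD, so that the mains do not
wait: `odnmain_corner_abs` = helper8's `odncornerabs_core` + the landed rows; `odnmain_nec_std` = helper24's `odnnecstd_core`
+ helper20's `odn_maxel` + `odnmain_corner_abs`. -/

namespace Cfsg.Agent.Lib.Helper1.ODN

open Polynomial Module Cfsg.Agent.Lib.Helper13.S5955 Cfsg.Agent.Lib.helper15.S5972 Cfsg.Agent.Lib.Helper18.ONE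
  Cfsg.Agent.Lib.Helper16.OSemi

theorem odnmain_corner_abs {F : Type*} [Field F] [Fintype F] {p : ℕ} [Fact p.Prime] [CharP F p]
    (h2 : (2 : F) ≠ 0) {V : Type*} [AddCommGroup V] [Module F V] [FiniteDimensional F V]
    {r : ℕ} [Fact r.Prime] (hrp : r ≠ p) (hr2 : r ≠ 2) {B : LinearMap.BilinForm F V}
    {x : Module.End F V} (h : OCtx r B x) (m i c : ℕ) (hm : 1 ≤ m)
    (hi : i = orderOf ((Fintype.card F : ℕ) : ZMod r)) (hc : c = if Even i then i else 2 * i)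
    (hmk : m < finrank F (fixS x)) (hkc : finrank F (fixS x) < c)
    (W₀ : Submodule F V) (hW₀ : SND B W₀) (hW₀m : finrank F W₀ = m) :
    ¬ r ∣ Nat.card (OmC B m W₀) :=
  odncornerabs_core h2 hrp hr2 h m i c hm hi hc hmk hkc W₀ hW₀ hW₀m
    (odn_cong B x h.pow h.pres m W₀)
    (fun W hW hWnd hWm => odn_corner_fix hrp hr2 h m i c hi hc (by omega) W hW hWnd hWm)
    (fun N M W₀ hN hM hNM hW₀ e he heN hdim => ex_cls h2 B h.symm N M W₀ hN hM hNM hW₀ e he heN hdim)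
    (fun C W₁ hW₁C => odn_sub_card B C m W₁ hW₁C)
    (fun hsymm hnd hdim W₁ hW₁ hW₁m => odn_orb_abs h2 hrp hr2 _ hsymm hnd i c hi hc hdim m W₁ hW₁ hW₁m)

theorem odnmain_nec_std {F : Type*} [Field F] [Fintype F] {p : ℕ} [Fact p.Prime] [CharP F p]
    (hodd : Odd (Fintype.card F)) {ι : Type} [Fintype ι] [DecidableEq ι] (Q : QuadraticForm F (ι → F))
    (hQ : (QuadraticMap.polarBilin Q).Nondegenerate) (d m : ℕ) (hd : 4 ≤ d)
    (hcard : Fintype.card ι = 2 * d) (ε : ℤ) (hε : ε = 1 ∨ ε = -1) (htyQ : IsType (⇑Q) d ε)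
    (hm : Odd m) (hmd : m < d) (W₀ : Submodule F (ι → F))
    (hW₀ : finrank F ↥W₀ = m ∧ Cfsg.Geo.IsNondegenerateOn (QuadraticMap.polar (⇑Q)) W₀)
    (r : ℕ) [Fact r.Prime] (hrp : r ≠ p) (hr2 : r ≠ 2) (i c : ℕ)
    (hi : i = orderOf ((Fintype.card F : ℕ) : ZMod r)) (hc : c = if Even i then i else 2 * i)
    (hrΩ : r ∣ Nat.card {W : Submodule F (ι → F) // finrank F ↥W = m ∧
        Cfsg.Geo.IsNondegenerateOn (QuadraticMap.polar (⇑Q)) W ∧ Cfsg.Geo.AreIsometricFor (⇑Q) W W₀})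
    (hall : ∀ x : GL ι F, x ∈ Cfsg.Geo.omegaGL (⇑Q) →
      (∃ z : F, ((x ^ r : GL ι F) : Matrix ι ι F) = z • (1 : Matrix ι ι F)) →
      (∀ z : F, (x : Matrix ι ι F) ≠ z • (1 : Matrix ι ι F)) →
      ∃ W : Submodule F (ι → F), (finrank F ↥W = m ∧ Cfsg.Geo.IsNondegenerateOn (QuadraticMap.polar (⇑Q)) W ∧
        Cfsg.Geo.AreIsometricFor (⇑Q) W W₀) ∧ W.map (Matrix.toLin' (x : Matrix ι ι F)) ≤ W) :
    ODC i c d m ε := by
  have h2 : (2 : F) ≠ 0 := odnsuffstd_two hodd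
  have hp2 : p ≠ 2 := by
    rintro rfl
    exact h2 (by
      have := CharP.cast_eq_zero F 2
      exact_mod_cast this)
  refine odnnecstd_core hodd Q hQ d m hd hcard ε hε htyQ hm hmd W₀ hW₀ r hrp hr2 i c hi hc hrΩ hall ?_ ?_
  · intro hcd hadm
    exact odn_maxel hp2 r hrp hr2 i c hi hc Q hQ d (by omega) hcard ε hε htyQ hcd hadm
  · intro x hx hmk hkc
    have hm1 : 1 ≤ m := by
      obtain ⟨t, ht⟩ := hm
      omega
    exact odnmain_corner_abs h2 hrp hr2 hx m i c hm1 hi hc hmk hkc W₀ (((odn_frozen h2 Q W₀ W₀).1).mp hW₀.2) hW₀.1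

end Cfsg.Agent.Lib.Helper1.ODN
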