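import Mathlib
import Cfsg.Agent.Lib.Helper1.ODN.Defs
import Cfsg.Agent.Lib.Helper24.ODNCOMB
import Cfsg.Agent.Lib.Helper24.ODNFROZEN
import Cfsg.Agent.Lib.Helper11.OMONEC
import Cfsg.Agent.Lib.helper6.WittQuad
import Cfsg.Agent.Lib.helper17.ONENDPERPS
import Cfsg.Agent.Lib.Helper16.ODNUDISCA

set_option autoImplicit false
set_option linter.unusedVariables false
set_option linter.unusedSectionVars false

namespace Cfsg.Agent.Lib.Helper1.ODN

open Polynomial Module Cfsg.Agent.Lib.Helper13.S5955 Cfsg.Agent.Lib.helper15.S5972 Cfsg.Agent.Lib.Helper18.ONE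
  Cfsg.Agent.Lib.Helper16.OSemi

section U
open Cfsg.Agent.Lib.helper14.JTa Cfsg.Agent.Lib.Helper9.OPH Cfsg.Agent.Lib.Helper1.OMO

/-- a sequence with vanishing second differences from `2` on which is eventually constant is constant from `2` on -/
theorem odnudisc_stab (D : ℕ → ℕ) (m K : ℕ) (hmono : ∀ j, D j ≤ D (j + 1)) (hK : ∀ j, K ≤ j → D j = m)
    (hc : ∀ j, 2 ≤ j → D j + D (j + 2) = 2 * D (j + 1)) : D 2 = m := by
  have h1 : ∀ i, D (3 + i) - D (2 + i) = D 3 - D 2 := by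
    intro i
    induction i with
    | zero => rfl
    | succ i ih =>
      have h := hc (2 + i) (by omega)
      have e1 : 2 + i + 2 = 3 + (i + 1) := by omega
      have e2 : 2 + i + 1 = 3 + i := by omega
      have e3 : 2 + (i + 1) = 3 + i := by omega
      rw [e1, e2] at h
      rw [e3]
      have m1 := hmono (2 + i)
      have m2 := hmono (3 + i)
      rw [e2] at m1
      have e4 : 3 + i + 1 = 3 + (i + 1) := by omega
      rw [e4] at m2
      omega
  have h0 : D 3 - D 2 = 0 := by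
    have h := h1 K
    rw [hK (3 + K) (by omega), hK (2 + K) (by omega)] at h
    omega
  have h3 : ∀ i, D (2 + i) = D 2 := by
    intro i
    induction i with
    | zero => rfl
    | succ i ih =>
      have h := h1 i
      have m1 := hmono (2 + i)
      have e2 : 2 + i + 1 = 3 + i := by omega
      have e3 : 2 + (i + 1) = 3 + i := by omega
      rw [e2] at m1
      rw [e3]
      omega
  have h := h3 K
  rw [hK _ (by omega)] at h
  exact h.symm

/-- the values of `ty` for the type `(3, 1, 2^k)` -/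
theorem odnudisc_ty (k : ℕ) : ty ({3, 1} + Multiset.replicate k 2) 1 = k + 2 ∧ ty ({3, 1} + Multiset.replicate k 2) 2 = 2 * k + 3 := by
  unfold ty
  constructor
  · rw [Multiset.map_add, Multiset.sum_add, Multiset.map_replicate, Multiset.sum_replicate]
    simp
    omega
  · rw [Multiset.map_add, Multiset.sum_add, Multiset.map_replicate, Multiset.sum_replicate]
    simp
    omega

/-- `hline` of UDISCA from the type -/
theorem odnudisc_line {F : Type*} [Field F] {ι : Type} [Fintype ι] [DecidableEq ι] (N : Module.End F (ι → F)) (k : ℕ)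
    (hty : ∀ j, dk N j = ty ({3, 1} + Multiset.replicate k 2) j) :
    finrank F (LinearMap.ker N) = finrank F ↥(LinearMap.ker N ⊓ LinearMap.range N) + 1 := by
  have h1 := hty 1
  have h2 := hty 2
  rw [(odnudisc_ty k).1] at h1
  rw [(odnudisc_ty k).2] at h2
  have h3 := dk_succ N 1
  rw [h1, h2] at h3
  unfold ek at h3
  rw [pow_one] at h3
  unfold dk at h1
  rw [pow_one] at h1
  rw [h1, inf_comm]
  omega

/-- structure of an invariant nondegenerate subspace of dimension `≡ 1 (mod 4)` -/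
theorem odnudisc_A {F : Type*} [Field F] (h2 : (2 : F) ≠ 0) {ι : Type} [Fintype ι] [DecidableEq ι]
    (Q : QuadraticForm F (ι → F)) (x : Matrix ι ι F) (hdet : IsUnit x)
    (hx : ∀ v, Q (x.mulVec v) = Q v) (K : ℕ) (hK : (x - 1) ^ K = 0) (k : ℕ)
    (hty : ∀ j, dk (Matrix.toLin' x - 1) j = ty ({3, 1} + Multiset.replicate k 2) j)
    (W : Submodule F (ι → F)) (hW : Cfsg.Geo.IsNondegenerateOn (QuadraticMap.polar (⇑Q)) W)
    (hxW : W.map (Matrix.toLin' x) ≤ W) (hm4 : finrank F W % 4 = 1) :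
    ∃ e : ℕ, finrank F W = 2 * e + 1 ∧ finrank F ↥(W ⊓ LinearMap.ker (Matrix.toLin' x - 1)) = e + 1 ∧
      ∀ w ∈ W, (Matrix.toLin' x - 1) ((Matrix.toLin' x - 1) w) = 0 := by
  classical
  have hN : ∀ v ∈ W, (Matrix.toLin' x - 1) v ∈ W := by
    intro v hv
    rw [LinearMap.sub_apply, Module.End.one_apply]
    exact W.sub_mem (hxW (Submodule.mem_map_of_mem hv)) hv
  have hμ0 : ∀ e ∈ ({3, 1} + Multiset.replicate k 2 : Multiset ℕ), 0 < e := by
    intro e he
    rw [Multiset.mem_add] at he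
    rcases he with he | he
    · have : e = 3 ∨ e = 1 := by simpa using he
      omega
    · have := Multiset.eq_of_mem_replicate he
      omega
  obtain ⟨ν, hνμ, hνs, hνe, hνc⟩ := omo_nec h2 Q x hdet hx K hK _ hμ0 hty W hW hxW hN
  have hodd : Odd ν.sum := by
    rw [hνs]
    exact ⟨finrank F W / 2, by omega⟩
  have hcnt : ν.count 1 = 1 ∧ ν.count 3 = 0 := by
    rcases odn_comb_31 k ν hνμ (hνe 2 (by decide)) hodd with ⟨_, h1, h3⟩ | ⟨h43, _, _⟩
    · exact ⟨h1, h3⟩
    · rw [hνs] at h43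
      omega
  have hcnt4 : ∀ j, 4 ≤ j → ν.count j = 0 := by
    intro j hj
    have h3 : ν.count j ≤ ({3, 1} + Multiset.replicate k 2 : Multiset ℕ).count j := Multiset.count_le_of_le j hνμ
    have h4 : ({3, 1} + Multiset.replicate k 2 : Multiset ℕ).count j = 0 := by
      rw [Multiset.count_eq_zero]
      intro hmem
      rw [Multiset.mem_add] at hmem
      rcases hmem with he | he
      · have : j = 3 ∨ j = 1 := by simpa using he
        omega
      · have := Multiset.eq_of_mem_replicate he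
        omega
    omega
  have hNK : (Matrix.toLin' x - 1) ^ K = 0 := by
    have h3 : Matrix.toLin' x - 1 = Matrix.toLin' (x - 1) := by
      rw [map_sub, Matrix.toLin'_one]
      rfl
    rw [h3, ← Matrix.toLin'_pow, hK, map_zero]
  have hDK : ∀ j, K ≤ j → dk ((Matrix.toLin' x - 1).restrict hN) j = finrank F W := by
    intro j hj
    rw [dk_restrict]
    have h5 : (Matrix.toLin' x - 1) ^ j = 0 := by
      obtain ⟨i, rfl⟩ := Nat.exists_eq_add_of_le hj
      rw [pow_add, hNK, zero_mul]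
    rw [h5, LinearMap.ker_zero, top_inf_eq]
  have hmono : ∀ j, dk ((Matrix.toLin' x - 1).restrict hN) j ≤ dk ((Matrix.toLin' x - 1).restrict hN) (j + 1) := by
    intro j
    rw [dk_succ]
    omega
  have hD2 := odnudisc_stab (dk ((Matrix.toLin' x - 1).restrict hN)) (finrank F W) K hmono hDK (by
    intro j hj
    have h := hνc j
    have h0 : ν.count (j + 1) = 0 := by
      rcases Nat.lt_or_ge j 3 with h3 | h3
      · have : j = 2 := by omega
        subst this
        exact hcnt.2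
      · exact hcnt4 _ (by omega)
    omega)
  have hD1 := hνc 0
  rw [dk_zero, hcnt.1, hD2] at hD1
  simp only [zero_add] at hD1
  refine ⟨finrank F W / 2, by omega, ?_, ?_⟩
  · have h6 := dk_restrict (Matrix.toLin' x - 1) W hN 1
    rw [pow_one] at h6
    rw [inf_comm, ← h6]
    omega
  · have h6 := dk_restrict (Matrix.toLin' x - 1) W hN 2
    rw [hD2] at h6
    have h7 : LinearMap.ker ((Matrix.toLin' x - 1) ^ 2) ⊓ W = W :=
      Submodule.eq_of_le_of_finrank_eq inf_le_right h6.symm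
    intro w hw
    have h8 : w ∈ LinearMap.ker ((Matrix.toLin' x - 1) ^ 2) ⊓ W := by rw [h7]; exact hw
    have h9 : ((Matrix.toLin' x - 1 : Module.End F (ι → F)) ^ 2) w = 0 := h8.1
    rw [pow_two, Module.End.mul_apply] at h9
    exact h9

/-- case `≡ 1 (mod 4)` -/
theorem odnudisc_caseA {F : Type*} [Field F] [Fintype F] (h2 : (2 : F) ≠ 0) {ι : Type} [Fintype ι] [DecidableEq ι]
    (Q : QuadraticForm F (ι → F)) (hQ : (QuadraticMap.polarBilin Q).Nondegenerate) (x : Matrix ι ι F) (hdet : IsUnit x)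
    (hx : ∀ v, Q (x.mulVec v) = Q v) (K : ℕ) (hK : (x - 1) ^ K = 0) (k : ℕ)
    (hty : ∀ j, dk (Matrix.toLin' x - 1) j = ty ({3, 1} + Multiset.replicate k 2) j)
    (W₁ W₂ : Submodule F (ι → F))
    (h₁ : Cfsg.Geo.IsNondegenerateOn (QuadraticMap.polar (⇑Q)) W₁) (h₂ : Cfsg.Geo.IsNondegenerateOn (QuadraticMap.polar (⇑Q)) W₂)
    (hx₁ : W₁.map (Matrix.toLin' x) ≤ W₁) (hx₂ : W₂.map (Matrix.toLin' x) ≤ W₂)
    (hdim : finrank F W₁ = finrank F W₂) (hm4 : finrank F W₁ % 4 = 1) :
    Cfsg.Geo.AreIsometricFor (⇑Q) W₁ W₂ := by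
  obtain ⟨e₁, hd₁, hk₁, hs₁⟩ := odnudisc_A h2 Q x hdet hx K hK k hty W₁ h₁ hx₁ hm4
  obtain ⟨e₂, hd₂, hk₂, hs₂⟩ := odnudisc_A h2 Q x hdet hx K hK k hty W₂ h₂ hx₂ (by rw [← hdim]; exact hm4)
  have he : e₂ = e₁ := by omega
  subst he
  exact odn_udisc_a h2 Q hQ x hdet hx (odnudisc_line _ k hty) e₂ W₁ W₂ h₁ h₂ hx₁ hx₂ hd₁ hd₂ hk₁ hk₂ hs₁ hs₂

/-- the orthogonal complement of an invariant nondegenerate subspace -/
theorem odnudisc_perp {F : Type*} [Field F] (h2 : (2 : F) ≠ 0) {ι : Type} [Fintype ι] [DecidableEq ι]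
    (Q : QuadraticForm F (ι → F)) (hQ : (QuadraticMap.polarBilin Q).Nondegenerate) (x : Matrix ι ι F)
    (hx : ∀ v, Q (x.mulVec v) = Q v) (W : Submodule F (ι → F))
    (hW : Cfsg.Geo.IsNondegenerateOn (QuadraticMap.polar (⇑Q)) W) (hxW : W.map (Matrix.toLin' x) ≤ W) :
    Cfsg.Geo.IsNondegenerateOn (QuadraticMap.polar (⇑Q)) (LinearMap.BilinForm.orthogonal (QuadraticMap.polarBilin Q) W) ∧
      (LinearMap.BilinForm.orthogonal (QuadraticMap.polarBilin Q) W).map (Matrix.toLin' x) ≤ LinearMap.BilinForm.orthogonal (QuadraticMap.polarBilin Q) W ∧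
      finrank F ↥(LinearMap.BilinForm.orthogonal (QuadraticMap.polarBilin Q) W) + finrank F W = Fintype.card ι ∧
      LinearMap.BilinForm.orthogonal (QuadraticMap.polarBilin Q) (LinearMap.BilinForm.orthogonal (QuadraticMap.polarBilin Q) W) = W := by
  classical
  have hsymm : ∀ u v, QuadraticMap.polarBilin Q u v = QuadraticMap.polarBilin Q v u := by
    intro u v
    exact QuadraticMap.polar_comm _ u v
  have htop : SND (QuadraticMap.polarBilin Q) ⊤ := by
    intro u _ hu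
    exact hQ.1 u (fun v => hu v Submodule.mem_top)
  have hWs : SND (QuadraticMap.polarBilin Q) W := ((odn_frozen h2 Q W W).1).mp hW
  obtain ⟨-, -, hnd', -, hfin⟩ := nd_perp_symm (QuadraticMap.polarBilin Q) hsymm ⊤ W htop le_top hWs
  rw [top_inf_eq] at hnd' hfin
  rw [finrank_top, finrank_pi, ] at hfin
  have hB : ∀ u v, QuadraticMap.polarBilin Q (x.mulVec u) (x.mulVec v) = QuadraticMap.polarBilin Q u v := by
    intro u v
    show QuadraticMap.polar (⇑Q) _ _ = QuadraticMap.polar (⇑Q) _ _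
    unfold QuadraticMap.polar
    rw [← Matrix.mulVec_add, hx, hx, hx]
  -- x maps W onto W
  have hsurj : ∀ w ∈ W, ∃ w' ∈ W, x.mulVec w' = w := by
    have hinj : Function.Injective (Matrix.toLin' x) := by
      intro u v huv
      have h3 : Matrix.toLin' x (u - v) = 0 := by rw [map_sub, huv, sub_self]
      have h4 : u - v = 0 := by
        apply hQ.1
        intro y
        rw [← hB, ← Matrix.toLin'_apply, h3]
        simp
      exact sub_eq_zero.mp h4
    have h5 : W.map (Matrix.toLin' x) = W := by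
      apply Submodule.eq_of_le_of_finrank_eq hxW
      exact (Submodule.equivMapOfInjective _ hinj W).finrank_eq.symm
    intro w hw
    rw [← h5] at hw
    obtain ⟨w', hw', rfl⟩ := hw
    exact ⟨w', hw', (Matrix.toLin'_apply x w').symm⟩
  refine ⟨((odn_frozen h2 Q _ W).1).mpr hnd', ?_, hfin, ?_⟩
  · rintro _ ⟨v, hv, rfl⟩
    have hv : v ∈ LinearMap.BilinForm.orthogonal (QuadraticMap.polarBilin Q) W := hv
    rw [h5_mem_orth] at hv ⊢
    intro w hw
    obtain ⟨w', hw', rfl⟩ := hsurj w hw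
    rw [Matrix.toLin'_apply, hB]
    exact hv w' hw'
  · obtain ⟨-, -, -, -, hfin2⟩ := nd_perp_symm (QuadraticMap.polarBilin Q) hsymm ⊤ _ htop le_top hnd'
    rw [top_inf_eq, finrank_top, finrank_pi] at hfin2
    symm
    apply Submodule.eq_of_le_of_finrank_eq
    · intro w hw
      rw [h5_mem_orth]
      intro u hu
      rw [h5_mem_orth] at hu
      rw [hsymm]
      exact hu w hw
    · omega

/-- Witt cancellation, complement form -/
theorem odnudisc_cancel {F : Type*} [Field F] {ι : Type} [Fintype ι] [DecidableEq ι]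
    (Q : QuadraticForm F (ι → F)) (hQ : (QuadraticMap.polarBilin Q).Nondegenerate) (W₁ W₂ : Submodule F (ι → F))
    (hdim : finrank F W₁ = finrank F W₂)
    (horth₂ : LinearMap.BilinForm.orthogonal (QuadraticMap.polarBilin Q) (LinearMap.BilinForm.orthogonal (QuadraticMap.polarBilin Q) W₂) = W₂)
    (hiso : Cfsg.Geo.AreIsometricFor (⇑Q) (LinearMap.BilinForm.orthogonal (QuadraticMap.polarBilin Q) W₁)
      (LinearMap.BilinForm.orthogonal (QuadraticMap.polarBilin Q) W₂)) :
    Cfsg.Geo.AreIsometricFor (⇑Q) W₁ W₂ := by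
  classical
  have hsymm : ∀ u v, QuadraticMap.polarBilin Q u v = QuadraticMap.polarBilin Q v u := by
    intro u v
    exact QuadraticMap.polar_comm _ u v
  obtain ⟨φ, hφ⟩ := hiso
  obtain ⟨g, hg, hgφ⟩ := Cfsg.Agent.Lib.helper6.Witt.witt_quad Q hQ _ _ φ hφ
  have hgB : ∀ u v, QuadraticMap.polarBilin Q (g u) (g v) = QuadraticMap.polarBilin Q u v := by
    intro u v
    show QuadraticMap.polar (⇑Q) _ _ = QuadraticMap.polar (⇑Q) _ _
    unfold QuadraticMap.polar
    rw [← map_add, hg, hg, hg]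
  have hmap : ∀ w ∈ W₁, g w ∈ W₂ := by
    intro w hw
    rw [← horth₂, h5_mem_orth]
    intro u hu
    have h1 : u = g ((φ.symm ⟨u, hu⟩ : ↥(LinearMap.BilinForm.orthogonal (QuadraticMap.polarBilin Q) W₁)) : ι → F) := by
      rw [hgφ, LinearEquiv.apply_symm_apply]
    rw [h1, hgB, hsymm]
    exact (h5_mem_orth _ _ _).mp (φ.symm ⟨u, hu⟩).2 w hw
  have hmapeq : W₁.map (g : (ι → F) →ₗ[F] (ι → F)) = W₂ := by
    apply Submodule.eq_of_le_of_finrank_eq
    · rintro _ ⟨w, hw, rfl⟩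
      exact hmap w hw
    · rw [← hdim]
      exact (g.submoduleMap W₁).finrank_eq.symm
  refine ⟨(g.submoduleMap W₁).trans (LinearEquiv.ofEq _ _ hmapeq), ?_⟩
  intro w
  show Q (g (w : ι → F)) = Q (w : ι → F)
  exact hg _

theorem odn_udisc {F : Type*} [Field F] [Fintype F] (h2 : (2 : F) ≠ 0) {ι : Type} [Fintype ι] [DecidableEq ι]
    (Q : QuadraticForm F (ι → F)) (hQ : (QuadraticMap.polarBilin Q).Nondegenerate) (x : Matrix ι ι F) (hdet : IsUnit x)
    (hx : ∀ v, Q (x.mulVec v) = Q v) (K : ℕ) (hK : (x - 1) ^ K = 0) (k : ℕ) (hk : Even k) (hcard : Fintype.card ι = 2 * k + 4)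
    (hty : ∀ j, dk (Matrix.toLin' x - 1) j = ty ({3, 1} + Multiset.replicate k 2) j)
    (W₁ W₂ : Submodule F (ι → F))
    (h₁ : Cfsg.Geo.IsNondegenerateOn (QuadraticMap.polar (⇑Q)) W₁) (h₂ : Cfsg.Geo.IsNondegenerateOn (QuadraticMap.polar (⇑Q)) W₂)
    (hx₁ : W₁.map (Matrix.toLin' x) ≤ W₁) (hx₂ : W₂.map (Matrix.toLin' x) ≤ W₂)
    (hdim : finrank F W₁ = finrank F W₂) (hoddm : Odd (finrank F W₁)) :
    Cfsg.Geo.AreIsometricFor (⇑Q) W₁ W₂ := by
  have hm4 : finrank F W₁ % 4 = 1 ∨ finrank F W₁ % 4 = 3 := by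
    obtain ⟨s, hs⟩ := hoddm
    omega
  rcases hm4 with hm4 | hm4
  · exact odnudisc_caseA h2 Q hQ x hdet hx K hK k hty W₁ W₂ h₁ h₂ hx₁ hx₂ hdim hm4
  · obtain ⟨hnd₁, hinv₁, hfin₁, -⟩ := odnudisc_perp h2 Q hQ x hx W₁ h₁ hx₁
    obtain ⟨hnd₂, hinv₂, hfin₂, horth₂⟩ := odnudisc_perp h2 Q hQ x hx W₂ h₂ hx₂
    obtain ⟨t, ht⟩ := hk
    have hA := odnudisc_caseA h2 Q hQ x hdet hx K hK k hty _ _ hnd₁ hnd₂ hinv₁ hinv₂ (by omega) (by omega)
    exact odnudisc_cancel Q hQ W₁ W₂ hdim horth₂ hA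

end U

end Cfsg.Agent.Lib.Helper1.ODN
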