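import Mathlib
import Cfsg.Agent.Lib.Helper1.OMO.Defs
import Cfsg.Agent.Lib.Helper19.OMOCAYLEY
import Cfsg.Agent.Lib.Helper18.OmegaOdd
import Cfsg.Agent.Lib.Helper16.SpinA

set_option autoImplicit false
set_option linter.unusedVariables false
set_option linter.unusedSectionVars false

namespace Cfsg.Agent.Lib.Helper1.OMO

open Module Cfsg.Agent.Lib.helper14.JTa Cfsg.Agent.Lib.Helper9.OPH

variable {F : Type*} [Field F] {ι : Type} [Fintype ι] [DecidableEq ι]

theorem omoconstr_ty_top (μ : Multiset ℕ) (p : ℕ) (h : ∀ e ∈ μ, e ≤ p) : ty μ p = μ.sum := by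
  unfold ty
  induction μ using Multiset.induction_on with
  | empty => simp
  | cons a μ ih =>
    rw [Multiset.map_cons, Multiset.sum_cons, Multiset.sum_cons,
      ih (fun e he => h e (Multiset.mem_cons_of_mem he))]
    have := h a (Multiset.mem_cons_self a μ)
    rw [min_eq_left this]

theorem omoconstr_pow_char {p : ℕ} [Fact p.Prime] [CharP F p] (y : Matrix ι ι F) :
    (y - 1) ^ p = y ^ p - 1 := by
  have h1 : ((Polynomial.X - 1 : Polynomial F)) ^ p = Polynomial.X ^ p - 1 := by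
    rw [sub_pow_char, one_pow]
  have h2 := congrArg (Polynomial.aeval y) h1
  simpa using h2

theorem omo_constr {p : ℕ} [Fact p.Prime] [CharP F p] (hp2 : p ≠ 2) (Q : QuadraticForm F (ι → F))
    (hQ : (QuadraticMap.polarBilin Q).Nondegenerate) (μ : Multiset ℕ) (hμp : ∀ e ∈ μ, 0 < e ∧ e ≤ p)
    (hμs : μ.sum = Fintype.card ι) (hreal : RealQ (⇑Q) μ) :
    ∃ x : GL ι F, x ∈ Cfsg.Geo.omegaGL (⇑Q) ∧ x ^ p = 1 ∧ ((x : Matrix ι ι F) - 1) ^ p = 0 ∧
      ∀ k, dk (Matrix.toLin' (x : Matrix ι ι F) - 1) k = ty μ k := by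
  have hpodd : Odd p := (Fact.out : p.Prime).odd_of_ne_two hp2
  have h2 : (2 : F) ≠ 0 := by
    intro h
    have h3 : ((2 : ℕ) : F) = 0 := by exact_mod_cast h
    have h4 := (CharP.cast_eq_zero_iff F p 2).mp h3
    have h5 := (Nat.prime_dvd_prime_iff_eq (Fact.out : p.Prime) Nat.prime_two).mp h4
    exact hp2 h5
  obtain ⟨T, hT, hdk⟩ := hreal
  have hTp : T ^ p = 0 := by
    have h3 : dk (Matrix.toLin' T) p = Module.finrank F (ι → F) := by
      rw [hdk, omoconstr_ty_top μ p (fun e he => (hμp e he).2), hμs, Module.finrank_fintype_fun_eq_card]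
    have h4 := pow_eq_zero_of_dk (Matrix.toLin' T) p h3
    rw [← Matrix.toLin'_pow] at h4
    exact (Matrix.toLin' (R := F) (m := ι) (n := ι)).injective (by rw [h4, map_zero])
  obtain ⟨y, hyu, hyiso, hyK, hydk⟩ := omo_cayley h2 Q T hT p hTp
  have hyp : y ^ p = 1 := by
    have h3 := omoconstr_pow_char (p := p) y
    rw [hyK] at h3
    exact (sub_eq_zero.mp h3.symm)
  obtain ⟨x, hx⟩ := hyu
  have hxp : x ^ p = 1 := by
    apply Units.ext
    rw [Units.val_pow_eq_pow_val, hx, hyp]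
    rfl
  have hxiso : x ∈ Cfsg.isometryGroup F ⇑Q := by
    rw [Cfsg.Agent.Lib.Helper16.mem_iso_iff]
    intro v
    rw [hx]
    exact hyiso v
  refine ⟨x, Cfsg.Agent.Lib.Helper18.OmegaOdd.omegaodd_mem h2 Q hQ x hxiso p hpodd hxp, hxp, ?_, ?_⟩
  · rw [hx]
    exact hyK
  · intro k
    rw [hx, hydk, hdk]

end Cfsg.Agent.Lib.Helper1.OMO
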