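import Mathlib
import Cfsg.Agent.Lib.Helper1.OMO.Defs
import Cfsg.Agent.Lib.Helper1.OMOCONSTR
import Cfsg.Agent.Lib.Helper16.SpinA

set_option autoImplicit false
set_option linter.unusedVariables false
set_option linter.unusedSectionVars false

open scoped MatrixGroups

namespace Cfsg.Agent.Lib.Helper1.OMO

open Module Cfsg.Agent.Lib.helper14.JTa Cfsg.Agent.Lib.Helper9.OPH

theorem omomain_ty_le (μ : Multiset ℕ) (k : ℕ) : ty μ k ≤ μ.sum := by
  unfold ty
  induction μ using Multiset.induction_on with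
  | empty => simp
  | cons b μ ih =>
    rw [Multiset.map_cons, Multiset.sum_cons, Multiset.sum_cons]
    have : min b k ≤ b := min_le_left _ _
    omega

theorem omomain_all_one (μ : Multiset ℕ) (h0 : ∀ e ∈ μ, 0 < e) (h : ty μ 1 = μ.sum) : ∀ e ∈ μ, e = 1 := by
  intro e he
  by_contra hne
  obtain ⟨μ', rfl⟩ := Multiset.exists_cons_of_mem he
  have h1 := omomain_ty_le μ' 1
  unfold ty at h h1
  rw [Multiset.map_cons, Multiset.sum_cons, Multiset.sum_cons] at h
  have h3 : 0 < e := h0 e he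
  have h4 : min e 1 = 1 := by omega
  omega

theorem omomain_ones (μ : Multiset ℕ) (n m : ℕ) (hone : ∀ e ∈ μ, e = 1) (hs : μ.sum = n) (hm : m ≤ n) :
    ∃ ν : Multiset ℕ, ν ≤ μ ∧ ν.sum = m ∧ ∀ e : ℕ, Even e → Even (ν.count e) := by
  have hμ : μ = Multiset.replicate (Multiset.card μ) 1 := Multiset.eq_replicate_card.mpr hone
  have hcard : Multiset.card μ = n := by
    rw [hμ] at hs
    simpa using hs
  refine ⟨Multiset.replicate m 1, ?_, ?_, ?_⟩
  · rw [hμ, hcard]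
    exact (Multiset.replicate_le_replicate 1).mpr hm
  · simp
  · intro e he
    rw [Multiset.count_replicate]
    split_ifs with h
    · subst h
      exact absurd he (by decide)
    · exact ⟨0, rfl⟩

theorem omomain_key {ι : Type} [Fintype ι] [DecidableEq ι] {F : Type*} [Field F] {p : ℕ} [Fact p.Prime] [CharP F p] (hp2 : p ≠ 2)
    (h2 : (2 : F) ≠ 0) (Q : QuadraticForm F (ι → F)) (hQ : (QuadraticMap.polarBilin Q).Nondegenerate)
    (hcard : 2 ≤ Fintype.card ι)
    (μ : Multiset ℕ) (hμp : ∀ e ∈ μ, 0 < e ∧ e ≤ p) (hμs : μ.sum = Fintype.card ι) (hreal : RealQ (⇑Q) μ)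
    (hone : ¬ ∀ e ∈ μ, e = 1) :
    ∃ x : GL ι F, x ∈ Cfsg.Geo.omegaGL (⇑Q) ∧ x ^ p = 1 ∧ x ≠ 1 ∧
      (∀ z : F, (x : Matrix ι ι F) ≠ z • (1 : Matrix ι ι F)) ∧
      (∀ v, Q ((x : Matrix ι ι F).mulVec v) = Q v) ∧ ((x : Matrix ι ι F) - 1) ^ p = 0 ∧
      ∀ k, dk (Matrix.toLin' (x : Matrix ι ι F) - 1) k = ty μ k := by
  obtain ⟨x, hxΩ, hxp, hxK, hxty⟩ := omo_constr hp2 Q hQ μ hμp hμs hreal
  have hxiso : ∀ v, Q ((x : Matrix ι ι F).mulVec v) = Q v := by
    unfold Cfsg.Geo.omegaGL at hxΩ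
    obtain ⟨g, -, rfl⟩ := hxΩ
    exact (Cfsg.Agent.Lib.Helper16.mem_iso_iff _ _).mp g.2
  have hne : Nonempty ι := by
    rw [← Fintype.card_pos_iff]
    omega
  obtain ⟨i0⟩ := hne
  have hns : ∀ z : F, (x : Matrix ι ι F) ≠ z • (1 : Matrix ι ι F) := by
    intro z hz
    apply hone
    apply omomain_all_one μ (fun e he => (hμp e he).1)
    have hz1 : z = 1 := by
      rw [hz] at hxK
      have h3 : (z • (1 : Matrix ι ι F) - 1) = (z - 1) • (1 : Matrix ι ι F) := by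
        rw [sub_smul, one_smul]
      rw [h3, smul_pow, one_pow] at hxK
      have h4 := congrFun (congrFun hxK i0) i0
      rw [Matrix.smul_apply, Matrix.one_apply_eq, Matrix.zero_apply, smul_eq_mul, mul_one] at h4
      exact sub_eq_zero.mp (pow_eq_zero_iff (Fact.out : p.Prime).ne_zero |>.mp h4)
    have h5 := hxty 1
    rw [hz, hz1, one_smul, Matrix.toLin'_one] at h5
    rw [← h5, hμs]
    unfold dk
    have h7 : (LinearMap.id : (ι → F) →ₗ[F] (ι → F)) - 1 = 0 := sub_self _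
    rw [h7, pow_one, LinearMap.ker_zero, finrank_top, Module.finrank_fintype_fun_eq_card]
  refine ⟨x, hxΩ, hxp, ?_, hns, hxiso, hxK, hxty⟩
  intro h1
  apply hns 1
  rw [h1, one_smul]
  rfl

end Cfsg.Agent.Lib.Helper1.OMO
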