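import Mathlib
import Cfsg.Agent.Lib.Helper1.ODN.Defs
import Cfsg.Agent.Lib.Helper1.OMOMAIN
import Cfsg.Agent.Lib.Helper11.OMONEC

set_option autoImplicit false
set_option linter.unusedVariables false
set_option linter.unusedSectionVars false

namespace Cfsg.Agent.Lib.Helper1.ODN

open Polynomial Module Cfsg.Agent.Lib.Helper13.S5955 Cfsg.Agent.Lib.helper15.S5972 Cfsg.Agent.Lib.Helper18.ONE
  Cfsg.Agent.Lib.Helper16.OSemi

section U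
open Cfsg.Agent.Lib.helper14.JTa Cfsg.Agent.Lib.Helper9.OPH Cfsg.Agent.Lib.Helper1.OMO

theorem odn_unip_gen {F : Type*} [Field F] {p : ℕ} [Fact p.Prime] [CharP F p] (hp2 : p ≠ 2) (h2 : (2 : F) ≠ 0)
    {ι : Type} [Fintype ι] [DecidableEq ι] (Q : QuadraticForm F (ι → F))
    (hQ : (QuadraticMap.polarBilin Q).Nondegenerate) (hcard : 2 ≤ Fintype.card ι)
    (μ : Multiset ℕ) (hμp : ∀ e ∈ μ, 0 < e ∧ e ≤ p) (hμs : μ.sum = Fintype.card ι) (hreal : RealQ (⇑Q) μ)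
    (hone : ¬ ∀ e ∈ μ, e = 1) (m : ℕ)
    (hno : ∀ ν : Multiset ℕ, ν ≤ μ → (∀ e : ℕ, Even e → Even (ν.count e)) → ν.sum ≠ m) :
    ∃ x : GL ι F, x ∈ Cfsg.Geo.omegaGL (⇑Q) ∧ x ^ p = 1 ∧ (∀ z : F, (x : Matrix ι ι F) ≠ z • (1 : Matrix ι ι F)) ∧
      ∀ W : Submodule F (ι → F), finrank F W = m → Cfsg.Geo.IsNondegenerateOn (QuadraticMap.polar (⇑Q)) W →
        ¬ W.map (Matrix.toLin' (x : Matrix ι ι F)) ≤ W := by
  obtain ⟨x, hxΩ, hxp, -, hns, hxiso, hxK, hxty⟩ := omomain_key hp2 h2 Q hQ hcard μ hμp hμs hreal hone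
  refine ⟨x, hxΩ, hxp, hns, ?_⟩
  intro W hWm hWnd hxW
  have hN : ∀ v ∈ W, (Matrix.toLin' (x : Matrix ι ι F) - 1) v ∈ W := by
    intro v hv
    rw [LinearMap.sub_apply, Module.End.one_apply]
    exact W.sub_mem (hxW (Submodule.mem_map_of_mem hv)) hv
  obtain ⟨ν, hνμ, hνs, hνe, -⟩ := omo_nec h2 Q (x : Matrix ι ι F) (Units.isUnit x) hxiso p hxK μ
    (fun e he => (hμp e he).1) hxty W hWnd hxW hN
  exact hno ν hνμ hνe (by rw [hνs, hWm])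

end U

end Cfsg.Agent.Lib.Helper1.ODN
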