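import Mathlib
import Cfsg.Agent.Lib.Helper1.OMO.Defs

set_option autoImplicit false
set_option linter.unusedVariables false
set_option linter.unusedSectionVars false

namespace Cfsg.Agent.Lib.Helper1.OMO

open Module Cfsg.Agent.Lib.helper14.JTa Cfsg.Agent.Lib.Helper9.OPH

variable {F : Type*} [Field F] {ι : Type} [Fintype ι] [DecidableEq ι]

theorem omoiso_polar {ι' : Type} (Q : (ι → F) → F) (Q' : (ι' → F) → F)
    (Φ : (ι → F) ≃ₗ[F] (ι' → F)) (hΦ : ∀ v, Q' (Φ v) = Q v) (a b : ι → F) :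
    QuadraticMap.polar Q' (Φ a) (Φ b) = QuadraticMap.polar Q a b := by
  unfold QuadraticMap.polar
  rw [← map_add, hΦ, hΦ, hΦ]

theorem omo_iso {ι' : Type} [Fintype ι'] [DecidableEq ι'] (Q : (ι → F) → F) (Q' : (ι' → F) → F)
    (Φ : (ι → F) ≃ₗ[F] (ι' → F)) (hΦ : ∀ v, Q' (Φ v) = Q v) (μ : Multiset ℕ) (h : RealQ Q μ) : RealQ Q' μ := by
  obtain ⟨T, hT, hdk⟩ := h
  refine ⟨LinearMap.toMatrix' (Φ.conjAlgEquiv F (Matrix.toLin' T)), ?_, ?_⟩
  · intro u v
    have hmv : ∀ w : ι' → F, (LinearMap.toMatrix' (Φ.conjAlgEquiv F (Matrix.toLin' T))).mulVec w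
        = Φ (T.mulVec (Φ.symm w)) := by
      intro w
      rw [← Matrix.toLin'_apply, Matrix.toLin'_toMatrix', LinearEquiv.conjAlgEquiv_apply]
      simp [Matrix.toLin'_apply]
    rw [hmv, hmv]
    have hu : u = Φ (Φ.symm u) := (Φ.apply_symm_apply u).symm
    have hv : v = Φ (Φ.symm v) := (Φ.apply_symm_apply v).symm
    conv_lhs => rw [hv]
    conv_rhs => rw [hu]
    rw [omoiso_polar Q Q' Φ hΦ, omoiso_polar Q Q' Φ hΦ, hT]
  · intro k
    rw [Matrix.toLin'_toMatrix', dk_conj, hdk]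

end Cfsg.Agent.Lib.Helper1.OMO
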