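import Mathlib
import Cfsg.Agent.Lib.Helper1.OMO.Defs
import Cfsg.Agent.Lib.Helper1.OMOISO
import Cfsg.Agent.Lib.helper14.JTb

set_option autoImplicit false
set_option linter.unusedVariables false
set_option linter.unusedSectionVars false

namespace Cfsg.Agent.Lib.Helper1.OMO

open Module Cfsg.Agent.Lib.helper14.JTa Cfsg.Agent.Lib.helper14.JTb Cfsg.Agent.Lib.Helper9.OPH

variable {F : Type*} [Field F]

def omochain_b (m : ℕ) (u v : Fin (m + 1) → F) : F :=
  ∑ i : Fin (m + 1), (-1 : F) ^ (i : ℕ) * (u i * v (Fin.rev i))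

theorem omochain_b_add_left (m : ℕ) (u u' v : Fin (m + 1) → F) :
    omochain_b m (u + u') v = omochain_b m u v + omochain_b m u' v := by
  unfold omochain_b
  rw [← Finset.sum_add_distrib]
  apply Finset.sum_congr rfl
  intro i _
  simp only [Pi.add_apply]
  ring

theorem omochain_b_add_right (m : ℕ) (u v v' : Fin (m + 1) → F) :
    omochain_b m u (v + v') = omochain_b m u v + omochain_b m u v' := by
  unfold omochain_b
  rw [← Finset.sum_add_distrib]
  apply Finset.sum_congr rfl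
  intro i _
  simp only [Pi.add_apply]
  ring

theorem omochain_shift_castSucc (m : ℕ) (u : Fin (m + 1) → F) (j : Fin m) :
    shift F (m + 1) u (Fin.castSucc j) = u (Fin.succ j) := by
  rw [shift_apply]
  have h : (Fin.castSucc j).val + 1 < m + 1 := by
    simp
  rw [dif_pos h]
  congr 1

theorem omochain_shift_last (m : ℕ) (u : Fin (m + 1) → F) :
    shift F (m + 1) u (Fin.last m) = 0 := by
  rw [shift_apply]
  have h : ¬ (Fin.last m).val + 1 < m + 1 := by
    simp
  rw [dif_neg h]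

theorem omochain_b_skew (m : ℕ) (u v : Fin (m + 1) → F) :
    omochain_b m (shift F (m + 1) u) v = - omochain_b m u (shift F (m + 1) v) := by
  unfold omochain_b
  rw [Fin.sum_univ_castSucc, Fin.sum_univ_succ]
  rw [omochain_shift_last, Fin.rev_zero, omochain_shift_last]
  simp only [zero_mul, mul_zero, add_zero, zero_add]
  rw [← Finset.sum_neg_distrib]
  apply Finset.sum_congr rfl
  intro j _
  rw [omochain_shift_castSucc, Fin.rev_castSucc, Fin.rev_succ, omochain_shift_castSucc]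
  simp only [Fin.val_castSucc, Fin.val_succ, pow_succ]
  ring

def omochain_Q (m : ℕ) (c0 : F) (v : Fin (m + 1) → F) : F := c0 * omochain_b m v v

theorem omochain_polar (m : ℕ) (c0 : F) (u v : Fin (m + 1) → F) :
    QuadraticMap.polar (omochain_Q m c0) u v = c0 * (omochain_b m u v + omochain_b m v u) := by
  unfold QuadraticMap.polar omochain_Q
  rw [omochain_b_add_left, omochain_b_add_right, omochain_b_add_right]
  ring

theorem omochain_real0 (m : ℕ) (c0 : F) : RealQ (omochain_Q m c0) {m + 1} := by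
  refine ⟨LinearMap.toMatrix' (shift F (m + 1)), ?_, ?_⟩
  · intro u v
    rw [LinearMap.toMatrix'_mulVec, LinearMap.toMatrix'_mulVec, omochain_polar, omochain_polar]
    have e1 := omochain_b_skew m u v
    have e2 := omochain_b_skew m v u
    linear_combination c0 * e1 + c0 * e2
  · intro j
    rw [Matrix.toLin'_toMatrix', dk_shift]
    simp [ty]

def omochain_g (k : ℕ) : Unit ⊕ (Fin k ⊕ Fin k) → Fin (2 * k + 1)
  | Sum.inl _ => ⟨k, by omega⟩
  | Sum.inr (Sum.inl i) => ⟨i.val, by omega⟩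
  | Sum.inr (Sum.inr i) => ⟨2 * k - i.val, by omega⟩

theorem omochain_g_bij (k : ℕ) : Function.Bijective (omochain_g k) := by
  rw [Fintype.bijective_iff_injective_and_card]
  constructor
  · intro x y h
    have hv := congrArg Fin.val h
    rcases x with x | x | x <;> rcases y with y | y | y <;> simp only [omochain_g] at hv
    · rfl
    · have := y.2; omega
    · have := y.2; omega
    · have := x.2; omega
    · have : x = y := Fin.ext hv
      rw [this]
    · have := x.2; have := y.2; omega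
    · have := x.2; omega
    · have := x.2; have := y.2; omega
    · have h1 := x.2
      have h2 := y.2
      have : x = y := Fin.ext (by omega)
      rw [this]
  · simp
    omega

noncomputable def omochain_e (k : ℕ) : Unit ⊕ (Fin k ⊕ Fin k) ≃ Fin (2 * k + 1) :=
  Equiv.ofBijective (omochain_g k) (omochain_g_bij k)

def omochain_s (k : ℕ) (c0 : F) : Unit ⊕ (Fin k ⊕ Fin k) → F
  | Sum.inl _ => 1
  | Sum.inr (Sum.inl _) => 1
  | Sum.inr (Sum.inr i) => 2 * c0 * (-1) ^ (i : ℕ)

theorem omochain_s_ne (h2 : (2 : F) ≠ 0) (k : ℕ) (c0 : F) (hc0 : c0 ≠ 0) (x : Unit ⊕ (Fin k ⊕ Fin k)) :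
    omochain_s k c0 x ≠ 0 := by
  rcases x with x | x | x <;> simp only [omochain_s]
  · exact one_ne_zero
  · exact one_ne_zero
  · exact mul_ne_zero (mul_ne_zero h2 hc0) (pow_ne_zero _ (neg_ne_zero.mpr one_ne_zero))

noncomputable def omochain_Phi (h2 : (2 : F) ≠ 0) (k : ℕ) (c0 : F) (hc0 : c0 ≠ 0) :
    (Fin (2 * k + 1) → F) ≃ₗ[F] (Unit ⊕ (Fin k ⊕ Fin k) → F) :=
  (LinearEquiv.funCongrLeft F F (omochain_e k)).trans
    (LinearEquiv.piCongrRight (fun x => LinearEquiv.smulOfNeZero F F (omochain_s k c0 x) (omochain_s_ne h2 k c0 hc0 x)))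

theorem omochain_Phi_apply (h2 : (2 : F) ≠ 0) (k : ℕ) (c0 : F) (hc0 : c0 ≠ 0) (v : Fin (2 * k + 1) → F)
    (x : Unit ⊕ (Fin k ⊕ Fin k)) :
    omochain_Phi h2 k c0 hc0 v x = omochain_s k c0 x * v (omochain_g k x) := by
  simp [omochain_Phi, omochain_e, LinearEquiv.funCongrLeft]

theorem omochain_rev_g (k : ℕ) (x : Unit ⊕ (Fin k ⊕ Fin k)) :
    Fin.rev (omochain_g k x) = omochain_g k (match x with
      | Sum.inl u => Sum.inl u
      | Sum.inr (Sum.inl i) => Sum.inr (Sum.inr i)
      | Sum.inr (Sum.inr i) => Sum.inr (Sum.inl i)) := by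
  apply Fin.ext
  rcases x with x | x | x <;> simp only [omochain_g, Fin.val_rev]
  · omega
  · omega
  · have := x.2
    omega

theorem omochain_Q_Phi (h2 : (2 : F) ≠ 0) (k : ℕ) (c : F) (hc : c ≠ 0) (hc0 : c * (-1) ^ k ≠ 0)
    (v : Fin (2 * k + 1) → F) :
    qOddC k c (omochain_Phi h2 k (c * (-1) ^ k) hc0 v) = omochain_Q (2 * k) (c * (-1) ^ k) v := by
  unfold qOddC omochain_Q omochain_b
  rw [← Equiv.sum_comp (omochain_e k)]
  rw [Fintype.sum_sum_type, Fintype.sum_sum_type]
  simp only [omochain_Phi_apply]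
  have he : ∀ x, omochain_e k x = omochain_g k x := fun x => rfl
  simp only [he, omochain_rev_g]
  simp only [omochain_s, omochain_g]
  simp only [Finset.univ_unique, Finset.sum_singleton]
  have hpow : ∀ i : Fin k, (-1 : F) ^ (2 * k - (i : ℕ)) = (-1) ^ (i : ℕ) := by
    intro i
    have hi := i.2
    have h1 : (-1 : F) ^ (2 * k - (i : ℕ)) * (-1) ^ (i : ℕ) = 1 := by
      rw [← pow_add]
      have : 2 * k - (i : ℕ) + (i : ℕ) = 2 * k := by omega
      rw [this, pow_mul]
      simp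
    have h3 : (-1 : F) ^ (i : ℕ) * (-1) ^ (i : ℕ) = 1 := by
      rw [← pow_add, ← two_mul, pow_mul]
      simp
    calc (-1 : F) ^ (2 * k - (i : ℕ)) = (-1 : F) ^ (2 * k - (i : ℕ)) * ((-1) ^ (i : ℕ) * (-1) ^ (i : ℕ)) := by rw [h3, mul_one]
      _ = ((-1 : F) ^ (2 * k - (i : ℕ)) * (-1) ^ (i : ℕ)) * (-1) ^ (i : ℕ) := by ring
      _ = (-1) ^ (i : ℕ) := by rw [h1, one_mul]
  have hkk : (-1 : F) ^ k * (-1) ^ k = 1 := by
    rw [← pow_add, ← two_mul, pow_mul]
    simp
  rw [mul_add, mul_add, Finset.mul_sum, Finset.mul_sum, ← Finset.sum_add_distrib]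
  congr 1
  · linear_combination (-(c * (v ⟨k, by omega⟩) ^ 2)) * hkk
  · apply Finset.sum_congr rfl
    intro i _
    rw [hpow i]
    ring

theorem omo_chain (h2 : (2 : F) ≠ 0) (k : ℕ) (c : F) (hc : c ≠ 0) : RealQ (qOddC k c) {2 * k + 1} := by
  have hc0 : c * (-1) ^ k ≠ 0 := mul_ne_zero hc (pow_ne_zero _ (neg_ne_zero.mpr one_ne_zero))
  exact omo_iso (omochain_Q (2 * k) (c * (-1) ^ k)) (qOddC k c) (omochain_Phi h2 k (c * (-1) ^ k) hc0)
    (omochain_Q_Phi h2 k c hc hc0) {2 * k + 1} (omochain_real0 (2 * k) (c * (-1) ^ k))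

end Cfsg.Agent.Lib.Helper1.OMO
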