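import Mathlib
import Cfsg.Agent.Lib.Helper1.OMO.Defs

set_option autoImplicit false
set_option linter.unusedVariables false
set_option linter.unusedSectionVars false

namespace Cfsg.Agent.Lib.Helper1.OMO

open Module Cfsg.Agent.Lib.helper14.JTa Cfsg.Agent.Lib.Helper9.OPH

variable {F : Type*} [Field F]

def omocoordminus_two : Fin 2 ≃ Unit ⊕ Unit where
  toFun i := if i = 0 then Sum.inl () else Sum.inr ()
  invFun x := Sum.elim (fun _ => 0) (fun _ => 1) x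
  left_inv := by
    intro i
    fin_cases i <;> simp
  right_inv := by
    rintro (u | u) <;> simp

def omocoordminus_shuffle (A B C : Type) :
    (((A ⊕ B) ⊕ C) ⊕ ((A ⊕ B) ⊕ C)) ⊕ (Unit ⊕ Unit) ≃ (Unit ⊕ (A ⊕ A)) ⊕ ((Unit ⊕ (B ⊕ B)) ⊕ (C ⊕ C)) where
  toFun
    | Sum.inl (Sum.inl (Sum.inl (Sum.inl a))) => Sum.inl (Sum.inr (Sum.inl a))
    | Sum.inl (Sum.inl (Sum.inl (Sum.inr b))) => Sum.inr (Sum.inl (Sum.inr (Sum.inl b)))
    | Sum.inl (Sum.inl (Sum.inr c)) => Sum.inr (Sum.inr (Sum.inl c))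
    | Sum.inl (Sum.inr (Sum.inl (Sum.inl a))) => Sum.inl (Sum.inr (Sum.inr a))
    | Sum.inl (Sum.inr (Sum.inl (Sum.inr b))) => Sum.inr (Sum.inl (Sum.inr (Sum.inr b)))
    | Sum.inl (Sum.inr (Sum.inr c)) => Sum.inr (Sum.inr (Sum.inr c))
    | Sum.inr (Sum.inl u) => Sum.inl (Sum.inl u)
    | Sum.inr (Sum.inr u) => Sum.inr (Sum.inl (Sum.inl u))
  invFun
    | Sum.inl (Sum.inr (Sum.inl a)) => Sum.inl (Sum.inl (Sum.inl (Sum.inl a)))
    | Sum.inr (Sum.inl (Sum.inr (Sum.inl b))) => Sum.inl (Sum.inl (Sum.inl (Sum.inr b)))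
    | Sum.inr (Sum.inr (Sum.inl c)) => Sum.inl (Sum.inl (Sum.inr c))
    | Sum.inl (Sum.inr (Sum.inr a)) => Sum.inl (Sum.inr (Sum.inl (Sum.inl a)))
    | Sum.inr (Sum.inl (Sum.inr (Sum.inr b))) => Sum.inl (Sum.inr (Sum.inl (Sum.inr b)))
    | Sum.inr (Sum.inr (Sum.inr c)) => Sum.inl (Sum.inr (Sum.inr c))
    | Sum.inl (Sum.inl u) => Sum.inr (Sum.inl u)
    | Sum.inr (Sum.inl (Sum.inl u)) => Sum.inr (Sum.inr u)
  left_inv := by
    rintro ((((a | b) | c) | ((a | b) | c)) | (u | u)) <;> rfl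
  right_inv := by
    rintro ((u | (a | a)) | ((u | (b | b)) | (c | c))) <;> rfl

def omocoordminus_t (k l s : ℕ) : Fin (k + l + s) ≃ (Fin k ⊕ Fin l) ⊕ Fin s :=
  finSumFinEquiv.symm.trans (Equiv.sumCongr finSumFinEquiv.symm (Equiv.refl (Fin s)))

def omocoordminus_e (k l s : ℕ) :
    (Fin (k + l + s) ⊕ Fin (k + l + s)) ⊕ Fin 2 ≃
      (Unit ⊕ (Fin k ⊕ Fin k)) ⊕ ((Unit ⊕ (Fin l ⊕ Fin l)) ⊕ (Fin s ⊕ Fin s)) :=
  (Equiv.sumCongr (Equiv.sumCongr (omocoordminus_t k l s) (omocoordminus_t k l s)) omocoordminus_two).trans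
    (omocoordminus_shuffle (Fin k) (Fin l) (Fin s))

abbrev omocoordminus_I (k l s : ℕ) : Type :=
  (Unit ⊕ (Fin k ⊕ Fin k)) ⊕ ((Unit ⊕ (Fin l ⊕ Fin l)) ⊕ (Fin s ⊕ Fin s))

def omocoordminus_p0 (k l s : ℕ) : omocoordminus_I k l s := Sum.inl (Sum.inl ())

def omocoordminus_q0 (k l s : ℕ) : omocoordminus_I k l s := Sum.inr (Sum.inl (Sum.inl ()))

theorem omocoordminus_q0_ne (k l s : ℕ) : omocoordminus_q0 k l s ≠ omocoordminus_p0 k l s := by
  intro h
  cases h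

def omocoordminus_shear (k l s : ℕ) (t : F) : (omocoordminus_I k l s → F) ≃ₗ[F] (omocoordminus_I k l s → F) where
  toFun v := fun i => v i - (if i = omocoordminus_p0 k l s then t * v (omocoordminus_q0 k l s) else 0)
  invFun v := fun i => v i + (if i = omocoordminus_p0 k l s then t * v (omocoordminus_q0 k l s) else 0)
  map_add' u v := by
    funext i
    by_cases h : i = omocoordminus_p0 k l s
    · simp [h]; ring
    · simp [h]
  map_smul' c v := by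
    funext i
    by_cases h : i = omocoordminus_p0 k l s
    · simp [h]; ring
    · simp [h]
  left_inv v := by
    funext i
    by_cases h : i = omocoordminus_p0 k l s
    · simp [h, omocoordminus_q0_ne]
    · simp [h]
  right_inv v := by
    funext i
    by_cases h : i = omocoordminus_p0 k l s
    · simp [h, omocoordminus_q0_ne]
    · simp [h]

theorem omo_coord_minus (h2 : (2 : F) ≠ 0) (k l s : ℕ) (a b : F) :
    ∃ Φ : ((Unit ⊕ (Fin k ⊕ Fin k)) ⊕ ((Unit ⊕ (Fin l ⊕ Fin l)) ⊕ (Fin s ⊕ Fin s)) → F) ≃ₗ[F]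
        ((Fin (k + l + s) ⊕ Fin (k + l + s)) ⊕ Fin 2 → F),
      ∀ v, Cfsg.quadFormMinus (k + l + s) F a b (Φ v) =
        qSum (qOddC k (1 : F)) (qSum (qOddC l (b - a ^ 2 / 4)) (Cfsg.quadFormPlus s F)) v := by
  refine ⟨(omocoordminus_shear k l s (a / 2)).trans (LinearEquiv.funCongrLeft F F (omocoordminus_e k l s)), ?_⟩
  intro v
  have h4 : (4 : F) ≠ 0 := by
    have : (4 : F) = 2 * 2 := by norm_num
    rw [this]
    exact mul_ne_zero h2 h2
  unfold Cfsg.quadFormMinus qSum qOddC Cfsg.quadFormPlus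
  rw [Fin.sum_univ_add, Fin.sum_univ_add]
  simp [LinearEquiv.funCongrLeft, omocoordminus_e, omocoordminus_t, omocoordminus_two, omocoordminus_shuffle,
    omocoordminus_shear, omocoordminus_p0, omocoordminus_q0]
  field_simp
  ring

end Cfsg.Agent.Lib.Helper1.OMO
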