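import Mathlib
import Cfsg.Agent.Lib.Helper1.OMO.Defs
import Cfsg.Agent.Lib.helper14.JTb

set_option autoImplicit false
set_option linter.unusedVariables false
set_option linter.unusedSectionVars false

namespace Cfsg.Agent.Lib.Helper1.OMO

open Module Cfsg.Agent.Lib.helper14.JTa Cfsg.Agent.Lib.helper14.JTb Cfsg.Agent.Lib.Helper9.OPH

variable {F : Type*} [Field F]

theorem omodsum_polar {ι₁ ι₂ : Type} (Q₁ : (ι₁ → F) → F) (Q₂ : (ι₂ → F) → F) (u v : ι₁ ⊕ ι₂ → F) :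
    QuadraticMap.polar (qSum Q₁ Q₂) u v =
      QuadraticMap.polar Q₁ (fun i => u (Sum.inl i)) (fun i => v (Sum.inl i)) +
      QuadraticMap.polar Q₂ (fun i => u (Sum.inr i)) (fun i => v (Sum.inr i)) := by
  unfold QuadraticMap.polar qSum
  have h1 : (fun i => (u + v) (Sum.inl i)) = (fun i => u (Sum.inl i)) + (fun i => v (Sum.inl i)) := rfl
  have h2 : (fun i => (u + v) (Sum.inr i)) = (fun i => u (Sum.inr i)) + (fun i => v (Sum.inr i)) := rfl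
  rw [h1, h2]
  ring

theorem omodsum_ty_add (μ₁ μ₂ : Multiset ℕ) (k : ℕ) : ty (μ₁ + μ₂) k = ty μ₁ k + ty μ₂ k := by
  unfold ty
  rw [Multiset.map_add, Multiset.sum_add]

theorem omo_dsum {ι₁ ι₂ : Type} [Fintype ι₁] [DecidableEq ι₁] [Fintype ι₂] [DecidableEq ι₂]
    (Q₁ : (ι₁ → F) → F) (Q₂ : (ι₂ → F) → F) (μ₁ μ₂ : Multiset ℕ) (h₁ : RealQ Q₁ μ₁) (h₂ : RealQ Q₂ μ₂) :
    RealQ (qSum Q₁ Q₂) (μ₁ + μ₂) := by
  obtain ⟨T₁, hT₁, hd₁⟩ := h₁
  obtain ⟨T₂, hT₂, hd₂⟩ := h₂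
  have hl : ∀ w : ι₁ ⊕ ι₂ → F, (fun i => (Matrix.fromBlocks T₁ 0 0 T₂).mulVec w (Sum.inl i))
      = T₁.mulVec (fun i => w (Sum.inl i)) := by
    intro w
    funext i
    rw [Matrix.fromBlocks_mulVec]
    simp
    rfl
  have hr : ∀ w : ι₁ ⊕ ι₂ → F, (fun i => (Matrix.fromBlocks T₁ 0 0 T₂).mulVec w (Sum.inr i))
      = T₂.mulVec (fun i => w (Sum.inr i)) := by
    intro w
    funext i
    rw [Matrix.fromBlocks_mulVec]
    simp
    rfl
  refine ⟨Matrix.fromBlocks T₁ 0 0 T₂, ?_, ?_⟩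
  · intro u v
    rw [omodsum_polar, omodsum_polar, hl, hr, hl, hr, hT₁, hT₂]
    ring
  · intro k
    rw [omodsum_ty_add, ← hd₁, ← hd₂, ← dk_prodMap]
    rw [← dk_conj (LinearEquiv.sumArrowLequivProdArrow ι₁ ι₂ F F) (Matrix.toLin' (Matrix.fromBlocks T₁ 0 0 T₂)) k]
    congr 1
    apply LinearMap.ext
    intro w
    rw [LinearEquiv.conjAlgEquiv_apply]
    simp only [LinearMap.coe_comp, LinearEquiv.coe_coe, Function.comp_apply, Matrix.toLin'_apply,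
      LinearMap.prodMap_apply]
    have hw : (LinearEquiv.sumArrowLequivProdArrow ι₁ ι₂ F F).symm w = Sum.elim w.1 w.2 := rfl
    rw [hw]
    apply Prod.ext
    · show (fun i => (Matrix.fromBlocks T₁ 0 0 T₂).mulVec (Sum.elim w.1 w.2) (Sum.inl i)) = _
      rw [hl]
      rfl
    · show (fun i => (Matrix.fromBlocks T₁ 0 0 T₂).mulVec (Sum.elim w.1 w.2) (Sum.inr i)) = _
      rw [hr]
      rfl

end Cfsg.Agent.Lib.Helper1.OMO
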