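import Mathlib
import Cfsg.Agent.Lib.Helper1.OMO.Defs

set_option autoImplicit false
set_option linter.unusedVariables false
set_option linter.unusedSectionVars false

namespace Cfsg.Agent.Lib.Helper1.OMO

open Module Cfsg.Agent.Lib.helper14.JTa Cfsg.Agent.Lib.Helper9.OPH

variable {F : Type*} [Field F]

def omocoordodd_e (k s : ℕ) :
    Unit ⊕ (Fin (k + s) ⊕ Fin (k + s)) ≃ (Unit ⊕ (Fin k ⊕ Fin k)) ⊕ (Fin s ⊕ Fin s) :=
  ((Equiv.sumCongr (Equiv.refl Unit)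
    (Equiv.sumCongr finSumFinEquiv.symm finSumFinEquiv.symm)).trans
    (Equiv.sumCongr (Equiv.refl Unit) (Equiv.sumSumSumComm (Fin k) (Fin s) (Fin k) (Fin s)))).trans
    (Equiv.sumAssoc Unit (Fin k ⊕ Fin k) (Fin s ⊕ Fin s)).symm

theorem omo_coord_odd (k s : ℕ) :
    ∃ Φ : ((Unit ⊕ (Fin k ⊕ Fin k)) ⊕ (Fin s ⊕ Fin s) → F) ≃ₗ[F] (Unit ⊕ (Fin (k + s) ⊕ Fin (k + s)) → F),
      ∀ v, Cfsg.quadFormOdd (k + s) F (Φ v) = qSum (qOddC k (1 : F)) (Cfsg.quadFormPlus s F) v := by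
  refine ⟨LinearEquiv.funCongrLeft F F (omocoordodd_e k s), ?_⟩
  intro v
  unfold Cfsg.quadFormOdd qSum qOddC Cfsg.quadFormPlus
  rw [Fin.sum_univ_add]
  simp [LinearEquiv.funCongrLeft, omocoordodd_e]
  ring

end Cfsg.Agent.Lib.Helper1.OMO
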