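import Mathlib
import Cfsg.Agent.Lib.Helper1.OMO.Defs
import Cfsg.Agent.Lib.Helper1.OMOISO
import Cfsg.Agent.Lib.Helper1.OMOCHAIN
import Cfsg.Agent.Lib.Helper1.OMODSUM
import Cfsg.Agent.Lib.Helper1.OMOCOORDODD
import Cfsg.Agent.Lib.Helper9.OPHREALALL

set_option autoImplicit false
set_option linter.unusedVariables false
set_option linter.unusedSectionVars false

namespace Cfsg.Agent.Lib.Helper1.OMO

open Module Cfsg.Agent.Lib.helper14.JTa Cfsg.Agent.Lib.Helper9.OPH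

variable {F : Type*} [Field F]

theorem omorealodd_even_sum (μ : Multiset ℕ) (h : ∀ e ∈ μ, Even e) : Even μ.sum := by
  induction μ using Multiset.induction_on with
  | empty => simp
  | cons a μ ih =>
    rw [Multiset.sum_cons]
    exact Even.add (h a (Multiset.mem_cons_self a μ)) (ih (fun e he => h e (Multiset.mem_cons_of_mem he)))

theorem omorealodd_exists_odd (μ : Multiset ℕ) (h : Odd μ.sum) : ∃ e ∈ μ, Odd e := by
  by_contra hcon
  push Not at hcon
  have h1 : Even μ.sum := omorealodd_even_sum μ (fun e he => Nat.not_odd_iff_even.mp (hcon e he))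
  exact (Nat.not_even_iff_odd.mpr h) h1

theorem omorealodd_erase_ok (μ : Multiset ℕ) (e : ℕ) (he : Odd e) (hμ0 : ∀ a ∈ μ, 0 < a)
    (hμe : ∀ a : ℕ, Even a → Even (μ.count a)) :
    (∀ a ∈ μ.erase e, 0 < a) ∧ (∀ a : ℕ, Even a → Even ((μ.erase e).count a)) := by
  refine ⟨fun a ha => hμ0 a (Multiset.mem_of_mem_erase ha), ?_⟩
  intro a ha
  have hne : a ≠ e := by
    rintro rfl
    exact (Nat.not_even_iff_odd.mpr he) ha
  rw [Multiset.count_erase_of_ne hne]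
  exact hμe a ha

theorem omorealodd_sum_erase (μ : Multiset ℕ) (e : ℕ) (he : e ∈ μ) : (μ.erase e).sum + e = μ.sum := by
  conv_rhs => rw [← Multiset.cons_erase he]
  rw [Multiset.sum_cons]
  ring

theorem omo_real_odd (h2 : (2 : F) ≠ 0) (d : ℕ) (μ : Multiset ℕ) (hμ0 : ∀ e ∈ μ, 0 < e)
    (hμe : ∀ e : ℕ, Even e → Even (μ.count e)) (hμs : μ.sum = 2 * d + 1) : RealQ (Cfsg.quadFormOdd d F) μ := by
  obtain ⟨e, heμ, heo⟩ := omorealodd_exists_odd μ (by rw [hμs]; exact ⟨d, rfl⟩)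
  obtain ⟨k, rfl⟩ := heo
  have hs := omorealodd_sum_erase μ (2 * k + 1) heμ
  obtain ⟨h0', he'⟩ := omorealodd_erase_ok μ (2 * k + 1) ⟨k, rfl⟩ hμ0 hμe
  obtain ⟨s, rfl⟩ : ∃ s, d = k + s := ⟨d - k, by omega⟩
  have h1 : Real F s (μ.erase (2 * k + 1)) := oph_real_all h2 s _ h0' he' (by omega)
  have h3 := omo_dsum (qOddC k (1 : F)) (Cfsg.quadFormPlus s F) {2 * k + 1} (μ.erase (2 * k + 1))
    (omo_chain h2 k 1 one_ne_zero) h1
  obtain ⟨Φ, hΦ⟩ := omo_coord_odd (F := F) k s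
  have h4 := omo_iso _ (Cfsg.quadFormOdd (k + s) F) Φ hΦ _ h3
  rwa [Multiset.singleton_add, Multiset.cons_erase heμ] at h4

end Cfsg.Agent.Lib.Helper1.OMO
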