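import Mathlib
import Cfsg.Agent.Lib.Helper1.OMO.Defs
import Cfsg.Agent.Lib.Helper1.OMOISO
import Cfsg.Agent.Lib.Helper1.OMOCHAIN
import Cfsg.Agent.Lib.Helper1.OMODSUM
import Cfsg.Agent.Lib.Helper1.OMOCOORDMINUS
import Cfsg.Agent.Lib.Helper1.OMOREALODD
import Cfsg.Agent.Lib.Helper9.OPHREALALL

set_option autoImplicit false
set_option linter.unusedVariables false
set_option linter.unusedSectionVars false

namespace Cfsg.Agent.Lib.Helper1.OMO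

open Module Cfsg.Agent.Lib.helper14.JTa Cfsg.Agent.Lib.Helper9.OPH

variable {F : Type*} [Field F]

theorem omo_real_minus (h2 : (2 : F) ≠ 0) (t : ℕ) (a b : F) (hab : b - a ^ 2 / 4 ≠ 0) (μ : Multiset ℕ) (hμ0 : ∀ e ∈ μ, 0 < e)
    (hμe : ∀ e : ℕ, Even e → Even (μ.count e)) (hμs : μ.sum = 2 * t + 2) (hodd : ∃ e ∈ μ, Odd e) :
    RealQ (Cfsg.quadFormMinus t F a b) μ := by
  obtain ⟨e₁, he₁μ, he₁o⟩ := hodd
  obtain ⟨k, rfl⟩ := he₁o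
  have hs₁ := omorealodd_sum_erase μ (2 * k + 1) he₁μ
  obtain ⟨h0₁, he₁⟩ := omorealodd_erase_ok μ (2 * k + 1) ⟨k, rfl⟩ hμ0 hμe
  obtain ⟨e₂, he₂μ, he₂o⟩ := omorealodd_exists_odd (μ.erase (2 * k + 1)) ⟨t - k, by omega⟩
  obtain ⟨l, rfl⟩ := he₂o
  have hs₂ := omorealodd_sum_erase (μ.erase (2 * k + 1)) (2 * l + 1) he₂μ
  obtain ⟨h0₂, he₂⟩ := omorealodd_erase_ok (μ.erase (2 * k + 1)) (2 * l + 1) ⟨l, rfl⟩ h0₁ he₁
  obtain ⟨s, rfl⟩ : ∃ s, t = k + l + s := ⟨t - k - l, by omega⟩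
  have h1 : Real F s ((μ.erase (2 * k + 1)).erase (2 * l + 1)) := oph_real_all h2 s _ h0₂ he₂ (by omega)
  have h3 := omo_dsum (qOddC l (b - a ^ 2 / 4)) (Cfsg.quadFormPlus s F) {2 * l + 1} _
    (omo_chain h2 l _ hab) h1
  have h4 := omo_dsum (qOddC k (1 : F)) _ {2 * k + 1} _ (omo_chain h2 k 1 one_ne_zero) h3
  obtain ⟨Φ, hΦ⟩ := omo_coord_minus h2 k l s a b
  have h5 := omo_iso _ (Cfsg.quadFormMinus (k + l + s) F a b) Φ hΦ _ h4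
  rwa [Multiset.singleton_add, Multiset.singleton_add, Multiset.cons_erase he₂μ, Multiset.cons_erase he₁μ] at h5

end Cfsg.Agent.Lib.Helper1.OMO
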