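import Mathlib
import Cfsg.Agent.Lib.Helper1.ODN.Defs
import Cfsg.Agent.Lib.Helper1.ODNUNIPGEN
import Cfsg.Agent.Lib.Helper24.ODNCOMB
import Cfsg.Agent.Lib.Helper9.OPHREALALL
import Cfsg.Agent.Lib.Helper16.PlusFam
import Cfsg.Agent.Lib.Helper1.OMOREALMINUS
import Cfsg.Agent.Lib.Helper16.OHelp
import Cfsg.Agent.Lib.Helper16.SpinG2

set_option autoImplicit false
set_option linter.unusedVariables false
set_option linter.unusedSectionVars false

namespace Cfsg.Agent.Lib.Helper1.ODN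

open Polynomial Module Cfsg.Agent.Lib.Helper13.S5955 Cfsg.Agent.Lib.helper15.S5972 Cfsg.Agent.Lib.Helper18.ONE
  Cfsg.Agent.Lib.Helper16.OSemi

section U
open Cfsg.Agent.Lib.helper14.JTa Cfsg.Agent.Lib.Helper9.OPH Cfsg.Agent.Lib.Helper1.OMO

/-- characteristic facts from `Odd #F`. -/
theorem odnunipplus_char {F : Type*} [Field F] [Fintype F] {p : ℕ} [Fact p.Prime] [CharP F p]
    (hodd : Odd (Fintype.card F)) : p ≠ 2 ∧ 3 ≤ p ∧ (2 : F) ≠ 0 := by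
  have hpq : p ∣ Fintype.card F := by
    have h0 : ((Fintype.card F : ℕ) : F) = 0 := Nat.cast_card_eq_zero F
    exact (CharP.cast_eq_zero_iff F p _).mp h0
  have hp2 : p ≠ 2 := by
    rintro rfl
    obtain ⟨t, ht⟩ := hodd
    omega
  have hp3 : 3 ≤ p := by
    have := (Fact.out : p.Prime).two_le
    omega
  refine ⟨hp2, hp3, ?_⟩
  intro h
  have h3 : ((2 : ℕ) : F) = 0 := by exact_mod_cast h
  have h4 := (CharP.cast_eq_zero_iff F p 2).mp h3
  have h5 := (Nat.prime_dvd_prime_iff_eq (Fact.out : p.Prime) Nat.prime_two).mp h4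
  exact hp2 h5

/-- bookkeeping for the multisets `{a, b} + replicate k 2` with `a, b` odd. -/
theorem odnunipplus_ms (p a b k : ℕ) (hp3 : 3 ≤ p) (ha : a = 1 ∨ a = 3) (hb : b = 1 ∨ b = 3) (hk : Even k) (hk1 : 1 ≤ k) :
    (∀ e ∈ ({a, b} + Multiset.replicate k 2 : Multiset ℕ), 0 < e ∧ e ≤ p) ∧
    (∀ e : ℕ, Even e → Even (({a, b} + Multiset.replicate k 2 : Multiset ℕ).count e)) ∧
    ({a, b} + Multiset.replicate k 2 : Multiset ℕ).sum = a + b + 2 * k ∧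
    (∃ e ∈ ({a, b} + Multiset.replicate k 2 : Multiset ℕ), Odd e) ∧
    (¬ ∀ e ∈ ({a, b} + Multiset.replicate k 2 : Multiset ℕ), e = 1) := by
  refine ⟨?_, ?_, ?_, ?_, ?_⟩
  · intro e he
    rw [Multiset.mem_add] at he
    rcases he with he | he
    · have : e = a ∨ e = b := by simpa using he
      omega
    · have := Multiset.eq_of_mem_replicate he
      omega
  · intro e he
    rw [Multiset.count_add, Multiset.count_replicate]
    have h6 : Multiset.count e ({a, b} : Multiset ℕ) = 0 := by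
      rw [Multiset.count_eq_zero]
      intro hmem
      have : e = a ∨ e = b := by simpa using hmem
      obtain ⟨t, ht⟩ := he
      omega
    rw [h6]
    split_ifs with h7
    · simpa using hk
    · exact ⟨0, rfl⟩
  · rw [Multiset.sum_add, Multiset.sum_replicate]
    simp
    omega
  · exact ⟨a, by simp, by rcases ha with rfl | rfl <;> decide⟩
  · intro h
    have := h 2 (by
      rw [Multiset.mem_add]
      right
      rw [Multiset.mem_replicate]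
      exact ⟨by omega, rfl⟩)
    omega

theorem odn_unip_plus {F : Type*} [Field F] [Fintype F] {p : ℕ} [Fact p.Prime] [CharP F p]
    (hodd : Odd (Fintype.card F)) (d m : ℕ) (hd : 4 ≤ d) (hm : Odd m) (hmd : m < d) :
    ∃ x : GL (Fin d ⊕ Fin d) F, x ∈ Cfsg.Geo.omegaGL (Cfsg.quadFormPlus d F) ∧ x ^ p = 1 ∧
      (∀ z : F, (x : Matrix (Fin d ⊕ Fin d) (Fin d ⊕ Fin d) F) ≠ z • (1 : Matrix (Fin d ⊕ Fin d) (Fin d ⊕ Fin d) F)) ∧
      ∀ W : Submodule F (Fin d ⊕ Fin d → F), finrank F W = m →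
        Cfsg.Geo.IsNondegenerateOn (QuadraticMap.polar (Cfsg.quadFormPlus d F)) W →
        ¬ W.map (Matrix.toLin' (x : Matrix (Fin d ⊕ Fin d) (Fin d ⊕ Fin d) F)) ≤ W := by
  classical
  obtain ⟨hp2, hp3, h2⟩ := odnunipplus_char (F := F) (p := p) hodd
  have hcard : Fintype.card (Fin d ⊕ Fin d) = 2 * d := by
    simp
    omega
  -- generic step
  have hgen : ∀ μ : Multiset ℕ, (∀ e ∈ μ, 0 < e ∧ e ≤ p) → (∀ e : ℕ, Even e → Even (μ.count e)) → μ.sum = 2 * d →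
      (¬ ∀ e ∈ μ, e = 1) →
      (∀ ν : Multiset ℕ, ν ≤ μ → (∀ e : ℕ, Even e → Even (ν.count e)) → ν.sum ≠ m) →
      ∃ x : GL (Fin d ⊕ Fin d) F, x ∈ Cfsg.Geo.omegaGL (Cfsg.quadFormPlus d F) ∧ x ^ p = 1 ∧
      (∀ z : F, (x : Matrix (Fin d ⊕ Fin d) (Fin d ⊕ Fin d) F) ≠ z • (1 : Matrix (Fin d ⊕ Fin d) (Fin d ⊕ Fin d) F)) ∧
      ∀ W : Submodule F (Fin d ⊕ Fin d → F), finrank F W = m →
        Cfsg.Geo.IsNondegenerateOn (QuadraticMap.polar (Cfsg.quadFormPlus d F)) W →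
        ¬ W.map (Matrix.toLin' (x : Matrix (Fin d ⊕ Fin d) (Fin d ⊕ Fin d) F)) ≤ W := by
    intro μ hμp hμe hμs hone hno
    have hreal : RealQ (⇑(Cfsg.Agent.Lib.Helper16.qfPlus d F)) μ :=
      (real_iff_realQ F d μ).mp (oph_real_all h2 d μ (fun e he => (hμp e he).1) hμe hμs)
    exact odn_unip_gen hp2 h2 (Cfsg.Agent.Lib.Helper16.qfPlus d F) (Cfsg.Agent.Lib.Helper16.qfPlus_nondeg d F)
      (by rw [hcard]; omega) μ hμp (by rw [hcard]; exact hμs) hreal hone m hno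
  rcases Nat.even_or_odd d with hde | hdo
  · -- μ = replicate d 2
    refine hgen (Multiset.replicate d 2) ?_ ?_ ?_ ?_ ?_
    · intro e he
      have := Multiset.eq_of_mem_replicate he
      omega
    · intro e he
      rw [Multiset.count_replicate]
      split_ifs with h7
      · exact hde
      · exact ⟨0, rfl⟩
    · rw [Multiset.sum_replicate]
      simp
      omega
    · intro h
      have := h 2 (by
        rw [Multiset.mem_replicate]
        exact ⟨by omega, rfl⟩)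
      omega
    · intro ν hν _ hs
      have h1 := odn_comb_two d ν hν
      rw [hs] at h1
      exact (Nat.not_even_iff_odd.mpr hm) h1
  · obtain ⟨t, ht⟩ := hdo
    have hm4 : m % 4 = 1 ∨ m % 4 = 3 := by
      obtain ⟨s, hs⟩ := hm
      omega
    rcases hm4 with hm4 | hm4
    · -- μ = {3,3} + replicate (d-3) 2
      obtain ⟨h1, h2', h3, h4, h5⟩ := odnunipplus_ms p 3 3 (d - 3) hp3 (Or.inr rfl) (Or.inr rfl) ⟨t - 1, by omega⟩ (by omega)
      refine hgen ({3, 3} + Multiset.replicate (d - 3) 2) h1 h2' (by rw [h3]; omega) h5 ?_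
      intro ν hν hνe hs
      have h6 := odn_comb_33 (d - 3) ν hν (hνe 2 (by decide)) (by rw [hs]; exact hm)
      omega
    · -- μ = {1,1} + replicate (d-1) 2
      obtain ⟨h1, h2', h3, h4, h5⟩ := odnunipplus_ms p 1 1 (d - 1) hp3 (Or.inl rfl) (Or.inl rfl) ⟨t, by omega⟩ (by omega)
      refine hgen ({1, 1} + Multiset.replicate (d - 1) 2) h1 h2' (by rw [h3]; omega) h5 ?_
      intro ν hν hνe hs
      have h6 := odn_comb_11 (d - 1) ν hν (hνe 2 (by decide)) (by rw [hs]; exact hm)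
      omega

theorem odn_unip_minus_odd {F : Type*} [Field F] [Fintype F] {p : ℕ} [Fact p.Prime] [CharP F p]
    (hodd : Odd (Fintype.card F)) (d m : ℕ) (hd : 4 ≤ d) (hdo : Odd d) (hm : Odd m) (hmd : m < d) (a b : F)
    (hab : ∀ x y : F, x ^ 2 + a * x * y + b * y ^ 2 = 0 → x = 0 ∧ y = 0) :
    ∃ x : GL ((Fin (d - 1) ⊕ Fin (d - 1)) ⊕ Fin 2) F, x ∈ Cfsg.Geo.omegaGL (Cfsg.quadFormMinus (d - 1) F a b) ∧ x ^ p = 1 ∧
      (∀ z : F, (x : Matrix ((Fin (d - 1) ⊕ Fin (d - 1)) ⊕ Fin 2) ((Fin (d - 1) ⊕ Fin (d - 1)) ⊕ Fin 2) F) ≠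
        z • (1 : Matrix ((Fin (d - 1) ⊕ Fin (d - 1)) ⊕ Fin 2) ((Fin (d - 1) ⊕ Fin (d - 1)) ⊕ Fin 2) F)) ∧
      ∀ W : Submodule F ((Fin (d - 1) ⊕ Fin (d - 1)) ⊕ Fin 2 → F), finrank F W = m →
        Cfsg.Geo.IsNondegenerateOn (QuadraticMap.polar (Cfsg.quadFormMinus (d - 1) F a b)) W →
        ¬ W.map (Matrix.toLin' (x : Matrix ((Fin (d - 1) ⊕ Fin (d - 1)) ⊕ Fin 2) ((Fin (d - 1) ⊕ Fin (d - 1)) ⊕ Fin 2) F)) ≤ W := by
  classical
  obtain ⟨hp2, hp3, h2⟩ := odnunipplus_char (F := F) (p := p) hodd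
  have h4 : (4 : F) ≠ 0 := by
    have : (4 : F) = 2 * 2 := by norm_num
    rw [this]
    exact mul_ne_zero h2 h2
  have hdisc : b - a ^ 2 / 4 ≠ 0 := by
    intro h
    have hb : b = a ^ 2 / 4 := sub_eq_zero.mp h
    have h5 := hab (-(a / 2)) 1 (by rw [hb]; field_simp; ring)
    exact one_ne_zero h5.2
  have hcard : Fintype.card ((Fin (d - 1) ⊕ Fin (d - 1)) ⊕ Fin 2) = 2 * d := by
    simp
    omega
  have hQcoe : ⇑(Cfsg.Agent.Lib.Helper16.qfMinus (d - 1) F a b) = Cfsg.quadFormMinus (d - 1) F a b :=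
    Cfsg.Agent.Lib.Helper16.qfMinus_coe (d - 1) F a b
  have hgen : ∀ μ : Multiset ℕ, (∀ e ∈ μ, 0 < e ∧ e ≤ p) → (∀ e : ℕ, Even e → Even (μ.count e)) → μ.sum = 2 * d →
      (∃ e ∈ μ, Odd e) → (¬ ∀ e ∈ μ, e = 1) →
      (∀ ν : Multiset ℕ, ν ≤ μ → (∀ e : ℕ, Even e → Even (ν.count e)) → ν.sum ≠ m) →
      ∃ x : GL ((Fin (d - 1) ⊕ Fin (d - 1)) ⊕ Fin 2) F, x ∈ Cfsg.Geo.omegaGL (Cfsg.quadFormMinus (d - 1) F a b) ∧ x ^ p = 1 ∧
      (∀ z : F, (x : Matrix ((Fin (d - 1) ⊕ Fin (d - 1)) ⊕ Fin 2) ((Fin (d - 1) ⊕ Fin (d - 1)) ⊕ Fin 2) F) ≠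
        z • (1 : Matrix ((Fin (d - 1) ⊕ Fin (d - 1)) ⊕ Fin 2) ((Fin (d - 1) ⊕ Fin (d - 1)) ⊕ Fin 2) F)) ∧
      ∀ W : Submodule F ((Fin (d - 1) ⊕ Fin (d - 1)) ⊕ Fin 2 → F), finrank F W = m →
        Cfsg.Geo.IsNondegenerateOn (QuadraticMap.polar (Cfsg.quadFormMinus (d - 1) F a b)) W →
        ¬ W.map (Matrix.toLin' (x : Matrix ((Fin (d - 1) ⊕ Fin (d - 1)) ⊕ Fin 2) ((Fin (d - 1) ⊕ Fin (d - 1)) ⊕ Fin 2) F)) ≤ W := by
    intro μ hμp hμe hμs hoddp hone hno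
    have hreal : RealQ (⇑(Cfsg.Agent.Lib.Helper16.qfMinus (d - 1) F a b)) μ := by
      rw [hQcoe]
      exact omo_real_minus h2 (d - 1) a b hdisc μ (fun e he => (hμp e he).1) hμe (by omega) hoddp
    have := odn_unip_gen hp2 h2 (Cfsg.Agent.Lib.Helper16.qfMinus (d - 1) F a b)
      (Cfsg.Agent.Lib.Helper16.OSemi.qfMinus_nondeg (d - 1) a b hab)
      (by rw [hcard]; omega) μ hμp (by rw [hcard]; exact hμs) hreal hone m hno
    rw [hQcoe] at this
    exact this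
  obtain ⟨t, ht⟩ := hdo
  have hm4 : m % 4 = 1 ∨ m % 4 = 3 := by
    obtain ⟨s, hs⟩ := hm
    omega
  rcases hm4 with hm4 | hm4
  · obtain ⟨h1, h2', h3, h4', h5⟩ := odnunipplus_ms p 3 3 (d - 3) hp3 (Or.inr rfl) (Or.inr rfl) ⟨t - 1, by omega⟩ (by omega)
    refine hgen ({3, 3} + Multiset.replicate (d - 3) 2) h1 h2' (by rw [h3]; omega) h4' h5 ?_
    intro ν hν hνe hs
    have h6 := odn_comb_33 (d - 3) ν hν (hνe 2 (by decide)) (by rw [hs]; exact hm)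
    omega
  · obtain ⟨h1, h2', h3, h4', h5⟩ := odnunipplus_ms p 1 1 (d - 1) hp3 (Or.inl rfl) (Or.inl rfl) ⟨t, by omega⟩ (by omega)
    refine hgen ({1, 1} + Multiset.replicate (d - 1) 2) h1 h2' (by rw [h3]; omega) h4' h5 ?_
    intro ν hν hνe hs
    have h6 := odn_comb_11 (d - 1) ν hν (hνe 2 (by decide)) (by rw [hs]; exact hm)
    omega

end U

end Cfsg.Agent.Lib.Helper1.ODN
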