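import Mathlib
import Cfsg.Agent.Lib.Helper1.ODN.Defs
import Cfsg.Agent.Lib.Helper1.ODNUNIPPLUS
import Cfsg.Agent.Lib.Helper24.ODNSIMIL
import Cfsg.Agent.Lib.Helper24.ODNODDNOTSIM
import Cfsg.Agent.Lib.Helper24.ODNFROZEN
import Cfsg.Agent.Lib.Helper18.OmegaOdd
import Cfsg.Agent.Lib.Helper1.ODNUDISC

set_option autoImplicit false
set_option linter.unusedVariables false
set_option linter.unusedSectionVars false

namespace Cfsg.Agent.Lib.Helper1.ODN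

open Polynomial Module Cfsg.Agent.Lib.Helper13.S5955 Cfsg.Agent.Lib.helper15.S5972 Cfsg.Agent.Lib.Helper18.ONE
  Cfsg.Agent.Lib.Helper16.OSemi

section U
open Cfsg.Agent.Lib.helper14.JTa Cfsg.Agent.Lib.Helper9.OPH Cfsg.Agent.Lib.Helper1.OMO

/-- inverse of a similitude -/
theorem odnunipminuseven_inv {F : Type*} [Field F] {ι : Type} [Fintype ι] [DecidableEq ι] (Q : (ι → F) → F) (g : GL ι F)
    (lam : F) (hlam : lam ≠ 0) (hg : ∀ v, Q ((g : Matrix ι ι F).mulVec v) = lam * Q v) (v : ι → F) :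
    Q (((g⁻¹ : GL ι F) : Matrix ι ι F).mulVec v) = lam⁻¹ * Q v := by
  have h := hg (((g⁻¹ : GL ι F) : Matrix ι ι F).mulVec v)
  rw [Matrix.mulVec_mulVec, ← Units.val_mul, mul_inv_cancel, Units.val_one, Matrix.one_mulVec] at h
  rw [h]
  field_simp

/-- the conjugate of an isometry by a similitude is an isometry -/
theorem odnunipminuseven_conj_iso {F : Type*} [Field F] {ι : Type} [Fintype ι] [DecidableEq ι] (Q : (ι → F) → F) (g x : GL ι F)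
    (lam : F) (hlam : lam ≠ 0) (hg : ∀ v, Q ((g : Matrix ι ι F).mulVec v) = lam * Q v)
    (hx : ∀ v, Q ((x : Matrix ι ι F).mulVec v) = Q v) (v : ι → F) :
    Q (((g * x * g⁻¹ : GL ι F) : Matrix ι ι F).mulVec v) = Q v := by
  rw [Units.val_mul, Units.val_mul, ← Matrix.mulVec_mulVec, ← Matrix.mulVec_mulVec, hg, hx,
    odnunipminuseven_inv Q g lam hlam hg]
  field_simp

/-- self-similitude of `W''` out of an invariant subspace of the conjugate. -/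
theorem odnunipminuseven_sim {F : Type*} [Field F] {ι : Type} [Fintype ι] [DecidableEq ι] (Q : (ι → F) → F) (g : GL ι F)
    (lam : F) (hlam : lam ≠ 0) (hg : ∀ v, Q ((g : Matrix ι ι F).mulVec v) = lam * Q v) (W W₂ : Submodule F (ι → F))
    (hW₂ : W₂ = W.map (Matrix.toLin' ((g⁻¹ : GL ι F) : Matrix ι ι F))) :
    ∃ e : ↥W ≃ₗ[F] ↥W₂, ∀ w : ↥W, Q ((e w : ↥W₂) : ι → F) = lam⁻¹ * Q (w : ι → F) := by
  subst hW₂
  have hinj : Function.Injective (Matrix.toLin' ((g⁻¹ : GL ι F) : Matrix ι ι F)) := by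
    intro u v huv
    have h1 : ((g : GL ι F) : Matrix ι ι F).mulVec (((g⁻¹ : GL ι F) : Matrix ι ι F).mulVec u) =
        ((g : GL ι F) : Matrix ι ι F).mulVec (((g⁻¹ : GL ι F) : Matrix ι ι F).mulVec v) := by
      rw [Matrix.toLin'_apply, Matrix.toLin'_apply] at huv
      rw [huv]
    rw [Matrix.mulVec_mulVec, Matrix.mulVec_mulVec, ← Units.val_mul, mul_inv_cancel, Units.val_one, Matrix.one_mulVec,
      Matrix.one_mulVec] at h1
    exact h1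
  refine ⟨Submodule.equivMapOfInjective _ hinj W, ?_⟩
  intro w
  rw [Submodule.coe_equivMapOfInjective_apply, Matrix.toLin'_apply]
  exact odnunipminuseven_inv Q g lam hlam hg _

theorem odn_unip_minus_even {F : Type*} [Field F] [Fintype F] {p : ℕ} [Fact p.Prime] [CharP F p]
    (hodd : Odd (Fintype.card F)) (d m : ℕ) (hd : 4 ≤ d) (hde : Even d) (hm : Odd m) (hmd : m < d) (a b : F)
    (hab : ∀ x y : F, x ^ 2 + a * x * y + b * y ^ 2 = 0 → x = 0 ∧ y = 0)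
    (W₀ : Submodule F ((Fin (d - 1) ⊕ Fin (d - 1)) ⊕ Fin 2 → F))
    (hW₀ : finrank F ↥W₀ = m ∧ Cfsg.Geo.IsNondegenerateOn (QuadraticMap.polar (Cfsg.quadFormMinus (d - 1) F a b)) W₀) :
    ∃ x : GL ((Fin (d - 1) ⊕ Fin (d - 1)) ⊕ Fin 2) F, x ∈ Cfsg.Geo.omegaGL (Cfsg.quadFormMinus (d - 1) F a b) ∧ x ^ p = 1 ∧
      (∀ z : F, (x : Matrix ((Fin (d - 1) ⊕ Fin (d - 1)) ⊕ Fin 2) ((Fin (d - 1) ⊕ Fin (d - 1)) ⊕ Fin 2) F) ≠
        z • (1 : Matrix ((Fin (d - 1) ⊕ Fin (d - 1)) ⊕ Fin 2) ((Fin (d - 1) ⊕ Fin (d - 1)) ⊕ Fin 2) F)) ∧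
      ∀ W : Submodule F ((Fin (d - 1) ⊕ Fin (d - 1)) ⊕ Fin 2 → F),
        (finrank F W = m ∧ Cfsg.Geo.IsNondegenerateOn (QuadraticMap.polar (Cfsg.quadFormMinus (d - 1) F a b)) W ∧
          Cfsg.Geo.AreIsometricFor (Cfsg.quadFormMinus (d - 1) F a b) W W₀) →
        ¬ W.map (Matrix.toLin' (x : Matrix ((Fin (d - 1) ⊕ Fin (d - 1)) ⊕ Fin 2) ((Fin (d - 1) ⊕ Fin (d - 1)) ⊕ Fin 2) F)) ≤ W := by
  classical
  obtain ⟨hp2, hp3, h2⟩ := odnunipplus_char (F := F) (p := p) hodd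
  have hpodd : Odd p := (Fact.out : p.Prime).odd_of_ne_two hp2
  have h4 : (4 : F) ≠ 0 := by
    have : (4 : F) = 2 * 2 := by norm_num
    rw [this]
    exact mul_ne_zero h2 h2
  have hdisc : b - a ^ 2 / 4 ≠ 0 := by
    intro h
    have hb : b = a ^ 2 / 4 := sub_eq_zero.mp h
    have h5 := hab (-(a / 2)) 1 (by rw [hb]; field_simp; ring)
    exact one_ne_zero h5.2
  have hcard : Fintype.card ((Fin (d - 1) ⊕ Fin (d - 1)) ⊕ Fin 2) = 2 * d := by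
    simp
    omega
  obtain ⟨t, ht⟩ := hde
  have hQcoe : ⇑(Cfsg.Agent.Lib.Helper16.qfMinus (d - 1) F a b) = Cfsg.quadFormMinus (d - 1) F a b :=
    Cfsg.Agent.Lib.Helper16.qfMinus_coe (d - 1) F a b
  have hQnd := Cfsg.Agent.Lib.Helper16.OSemi.qfMinus_nondeg (d - 1) a b hab
  obtain ⟨h1, h2', h3, h4', h5⟩ := odnunipplus_ms p 3 1 (d - 2) hp3 (Or.inr rfl) (Or.inl rfl) ⟨t - 1, by omega⟩ (by omega)
  have hreal : RealQ (⇑(Cfsg.Agent.Lib.Helper16.qfMinus (d - 1) F a b)) ({3, 1} + Multiset.replicate (d - 2) 2) := by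
    rw [hQcoe]
    exact omo_real_minus h2 (d - 1) a b hdisc _ (fun e he => (h1 e he).1) h2' (by rw [h3]; omega) h4'
  obtain ⟨x₀, hxΩ, hxp, hx1, hns, hxiso, hxK, hxty⟩ := omomain_key hp2 h2 (Cfsg.Agent.Lib.Helper16.qfMinus (d - 1) F a b) hQnd
    (by rw [hcard]; omega) _ h1 (by rw [hcard, h3]; omega) hreal h5
  rw [hQcoe] at hxΩ hxiso
  by_cases hfix : ∃ W : Submodule F ((Fin (d - 1) ⊕ Fin (d - 1)) ⊕ Fin 2 → F),
        (finrank F W = m ∧ Cfsg.Geo.IsNondegenerateOn (QuadraticMap.polar (Cfsg.quadFormMinus (d - 1) F a b)) W ∧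
          Cfsg.Geo.AreIsometricFor (Cfsg.quadFormMinus (d - 1) F a b) W W₀) ∧
        W.map (Matrix.toLin' (x₀ : Matrix ((Fin (d - 1) ⊕ Fin (d - 1)) ⊕ Fin 2) ((Fin (d - 1) ⊕ Fin (d - 1)) ⊕ Fin 2) F)) ≤ W
  swap
  · exact ⟨x₀, hxΩ, hxp, hns, fun W hW hxW => hfix ⟨W, hW, hxW⟩⟩
  obtain ⟨W₁, ⟨hW₁m, hW₁nd, hW₁iso⟩, hxW₁⟩ := hfix
  obtain ⟨g, lam, hlam, hg⟩ := odn_simil h2 (d - 1) a b hab
  have hlam0 : lam ≠ 0 := by
    rintro rfl
    exact hlam ⟨0, by simp⟩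
  have hlam' : ¬ IsSquare lam⁻¹ := by
    rintro ⟨s, hs⟩
    apply hlam
    refine ⟨s⁻¹, ?_⟩
    rw [← mul_inv, ← hs, inv_inv]
  have hx'iso := odnunipminuseven_conj_iso (Cfsg.quadFormMinus (d - 1) F a b) g x₀ lam hlam0 hg hxiso
  have hx'p : (g * x₀ * g⁻¹) ^ p = 1 := by
    rw [_root_.conj_pow, hxp]
    simp
  refine ⟨g * x₀ * g⁻¹, ?_, hx'p, ?_, ?_⟩
  · have := Cfsg.Agent.Lib.Helper18.OmegaOdd.omegaodd_mem h2 (Cfsg.Agent.Lib.Helper16.qfMinus (d - 1) F a b) hQnd (g * x₀ * g⁻¹)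
      ((Cfsg.Agent.Lib.Helper16.mem_iso_iff _ _).mpr (by rw [hQcoe]; exact hx'iso)) p hpodd hx'p
    rw [hQcoe] at this
    exact this
  · intro z hz
    apply hns z
    have h6 : x₀ = g⁻¹ * (g * x₀ * g⁻¹) * g := by group
    rw [h6, Units.val_mul, Units.val_mul, hz]
    rw [Matrix.mul_smul, Matrix.mul_one, Matrix.smul_mul, ← Units.val_mul, inv_mul_cancel, Units.val_one]
  · rintro W'' ⟨hWm, hWnd, hWiso⟩ hxW
    -- W₂ := g⁻¹ W''
    obtain ⟨W₂, hW₂⟩ : ∃ W₂, W₂ = W''.map (Matrix.toLin' ((g⁻¹ : GL _ F) : Matrix ((Fin (d - 1) ⊕ Fin (d - 1)) ⊕ Fin 2) ((Fin (d - 1) ⊕ Fin (d - 1)) ⊕ Fin 2) F)) := ⟨_, rfl⟩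
    obtain ⟨eg, heg⟩ := odnunipminuseven_sim (Cfsg.quadFormMinus (d - 1) F a b) g lam hlam0 hg W'' W₂ hW₂
    have hW₂m : finrank F W₂ = m := by rw [← hWm]; exact (LinearEquiv.finrank_eq eg).symm
    have hfro := fun W W' => odn_frozen h2 (Cfsg.Agent.Lib.Helper16.qfMinus (d - 1) F a b) W W'
    have hpol : ∀ u v, QuadraticMap.polar (Cfsg.quadFormMinus (d - 1) F a b)
        (((g⁻¹ : GL _ F) : Matrix ((Fin (d - 1) ⊕ Fin (d - 1)) ⊕ Fin 2) ((Fin (d - 1) ⊕ Fin (d - 1)) ⊕ Fin 2) F).mulVec u)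
        (((g⁻¹ : GL _ F) : Matrix ((Fin (d - 1) ⊕ Fin (d - 1)) ⊕ Fin 2) ((Fin (d - 1) ⊕ Fin (d - 1)) ⊕ Fin 2) F).mulVec v) =
        lam⁻¹ * QuadraticMap.polar (Cfsg.quadFormMinus (d - 1) F a b) u v := by
      intro u v
      unfold QuadraticMap.polar
      rw [← Matrix.mulVec_add, odnunipminuseven_inv _ g lam hlam0 hg, odnunipminuseven_inv _ g lam hlam0 hg,
        odnunipminuseven_inv _ g lam hlam0 hg]
      ring
    have hW₂nd : Cfsg.Geo.IsNondegenerateOn (QuadraticMap.polar (Cfsg.quadFormMinus (d - 1) F a b)) W₂ := by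
      intro w hw hw0
      rw [hW₂] at hw ⊢
      obtain ⟨w'', hw'', rfl⟩ := hw
      have hw''0 : w'' ≠ 0 := by
        rintro rfl
        exact hw0 (map_zero _)
      obtain ⟨⟨y, hy, hy0⟩, ⟨y', hy', hy'0⟩⟩ := hWnd w'' hw'' hw''0
      refine ⟨⟨_, Submodule.mem_map_of_mem hy, ?_⟩, ⟨_, Submodule.mem_map_of_mem hy', ?_⟩⟩
      · rw [Matrix.toLin'_apply, Matrix.toLin'_apply, hpol]
        exact mul_ne_zero (inv_ne_zero hlam0) hy0
      · rw [Matrix.toLin'_apply, Matrix.toLin'_apply, hpol]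
        exact mul_ne_zero (inv_ne_zero hlam0) hy'0
    have hxW₂ : W₂.map (Matrix.toLin' (x₀ : Matrix ((Fin (d - 1) ⊕ Fin (d - 1)) ⊕ Fin 2) ((Fin (d - 1) ⊕ Fin (d - 1)) ⊕ Fin 2) F)) ≤ W₂ := by
      rw [hW₂]
      rintro _ ⟨_, ⟨w'', hw'', rfl⟩, rfl⟩
      have h7 := hxW (Submodule.mem_map_of_mem hw'')
      refine ⟨_, h7, ?_⟩
      rw [Matrix.toLin'_apply, Matrix.toLin'_apply, Matrix.toLin'_apply, Matrix.toLin'_apply, Matrix.mulVec_mulVec,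
        Matrix.mulVec_mulVec, ← Units.val_mul, ← Units.val_mul]
      congr 2
      group
    have hud : Cfsg.Geo.AreIsometricFor (Cfsg.quadFormMinus (d - 1) F a b) W₂ W₁ := by
      have := odn_udisc h2 (Cfsg.Agent.Lib.Helper16.qfMinus (d - 1) F a b) hQnd
        (x₀ : Matrix ((Fin (d - 1) ⊕ Fin (d - 1)) ⊕ Fin 2) ((Fin (d - 1) ⊕ Fin (d - 1)) ⊕ Fin 2) F) ⟨x₀, rfl⟩
        (by rw [hQcoe]; exact hxiso) p hxK (d - 2) ⟨t - 1, by omega⟩ (by rw [hcard]; omega) hxty W₂ W₁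
        (by rw [hQcoe]; exact hW₂nd) (by rw [hQcoe]; exact hW₁nd) hxW₂ hxW₁ (by rw [hW₂m, hW₁m]) (by rw [hW₂m]; exact hm)
      rw [hQcoe] at this
      exact this
    obtain ⟨e₁, he₁⟩ := hud
    obtain ⟨e₂, he₂⟩ := hW₁iso
    obtain ⟨e₃, he₃⟩ := hWiso
    have hsnd : SND (QuadraticMap.polarBilin (Cfsg.Agent.Lib.Helper16.qfMinus (d - 1) F a b)) W'' :=
      ((hfro W'' W'').1).mp (by rw [hQcoe]; exact hWnd)
    refine odd_not_sim h2 (QuadraticMap.polarBilin (Cfsg.Agent.Lib.Helper16.qfMinus (d - 1) F a b))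
      (fun u v => QuadraticMap.polar_comm _ u v) W'' hsnd (by rw [hWm]; exact hm) lam⁻¹ hlam'
      ⟨((eg.trans e₁).trans e₂).trans e₃.symm, ?_⟩
    intro w
    have h8 : ∀ v : (Fin (d - 1) ⊕ Fin (d - 1)) ⊕ Fin 2 → F,
        QuadraticMap.polarBilin (Cfsg.Agent.Lib.Helper16.qfMinus (d - 1) F a b) v v = 2 * Cfsg.quadFormMinus (d - 1) F a b v := by
      intro v
      rw [← hQcoe]
      simp [QuadraticMap.polarBilin_apply_apply, QuadraticMap.polar_self]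
    rw [h8, h8]
    have h9 : Cfsg.quadFormMinus (d - 1) F a b ((((((eg.trans e₁).trans e₂).trans e₃.symm) w : ↥W'') : (Fin (d - 1) ⊕ Fin (d - 1)) ⊕ Fin 2 → F)) =
        lam⁻¹ * Cfsg.quadFormMinus (d - 1) F a b (w : (Fin (d - 1) ⊕ Fin (d - 1)) ⊕ Fin 2 → F) := by
      rw [← heg w, ← he₁ (eg w), ← he₂ (e₁ (eg w))]
      have := he₃ (e₃.symm (e₂ (e₁ (eg w))))
      rw [LinearEquiv.apply_symm_apply] at this
      exact this.symm
    rw [h9]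
    ring

end U

end Cfsg.Agent.Lib.Helper1.ODN
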