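import Mathlib
import Cfsg.Prelude.Def_Classical
import Cfsg.Agent.Lib.Helper28.STDK3
import Cfsg.Agent.Lib.Helper28.OMMO10

/-!
# Project OMP (S2295), row K4 (helper1): the recognition criterion for `Ω⁺_{2n}(F)`.

A group `G` with a Steinberg system of type `D_n` (lead's `SysD`) satisfying the spin relation and generating `G`,
and a homomorphism `π : G →* Ω⁺_{2n}(F)` sending the root elements to the elementary orthogonal matrices `Td a b t`:
then `π` is bijective (injective by STD K3 `SysD.Rep.injective`, surjective by OMM O10b `omega_eq_closure`).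
-/

set_option autoImplicit false

namespace Cfsg.Agent.Lib.Helper1.OMP

open Matrix Cfsg.Agent.Lib.helper3.STC Cfsg.Agent.Lib.Lead.STD Cfsg.Agent.Lib.Helper28.OMM

universe u w

/-- the matrix of an element of `Ω` -/
def omat {F : Type u} [Field F] {n : ℕ} (g : Cfsg.Omega F (Cfsg.quadFormPlus n F)) :
    Matrix (Fin n ⊕ Fin n) (Fin n ⊕ Fin n) F :=
  (((g : Cfsg.isometryGroup F (Cfsg.quadFormPlus n F)) : Matrix.GeneralLinearGroup (Fin n ⊕ Fin n) F) :
    Matrix (Fin n ⊕ Fin n) (Fin n ⊕ Fin n) F)

theorem omat_mul {F : Type u} [Field F] {n : ℕ} (g h : Cfsg.Omega F (Cfsg.quadFormPlus n F)) :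
    omat (g * h) = omat g * omat h := rfl

theorem omat_one {F : Type u} [Field F] {n : ℕ} : omat (1 : Cfsg.Omega F (Cfsg.quadFormPlus n F)) = 1 := rfl

theorem omat_injective {F : Type u} [Field F] {n : ℕ} :
    Function.Injective (omat : Cfsg.Omega F (Cfsg.quadFormPlus n F) → _) := by
  intro g h e
  apply Subtype.ext
  apply Subtype.ext
  apply Units.ext
  exact e

/-- the coercion `Ω →* GL` -/
def ogl {F : Type u} [Field F] {n : ℕ} :
    Cfsg.Omega F (Cfsg.quadFormPlus n F) →* Matrix.GeneralLinearGroup (Fin n ⊕ Fin n) F :=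
  (Subgroup.subtype _).comp (Subgroup.subtype _)

/-- K4: the recognition criterion -/
theorem omp_bijective_of_sysD {F : Type u} [Field F] [Fintype F] {n : ℕ} (hn : 4 ≤ n) {G : Type w} [Group G]
    (S : SysD F (Fin n) G) (hS : S.Spin) (hgen : S.XQ (fun _ _ => True) = ⊤)
    (π : G →* Cfsg.Omega F (Cfsg.quadFormPlus n F))
    (hπ : ∀ a b : Fin n ⊕ Fin n, a ≠ b → a ≠ ng b → ∀ t : F, omat (π (S.x a b t)) = Td a b t) :
    Function.Bijective π := by
  constructor
  · -- injective: STD K3
    let R : S.Rep (Fin n) :=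
      { e := Function.Embedding.refl (Fin n)
        φ := ogl.comp π
        hφ := by
          intro a b hab hab' t
          have h1 : Em (Function.Embedding.refl (Fin n)) a = a := by cases a <;> rfl
          have h2 : Em (Function.Embedding.refl (Fin n)) b = b := by cases b <;> rfl
          rw [h1, h2]
          exact hπ a b hab hab' t }
    have hinj := SysD.Rep.injective R hS hgen
    intro x y e
    apply hinj
    show ogl (π x) = ogl (π y)
    rw [e]
  · -- surjective: OMM O10b
    intro ω
    have hle : Cfsg.Omega F (Cfsg.quadFormPlus n F) ≤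
        (π.range).map (Subgroup.subtype (Cfsg.Omega F (Cfsg.quadFormPlus n F))) := by
      conv_lhs => rw [omega_eq_closure hn]
      rw [Subgroup.closure_le]
      rintro g ⟨a, b, t, hab, hab', hg⟩
      refine ⟨π (S.x a b t), ⟨_, rfl⟩, ?_⟩
      apply Subtype.ext
      apply Units.ext
      rw [hg]
      exact hπ a b hab hab' t
    obtain ⟨ω', ⟨x, hx⟩, hω'⟩ := hle ω.2
    refine ⟨x, ?_⟩
    rw [hx]
    exact Subtype.ext hω'

end Cfsg.Agent.Lib.Helper1.OMP
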