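import Mathlib
import Cfsg.Agent.Lib.Helper12.OMB.Defs
import Cfsg.Agent.Lib.Lead.STB.Defs2

/-!
# Project OMB (designer helper12), rows G11a, G11 (helper1): CORES

Generic in a matrix system `S₀ : SysB F (Fin l) (GL (Ix (Fin l)) F)` whose root elements have the matrices `TbL a b t`, `TbS a t`
(to be instantiated at `matSysB F (Fin l)` of block M, with `matSysB_x`, `matSysB_xs`):
* `ombg11a_core` : `S₀.XQ ⊤ ⊤ = EOB l F`;
* `ombg11_core`  : from `hG9 : omegaGL (quadFormOdd l F) = EOB l F` (the statement of G9), the system of `Ω_{2l+1}(F)`.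
-/

set_option autoImplicit false

namespace Cfsg.Agent.Lib.Helper12.OMB

open Matrix Cfsg.Agent.Lib.helper15.St2 Cfsg.Agent.Lib.helper3.STC Cfsg.Agent.Lib.Lead.STD Cfsg.Agent.Lib.Lead.STB

universe u w

section G

variable {l : ℕ} {F : Type u} [Field F]

/-- G11a core -/
theorem ombg11a_core (S₀ : SysB F (Fin l) (Matrix.GeneralLinearGroup (Ix (Fin l)) F))
    (hx : ∀ a b : Fin l ⊕ Fin l, a ≠ b → a ≠ ng b → ∀ t : F,
      ((S₀.x a b t : Matrix.GeneralLinearGroup (Ix (Fin l)) F) : Matrix (Ix (Fin l)) (Ix (Fin l)) F) = TbL a b t)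
    (hxs : ∀ (a : Fin l ⊕ Fin l) (t : F),
      ((S₀.xs a t : Matrix.GeneralLinearGroup (Ix (Fin l)) F) : Matrix (Ix (Fin l)) (Ix (Fin l)) F) = TbS a t) :
    S₀.XQ (fun _ _ => True) (fun _ => True) = EOB l F := by
  unfold SysB.XQ EOB
  congr 1
  ext M
  constructor
  · rintro (⟨a, b, t, hab, hab', -, rfl⟩ | ⟨a, t, -, rfl⟩)
    · exact Or.inl ⟨a, b, t, hab, hab', hx a b hab hab' t⟩
    · exact Or.inr ⟨a, t, hxs a t⟩
  · rintro (⟨a, b, t, hab, hab', hM⟩ | ⟨a, t, hM⟩)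
    · exact Or.inl ⟨a, b, t, hab, hab', trivial, Units.ext (hM.trans (hx a b hab hab' t).symm)⟩
    · exact Or.inr ⟨a, t, trivial, Units.ext (hM.trans (hxs a t).symm)⟩

/-- the root elements of `S₀` lie in `EOB` -/
theorem ombg11_x_mem (S₀ : SysB F (Fin l) (Matrix.GeneralLinearGroup (Ix (Fin l)) F))
    (hx : ∀ a b : Fin l ⊕ Fin l, a ≠ b → a ≠ ng b → ∀ t : F,
      ((S₀.x a b t : Matrix.GeneralLinearGroup (Ix (Fin l)) F) : Matrix (Ix (Fin l)) (Ix (Fin l)) F) = TbL a b t)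
    (a b : Fin l ⊕ Fin l) (t : F) : S₀.x a b t ∈ EOB l F := by
  by_cases hab : a = b
  · subst hab
    rw [S₀.diag]
    exact Subgroup.one_mem _
  by_cases hab' : a = ng b
  · have e : b = ng a := by rw [hab']; cases b <;> rfl
    rw [e, S₀.opp]
    exact Subgroup.one_mem _
  · exact Subgroup.subset_closure (Or.inl ⟨a, b, t, hab, hab', hx a b hab hab' t⟩)

theorem ombg11_xs_mem (S₀ : SysB F (Fin l) (Matrix.GeneralLinearGroup (Ix (Fin l)) F))
    (hxs : ∀ (a : Fin l ⊕ Fin l) (t : F),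
      ((S₀.xs a t : Matrix.GeneralLinearGroup (Ix (Fin l)) F) : Matrix (Ix (Fin l)) (Ix (Fin l)) F) = TbS a t)
    (a : Fin l ⊕ Fin l) (t : F) : S₀.xs a t ∈ EOB l F :=
  Subgroup.subset_closure (Or.inr ⟨a, t, hxs a t⟩)

/-- the isomorphism `EOB ≃* Ω` from the statement of G9 -/
theorem ombg11_kappa (hG9 : Cfsg.Geo.omegaGL (Cfsg.quadFormOdd l F) = EOB l F) :
    ∃ κ : ↥(EOB l F) ≃* ↥(Cfsg.Omega F (Cfsg.quadFormOdd l F)),
      ∀ x : ↥(EOB l F), omatB (κ x) =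
        ((x : Matrix.GeneralLinearGroup (Ix (Fin l)) F) : Matrix (Ix (Fin l)) (Ix (Fin l)) F) := by
  have hinj : Function.Injective (Cfsg.isometryGroup F (Cfsg.quadFormOdd l F)).subtype :=
    Subgroup.subtype_injective _
  have hEq : EOB l F =
      (Cfsg.Omega F (Cfsg.quadFormOdd l F)).map (Cfsg.isometryGroup F (Cfsg.quadFormOdd l F)).subtype :=
    hG9.symm
  let e2 := Subgroup.equivMapOfInjective (Cfsg.Omega F (Cfsg.quadFormOdd l F))
    (Cfsg.isometryGroup F (Cfsg.quadFormOdd l F)).subtype hinj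
  let e3 := MulEquiv.subgroupCongr hEq
  refine ⟨e3.trans e2.symm, ?_⟩
  intro x
  have h1 : (e2 ((e3.trans e2.symm) x) : Matrix.GeneralLinearGroup (Ix (Fin l)) F) =
      (x : Matrix.GeneralLinearGroup (Ix (Fin l)) F) := by
    simp only [MulEquiv.trans_apply, MulEquiv.apply_symm_apply]
    rfl
  have h2 : (e2 ((e3.trans e2.symm) x) : Matrix.GeneralLinearGroup (Ix (Fin l)) F) =
      ((((e3.trans e2.symm) x : Cfsg.Omega F (Cfsg.quadFormOdd l F)) :
        Cfsg.isometryGroup F (Cfsg.quadFormOdd l F)) : Matrix.GeneralLinearGroup (Ix (Fin l)) F) := rfl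
  unfold omatB
  rw [← h2, h1]

/-- G11 core -/
theorem ombg11_core (S₀ : SysB F (Fin l) (Matrix.GeneralLinearGroup (Ix (Fin l)) F))
    (hx : ∀ a b : Fin l ⊕ Fin l, a ≠ b → a ≠ ng b → ∀ t : F,
      ((S₀.x a b t : Matrix.GeneralLinearGroup (Ix (Fin l)) F) : Matrix (Ix (Fin l)) (Ix (Fin l)) F) = TbL a b t)
    (hxs : ∀ (a : Fin l ⊕ Fin l) (t : F),
      ((S₀.xs a t : Matrix.GeneralLinearGroup (Ix (Fin l)) F) : Matrix (Ix (Fin l)) (Ix (Fin l)) F) = TbS a t)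
    (hG9 : Cfsg.Geo.omegaGL (Cfsg.quadFormOdd l F) = EOB l F) :
    ∃ S : SysB F (Fin l) ↥(Cfsg.Omega F (Cfsg.quadFormOdd l F)),
      S.XQ (fun _ _ => True) (fun _ => True) = ⊤ ∧
      (∀ a b : Fin l ⊕ Fin l, a ≠ b → a ≠ ng b → ∀ t : F, omatB (S.x a b t) = TbL a b t) ∧
      ∀ (a : Fin l ⊕ Fin l) (t : F), omatB (S.xs a t) = TbS a t := by
  obtain ⟨κ, hκ⟩ := ombg11_kappa (l := l) (F := F) hG9
  refine ⟨(S₀.restrict (EOB l F) (ombg11_x_mem S₀ hx) (ombg11_xs_mem S₀ hxs)).map κ.toMonoidHom, ?_, ?_, ?_⟩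
  · rw [eq_top_iff]
    have h1 : (⊤ : Subgroup ↥(Cfsg.Omega F (Cfsg.quadFormOdd l F))) =
        Subgroup.map κ.toMonoidHom ⊤ := (Subgroup.map_top_of_surjective _ κ.surjective).symm
    have h2 : Subgroup.closure (((↑) : ↥(EOB l F) → Matrix.GeneralLinearGroup (Ix (Fin l)) F) ⁻¹'
        {M | (∃ (a b : Fin l ⊕ Fin l) (t : F), a ≠ b ∧ a ≠ ng b ∧
          (M : Matrix (Ix (Fin l)) (Ix (Fin l)) F) = TbL a b t) ∨
          ∃ (a : Fin l ⊕ Fin l) (t : F), (M : Matrix (Ix (Fin l)) (Ix (Fin l)) F) = TbS a t}) = ⊤ :=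
      Subgroup.closure_closure_coe_preimage
    rw [h1, ← h2, MonoidHom.map_closure, Subgroup.closure_le]
    rintro _ ⟨x, hx', rfl⟩
    rcases hx' with ⟨a, b, t, hab, hab', hM⟩ | ⟨a, t, hM⟩
    · apply Subgroup.subset_closure
      refine Or.inl ⟨a, b, t, hab, hab', trivial, ?_⟩
      show κ x = κ ⟨S₀.x a b t, _⟩
      congr 1
      exact Subtype.ext (Units.ext (hM.trans (hx a b hab hab' t).symm))
    · apply Subgroup.subset_closure
      refine Or.inr ⟨a, t, trivial, ?_⟩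
      show κ x = κ ⟨S₀.xs a t, _⟩
      congr 1
      exact Subtype.ext (Units.ext (hM.trans (hxs a t).symm))
  · intro a b hab hab' t
    show omatB (κ ⟨S₀.x a b t, _⟩) = TbL a b t
    rw [hκ]
    exact hx a b hab hab' t
  · intro a t
    show omatB (κ ⟨S₀.xs a t, _⟩) = TbS a t
    rw [hκ]
    exact hxs a t

end G

end Cfsg.Agent.Lib.Helper12.OMB
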