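import Mathlib
import Cfsg.Agent.Lib.Helper12.OMB.Defs
import Cfsg.Agent.Lib.Helper12.OMB.Mat
import Cfsg.Agent.Lib.Helper1.OMBG11core

/-!
# Project OMB (designer helper12), row G11a (helper1), VERBATIM: `matSysB_XQ`
-/

set_option autoImplicit false

namespace Cfsg.Agent.Lib.Helper12.OMB

open Matrix Cfsg.Agent.Lib.helper15.St2 Cfsg.Agent.Lib.helper3.STC Cfsg.Agent.Lib.Lead.STD Cfsg.Agent.Lib.Lead.STB

universe u w

section G

variable {l : ℕ} {F : Type u} [Field F]

/-- G11a [S-M]  `(matSysB F (Fin l)).XQ ⊤ ⊤ = EOB l F` as subgroups of `GL`. -/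
theorem matSysB_XQ : (matSysB F (Fin l)).XQ (fun _ _ => True) (fun _ => True) = EOB l F :=
  ombg11a_core (matSysB F (Fin l)) (fun _ _ hab hab' t => matSysB_x hab hab' t) (fun a t => matSysB_xs a t)

end G

end Cfsg.Agent.Lib.Helper12.OMB
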