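import Mathlib
import Cfsg.Agent.Lib.Helper12.OMB.Defs
import Cfsg.Agent.Lib.helper4.OMBV1
import Cfsg.Agent.Lib.Helper26.OMBV3

/-!
# Project OMB (designer helper12), row G3 (helper1), VERBATIM: `isSgB_embGL`, `EO_map_le`
-/

set_option autoImplicit false

namespace Cfsg.Agent.Lib.Helper12.OMB

open Matrix Cfsg.Agent.Lib.helper15.St2 Cfsg.Agent.Lib.helper3.STC Cfsg.Agent.Lib.Lead.STD Cfsg.Agent.Lib.Lead.STB
  Cfsg.Agent.Lib.Helper28.OMM

universe u w

section G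

variable {l : ℕ} {F : Type u} [Field F]

/-- G3 [S-M]  `embGL_coe`, `embM_mulVec`, `bB_ex0_left`: both sides are `Sum.elim (x i0) (sgAct u v c (x ∘ inr))`. -/
theorem isSgB_embGL {k : Matrix.GeneralLinearGroup (Fin l ⊕ Fin l) F} {u v : Fin l ⊕ Fin l → F} {c : F}
    (h : IsSgP k u v c) : IsSgB (embGL F (Fin l) k) (ex0 u) (ex0 v) c := by
  intro x
  rw [embGL_coe, embM_mulVec, h]
  unfold sgActB sgAct
  rw [bB_ex0_left, bB_ex0_left]
  funext i
  rcases i with i | i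
  · simp [ex0]
  · simp [ex0]

/-- G3b [S] -/
theorem EO_map_le : (EO l F).map (embGL F (Fin l)) ≤ EOB l F := by
  rw [Subgroup.map_le_iff_le_comap]
  unfold EO
  rw [Subgroup.closure_le]
  rintro M ⟨a, b, t, hab, hab', hM⟩
  show embGL F (Fin l) M ∈ EOB l F
  apply Subgroup.subset_closure
  left
  refine ⟨a, b, t, hab, hab', ?_⟩
  rw [embGL_coe, hM, embM_Td]

end G

end Cfsg.Agent.Lib.Helper12.OMB
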