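import Mathlib
import Cfsg.Agent.Lib.Helper12.OMB.Defs
import Cfsg.Agent.Lib.helper4.OMBV1
import Cfsg.Agent.Lib.Helper26.OMBG2
import Cfsg.Agent.Lib.Helper1.OMBG3
import Cfsg.Agent.Lib.Helper18.OMBG4
import Cfsg.Agent.Lib.Helper12.OMMO7
import Cfsg.Agent.Lib.Helper26.OMMO8
import Cfsg.Agent.Lib.Helper22.OMMO2
import Cfsg.Agent.Lib.Helper22.OMMO0

/-!
# Project OMB (designer helper12), row G5 (helper1), VERBATIM: `siegel0_mem_EOB` — Siegel elements inside the hyperplane `e_0^⊥` lie in `EOB`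

Extras: `ombg5_of_conj` (`k ∈ EOB`, `k * t * k⁻¹ ∈ EOB → t ∈ EOB`), `ombg5_ex0_zero`.
-/

set_option autoImplicit false

namespace Cfsg.Agent.Lib.Helper12.OMB

open Matrix Cfsg.Agent.Lib.helper15.St2 Cfsg.Agent.Lib.helper3.STC Cfsg.Agent.Lib.Lead.STD Cfsg.Agent.Lib.Lead.STB
  Cfsg.Agent.Lib.Lead.SPN Cfsg.Agent.Lib.Helper28.CTD Cfsg.Agent.Lib.Helper28.OMM

universe u w

section G

variable {l : ℕ} {F : Type u} [Field F]

theorem ombg5_of_conj {k t : Matrix.GeneralLinearGroup (Ix (Fin l)) F} (hk : k ∈ EOB l F)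
    (h : k * t * k⁻¹ ∈ EOB l F) : t ∈ EOB l F := by
  have e : t = k⁻¹ * (k * t * k⁻¹) * k := by group
  rw [e]
  exact Subgroup.mul_mem _ (Subgroup.mul_mem _ (Subgroup.inv_mem _ hk) h) hk

theorem ombg5_ex0_zero {ι : Type w} : ex0 (0 : ι ⊕ ι → F) = 0 := by
  funext k
  rcases k with k | k <;> rfl

/-- G5 [M]  **Siegel elements inside the hyperplane `e_0^⊥`.** -/
theorem siegel0_mem_EOB (hl : 3 ≤ l) (t : Matrix.GeneralLinearGroup (Ix (Fin l)) F) (u v : Fin l ⊕ Fin l → F) (c : F)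
    (hu : Cfsg.quadFormPlus l F u = 0) (hv : Cfsg.quadFormPlus l F v = 0) (huv : bP u v = 0)
    (ht : IsSgB t (ex0 u) (ex0 v) c) : t ∈ EOB l F := by
  by_cases hu0 : u = 0
  · subst hu0
    rw [ombg5_ex0_zero] at ht
    rw [isSgB_zero ht]
    exact Subgroup.one_mem _
  obtain ⟨k, hk, hku⟩ := EO_trans hl u hu0 hu
  have hK : embGL F (Fin l) k ∈ EOB l F := EO_map_le (Subgroup.mem_map_of_mem _ hk)
  have hKiso := EOB_iso (embGL F (Fin l) k) hK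
  have h1 := isSgB_conj hKiso ht
  rw [embGL_coe, embM_mulVec_ex0, embM_mulVec_ex0, hku] at h1
  have hkiso := EO_iso k hk
  have hQv' : Cfsg.quadFormPlus l F ((k : Matrix (Fin l ⊕ Fin l) (Fin l ⊕ Fin l) F) *ᵥ v) = 0 := by
    rw [hkiso, hv]
  have hbP : bP (Pi.single (Sum.inl ⟨0, by omega⟩) 1) ((k : Matrix (Fin l ⊕ Fin l) (Fin l ⊕ Fin l) F) *ᵥ v) = 0 := by
    rw [← hku, bP_of_iso hkiso, huv]
  obtain ⟨k', hk', hsg⟩ := siegel_at_e0 hl _ c hQv' hbP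
  have h2 := isSgB_embGL hsg
  have e := isSgB_ext h1 h2
  apply ombg5_of_conj hK
  rw [e]
  exact EO_map_le (Subgroup.mem_map_of_mem _ hk')

end G

end Cfsg.Agent.Lib.Helper12.OMB
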