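import Mathlib
import Cfsg.Agent.Lib.Helper12.OMB.Defs
import Cfsg.Agent.Lib.helper4.OMBV1

/-!
# Project OMB (designer helper12), row G6 (helper1): CORES of `exists_kill0`, `exists_kill0_fix`

Hypothesis `hS : ∀ b s, ∃ k ∈ EOB l F, k.1 = TbS b s` (from `tbS`, `tbS_coe` of block M1).
-/

set_option autoImplicit false

namespace Cfsg.Agent.Lib.Helper12.OMB

open Matrix Cfsg.Agent.Lib.helper15.St2 Cfsg.Agent.Lib.helper3.STC Cfsg.Agent.Lib.Lead.STD Cfsg.Agent.Lib.Lead.STB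

universe u w

section G

variable {l : ℕ} {F : Type u} [Field F]

/-- a singular vector with nonzero coordinate `0` has a hyperbolic pair of nonzero coordinates -/
theorem ombg6_exists_pair (x : Ix (Fin l) → F) (hQ : Cfsg.quadFormOdd l F x = 0) (h0 : x i0 ≠ 0) :
    ∃ i : Fin l, x (Sum.inr (Sum.inl i)) * x (Sum.inr (Sum.inr i)) ≠ 0 := by
  unfold Cfsg.quadFormOdd at hQ
  have hs : ∑ i : Fin l, x (Sum.inr (Sum.inl i)) * x (Sum.inr (Sum.inr i)) ≠ 0 := by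
    intro h
    rw [h, add_zero] at hQ
    exact h0 ((pow_eq_zero_iff (two_ne_zero)).1 hQ)
  obtain ⟨i, -, hi⟩ := Finset.exists_ne_zero_of_sum_ne_zero hs
  exact ⟨i, hi⟩

theorem ombg6_kill0_core (hS : ∀ (b : Fin l ⊕ Fin l) (s : F), ∃ k ∈ EOB l F,
      (k : Matrix (Ix (Fin l)) (Ix (Fin l)) F) = TbS b s)
    (x : Ix (Fin l) → F) (hQ : Cfsg.quadFormOdd l F x = 0) :
    ∃ k ∈ EOB l F, ((k : Matrix (Ix (Fin l)) (Ix (Fin l)) F) *ᵥ x) i0 = 0 := by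
  by_cases h0 : x i0 = 0
  · refine ⟨1, Subgroup.one_mem _, ?_⟩
    rw [Units.val_one, Matrix.one_mulVec]
    exact h0
  obtain ⟨i, hi⟩ := ombg6_exists_pair x hQ h0
  have hi2 : x (Sum.inr (Sum.inr i)) ≠ 0 := right_ne_zero_of_mul hi
  obtain ⟨k, hk, hkM⟩ := hS (Sum.inl i) (-(x i0) / x (Sum.inr (Sum.inr i)))
  refine ⟨k, hk, ?_⟩
  rw [hkM, TbS_mulVec]
  have hn : ng (Sum.inl i : Fin l ⊕ Fin l) = Sum.inr i := rfl
  rw [hn]
  simp only [Pi.add_apply, Pi.sub_apply, Pi.single_eq_same]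
  rw [Pi.single_eq_of_ne (by simp)]
  field_simp
  ring

theorem ombg6_kill0_fix_core (hS : ∀ (b : Fin l ⊕ Fin l) (s : F), ∃ k ∈ EOB l F,
      (k : Matrix (Ix (Fin l)) (Ix (Fin l)) F) = TbS b s)
    (a : Fin l ⊕ Fin l) (v : Ix (Fin l) → F) (hQ : Cfsg.quadFormOdd l F v = 0) (hv : v (Sum.inr (ng a)) = 0) :
    ∃ k ∈ EOB l F, (k : Matrix (Ix (Fin l)) (Ix (Fin l)) F) *ᵥ (Pi.single (Sum.inr a) 1) = Pi.single (Sum.inr a) 1 ∧
      ((k : Matrix (Ix (Fin l)) (Ix (Fin l)) F) *ᵥ v) i0 = 0 := by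
  by_cases h0 : v i0 = 0
  · refine ⟨1, Subgroup.one_mem _, ?_, ?_⟩
    · rw [Units.val_one, Matrix.one_mulVec]
    · rw [Units.val_one, Matrix.one_mulVec]
      exact h0
  obtain ⟨i, hi⟩ := ombg6_exists_pair v hQ h0
  have hi1 : v (Sum.inr (Sum.inl i)) ≠ 0 := left_ne_zero_of_mul hi
  have hi2 : v (Sum.inr (Sum.inr i)) ≠ 0 := right_ne_zero_of_mul hi
  have hn : ng (Sum.inl i : Fin l ⊕ Fin l) = Sum.inr i := rfl
  have ha1 : a ≠ Sum.inr i := by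
    intro h
    apply hi1
    rw [h] at hv
    exact hv
  have ha2 : a ≠ Sum.inl i := by
    intro h
    apply hi2
    rw [h] at hv
    exact hv
  obtain ⟨k, hk, hkM⟩ := hS (Sum.inl i) (-(v i0) / v (Sum.inr (Sum.inr i)))
  refine ⟨k, hk, ?_, ?_⟩
  · rw [hkM, TbS_mulVec, hn]
    have e1 : (Pi.single (Sum.inr a) (1 : F) : Ix (Fin l) → F) (Sum.inr (Sum.inr i)) = 0 :=
      Pi.single_eq_of_ne (fun h => ha1 (Sum.inr_injective h).symm) _
    have e2 : (Pi.single (Sum.inr a) (1 : F) : Ix (Fin l) → F) i0 = 0 :=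
      Pi.single_eq_of_ne (by simp) _
    rw [e1, e2]
    simp
  · rw [hkM, TbS_mulVec, hn]
    simp only [Pi.add_apply, Pi.sub_apply, Pi.single_eq_same]
    rw [Pi.single_eq_of_ne (by simp)]
    field_simp
    ring

end G

end Cfsg.Agent.Lib.Helper12.OMB
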