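import Mathlib
import Cfsg.Agent.Lib.Helper12.OMB.Defs
import Cfsg.Agent.Lib.Helper12.OMB.Mat
import Cfsg.Agent.Lib.Helper1.OMBG6core

/-!
# Project OMB (designer helper12), row G6 (helper1), VERBATIM: `exists_kill0`, `exists_kill0_fix`
-/

set_option autoImplicit false

namespace Cfsg.Agent.Lib.Helper12.OMB

open Matrix Cfsg.Agent.Lib.helper15.St2 Cfsg.Agent.Lib.helper3.STC Cfsg.Agent.Lib.Lead.STD Cfsg.Agent.Lib.Lead.STB

universe u w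

section G

variable {l : ℕ} {F : Type u} [Field F]

/-- the short root elements lie in `EOB` -/
theorem ombg6_hS (b : Fin l ⊕ Fin l) (s : F) : ∃ k ∈ EOB l F, (k : Matrix (Ix (Fin l)) (Ix (Fin l)) F) = TbS b s :=
  ⟨tbS b s, Subgroup.subset_closure (Or.inr ⟨b, s, tbS_coe b s⟩), tbS_coe b s⟩

/-- G6a [M] -/
theorem exists_kill0 (x : Ix (Fin l) → F) (hQ : Cfsg.quadFormOdd l F x = 0) :
    ∃ k ∈ EOB l F, ((k : Matrix (Ix (Fin l)) (Ix (Fin l)) F) *ᵥ x) i0 = 0 :=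
  ombg6_kill0_core ombg6_hS x hQ

/-- G6b [M] -/
theorem exists_kill0_fix (a : Fin l ⊕ Fin l) (v : Ix (Fin l) → F) (hQ : Cfsg.quadFormOdd l F v = 0) (hv : v (Sum.inr (ng a)) = 0) :
    ∃ k ∈ EOB l F, (k : Matrix (Ix (Fin l)) (Ix (Fin l)) F) *ᵥ (Pi.single (Sum.inr a) 1) = Pi.single (Sum.inr a) 1 ∧
      ((k : Matrix (Ix (Fin l)) (Ix (Fin l)) F) *ᵥ v) i0 = 0 :=
  ombg6_kill0_fix_core ombg6_hS a v hQ hv

end G

end Cfsg.Agent.Lib.Helper12.OMB
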