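import Mathlib
import Cfsg.Agent.Lib.Helper12.OMB.Defs
import Cfsg.Agent.Lib.helper4.OMBV1
import Cfsg.Agent.Lib.Helper26.OMBV0
import Cfsg.Agent.Lib.Helper26.OMBV3
import Cfsg.Agent.Lib.Helper26.OMBG2
import Cfsg.Agent.Lib.Helper1.OMBG3
import Cfsg.Agent.Lib.Helper18.OMBG4
import Cfsg.Agent.Lib.Helper1.OMBG6
import Cfsg.Agent.Lib.Helper1.OMBG5
import Cfsg.Agent.Lib.Helper12.OMMO7

/-!
# Project OMB (designer helper12), row G7 (helper1), VERBATIM: `siegel_mem_EOB` — every Siegel element lies in `EOB`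

Three conjugations (G6a `exists_kill0`, OMM `EO_trans` through `embGL`, G6b `exists_kill0_fix`), then G5 `siegel0_mem_EOB`.
Extras: `ombg7_step3` (`u = e_a₀`), `ombg7_step2` (`u i0 = 0`).
-/

set_option autoImplicit false

namespace Cfsg.Agent.Lib.Helper12.OMB

open Matrix Cfsg.Agent.Lib.helper15.St2 Cfsg.Agent.Lib.helper3.STC Cfsg.Agent.Lib.Lead.STD Cfsg.Agent.Lib.Lead.STB
  Cfsg.Agent.Lib.Lead.SPN Cfsg.Agent.Lib.Helper28.CTD Cfsg.Agent.Lib.Helper28.OMM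

universe u w

section G

variable {l : ℕ} {F : Type u} [Field F]

/-- step 3: `u = e_{a₀}` -/
theorem ombg7_step3 (hl : 3 ≤ l) (a₀ : Fin l ⊕ Fin l) (t : Matrix.GeneralLinearGroup (Ix (Fin l)) F)
    (v : Ix (Fin l) → F) (c : F)
    (hu : Cfsg.quadFormOdd l F (Pi.single (Sum.inr a₀) 1) = 0) (hv : Cfsg.quadFormOdd l F v = 0)
    (huv : bB (Pi.single (Sum.inr a₀) 1) v = 0) (ht : IsSgB t (Pi.single (Sum.inr a₀) 1) v c) : t ∈ EOB l F := by
  have hvn : v (Sum.inr (ng a₀)) = 0 := by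
    rw [← bB_single_left a₀ v]
    exact huv
  obtain ⟨k, hk, hka, hk0⟩ := exists_kill0_fix a₀ v hv hvn
  have hkiso := EOB_iso k hk
  have h1 := isSgB_conj hkiso ht
  rw [hka] at h1
  have hv' := ex0_of_zero _ hk0
  rw [hv', ← ex0_single] at h1
  apply ombg5_of_conj hk
  refine siegel0_mem_EOB hl _ (Pi.single a₀ 1) _ c ?_ ?_ ?_ h1
  · rw [← QB_ex0, ex0_single]
    exact hu
  · rw [← QB_ex0, ← hv', hkiso]
    exact hv
  · rw [← bB_ex0, ← hv', ex0_single, ← hka, bB_of_iso hkiso]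
    exact huv

/-- step 2: `u i0 = 0` -/
theorem ombg7_step2 (hl : 3 ≤ l) (t : Matrix.GeneralLinearGroup (Ix (Fin l)) F) (u v : Ix (Fin l) → F) (c : F)
    (hu0 : u i0 = 0) (hune : u ≠ 0)
    (hu : Cfsg.quadFormOdd l F u = 0) (hv : Cfsg.quadFormOdd l F v = 0) (huv : bB u v = 0) (ht : IsSgB t u v c) :
    t ∈ EOB l F := by
  have hu' := ex0_of_zero u hu0
  have hune' : (fun k => u (Sum.inr k)) ≠ 0 := by
    intro h
    apply hune
    rw [hu', h]
    exact ombg5_ex0_zero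
  have hQ' : Cfsg.quadFormPlus l F (fun k => u (Sum.inr k)) = 0 := by
    rw [← QB_ex0, ← hu']
    exact hu
  obtain ⟨k, hk, hku⟩ := EO_trans hl _ hune' hQ'
  have hK : embGL F (Fin l) k ∈ EOB l F := EO_map_le (Subgroup.mem_map_of_mem _ hk)
  have hKiso := EOB_iso (embGL F (Fin l) k) hK
  have h1 := isSgB_conj hKiso ht
  have e1 : ((embGL F (Fin l) k : Matrix.GeneralLinearGroup (Ix (Fin l)) F) : Matrix (Ix (Fin l)) (Ix (Fin l)) F) *ᵥ u =
      Pi.single (Sum.inr (Sum.inl ⟨0, by omega⟩)) 1 := by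
    rw [embGL_coe]
    conv_lhs => rw [hu']
    rw [embM_mulVec_ex0, hku, ex0_single]
  apply ombg5_of_conj hK
  rw [e1] at h1
  refine ombg7_step3 hl _ _ _ c ?_ ?_ ?_ h1
  · rw [← e1, hKiso]
    exact hu
  · rw [hKiso]
    exact hv
  · rw [← e1, bB_of_iso hKiso]
    exact huv

/-- G7 [M]  **every Siegel element lies in `EOB`.** -/
theorem siegel_mem_EOB (hl : 3 ≤ l) (t : Matrix.GeneralLinearGroup (Ix (Fin l)) F) (u v : Ix (Fin l) → F) (c : F)
    (hu : Cfsg.quadFormOdd l F u = 0) (hv : Cfsg.quadFormOdd l F v = 0) (huv : bB u v = 0) (ht : IsSgB t u v c) :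
    t ∈ EOB l F := by
  by_cases hu0 : u = 0
  · subst hu0
    rw [isSgB_zero ht]
    exact Subgroup.one_mem _
  obtain ⟨k, hk, hk0⟩ := exists_kill0 u hu
  have hkiso := EOB_iso k hk
  have h1 := isSgB_conj hkiso ht
  apply ombg5_of_conj hk
  refine ombg7_step2 hl _ _ _ c hk0 ?_ ?_ ?_ ?_ h1
  · intro h
    apply hu0
    have h2 : ((k⁻¹ : Matrix.GeneralLinearGroup (Ix (Fin l)) F) : Matrix (Ix (Fin l)) (Ix (Fin l)) F) *ᵥ
        ((k : Matrix (Ix (Fin l)) (Ix (Fin l)) F) *ᵥ u) = u := by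
      rw [Matrix.mulVec_mulVec, ← Units.val_mul, inv_mul_cancel, Units.val_one, Matrix.one_mulVec]
    rw [← h2, h, Matrix.mulVec_zero]
  · rw [hkiso]
    exact hu
  · rw [hkiso]
    exact hv
  · rw [bB_of_iso hkiso]
    exact huv

end G

end Cfsg.Agent.Lib.Helper12.OMB
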