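import Mathlib
import Cfsg.Agent.Lib.Helper12.OMB.Defs
import Cfsg.Agent.Lib.Helper12.OMB.Mat
import Cfsg.Agent.Lib.Helper22.OMBG1
import Cfsg.Agent.Lib.Helper1.OMBG7
import Cfsg.Agent.Lib.Helper1.OMBG11core

/-!
# Project OMB (designer helper12), rows G9, G11 (helper1): CORES on the statements of G8 (`TbL_mem_omegaGL`, `TbS_mem_omegaGL`)

`ombg9_core hl h2 hL hS : omegaGL (quadFormOdd l F) = EOB l F`, `ombg11_of_g8 hl h2 hL hS` = the statement of G11 `exists_omegaSysB`.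
-/

set_option autoImplicit false

namespace Cfsg.Agent.Lib.Helper12.OMB

open Matrix Cfsg.Agent.Lib.helper15.St2 Cfsg.Agent.Lib.helper3.STC Cfsg.Agent.Lib.Lead.STD Cfsg.Agent.Lib.Lead.STB

universe u w

section G

variable {l : ℕ} {F : Type u} [Field F]

/-- G9 core -/
theorem ombg9_core [Fintype F] (hl : 3 ≤ l) (h2 : (2 : F) ≠ 0)
    (hL : ∀ {a b : Fin l ⊕ Fin l}, a ≠ b → a ≠ ng b → ∀ (t : F) (M : Matrix.GeneralLinearGroup (Ix (Fin l)) F),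
      (M : Matrix (Ix (Fin l)) (Ix (Fin l)) F) = TbL a b t → M ∈ Cfsg.Geo.omegaGL (Cfsg.quadFormOdd l F))
    (hS : ∀ (a : Fin l ⊕ Fin l) (t : F) (M : Matrix.GeneralLinearGroup (Ix (Fin l)) F),
      (M : Matrix (Ix (Fin l)) (Ix (Fin l)) F) = TbS a t → M ∈ Cfsg.Geo.omegaGL (Cfsg.quadFormOdd l F)) :
    Cfsg.Geo.omegaGL (Cfsg.quadFormOdd l F) = EOB l F := by
  apply le_antisymm
  · exact omega_le_of_siegelB hl h2 (EOB l F) (fun t u v c hu hv huv ht => siegel_mem_EOB hl t u v c hu hv huv ht)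
  · unfold EOB
    rw [Subgroup.closure_le]
    rintro M (⟨a, b, t, hab, hab', hM⟩ | ⟨a, t, hM⟩)
    · exact hL hab hab' t M hM
    · exact hS a t M hM

/-- G11 on the statements of G8 -/
theorem ombg11_of_g8 [Fintype F] (hl : 3 ≤ l) (h2 : (2 : F) ≠ 0)
    (hL : ∀ {a b : Fin l ⊕ Fin l}, a ≠ b → a ≠ ng b → ∀ (t : F) (M : Matrix.GeneralLinearGroup (Ix (Fin l)) F),
      (M : Matrix (Ix (Fin l)) (Ix (Fin l)) F) = TbL a b t → M ∈ Cfsg.Geo.omegaGL (Cfsg.quadFormOdd l F))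
    (hS : ∀ (a : Fin l ⊕ Fin l) (t : F) (M : Matrix.GeneralLinearGroup (Ix (Fin l)) F),
      (M : Matrix (Ix (Fin l)) (Ix (Fin l)) F) = TbS a t → M ∈ Cfsg.Geo.omegaGL (Cfsg.quadFormOdd l F)) :
    ∃ S : SysB F (Fin l) ↥(Cfsg.Omega F (Cfsg.quadFormOdd l F)),
      S.XQ (fun _ _ => True) (fun _ => True) = ⊤ ∧
      (∀ a b : Fin l ⊕ Fin l, a ≠ b → a ≠ ng b → ∀ t : F, omatB (S.x a b t) = TbL a b t) ∧
      ∀ (a : Fin l ⊕ Fin l) (t : F), omatB (S.xs a t) = TbS a t :=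
  ombg11_core (matSysB F (Fin l)) (fun _ _ hab hab' t => matSysB_x hab hab' t) (fun a t => matSysB_xs a t)
    (ombg9_core hl h2 hL hS)

end G

end Cfsg.Agent.Lib.Helper12.OMB
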