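import Mathlib
import Cfsg.Agent.Lib.Helper12.OMB.Defs
import Cfsg.Agent.Lib.Helper12.OMB.Mat
import Cfsg.Agent.Lib.Helper18.OMBG8
import Cfsg.Agent.Lib.Helper1.OMBG9core

/-!
# Project OMB (designer helper12), rows G9, G11 (helper1), VERBATIM: `omegaGL_eq_EOB`, `exists_omegaSysB` (TARGET (O-b))
-/

set_option autoImplicit false

namespace Cfsg.Agent.Lib.Helper12.OMB

open Matrix Cfsg.Agent.Lib.helper15.St2 Cfsg.Agent.Lib.helper3.STC Cfsg.Agent.Lib.Lead.STD Cfsg.Agent.Lib.Lead.STB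

universe u w

section G

variable {l : ℕ} {F : Type u} [Field F]

/-- G9 [S]  `omega_le_of_siegelB`, `siegel_mem_EOB`; `TbL_mem_omegaGL`, `TbS_mem_omegaGL` + `Subgroup.closure_le`.  Model `Helper28.OMMO10`. -/
theorem omegaGL_eq_EOB [Fintype F] (hl : 3 ≤ l) (h2 : (2 : F) ≠ 0) : Cfsg.Geo.omegaGL (Cfsg.quadFormOdd l F) = EOB l F :=
  ombg9_core hl h2 (fun hab hab' t M hM => TbL_mem_omegaGL hl hab hab' t M hM) (fun a t M hM => TbS_mem_omegaGL hl a t M hM)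

/-- G11 [M]  **(O-b) the system of `Ω_{2l+1}(F)`.** -/
theorem exists_omegaSysB [Fintype F] (hl : 3 ≤ l) (h2 : (2 : F) ≠ 0) :
    ∃ S : SysB F (Fin l) ↥(Cfsg.Omega F (Cfsg.quadFormOdd l F)),
      S.XQ (fun _ _ => True) (fun _ => True) = ⊤ ∧
      (∀ a b : Fin l ⊕ Fin l, a ≠ b → a ≠ ng b → ∀ t : F, omatB (S.x a b t) = TbL a b t) ∧
      ∀ (a : Fin l ⊕ Fin l) (t : F), omatB (S.xs a t) = TbS a t :=
  ombg11_of_g8 hl h2 (fun hab hab' t M hM => TbL_mem_omegaGL hl hab hab' t M hM) (fun a t M hM => TbS_mem_omegaGL hl a t M hM)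

end G

end Cfsg.Agent.Lib.Helper12.OMB
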