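import Mathlib
import Cfsg.Agent.Lib.helper8.OME.Defs
import Cfsg.Agent.Lib.Helper21.OPECM1

set_option autoImplicit false
set_option linter.unusedVariables false
set_option linter.unusedSectionVars false

/-! Project OME (designer helper8), row CM1M (helper1): port of helper21's `ell_sub_const` (Helper21/OPECM1.lean) to the standard minus space. -/

namespace Cfsg.Agent.Lib.helper8.OME

open Polynomial Module Cfsg.Agent.Lib.Helper13.S5955 Cfsg.Agent.Lib.helper15.S5972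
  Cfsg.Agent.Lib.Helper18.OPE
open Cfsg.Agent.Lib.Helper16.OSemi

/-- the frozen nondegeneracy gives `SND` -/
theorem omecm1m_snd {F : Type*} [Field F] (d : ℕ) (a b : F) (W : Submodule F (MI d → F))
    (hW : Cfsg.Geo.IsNondegenerateOn (QuadraticMap.polar (Cfsg.quadFormMinus (d - 1) F a b)) W) :
    ∀ u ∈ W, u ≠ 0 → ∃ v ∈ W, QuadraticMap.polar (Qm d F a b) u v ≠ 0 := by
  intro u hu hu0
  obtain ⟨_, ⟨x, hx, hx1⟩⟩ := hW u hu hu0
  exact ⟨x, hx, hx1⟩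

/-- an elliptic space is isometric to a standard minus space -/
theorem omecm1m_coords {F : Type*} [Field F] [Fintype F] (d : ℕ) (a b : F)
    (W : Submodule F (MI d → F))
    (hW : Cfsg.Geo.IsNondegenerateOn (QuadraticMap.polar (Cfsg.quadFormMinus (d - 1) F a b)) W)
    (hS : ¬ Cfsg.Geo.IsPlusTypeOn (Cfsg.quadFormMinus (d - 1) F a b) W) (h : ℕ) (hpos : 1 ≤ h)
    (hdim : finrank F W = 2 * h) :
    ∃ ζ : F, (∀ t : F, t ^ 2 + t + ζ ≠ 0) ∧
      ∃ Φ : ((Fin (h - 1) ⊕ Fin (h - 1)) ⊕ Fin 2 → F) ≃ₗ[F] ↥W,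
        ∀ v, Cfsg.quadFormMinus (d - 1) F a b ((Φ v : ↥W) : MI d → F) =
          Cfsg.quadFormMinus (h - 1) F 1 ζ v := by
  classical
  set Q : QuadraticForm F (MI d → F) := Qm d F a b with hQdef
  have hnd := opecp1_nd Q W (omecm1m_snd d a b W hW)
  let bas : Basis (Fin (2 * h)) F W := Module.finBasisOfFinrankEq F W hdim
  let e : ↥W ≃ₗ[F] (Fin (2 * h) → F) := bas.equivFun
  let Q' : QuadraticForm F (Fin (2 * h) → F) := (opecp1_Q Q W).comp e.symm.toLinearMap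
  have hQ' : ∀ v, Q' v = Cfsg.quadFormMinus (d - 1) F a b ((e.symm v : ↥W) : MI d → F) := fun v => rfl
  have hQ'nd : (QuadraticMap.polarBilin Q').Nondegenerate :=
    nondeg_of_equiv (opecp1_Q Q W) Q' e.symm (fun v => rfl) hnd
  rcases classify hpos (Fintype.card_fin _) Q' hQ'nd with ⟨Φ, hΦ⟩ | ⟨ζ, hζ, Φ, hΦ⟩
  · exfalso
    apply hS
    obtain ⟨U, hUW, hUd, hUm⟩ := Cfsg.Agent.Lib.Helper13.OTS.otstyclass_image W (Φ.trans e.symm)
      (LinearMap.ker (LinearMap.funLeft F F (Sum.inr : Fin h → Fin h ⊕ Fin h)))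
    refine ⟨U, hUW, ?_, ?_⟩
    · intro u hu
      obtain ⟨v, hv, rfl⟩ := hUm u hu
      have hv' : ∀ j, v (Sum.inr j) = 0 := by
        intro j
        have := congrFun (LinearMap.mem_ker.mp hv) j
        simpa [LinearMap.funLeft_apply] using this
      have h1 : Cfsg.quadFormMinus (d - 1) F a b (((Φ.trans e.symm) v : ↥W) : MI d → F) =
          Cfsg.quadFormPlus h F v := by
        rw [← hΦ v, hQ']; rfl
      rw [h1]
      unfold Cfsg.quadFormPlus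
      apply Finset.sum_eq_zero
      intro j _
      rw [hv' j, mul_zero]
    · rw [hUd, Cfsg.Agent.Lib.Helper13.OTS.otstyclass_dim_plus, hdim]
  · refine ⟨ζ, hζ, Φ.trans e.symm, ?_⟩
    intro v
    rw [← hΦ v, hQ']
    rfl

/-- two elliptic spaces of the same dimension are isometric -/
theorem omecm1m_iso {F : Type*} [Field F] [Fintype F] (d : ℕ) (a b : F)
    (W W₀ : Submodule F (MI d → F))
    (hW : Cfsg.Geo.IsNondegenerateOn (QuadraticMap.polar (Cfsg.quadFormMinus (d - 1) F a b)) W)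
    (hS : ¬ Cfsg.Geo.IsPlusTypeOn (Cfsg.quadFormMinus (d - 1) F a b) W)
    (hW₀ : Cfsg.Geo.IsNondegenerateOn (QuadraticMap.polar (Cfsg.quadFormMinus (d - 1) F a b)) W₀)
    (hS₀ : ¬ Cfsg.Geo.IsPlusTypeOn (Cfsg.quadFormMinus (d - 1) F a b) W₀)
    (h : ℕ) (hpos : 1 ≤ h) (hdim : finrank F W = 2 * h) (hdim₀ : finrank F W₀ = 2 * h) :
    ∃ T : ↥W ≃ₗ[F] ↥W₀, ∀ w : ↥W, Cfsg.quadFormMinus (d - 1) F a b ((T w : ↥W₀) : MI d → F) =
      Cfsg.quadFormMinus (d - 1) F a b (w : MI d → F) := by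
  obtain ⟨ζ, hζ, Φ, hΦ⟩ := omecm1m_coords d a b W hW hS h hpos hdim
  obtain ⟨ζ₀, hζ₀, Φ₀, hΦ₀⟩ := omecm1m_coords d a b W₀ hW₀ hS₀ h hpos hdim₀
  obtain ⟨Ψ, hΨ⟩ := minus_change (h - 1) 1 ζ 1 ζ₀ (aniso_of_irred ζ hζ) (aniso_of_irred ζ₀ hζ₀)
  refine ⟨(Φ.symm.trans Ψ).trans Φ₀, ?_⟩
  intro w
  have h1 : ((Φ.symm.trans Ψ).trans Φ₀) w = Φ₀ (Ψ (Φ.symm w)) := rfl
  rw [h1, hΦ₀, hΨ, ← hΦ, LinearEquiv.apply_symm_apply]

/-- an elliptic `2h`-space contains a hyperbolic `(2h-2)`-space -/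
theorem omecm1m_pos {F : Type*} [Field F] [Fintype F] (d h : ℕ) (hh : 1 ≤ h) (a b : F)
    (W₀ : Submodule F (MI d → F)) (hW₀dim : finrank F W₀ = 2 * h)
    (hW₀ : Cfsg.Geo.IsNondegenerateOn (QuadraticMap.polar (Cfsg.quadFormMinus (d - 1) F a b)) W₀)
    (hS₀ : ¬ Cfsg.Geo.IsPlusTypeOn (Cfsg.quadFormMinus (d - 1) F a b) W₀) :
    ∃ H : Submodule F (MI d → F), H ≤ W₀ ∧ opecm1_P (Cfsg.quadFormMinus (d - 1) F a b) (2 * h - 2) H := by
  classical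
  set Q : QuadraticForm F (MI d → F) := Qm d F a b with hQdef
  have hQc : ∀ v, Q v = Cfsg.quadFormMinus (d - 1) F a b v := fun v => rfl
  have hsnd := omecm1m_snd d a b W₀ hW₀
  have hSND : SND (QuadraticMap.polarBilin Q) W₀ := by
    intro u hu huv
    by_contra hu0
    obtain ⟨v, hv, hpv⟩ := hsnd u hu hu0
    exact hpv (huv v hv)
  have hnd := opecp1_nd Q W₀ hsnd
  obtain ⟨U, hUle, hUts, hUdim⟩ : ∃ U : Submodule F (MI d → F), U ≤ W₀ ∧
      (∀ u ∈ U, Q u = 0) ∧ 2 * finrank F U + 2 = finrank F W₀ := by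
    rcases Cfsg.Agent.Lib.Helper13.OTS.q_ty_class Q W₀ hSND ⟨h, by omega⟩ with
      ⟨⟨U, hUle, hUts, hUdim⟩, _⟩ | ⟨_, _, U, hUle, hUts, hUdim⟩
    · exact (hS₀ ⟨U, hUle, fun w hw => hUts w hw, hUdim⟩).elim
    · exact ⟨U, hUle, hUts, hUdim⟩
  let U' : Submodule F ↥W₀ := U.comap W₀.subtype
  have hU'dim : finrank F U' = h - 1 := by
    have h1 : finrank F U' = finrank F U := (Submodule.comapSubtypeEquivOfLe hUle).finrank_eq
    rw [h1]
    omega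
  have hU's : ∀ u ∈ U', opecp1_Q Q W₀ u = 0 := by
    intro u hu
    rw [opecp1_Q_apply]
    exact hUts _ hu
  obtain ⟨S, hSinj, hQS, _, _⟩ := Cfsg.Agent.Lib.Helper13.OTS.otshypext_hyp (opecp1_Q Q W₀) hnd U' hU's
    (h - 1) hU'dim
  let ψ : (Fin (h - 1) ⊕ Fin (h - 1) → F) →ₗ[F] (MI d → F) := W₀.subtype ∘ₗ S
  have hψinj : Function.Injective ψ := W₀.injective_subtype.comp hSinj
  have hfun : Cfsg.quadFormMinus (d - 1) F a b ∘ ψ = Cfsg.quadFormPlus (h - 1) F := by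
    funext v
    show Cfsg.quadFormMinus (d - 1) F a b ((S v : ↥W₀) : MI d → F) = _
    rw [← hQS v, opecp1_Q_apply, hQc]
  refine ⟨(⊤ : Submodule F (Fin (h - 1) ⊕ Fin (h - 1) → F)).map ψ, ?_, ?_⟩
  · rintro _ ⟨v, _, rfl⟩
    exact (S v).2
  · rw [opecm1_pull ψ hψinj, hfun]
    have := opecm1_std (F := F) (h - 1)
    rw [show 2 * (h - 1) = 2 * h - 2 by omega] at this
    exact this

/-- CM1 [M-L]: every elliptic `2h`-space (`h ≥ 1`) contains the same number `N₁ ≥ 1` of hyperbolic `(2h-2)`-spaces. -/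
theorem ome_ell_sub_const {F : Type*} [Field F] [Fintype F] (d h : ℕ) (hh : 1 ≤ h) (a b : F) :
    ∃ N₁ : ℕ, 0 < N₁ ∧ ∀ W : ELLm d (2 * h) F a b,
      Nat.card {W' : HYPm d (2 * h - 2) F a b // W'.1 ≤ W.1} = N₁ := by
  classical
  -- the subtype in the statement, rewritten
  have hre : ∀ W : Submodule F (MI d → F),
      Nat.card {W' : HYPm d (2 * h - 2) F a b // W'.1 ≤ W} =
      Nat.card {U : Submodule F (MI d → F) // U ≤ W ∧
        opecm1_P (Cfsg.quadFormMinus (d - 1) F a b) (2 * h - 2) U} := by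
    intro W
    apply Nat.card_congr
    exact ⟨fun W' => ⟨W'.1.1, W'.2, W'.1.2⟩, fun U => ⟨⟨U.1, U.2.2⟩, U.2.1⟩,
      fun _ => rfl, fun _ => rfl⟩
  by_cases hne : Nonempty (ELLm d (2 * h) F a b)
  swap
  · exact ⟨1, one_pos, fun W => (hne ⟨W⟩).elim⟩
  obtain ⟨W₀⟩ := hne
  obtain ⟨hW₀dim, hW₀nd, hW₀np⟩ := W₀.2
  refine ⟨Nat.card {W' : HYPm d (2 * h - 2) F a b // W'.1 ≤ W₀.1}, ?_, ?_⟩
  · apply Nat.card_pos_iff.mpr
    refine ⟨?_, inferInstance⟩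
    obtain ⟨H, hHle, hHP⟩ := omecm1m_pos d h hh a b W₀.1 hW₀dim hW₀nd hW₀np
    exact ⟨⟨⟨H, hHP⟩, hHle⟩⟩
  · intro W
    obtain ⟨hWdim, hWnd, hWnp⟩ := W.2
    obtain ⟨T, hT⟩ := omecm1m_iso d a b W.1 W₀.1 hWnd hWnp hW₀nd hW₀np h hh hWdim hW₀dim
    rw [hre W.1, hre W₀.1]
    have key : ∀ (W₁ : Submodule F (MI d → F)) (T₁ : ↥W₁ ≃ₗ[F] ↥W₀.1)
        (_ : ∀ w : ↥W₁, Cfsg.quadFormMinus (d - 1) F a b ((T₁ w : ↥W₀.1) : _) = Cfsg.quadFormMinus (d - 1) F a b (w : _)),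
        Nat.card {U : Submodule F (MI d → F) // U ≤ W₁ ∧
          opecm1_P (Cfsg.quadFormMinus (d - 1) F a b) (2 * h - 2) U} =
        Nat.card {U' : Submodule F ↥W₀.1 //
          opecm1_P (Cfsg.quadFormMinus (d - 1) F a b ∘ W₀.1.subtype) (2 * h - 2) U'} := by
      intro W₁ T₁ hT₁
      apply opecp1_card_transport W₁ T₁
      intro U hUW
      have hUeq : U = (U.comap W₁.subtype).map W₁.subtype := by
        rw [Submodule.map_comap_subtype, inf_eq_right.mpr hUW]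
      have hfun : Cfsg.quadFormMinus (d - 1) F a b ∘ W₁.subtype =
          (Cfsg.quadFormMinus (d - 1) F a b ∘ W₀.1.subtype) ∘ (T₁ : ↥W₁ →ₗ[F] ↥W₀.1) := by
        funext w
        exact (hT₁ w).symm
      rw [opecm1_pull (T₁ : ↥W₁ →ₗ[F] ↥W₀.1) T₁.injective, ← hfun,
        ← opecm1_pull W₁.subtype W₁.injective_subtype, ← hUeq]
    rw [key W.1 T hT, key W₀.1 (LinearEquiv.refl F _) (fun _ => rfl)]

end Cfsg.Agent.Lib.helper8.OME
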