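import Mathlib
import Cfsg.Agent.Lib.helper8.OME.Defs
import Cfsg.Agent.Lib.Helper21.OPECP1

set_option autoImplicit false
set_option linter.unusedVariables false
set_option linter.unusedSectionVars false

/-! Project OME (designer helper8), row CP1M (helper1): port of helper21's `hyp_ts_const` (Helper21/OPECP1.lean) to the standard minus space. -/

namespace Cfsg.Agent.Lib.helper8.OME

open Polynomial Module Cfsg.Agent.Lib.Helper13.S5955 Cfsg.Agent.Lib.helper15.S5972
  Cfsg.Agent.Lib.Helper18.OPE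

theorem ome_hyp_ts_const {F : Type*} [Field F] [Fintype F] (d h : ℕ) (a b : F) :
    ∃ N : ℕ, 0 < N ∧ ∀ W : HYPm d (2 * h) F a b,
      Nat.card {U : Submodule F (MI d → F) //
        U ≤ W.1 ∧ Module.finrank F ↥U = h ∧ ∀ u ∈ U, Cfsg.quadFormMinus (d - 1) F a b u = 0} = N := by
  classical
  refine ⟨Nat.card {U' : Submodule F (Fin h ⊕ Fin h → F) //
    Module.finrank F ↥U' = h ∧ ∀ u ∈ U', Cfsg.quadFormPlus h F u = 0}, ?_, ?_⟩
  · -- the model has a totally singular `h`-space
    apply Nat.card_pos_iff.mpr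
    refine ⟨⟨⟨LinearMap.ker (LinearMap.funLeft F F (Sum.inr : Fin h → Fin h ⊕ Fin h)), ?_, ?_⟩⟩,
      inferInstance⟩
    · -- dimension
      have hsurj : Function.Surjective (LinearMap.funLeft F F (Sum.inr : Fin h → Fin h ⊕ Fin h)) :=
        LinearMap.funLeft_surjective_of_injective F F _ Sum.inr_injective
      have hrn := LinearMap.finrank_range_add_finrank_ker
        (LinearMap.funLeft F F (Sum.inr : Fin h → Fin h ⊕ Fin h))
      rw [LinearMap.range_eq_top.mpr hsurj, finrank_top, Module.finrank_fin_fun,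
        Module.finrank_fintype_fun_eq_card, Fintype.card_sum, Fintype.card_fin] at hrn
      omega
    · intro u hu
      have hu' : ∀ j, u (Sum.inr j) = 0 := by
        intro j
        have := congrFun (LinearMap.mem_ker.mp hu) j
        simpa [LinearMap.funLeft_apply] using this
      unfold Cfsg.quadFormPlus
      apply Finset.sum_eq_zero
      intro i _
      rw [hu' i, mul_zero]
  · intro W
    obtain ⟨hWdim, hWnd, U₀, hU₀W, hU₀dim, hU₀ts⟩ := W.2
    set Q : QuadraticForm F (MI d → F) := Qm d F a b with hQ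
    have hQc : ∀ v, Q v = Cfsg.quadFormMinus (d - 1) F a b v := fun v => rfl
    have hnd := opecp1_nd Q W.1 hWnd
    let U₀' : Submodule F ↥W.1 := U₀.comap W.1.subtype
    have hU₀'dim : finrank F U₀' = h := by
      have h1 : finrank F U₀' = finrank F U₀ := (Submodule.comapSubtypeEquivOfLe hU₀W).finrank_eq
      rw [h1]
      omega
    have hU₀'s : ∀ u ∈ U₀', opecp1_Q Q W.1 u = 0 := by
      intro u hu
      rw [opecp1_Q_apply, hQc]
      exact hU₀ts _ hu
    obtain ⟨T, hT⟩ := Cfsg.Agent.Lib.helper6.Plus.exists_hyp_coords (opecp1_Q Q W.1) hnd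
      U₀' hU₀'s h hU₀'dim hWdim
    have hTQ : ∀ w : ↥W.1, Cfsg.quadFormPlus h F (T w) = Cfsg.quadFormMinus (d - 1) F a b (w : _) := by
      intro w
      rw [hT w, opecp1_Q_apply, hQc]
    apply opecp1_card_transport W.1 T
      (fun U => Module.finrank F ↥U = h ∧ ∀ u ∈ U, Cfsg.quadFormMinus (d - 1) F a b u = 0)
      (fun U' => Module.finrank F ↥U' = h ∧ ∀ u ∈ U', Cfsg.quadFormPlus h F u = 0)
    intro U hUW
    have hdimeq : finrank F ↥((U.comap W.1.subtype).map (T : ↥W.1 →ₗ[F] (Fin h ⊕ Fin h → F))) =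
        finrank F ↥U := by
      rw [LinearEquiv.finrank_map_eq T]
      exact (Submodule.comapSubtypeEquivOfLe hUW).finrank_eq
    constructor
    · rintro ⟨hd, hs⟩
      refine ⟨by rw [hdimeq, hd], ?_⟩
      rintro _ ⟨w, hw, rfl⟩
      show Cfsg.quadFormPlus h F (T w) = 0
      have h1 : Cfsg.quadFormMinus (d - 1) F a b ((w : ↥W.1) : MI d → F) = 0 := hs _ hw
      rw [hTQ, h1]
    · rintro ⟨hd, hs⟩
      refine ⟨by rw [← hdimeq, hd], ?_⟩
      intro u hu
      have h1 := hs (T ⟨u, hUW hu⟩) ⟨⟨u, hUW hu⟩, hu, rfl⟩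
      rw [hTQ] at h1
      exact h1

end Cfsg.Agent.Lib.helper8.OME
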