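import Mathlib
import Cfsg.Agent.Lib.helper8.OME.Defs
import Cfsg.Agent.Lib.Helper16.OHelp
import Cfsg.Agent.Lib.Lead.ONECP2

set_option autoImplicit false
set_option linter.unusedVariables false
set_option linter.unusedSectionVars false

/-!
# Project OME (designer helper8), row CP2M (helper1): port of lead's `Lead/OPECP2.lean` to the standard minus space.
A totally singular `h`-space `U` of the standard elliptic `2d`-space lies in exactly `q^(h (2d - 2h))` hyperbolic `2h`-spaces.
-/

namespace Cfsg.Agent.Lib.helper8.OME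

open Polynomial Module Cfsg.Agent.Lib.Helper13.S5955 Cfsg.Agent.Lib.helper15.S5972 Cfsg.Agent.Lib.Helper18.ONE
  Cfsg.Agent.Lib.Helper18.OPE

theorem ome_ts_ext_count {F : Type*} [Field F] [Fintype F] (d h : ℕ) (hd : 1 ≤ d) (hh : h ≤ d) (a b : F)
    (hab : ∀ x y : F, x ^ 2 + a * x * y + b * y ^ 2 = 0 → x = 0 ∧ y = 0)
    (U : Submodule F (MI d → F)) (hU : Module.finrank F ↥U = h)
    (hUs : ∀ u ∈ U, Cfsg.quadFormMinus (d - 1) F a b u = 0) :
    Nat.card {W : HYPm d (2 * h) F a b // U ≤ W.1} = Fintype.card F ^ (h * (2 * d - 2 * h)) := by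
  classical
  have hsymm : ∀ u v, stdM d F a b u v = stdM d F a b v u := by
    intro u v
    rw [stdM_apply, stdM_apply, QuadraticMap.polar_comm]
  have hnd : ∀ u, (∀ v, stdM d F a b u v = 0) → u = 0 := (Cfsg.Agent.Lib.Helper16.OSemi.qfMinus_nondeg (d - 1) a b hab).1
  have hUti : STI (stdM d F a b) U := by
    intro u hu v hv
    rw [stdM_apply, QuadraticMap.polar, hUs u hu, hUs v hv, hUs (u + v) (U.add_mem hu hv)]
    ring
  obtain ⟨K, hK⟩ : ∃ K : Submodule F (MI d → F), K = (stdM d F a b).orthogonal U := ⟨_, rfl⟩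
  have hUK : U ≤ K := by
    intro u hu
    rw [hK, onecp2_mem_orth]
    intro u' hu'
    exact hUti u' hu' u hu
  have hV : finrank F (MI d → F) = 2 * d := by
    rw [Module.finrank_pi]
    simp
    omega
  have hKdim : finrank F K = 2 * d - h := by
    rw [hK, LinearMap.BilinForm.finrank_orthogonal (onecp2_nondeg _ hsymm hnd) U, hV, hU]
  -- membership in `HYP`
  have key : ∀ W : Submodule F (MI d → F), U ≤ W →
      ((Module.finrank F ↥W = 2 * h ∧
        (∀ u ∈ W, u ≠ 0 → ∃ v ∈ W, QuadraticMap.polar (Cfsg.quadFormMinus (d - 1) F a b) u v ≠ 0) ∧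
        ∃ U' : Submodule F (MI d → F), U' ≤ W ∧ 2 * Module.finrank F ↥U' = 2 * h ∧
          ∀ u ∈ U', Cfsg.quadFormMinus (d - 1) F a b u = 0) ↔ (W ⊓ K = U ∧ W ⊔ K = ⊤)) := by
    intro W hUW
    constructor
    · rintro ⟨hdim, hndW, _⟩
      rw [hK]
      refine onecp2_compl_of_nd _ hsymm hnd U W hUti hUW (by rw [hdim, hU]) ?_
      intro w hw hall
      by_contra hw0
      obtain ⟨v, hv, hne⟩ := hndW w hw hw0
      exact hne (hall v hv)
    · rintro ⟨h1, h3⟩
      rw [hK] at h1 h3
      obtain ⟨hdim, hsnd⟩ := onecp2_of_compl _ hsymm hnd U W hUW h1 h3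
      refine ⟨by rw [hdim, hU], ?_, ⟨U, hUW, by rw [hU], hUs⟩⟩
      intro u hu hu0
      by_contra hcon
      push Not at hcon
      exact hu0 (hsnd u hu hcon)
  -- the correspondence with complements of `K / U` in `V / U`
  have hcomapK : Submodule.comap U.mkQ (K.map U.mkQ) = K := by
    rw [Submodule.comap_map_mkQ, sup_eq_right.2 hUK]
  have hcinj : Function.Injective (Submodule.comap (U.mkQ) :
      Submodule F ((MI d → F) ⧸ U) → Submodule F (MI d → F)) :=
    Submodule.comap_injective_of_surjective (Submodule.mkQ_surjective U)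
  have hcorr : ∀ C : Submodule F ((MI d → F) ⧸ U),
      IsCompl (K.map U.mkQ) C ↔
        (Submodule.comap U.mkQ C ⊓ K = U ∧ Submodule.comap U.mkQ C ⊔ K = ⊤) := by
    intro C
    rw [isCompl_iff, disjoint_iff, codisjoint_iff]
    constructor
    · rintro ⟨h1, h3⟩
      constructor
      · rw [inf_comm, ← hcomapK, ← Submodule.comap_inf, h1, Submodule.comap_bot, Submodule.ker_mkQ]
      · have : Submodule.map U.mkQ (Submodule.comap U.mkQ C ⊔ K) = ⊤ := by
          rw [Submodule.map_sup, Submodule.map_comap_eq_of_surjective (Submodule.mkQ_surjective U), sup_comm]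
          exact h3
        have h4 : Submodule.comap U.mkQ (Submodule.map U.mkQ (Submodule.comap U.mkQ C ⊔ K)) = ⊤ := by
          rw [this, Submodule.comap_top]
        rw [Submodule.comap_map_mkQ] at h4
        have hle : U ≤ Submodule.comap U.mkQ C ⊔ K := le_trans hUK le_sup_right
        rwa [sup_eq_right.2 hle] at h4
    · rintro ⟨h1, h3⟩
      constructor
      · apply hcinj
        rw [Submodule.comap_inf, hcomapK, inf_comm, h1, Submodule.comap_bot, Submodule.ker_mkQ]
      · have : Submodule.map U.mkQ (Submodule.comap U.mkQ C ⊔ K) = ⊤ := by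
          rw [h3, Submodule.map_top, Submodule.range_mkQ]
        rw [Submodule.map_sup, Submodule.map_comap_eq_of_surjective (Submodule.mkQ_surjective U), sup_comm] at this
        exact this
  obtain ⟨f, hf⟩ : ∃ f : {C : Submodule F ((MI d → F) ⧸ U) // IsCompl (K.map U.mkQ) C} →
      {W : HYPm d (2 * h) F a b // U ≤ W.1}, ∀ C, (f C).1.1 = Submodule.comap U.mkQ C.1 :=
    ⟨fun C => ⟨⟨Submodule.comap U.mkQ C.1,
      (key _ (Submodule.le_comap_mkQ U C.1)).2 ((hcorr C.1).1 C.2)⟩, Submodule.le_comap_mkQ U C.1⟩,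
      fun C => rfl⟩
  have hbij : Function.Bijective f := by
    constructor
    · intro C C' hCC
      apply Subtype.ext
      apply hcinj
      rw [← hf C, ← hf C', hCC]
    · intro W
      have hW := (key W.1.1 W.2).1 W.1.2
      have hcm : Submodule.comap U.mkQ (Submodule.map U.mkQ W.1.1) = W.1.1 := by
        rw [Submodule.comap_map_mkQ, sup_eq_right.2 W.2]
      refine ⟨⟨Submodule.map U.mkQ W.1.1, (hcorr _).2 (by rw [hcm]; exact hW)⟩, ?_⟩
      apply Subtype.ext
      apply Subtype.ext
      rw [hf]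
      exact hcm
  rw [← Nat.card_eq_of_bijective f hbij, onecp2_compl_count]
  congr 1
  have hq := Submodule.finrank_quotient_add_finrank U
  have hm := onecp2_finrank_map_mkQ U K hUK
  rw [hV, hU] at hq
  rw [hKdim, hU] at hm
  have e1 : finrank F ((MI d → F) ⧸ U) = 2 * d - h := by omega
  have e2 : finrank F (K.map U.mkQ) = 2 * d - 2 * h := by omega
  rw [e1, e2]
  have : 2 * d - h - (2 * d - 2 * h) = h := by omega
  rw [this]

end Cfsg.Agent.Lib.helper8.OME
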