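import Mathlib
import Cfsg.Agent.Lib.helper8.OME.Defs
import Cfsg.Agent.Lib.Helper18.OmegaOdd
import Cfsg.Agent.Lib.helper17.OPEQCTXO
import Cfsg.Agent.Lib.helper17.OPEQTYCLASS

set_option autoImplicit false
set_option linter.unusedVariables false
set_option linter.unusedSectionVars false

/-! Project OME (designer helper8), rows TWOSUFFP2 + TWONECP2 (helper1): CORES, the statements of the rows SCALRED, STDCTX, STDFACTS,
ESUFFMS, ESUFFML, UEXM, UHYPFOUR (at the objects at hand) enter as hypotheses. -/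

namespace Cfsg.Agent.Lib.helper8.OME

open Polynomial Module Cfsg.Agent.Lib.Helper13.S5955 Cfsg.Agent.Lib.helper15.S5972
  Cfsg.Agent.Lib.Helper18.OPE

theorem ometwop2_two {F : Type*} [Field F] [CharP F 2] : (2 : F) = 0 := by
  have h := CharP.cast_eq_zero F 2
  exact_mod_cast h

theorem ometwosuffp2_core {F : Type*} [Field F] [Fintype F] [CharP F 2]
    (d m : ℕ) (hd : 4 ≤ d) (hm : 2 ≤ m) (hme : Even m) (hmn : m + 2 ≤ 2 * d) (a b : F)
    (hab : ∀ x y : F, x ^ 2 + a * x * y + b * y ^ 2 = 0 → x = 0 ∧ y = 0)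
    (hcond : Even d ∨ m % 4 = 2)
    (hscal : ∀ x : GL (MI d) F, x ∈ Cfsg.isometryGroup F (Cfsg.quadFormMinus (d - 1) F a b) → ∀ z : F,
      ((x ^ 2 : GL (MI d) F) : Matrix (MI d) (MI d) F) = z • (1 : Matrix (MI d) (MI d) F) →
      (∀ z : F, (x : Matrix (MI d) (MI d) F) ≠ z • (1 : Matrix (MI d) (MI d) F)) → (z = 1 ∨ z = -1))
    (hstd : ∀ x : GL (MI d) F, x ∈ Cfsg.isometryGroup F (Cfsg.quadFormMinus (d - 1) F a b) → x ^ 2 = 1 →
      QCtx 2 (Qm d F a b) (Matrix.toLin' (x : Matrix (MI d) (MI d) F)))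
    (hfacts : finrank F (MI d → F) = 2 * d ∧ QTy (Qm d F a b) (⊤ : Submodule F (MI d → F)) (-1))
    (hsmall : ∀ y : Module.End F (MI d → F), QCtx 2 (Qm d F a b) y → m ≤ d → QNDt (Qm d F a b) y m (-1))
    (hlarge : ∀ y : Module.End F (MI d → F), QCtx 2 (Qm d F a b) y → d < m → QNDt (Qm d F a b) y m (-1)) :
    AllFixM F d m (-1) 2 a b := by
  intro x hxΩ hz hns
  obtain ⟨z, hz⟩ := hz
  have h2 : (2 : F) = 0 := ometwop2_two
  have hxiso : x ∈ Cfsg.isometryGroup F (Cfsg.quadFormMinus (d - 1) F a b) :=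
    Cfsg.Agent.Lib.Helper18.OmegaOdd.omegaodd_le _ hxΩ
  have hz1 := hscal x hxiso z hz hns
  have hneg : (-1 : F) = 1 := by
    have : (1 : F) + 1 = 0 := by rw [one_add_one_eq_two, h2]
    linear_combination -this
  have hz' : z = 1 := by
    rcases hz1 with h | h
    · exact h
    · rw [h, hneg]
  have hx2 : x ^ 2 = 1 := by
    apply Units.ext
    rw [hz, hz', one_smul]
    rfl
  have hctx := hstd x hxiso hx2
  have hq : QNDt (Qm d F a b) (Matrix.toLin' (x : Matrix (MI d) (MI d) F)) m (-1) := by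
    rcases Nat.lt_or_ge d m with h | h
    · exact hlarge _ hctx h
    · exact hsmall _ hctx h
  obtain ⟨W, hWinv, hWnd, hWdim, hWty⟩ := hq
  refine ⟨W, hWdim, hWnd, hWty, ?_⟩
  rintro _ ⟨w, hw, rfl⟩
  exact hWinv w hw

theorem ometwonecp2_core {F : Type*} [Field F] [Fintype F] [CharP F 2]
    (d m : ℕ) (hd : 4 ≤ d) (hm : 2 ≤ m) (hme : Even m) (hmn : m + 2 ≤ 2 * d) (a b : F)
    (hab : ∀ x y : F, x ^ 2 + a * x * y + b * y ^ 2 = 0 → x = 0 ∧ y = 0)
    (hall : AllFixM F d m (-1) 2 a b)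
    (huex : ∃ x : GL (MI d) F, x ∈ Cfsg.Geo.omegaGL (Cfsg.quadFormMinus (d - 1) F a b) ∧ x ^ 2 = 1 ∧
      (∀ z : F, (x : Matrix (MI d) (MI d) F) ≠ z • (1 : Matrix (MI d) (MI d) F)) ∧
      (Matrix.toLin' (x : Matrix (MI d) (MI d) F) - 1) * (Matrix.toLin' (x : Matrix (MI d) (MI d) F) - 1) = 0 ∧
      (∀ v, Cfsg.quadFormMinus (d - 1) F a b ((Matrix.toLin' (x : Matrix (MI d) (MI d) F) - 1) v) = 0) ∧
      finrank F (LinearMap.ker (Matrix.toLin' (x : Matrix (MI d) (MI d) F) - 1)) =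
        finrank F (LinearMap.range (Matrix.toLin' (x : Matrix (MI d) (MI d) F) - 1)) +
          2 * ((d - 1) % 2) + 2)
    (hstd : ∀ x : GL (MI d) F, x ∈ Cfsg.isometryGroup F (Cfsg.quadFormMinus (d - 1) F a b) → x ^ 2 = 1 →
      QCtx 2 (Qm d F a b) (Matrix.toLin' (x : Matrix (MI d) (MI d) F)))
    (hhypfour : ∀ y : Module.End F (MI d → F), QCtx 2 (Qm d F a b) y → (y - 1) * (y - 1) = 0 →
      (∀ v, Qm d F a b ((y - 1) v) = 0) →
      finrank F (LinearMap.ker (y - 1)) ≤ finrank F (LinearMap.range (y - 1)) + 2 →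
      ∀ W : Submodule F (MI d → F), SInv y W → SND (QuadraticMap.polarBilin (Qm d F a b)) W →
        4 ∣ finrank F W → QHyp (Qm d F a b) W) :
    Even d ∨ m % 4 = 2 := by
  by_contra hcon
  push Not at hcon
  obtain ⟨hdodd, hm4⟩ := hcon
  have hm0 : m % 4 = 0 := by
    obtain ⟨t, ht⟩ := hme
    omega
  obtain ⟨x, hxΩ, hxp, hns, hNN, hQN, hker⟩ := huex
  obtain ⟨W, hWdim, hWnd, hWty, hWinv⟩ := hall x hxΩ ⟨1, by rw [hxp]; simp⟩ hns
  have hxiso : x ∈ Cfsg.isometryGroup F (Cfsg.quadFormMinus (d - 1) F a b) :=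
    Cfsg.Agent.Lib.Helper18.OmegaOdd.omegaodd_le _ hxΩ
  have hctx := hstd x hxiso hxp
  have hd1 : (d - 1) % 2 = 0 := by
    have := Nat.not_even_iff_odd.mp hdodd
    obtain ⟨t, ht⟩ := this
    omega
  have hδ : finrank F (LinearMap.ker (Matrix.toLin' (x : Matrix (MI d) (MI d) F) - 1)) ≤
      finrank F (LinearMap.range (Matrix.toLin' (x : Matrix (MI d) (MI d) F) - 1)) + 2 := by
    rw [hker, hd1]
  have hinv : SInv (Matrix.toLin' (x : Matrix (MI d) (MI d) F)) W := by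
    intro w hw
    exact hWinv (Submodule.mem_map_of_mem hw)
  have hhyp : QHyp (Qm d F a b) W := hhypfour _ hctx hNN hQN hδ W hinv hWnd
    (by rw [hWdim]; exact Nat.dvd_of_mod_eq_zero hm0)
  have h1 : QTy (Qm d F a b) W 1 := ((qty_iff (Qm d F a b) W hWnd (by rw [hWdim]; exact hme)).1).mp hhyp
  exact qty_uniq (Qm d F a b) W h1 hWty

end Cfsg.Agent.Lib.helper8.OME
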