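import Mathlib
import Cfsg.Agent.Lib.Helper12.OMN.Defs
import Cfsg.Agent.Lib.helper17.STM.Defs3

/-!
# Project OMN (designer helper12), rows G11a, G11 (helper1): CORES (twin of `Helper1.OMBG11core`)

Generic in a matrix system `S₀ : SysM F A B (Fin m) (GL (Im (Fin m)) F)` whose root elements have the matrices `TmL a b t`, `TmS a u`
(instantiated at `matSysM F A B (Fin m)` of block M, with `matSysM_x`, `matSysM_xs`):
* `omng11a_core` : `S₀.XQ ⊤ ⊤ = EOM m F A B`;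
* `omng11_core`  : from `hG9 : omegaGL (quadFormMinus m F A B) = EOM m F A B` (the statement of G9), the system of `Ω⁻_{2m+2}(F)`.
-/

set_option autoImplicit false

namespace Cfsg.Agent.Lib.Helper12.OMN

open Matrix Cfsg.Agent.Lib.helper15.St2 Cfsg.Agent.Lib.helper3.STC Cfsg.Agent.Lib.Lead.STD Cfsg.Agent.Lib.helper17.STM

universe u w

section G

variable {m : ℕ} {F : Type u} [Field F] {A B : F}

/-- G11a core -/
theorem omng11a_core [Fact (∀ r : F, r ^ 2 ≠ -B + A * r)]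
    (S₀ : SysM F A B (Fin m) (Matrix.GeneralLinearGroup (Im (Fin m)) F))
    (hx : ∀ a b : Fin m ⊕ Fin m, a ≠ b → a ≠ ng b → ∀ t : F,
      ((S₀.x a b t : Matrix.GeneralLinearGroup (Im (Fin m)) F) : Matrix (Im (Fin m)) (Im (Fin m)) F) = TmL a b t)
    (hxs : ∀ (a : Fin m ⊕ Fin m) (u : Kq F A B),
      ((S₀.xs a u : Matrix.GeneralLinearGroup (Im (Fin m)) F) : Matrix (Im (Fin m)) (Im (Fin m)) F) = TmS a u) :
    S₀.XQ (fun _ _ => True) (fun _ => True) = EOM m F A B := by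
  unfold SysM.XQ EOM
  congr 1
  ext M
  constructor
  · rintro (⟨a, b, t, hab, hab', -, rfl⟩ | ⟨a, t, -, rfl⟩)
    · exact Or.inl ⟨a, b, t, hab, hab', hx a b hab hab' t⟩
    · exact Or.inr ⟨a, t, hxs a t⟩
  · rintro (⟨a, b, t, hab, hab', hM⟩ | ⟨a, t, hM⟩)
    · exact Or.inl ⟨a, b, t, hab, hab', trivial, Units.ext (hM.trans (hx a b hab hab' t).symm)⟩
    · exact Or.inr ⟨a, t, trivial, Units.ext (hM.trans (hxs a t).symm)⟩

/-- the root elements of `S₀` lie in `EOM` -/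
theorem omng11_x_mem [Fact (∀ r : F, r ^ 2 ≠ -B + A * r)]
    (S₀ : SysM F A B (Fin m) (Matrix.GeneralLinearGroup (Im (Fin m)) F))
    (hx : ∀ a b : Fin m ⊕ Fin m, a ≠ b → a ≠ ng b → ∀ t : F,
      ((S₀.x a b t : Matrix.GeneralLinearGroup (Im (Fin m)) F) : Matrix (Im (Fin m)) (Im (Fin m)) F) = TmL a b t)
    (a b : Fin m ⊕ Fin m) (t : F) : S₀.x a b t ∈ EOM m F A B := by
  by_cases hab : a = b
  · subst hab
    rw [S₀.diag]
    exact Subgroup.one_mem _
  by_cases hab' : a = ng b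
  · have e : b = ng a := by rw [hab']; cases b <;> rfl
    rw [e, S₀.opp]
    exact Subgroup.one_mem _
  · exact Subgroup.subset_closure (Or.inl ⟨a, b, t, hab, hab', hx a b hab hab' t⟩)

theorem omng11_xs_mem [Fact (∀ r : F, r ^ 2 ≠ -B + A * r)]
    (S₀ : SysM F A B (Fin m) (Matrix.GeneralLinearGroup (Im (Fin m)) F))
    (hxs : ∀ (a : Fin m ⊕ Fin m) (u : Kq F A B),
      ((S₀.xs a u : Matrix.GeneralLinearGroup (Im (Fin m)) F) : Matrix (Im (Fin m)) (Im (Fin m)) F) = TmS a u)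
    (a : Fin m ⊕ Fin m) (u : Kq F A B) : S₀.xs a u ∈ EOM m F A B :=
  Subgroup.subset_closure (Or.inr ⟨a, u, hxs a u⟩)

/-- the isomorphism `EOM ≃* Ω` from the statement of G9 -/
theorem omng11_kappa (hG9 : Cfsg.Geo.omegaGL (Cfsg.quadFormMinus m F A B) = EOM m F A B) :
    ∃ κ : ↥(EOM m F A B) ≃* ↥(Cfsg.Omega F (Cfsg.quadFormMinus m F A B)),
      ∀ x : ↥(EOM m F A B), omatM (κ x) =
        ((x : Matrix.GeneralLinearGroup (Im (Fin m)) F) : Matrix (Im (Fin m)) (Im (Fin m)) F) := by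
  have hinj : Function.Injective (Cfsg.isometryGroup F (Cfsg.quadFormMinus m F A B)).subtype :=
    Subgroup.subtype_injective _
  have hEq : EOM m F A B =
      (Cfsg.Omega F (Cfsg.quadFormMinus m F A B)).map (Cfsg.isometryGroup F (Cfsg.quadFormMinus m F A B)).subtype :=
    hG9.symm
  let e2 := Subgroup.equivMapOfInjective (Cfsg.Omega F (Cfsg.quadFormMinus m F A B))
    (Cfsg.isometryGroup F (Cfsg.quadFormMinus m F A B)).subtype hinj
  let e3 := MulEquiv.subgroupCongr hEq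
  refine ⟨e3.trans e2.symm, ?_⟩
  intro x
  have h1 : (e2 ((e3.trans e2.symm) x) : Matrix.GeneralLinearGroup (Im (Fin m)) F) =
      (x : Matrix.GeneralLinearGroup (Im (Fin m)) F) := by
    simp only [MulEquiv.trans_apply, MulEquiv.apply_symm_apply]
    rfl
  have h2 : (e2 ((e3.trans e2.symm) x) : Matrix.GeneralLinearGroup (Im (Fin m)) F) =
      ((((e3.trans e2.symm) x : Cfsg.Omega F (Cfsg.quadFormMinus m F A B)) :
        Cfsg.isometryGroup F (Cfsg.quadFormMinus m F A B)) : Matrix.GeneralLinearGroup (Im (Fin m)) F) := rfl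
  unfold omatM
  rw [← h2, h1]

/-- G11 core -/
theorem omng11_core [Fact (∀ r : F, r ^ 2 ≠ -B + A * r)]
    (S₀ : SysM F A B (Fin m) (Matrix.GeneralLinearGroup (Im (Fin m)) F))
    (hx : ∀ a b : Fin m ⊕ Fin m, a ≠ b → a ≠ ng b → ∀ t : F,
      ((S₀.x a b t : Matrix.GeneralLinearGroup (Im (Fin m)) F) : Matrix (Im (Fin m)) (Im (Fin m)) F) = TmL a b t)
    (hxs : ∀ (a : Fin m ⊕ Fin m) (u : Kq F A B),
      ((S₀.xs a u : Matrix.GeneralLinearGroup (Im (Fin m)) F) : Matrix (Im (Fin m)) (Im (Fin m)) F) = TmS a u)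
    (hG9 : Cfsg.Geo.omegaGL (Cfsg.quadFormMinus m F A B) = EOM m F A B) :
    ∃ S : SysM F A B (Fin m) ↥(Cfsg.Omega F (Cfsg.quadFormMinus m F A B)),
      S.XQ (fun _ _ => True) (fun _ => True) = ⊤ ∧
      (∀ a b : Fin m ⊕ Fin m, a ≠ b → a ≠ ng b → ∀ t : F, omatM (S.x a b t) = TmL a b t) ∧
      ∀ (a : Fin m ⊕ Fin m) (u : Kq F A B), omatM (S.xs a u) = TmS a u := by
  obtain ⟨κ, hκ⟩ := omng11_kappa (m := m) (F := F) (A := A) (B := B) hG9
  refine ⟨(S₀.restrict (EOM m F A B) (omng11_x_mem S₀ hx) (omng11_xs_mem S₀ hxs)).map κ.toMonoidHom, ?_, ?_, ?_⟩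
  · rw [eq_top_iff]
    have h1 : (⊤ : Subgroup ↥(Cfsg.Omega F (Cfsg.quadFormMinus m F A B))) =
        Subgroup.map κ.toMonoidHom ⊤ := (Subgroup.map_top_of_surjective _ κ.surjective).symm
    have h2 : Subgroup.closure (((↑) : ↥(EOM m F A B) → Matrix.GeneralLinearGroup (Im (Fin m)) F) ⁻¹'
        {M | (∃ (a b : Fin m ⊕ Fin m) (t : F), a ≠ b ∧ a ≠ ng b ∧
          (M : Matrix (Im (Fin m)) (Im (Fin m)) F) = TmL a b t) ∨
          ∃ (a : Fin m ⊕ Fin m) (u : Kq F A B), (M : Matrix (Im (Fin m)) (Im (Fin m)) F) = TmS a u}) = ⊤ :=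
      Subgroup.closure_closure_coe_preimage
    rw [h1, ← h2, MonoidHom.map_closure, Subgroup.closure_le]
    rintro _ ⟨x, hx', rfl⟩
    rcases hx' with ⟨a, b, t, hab, hab', hM⟩ | ⟨a, t, hM⟩
    · apply Subgroup.subset_closure
      refine Or.inl ⟨a, b, t, hab, hab', trivial, ?_⟩
      show κ x = κ ⟨S₀.x a b t, _⟩
      congr 1
      exact Subtype.ext (Units.ext (hM.trans (hx a b hab hab' t).symm))
    · apply Subgroup.subset_closure
      refine Or.inr ⟨a, t, trivial, ?_⟩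
      show κ x = κ ⟨S₀.xs a t, _⟩
      congr 1
      exact Subtype.ext (Units.ext (hM.trans (hxs a t).symm))
  · intro a b hab hab' t
    show omatM (κ ⟨S₀.x a b t, _⟩) = TmL a b t
    rw [hκ]
    exact hx a b hab hab' t
  · intro a t
    show omatM (κ ⟨S₀.xs a t, _⟩) = TmS a t
    rw [hκ]
    exact hxs a t

end G

end Cfsg.Agent.Lib.Helper12.OMN
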