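import Mathlib
import Cfsg.Agent.Lib.Helper12.OMN.Defs
import Cfsg.Agent.Lib.Helper12.OMN.Mat
import Cfsg.Agent.Lib.Helper1.OMNG11core

/-!
# Project OMN (designer helper12), row G11a (helper1), VERBATIM: `matSysM_XQ`
-/

set_option autoImplicit false

namespace Cfsg.Agent.Lib.Helper12.OMN

open Matrix Cfsg.Agent.Lib.helper15.St2 Cfsg.Agent.Lib.helper3.STC Cfsg.Agent.Lib.Lead.STD Cfsg.Agent.Lib.helper17.STM
  Cfsg.Agent.Lib.Lead.SPN Cfsg.Agent.Lib.Helper28.CTD Cfsg.Agent.Lib.Helper28.OMM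

universe u w

section G

variable {m : ℕ} {F : Type u} [Field F] {A B : F}

/-- G11a [S-M]  `(matSysM F A B (Fin m)).XQ ⊤ ⊤ = EOM m F A B` as subgroups of `GL`. -/
theorem matSysM_XQ [Fact (∀ r : F, r ^ 2 ≠ -B + A * r)] :
    (matSysM F A B (Fin m)).XQ (fun _ _ => True) (fun _ => True) = EOM m F A B :=
  omng11a_core (matSysM F A B (Fin m)) (fun _ _ hab hab' t => matSysM_x hab hab' t) (fun a u => matSysM_xs a u)

end G

end Cfsg.Agent.Lib.Helper12.OMN
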