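import Mathlib
import Cfsg.Agent.Lib.Helper12.OMN.Defs
import Cfsg.Agent.Lib.Lead.SPN.Defs
import Cfsg.Agent.Lib.Helper28.CTDM1f
import Cfsg.Agent.Lib.Helper28.OMMO10
import Cfsg.Agent.Lib.helper4.OMNV2

/-!
# Project OMN (designer helper12), row G3 (helper1), VERBATIM: `isSgM_embGLm`, `EO_map_leM`
-/

set_option autoImplicit false

namespace Cfsg.Agent.Lib.Helper12.OMN

open Matrix Cfsg.Agent.Lib.helper15.St2 Cfsg.Agent.Lib.helper3.STC Cfsg.Agent.Lib.Lead.STD Cfsg.Agent.Lib.helper17.STM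
  Cfsg.Agent.Lib.Helper28.OMM

universe u w

section G

variable {m : ℕ} {F : Type u} [Field F] {A B : F}

/-- G3 [S-M]  model `Helper1.OMBG3`.  `embGLm_coe`, `embMm_mulVec`, `bM_exW_left`. -/
theorem isSgM_embGLm {k : Matrix.GeneralLinearGroup (Fin m ⊕ Fin m) F} {u v : Fin m ⊕ Fin m → F} {c : F}
    (h : IsSgP k u v c) : IsSgM A B (embGLm F (Fin m) k) (exW u) (exW v) c := by
  intro x
  rw [embGLm_coe, embMm_mulVec, h]
  unfold sgActM sgAct
  rw [bM_exW_left, bM_exW_left]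
  funext i
  rcases i with i | i
  · simp [exW]
  · simp [exW]

/-- G3b [S] -/
theorem EO_map_leM : (EO m F).map (embGLm F (Fin m)) ≤ EOM m F A B := by
  rw [Subgroup.map_le_iff_le_comap]
  unfold EO
  rw [Subgroup.closure_le]
  rintro M ⟨a, b, t, hab, hab', hM⟩
  show embGLm F (Fin m) M ∈ EOM m F A B
  apply Subgroup.subset_closure
  left
  refine ⟨a, b, t, hab, hab', ?_⟩
  rw [embGLm_coe, hM, embMm_Td]

end G

end Cfsg.Agent.Lib.Helper12.OMN
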