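import Mathlib
import Cfsg.Agent.Lib.Helper12.OMN.Defs
import Cfsg.Agent.Lib.Lead.SPN.Defs
import Cfsg.Agent.Lib.Helper28.CTDM1f
import Cfsg.Agent.Lib.Helper28.OMMO10
import Cfsg.Agent.Lib.helper4.OMNV2
import Cfsg.Agent.Lib.Helper11.OMNV0
import Cfsg.Agent.Lib.Helper26.OMNG2
import Cfsg.Agent.Lib.Helper1.OMNG3
import Cfsg.Agent.Lib.Helper12.OMMO7
import Cfsg.Agent.Lib.Helper26.OMMO8
import Cfsg.Agent.Lib.Helper22.OMMO2
import Cfsg.Agent.Lib.Helper22.OMMO0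

/-!
# Project OMN (designer helper12), row G5 (helper1), VERBATIM: `siegel0_mem_EOM` — Siegel elements inside the hyperbolic part `W^⊥` lie in `EOM`

Twin of `Helper1.OMBG5`.  Extras: `omng5_of_conj` (`k ∈ EOM`, `k * t * k⁻¹ ∈ EOM → t ∈ EOM`), `omng5_exW_zero`.
-/

set_option autoImplicit false

namespace Cfsg.Agent.Lib.Helper12.OMN

open Matrix Cfsg.Agent.Lib.helper15.St2 Cfsg.Agent.Lib.helper3.STC Cfsg.Agent.Lib.Lead.STD Cfsg.Agent.Lib.helper17.STM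
  Cfsg.Agent.Lib.Lead.SPN Cfsg.Agent.Lib.Helper28.CTD Cfsg.Agent.Lib.Helper28.OMM

universe u w

section G

variable {m : ℕ} {F : Type u} [Field F] {A B : F}

theorem omng5_of_conj {k t : Matrix.GeneralLinearGroup (Im (Fin m)) F} (hk : k ∈ EOM m F A B)
    (h : k * t * k⁻¹ ∈ EOM m F A B) : t ∈ EOM m F A B := by
  have e : t = k⁻¹ * (k * t * k⁻¹) * k := by group
  rw [e]
  exact Subgroup.mul_mem _ (Subgroup.mul_mem _ (Subgroup.inv_mem _ hk) h) hk

theorem omng5_exW_zero {ι : Type w} : exW (0 : ι ⊕ ι → F) = 0 := by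
  funext k
  rcases k with k | k <;> rfl

/-- the embedding of an isometry of the hyperbolic part is an isometry (own-name special case of G4 `EOM_iso`) -/
theorem omng5_emb_iso {k : Matrix.GeneralLinearGroup (Fin m ⊕ Fin m) F}
    (hk : ∀ x, Cfsg.quadFormPlus m F ((k : Matrix (Fin m ⊕ Fin m) (Fin m ⊕ Fin m) F) *ᵥ x) = Cfsg.quadFormPlus m F x)
    (x : Im (Fin m) → F) :
    Cfsg.quadFormMinus m F A B ((embGLm F (Fin m) k : Matrix (Im (Fin m)) (Im (Fin m)) F) *ᵥ x) =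
      Cfsg.quadFormMinus m F A B x := by
  rw [embGLm_coe, embMm_mulVec, QM_split, QM_split (A := A) (B := B) x]
  have e1 : (fun j => (Sum.elim ((k : Matrix (Fin m ⊕ Fin m) (Fin m ⊕ Fin m) F) *ᵥ fun j => x (Sum.inl j))
      (fun j => x (Sum.inr j)) : Im (Fin m) → F) (Sum.inl j)) =
      (k : Matrix (Fin m ⊕ Fin m) (Fin m ⊕ Fin m) F) *ᵥ fun j => x (Sum.inl j) := rfl
  have e2 : (wv (Sum.elim ((k : Matrix (Fin m ⊕ Fin m) (Fin m ⊕ Fin m) F) *ᵥ fun j => x (Sum.inl j))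
      (fun j => x (Sum.inr j)) : Im (Fin m) → F) : Kq F A B) = wv x := rfl
  rw [e1, e2, hk]

/-- G5 [M]  **Siegel elements inside the hyperbolic part `W^⊥`.** -/
theorem siegel0_mem_EOM (hm : 3 ≤ m) (t : Matrix.GeneralLinearGroup (Im (Fin m)) F) (u v : Fin m ⊕ Fin m → F) (c : F)
    (hu : Cfsg.quadFormPlus m F u = 0) (hv : Cfsg.quadFormPlus m F v = 0) (huv : bP u v = 0)
    (ht : IsSgM A B t (exW u) (exW v) c) : t ∈ EOM m F A B := by
  by_cases hu0 : u = 0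
  · subst hu0
    rw [omng5_exW_zero] at ht
    rw [isSgM_zero ht]
    exact Subgroup.one_mem _
  obtain ⟨k, hk, hku⟩ := EO_trans hm u hu0 hu
  have hK : embGLm F (Fin m) k ∈ EOM m F A B := EO_map_leM (Subgroup.mem_map_of_mem _ hk)
  have hKiso := omng5_emb_iso (A := A) (B := B) (EO_iso k hk)
  have h1 := isSgM_conj hKiso ht
  rw [embGLm_coe, embMm_mulVec_exW, embMm_mulVec_exW, hku] at h1
  have hkiso := EO_iso k hk
  have hQv' : Cfsg.quadFormPlus m F ((k : Matrix (Fin m ⊕ Fin m) (Fin m ⊕ Fin m) F) *ᵥ v) = 0 := by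
    rw [hkiso, hv]
  have hbP : bP (Pi.single (Sum.inl ⟨0, by omega⟩) 1) ((k : Matrix (Fin m ⊕ Fin m) (Fin m ⊕ Fin m) F) *ᵥ v) = 0 := by
    rw [← hku, bP_of_iso hkiso, huv]
  obtain ⟨k', hk', hsg⟩ := siegel_at_e0 hm _ c hQv' hbP
  have h2 := isSgM_embGLm (A := A) (B := B) hsg
  have e := isSgM_ext h1 h2
  apply omng5_of_conj hK
  rw [e]
  exact EO_map_leM (Subgroup.mem_map_of_mem _ hk')

end G

end Cfsg.Agent.Lib.Helper12.OMN
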