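import Mathlib
import Cfsg.Agent.Lib.Helper12.OMN.Defs
import Cfsg.Agent.Lib.Lead.SPN.Defs
import Cfsg.Agent.Lib.Helper28.CTDM1f
import Cfsg.Agent.Lib.Helper28.OMMO10
import Cfsg.Agent.Lib.helper4.OMNV2
import Cfsg.Agent.Lib.Helper11.OMNV0
import Cfsg.Agent.Lib.Helper11.OMNV1

/-!
# Project OMN (designer helper12), row G6 (helper1): CORES of `exists_killW`, `exists_killW_fix` (twin of `Helper1.OMBG6core`)

Hypothesis `hS : ∀ b u, ∃ k ∈ EOM m F A B, k.1 = TmS b u` (from `tmS`, `tmS_coe` of block M1).  Uses V1 `TmS_mulVec`.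
-/

set_option autoImplicit false

namespace Cfsg.Agent.Lib.Helper12.OMN

open Matrix Cfsg.Agent.Lib.helper15.St2 Cfsg.Agent.Lib.helper3.STC Cfsg.Agent.Lib.Lead.STD Cfsg.Agent.Lib.helper17.STM

universe u w

section G

variable {m : ℕ} {F : Type u} [Field F] {A B : F}

/-- a singular vector with nonzero `W`-component has a hyperbolic pair of nonzero coordinates -/
theorem omng6_exists_pair [Fact (∀ r : F, r ^ 2 ≠ -B + A * r)] (x : Im (Fin m) → F)
    (hQ : Cfsg.quadFormMinus m F A B x = 0) (h0 : ¬ (x iz1 = 0 ∧ x iz2 = 0)) :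
    ∃ i : Fin m, x (Sum.inl (Sum.inl i)) * x (Sum.inl (Sum.inr i)) ≠ 0 := by
  unfold Cfsg.quadFormMinus at hQ
  have hs : ∑ i : Fin m, x (Sum.inl (Sum.inl i)) * x (Sum.inl (Sum.inr i)) ≠ 0 := by
    intro h
    rw [h, zero_add] at hQ
    have hw : nm (wv x : Kq F A B) = 0 := by
      rw [nm_def]
      show x iz1 * x iz1 + A * x iz1 * x iz2 + B * x iz2 * x iz2 = 0
      linear_combination hQ
    have hw0 : (wv x : Kq F A B) = 0 := nm_eq_zero.1 hw
    apply h0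
    constructor
    · have := congrArg QuadraticAlgebra.re hw0
      exact this
    · have := congrArg QuadraticAlgebra.im hw0
      exact this
  obtain ⟨i, -, hi⟩ := Finset.exists_ne_zero_of_sum_ne_zero hs
  exact ⟨i, hi⟩

theorem omng6_killW_core [Fact (∀ r : F, r ^ 2 ≠ -B + A * r)]
    (hS : ∀ (b : Fin m ⊕ Fin m) (u : Kq F A B), ∃ k ∈ EOM m F A B,
      (k : Matrix (Im (Fin m)) (Im (Fin m)) F) = TmS b u)
    (x : Im (Fin m) → F) (hQ : Cfsg.quadFormMinus m F A B x = 0) :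
    ∃ k ∈ EOM m F A B, ((k : Matrix (Im (Fin m)) (Im (Fin m)) F) *ᵥ x) iz1 = 0 ∧
      ((k : Matrix (Im (Fin m)) (Im (Fin m)) F) *ᵥ x) iz2 = 0 := by
  by_cases h0 : x iz1 = 0 ∧ x iz2 = 0
  · refine ⟨1, Subgroup.one_mem _, ?_⟩
    rw [Units.val_one, Matrix.one_mulVec]
    exact h0
  obtain ⟨i, hi⟩ := omng6_exists_pair x hQ h0
  have hi2 : x (Sum.inl (Sum.inr i)) ≠ 0 := right_ne_zero_of_mul hi
  obtain ⟨k, hk, hkM⟩ := hS (Sum.inl i) (⟨-(x iz1) / x (Sum.inl (Sum.inr i)), -(x iz2) / x (Sum.inl (Sum.inr i))⟩ : Kq F A B)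
  refine ⟨k, hk, ?_, ?_⟩
  · rw [hkM, TmS_mulVec]
    have hn : ng (Sum.inl i : Fin m ⊕ Fin m) = Sum.inr i := rfl
    rw [hn]
    simp only [Pi.add_apply, Pi.sub_apply, Pi.single_eq_same]
    rw [Pi.single_eq_of_ne (by simp), Pi.single_eq_of_ne (by simp)]
    field_simp
    ring
  · rw [hkM, TmS_mulVec]
    have hn : ng (Sum.inl i : Fin m ⊕ Fin m) = Sum.inr i := rfl
    rw [hn]
    simp only [Pi.add_apply, Pi.sub_apply, Pi.single_eq_same]
    rw [Pi.single_eq_of_ne (by simp), Pi.single_eq_of_ne (by simp)]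
    field_simp
    ring

theorem omng6_killW_fix_core [Fact (∀ r : F, r ^ 2 ≠ -B + A * r)]
    (hS : ∀ (b : Fin m ⊕ Fin m) (u : Kq F A B), ∃ k ∈ EOM m F A B,
      (k : Matrix (Im (Fin m)) (Im (Fin m)) F) = TmS b u)
    (a : Fin m ⊕ Fin m) (v : Im (Fin m) → F)
    (hQ : Cfsg.quadFormMinus m F A B v = 0) (hv : v (Sum.inl (ng a)) = 0) :
    ∃ k ∈ EOM m F A B, (k : Matrix (Im (Fin m)) (Im (Fin m)) F) *ᵥ (Pi.single (Sum.inl a) 1) = Pi.single (Sum.inl a) 1 ∧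
      ((k : Matrix (Im (Fin m)) (Im (Fin m)) F) *ᵥ v) iz1 = 0 ∧ ((k : Matrix (Im (Fin m)) (Im (Fin m)) F) *ᵥ v) iz2 = 0 := by
  by_cases h0 : v iz1 = 0 ∧ v iz2 = 0
  · refine ⟨1, Subgroup.one_mem _, ?_, ?_⟩
    · rw [Units.val_one, Matrix.one_mulVec]
    · rw [Units.val_one, Matrix.one_mulVec]
      exact h0
  obtain ⟨i, hi⟩ := omng6_exists_pair v hQ h0
  have hi1 : v (Sum.inl (Sum.inl i)) ≠ 0 := left_ne_zero_of_mul hi
  have hi2 : v (Sum.inl (Sum.inr i)) ≠ 0 := right_ne_zero_of_mul hi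
  have hn : ng (Sum.inl i : Fin m ⊕ Fin m) = Sum.inr i := rfl
  have ha1 : a ≠ Sum.inr i := by
    intro h
    apply hi1
    rw [h] at hv
    exact hv
  have ha2 : a ≠ Sum.inl i := by
    intro h
    apply hi2
    rw [h] at hv
    exact hv
  obtain ⟨k, hk, hkM⟩ := hS (Sum.inl i) (⟨-(v iz1) / v (Sum.inl (Sum.inr i)), -(v iz2) / v (Sum.inl (Sum.inr i))⟩ : Kq F A B)
  refine ⟨k, hk, ?_, ?_, ?_⟩
  · rw [hkM, TmS_mulVec, hn]
    have e1 : (Pi.single (Sum.inl a) (1 : F) : Im (Fin m) → F) (Sum.inl (Sum.inr i)) = 0 :=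
      Pi.single_eq_of_ne (fun h => ha1 (Sum.inl_injective h).symm) _
    have e2 : (Pi.single (Sum.inl a) (1 : F) : Im (Fin m) → F) iz1 = 0 :=
      Pi.single_eq_of_ne (by simp) _
    have e3 : (Pi.single (Sum.inl a) (1 : F) : Im (Fin m) → F) iz2 = 0 :=
      Pi.single_eq_of_ne (by simp) _
    rw [e1, e2, e3]
    simp
  · rw [hkM, TmS_mulVec, hn]
    simp only [Pi.add_apply, Pi.sub_apply, Pi.single_eq_same]
    rw [Pi.single_eq_of_ne (by simp), Pi.single_eq_of_ne (by simp)]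
    field_simp
    ring
  · rw [hkM, TmS_mulVec, hn]
    simp only [Pi.add_apply, Pi.sub_apply, Pi.single_eq_same]
    rw [Pi.single_eq_of_ne (by simp), Pi.single_eq_of_ne (by simp)]
    field_simp
    ring

end G

end Cfsg.Agent.Lib.Helper12.OMN
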