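import Mathlib
import Cfsg.Agent.Lib.Helper12.OMN.Defs
import Cfsg.Agent.Lib.Helper12.OMN.Mat
import Cfsg.Agent.Lib.Helper1.OMNG6core

/-!
# Project OMN (designer helper12), row G6 (helper1), VERBATIM: `exists_killW`, `exists_killW_fix`
-/

set_option autoImplicit false

namespace Cfsg.Agent.Lib.Helper12.OMN

open Matrix Cfsg.Agent.Lib.helper15.St2 Cfsg.Agent.Lib.helper3.STC Cfsg.Agent.Lib.Lead.STD Cfsg.Agent.Lib.helper17.STM
  Cfsg.Agent.Lib.Lead.SPN Cfsg.Agent.Lib.Helper28.CTD Cfsg.Agent.Lib.Helper28.OMM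

universe u w

section G

variable {m : ℕ} {F : Type u} [Field F] {A B : F}

/-- the short root elements lie in `EOM` -/
theorem omng6_hS (b : Fin m ⊕ Fin m) (u : Kq F A B) :
    ∃ k ∈ EOM m F A B, (k : Matrix (Im (Fin m)) (Im (Fin m)) F) = TmS b u :=
  ⟨tmS b u, Subgroup.subset_closure (Or.inr ⟨b, u, tmS_coe b u⟩), tmS_coe b u⟩

/-- G6a [M] -/
theorem exists_killW [Fact (∀ r : F, r ^ 2 ≠ -B + A * r)] (x : Im (Fin m) → F) (hQ : Cfsg.quadFormMinus m F A B x = 0) :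
    ∃ k ∈ EOM m F A B, ((k : Matrix (Im (Fin m)) (Im (Fin m)) F) *ᵥ x) iz1 = 0 ∧
      ((k : Matrix (Im (Fin m)) (Im (Fin m)) F) *ᵥ x) iz2 = 0 :=
  omng6_killW_core omng6_hS x hQ

/-- G6b [M] -/
theorem exists_killW_fix [Fact (∀ r : F, r ^ 2 ≠ -B + A * r)] (a : Fin m ⊕ Fin m) (v : Im (Fin m) → F)
    (hQ : Cfsg.quadFormMinus m F A B v = 0) (hv : v (Sum.inl (ng a)) = 0) :
    ∃ k ∈ EOM m F A B, (k : Matrix (Im (Fin m)) (Im (Fin m)) F) *ᵥ (Pi.single (Sum.inl a) 1) = Pi.single (Sum.inl a) 1 ∧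
      ((k : Matrix (Im (Fin m)) (Im (Fin m)) F) *ᵥ v) iz1 = 0 ∧ ((k : Matrix (Im (Fin m)) (Im (Fin m)) F) *ᵥ v) iz2 = 0 :=
  omng6_killW_fix_core omng6_hS a v hQ hv

end G

end Cfsg.Agent.Lib.Helper12.OMN
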