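import Mathlib
import Cfsg.Agent.Lib.Helper12.OMN.Defs
import Cfsg.Agent.Lib.helper4.OMNV2
import Cfsg.Agent.Lib.Helper11.OMNV0
import Cfsg.Agent.Lib.Helper26.OMNG2
import Cfsg.Agent.Lib.Helper1.OMNG3
import Cfsg.Agent.Lib.helper4.OMNG4
import Cfsg.Agent.Lib.Helper1.OMNG6
import Cfsg.Agent.Lib.Helper1.OMNG5
import Cfsg.Agent.Lib.Helper12.OMMO7

/-!
# Project OMN (designer helper12), row G7 (helper1), VERBATIM: `siegel_mem_EOM` — every Siegel element lies in `EOM`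

Three conjugations (G6a `exists_killW`, OMM `EO_trans` through `embGLm`, G6b `exists_killW_fix`), then G5 `siegel0_mem_EOM`.
Twin of `Helper1.OMBG7`.  Extras: `omng7_step3` (`u = e_a₀`), `omng7_step2` (`wv u = 0`).
-/

set_option autoImplicit false

namespace Cfsg.Agent.Lib.Helper12.OMN

open Matrix Cfsg.Agent.Lib.helper15.St2 Cfsg.Agent.Lib.helper3.STC Cfsg.Agent.Lib.Lead.STD Cfsg.Agent.Lib.helper17.STM
  Cfsg.Agent.Lib.Lead.SPN Cfsg.Agent.Lib.Helper28.CTD Cfsg.Agent.Lib.Helper28.OMM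

universe u w

section G

variable {m : ℕ} {F : Type u} [Field F] {A B : F}

/-- step 3: `u = e_{a₀}` -/
theorem omng7_step3 [Fact (∀ r : F, r ^ 2 ≠ -B + A * r)] (hm : 3 ≤ m) (a₀ : Fin m ⊕ Fin m)
    (t : Matrix.GeneralLinearGroup (Im (Fin m)) F) (v : Im (Fin m) → F) (c : F)
    (hu : Cfsg.quadFormMinus m F A B (Pi.single (Sum.inl a₀) 1) = 0) (hv : Cfsg.quadFormMinus m F A B v = 0)
    (huv : bM A B (Pi.single (Sum.inl a₀) 1) v = 0) (ht : IsSgM A B t (Pi.single (Sum.inl a₀) 1) v c) :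
    t ∈ EOM m F A B := by
  have hvn : v (Sum.inl (ng a₀)) = 0 := by
    rw [← bM_single_left (A := A) (B := B) a₀ v]
    exact huv
  obtain ⟨k, hk, hka, hk1, hk2⟩ := exists_killW_fix a₀ v hv hvn
  have hkiso := EOM_iso k hk
  have h1 := isSgM_conj hkiso ht
  rw [hka] at h1
  have hv' := exW_of_zero _ hk1 hk2
  rw [hv', ← exW_single] at h1
  apply omng5_of_conj hk
  refine siegel0_mem_EOM hm _ (Pi.single a₀ 1) _ c ?_ ?_ ?_ h1
  · rw [← QM_exW (A := A) (B := B), exW_single]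
    exact hu
  · rw [← QM_exW (A := A) (B := B), ← hv', hkiso]
    exact hv
  · rw [← bM_exW (A := A) (B := B), ← hv', exW_single, ← hka, bM_of_iso hkiso]
    exact huv

/-- step 2: `wv u = 0` -/
theorem omng7_step2 [Fact (∀ r : F, r ^ 2 ≠ -B + A * r)] (hm : 3 ≤ m) (t : Matrix.GeneralLinearGroup (Im (Fin m)) F)
    (u v : Im (Fin m) → F) (c : F)
    (hu1 : u iz1 = 0) (hu2 : u iz2 = 0) (hune : u ≠ 0)
    (hu : Cfsg.quadFormMinus m F A B u = 0) (hv : Cfsg.quadFormMinus m F A B v = 0) (huv : bM A B u v = 0)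
    (ht : IsSgM A B t u v c) :
    t ∈ EOM m F A B := by
  have hu' := exW_of_zero u hu1 hu2
  have hune' : (fun k => u (Sum.inl k)) ≠ 0 := by
    intro h
    apply hune
    rw [hu', h]
    exact omng5_exW_zero
  have hQ' : Cfsg.quadFormPlus m F (fun k => u (Sum.inl k)) = 0 := by
    rw [← QM_exW (A := A) (B := B), ← hu']
    exact hu
  obtain ⟨k, hk, hku⟩ := EO_trans hm _ hune' hQ'
  have hK : embGLm F (Fin m) k ∈ EOM m F A B := EO_map_leM (Subgroup.mem_map_of_mem _ hk)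
  have hKiso := EOM_iso (embGLm F (Fin m) k) hK
  have h1 := isSgM_conj hKiso ht
  have e1 : ((embGLm F (Fin m) k : Matrix.GeneralLinearGroup (Im (Fin m)) F) : Matrix (Im (Fin m)) (Im (Fin m)) F) *ᵥ u =
      Pi.single (Sum.inl (Sum.inl ⟨0, by omega⟩)) 1 := by
    rw [embGLm_coe]
    conv_lhs => rw [hu']
    rw [embMm_mulVec_exW, hku, exW_single]
  apply omng5_of_conj hK
  rw [e1] at h1
  refine omng7_step3 hm _ _ _ c ?_ ?_ ?_ h1
  · rw [← e1, hKiso]
    exact hu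
  · rw [hKiso]
    exact hv
  · rw [← e1, bM_of_iso hKiso]
    exact huv

/-- G7 [M]  **every Siegel element lies in `EOM`.** -/
theorem siegel_mem_EOM [Fact (∀ r : F, r ^ 2 ≠ -B + A * r)] (hm : 3 ≤ m) (t : Matrix.GeneralLinearGroup (Im (Fin m)) F)
    (u v : Im (Fin m) → F) (c : F)
    (hu : Cfsg.quadFormMinus m F A B u = 0) (hv : Cfsg.quadFormMinus m F A B v = 0) (huv : bM A B u v = 0)
    (ht : IsSgM A B t u v c) : t ∈ EOM m F A B := by
  by_cases hu0 : u = 0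
  · subst hu0
    rw [isSgM_zero ht]
    exact Subgroup.one_mem _
  obtain ⟨k, hk, hk1, hk2⟩ := exists_killW u hu
  have hkiso := EOM_iso k hk
  have h1 := isSgM_conj hkiso ht
  apply omng5_of_conj hk
  refine omng7_step2 hm _ _ _ c hk1 hk2 ?_ ?_ ?_ ?_ h1
  · intro h
    apply hu0
    have h2 : ((k⁻¹ : Matrix.GeneralLinearGroup (Im (Fin m)) F) : Matrix (Im (Fin m)) (Im (Fin m)) F) *ᵥ
        ((k : Matrix (Im (Fin m)) (Im (Fin m)) F) *ᵥ u) = u := by
      rw [Matrix.mulVec_mulVec, ← Units.val_mul, inv_mul_cancel, Units.val_one, Matrix.one_mulVec]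
    rw [← h2, h, Matrix.mulVec_zero]
  · rw [hkiso]
    exact hu
  · rw [hkiso]
    exact hv
  · rw [bM_of_iso hkiso]
    exact huv

end G

end Cfsg.Agent.Lib.Helper12.OMN
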