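import Mathlib
import Cfsg.Agent.Lib.Helper12.OMN.Defs
import Cfsg.Agent.Lib.Helper12.OMN.Mat
import Cfsg.Agent.Lib.Helper11.OMNV0
import Cfsg.Agent.Lib.helper2.OMNG1
import Cfsg.Agent.Lib.Helper1.OMNG7
import Cfsg.Agent.Lib.Helper1.OMNG11core

/-!
# Project OMN (designer helper12), rows G9, G11 (helper1): CORES on the statements of G8 (`TmL_mem_omegaGL`, `TmS_mem_omegaGL`)

`omng9_core hm hL hS : omegaGL (quadFormMinus m F A B) = EOM m F A B`, `omng11_of_g8 hm hL hS` = the statement of G11 `exists_omegaSysM`.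
-/

set_option autoImplicit false

namespace Cfsg.Agent.Lib.Helper12.OMN

open Matrix Cfsg.Agent.Lib.helper15.St2 Cfsg.Agent.Lib.helper3.STC Cfsg.Agent.Lib.Lead.STD Cfsg.Agent.Lib.helper17.STM
  Cfsg.Agent.Lib.Lead.SPN Cfsg.Agent.Lib.Helper28.CTD Cfsg.Agent.Lib.Helper28.OMM

universe u w

section G

variable {m : ℕ} {F : Type u} [Field F] {A B : F}

/-- G9 core -/
theorem omng9_core [Fintype F] [Fact (∀ r : F, r ^ 2 ≠ -B + A * r)] (hm : 3 ≤ m)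
    (hL : ∀ {a b : Fin m ⊕ Fin m}, a ≠ b → a ≠ ng b → ∀ (t : F) (M : Matrix.GeneralLinearGroup (Im (Fin m)) F),
      (M : Matrix (Im (Fin m)) (Im (Fin m)) F) = TmL a b t → M ∈ Cfsg.Geo.omegaGL (Cfsg.quadFormMinus m F A B))
    (hS : ∀ (a : Fin m ⊕ Fin m) (u : Kq F A B) (M : Matrix.GeneralLinearGroup (Im (Fin m)) F),
      (M : Matrix (Im (Fin m)) (Im (Fin m)) F) = TmS a u → M ∈ Cfsg.Geo.omegaGL (Cfsg.quadFormMinus m F A B)) :
    Cfsg.Geo.omegaGL (Cfsg.quadFormMinus m F A B) = EOM m F A B := by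
  apply le_antisymm
  · exact omega_le_of_siegelM hm (fun z₁ z₂ h => aniso_of_fact z₁ z₂ h) (EOM m F A B)
      (fun t u v c hu hv huv ht => siegel_mem_EOM hm t u v c hu hv huv ht)
  · unfold EOM
    rw [Subgroup.closure_le]
    rintro M (⟨a, b, t, hab, hab', hM⟩ | ⟨a, u, hM⟩)
    · exact hL hab hab' t M hM
    · exact hS a u M hM

/-- G11 on the statements of G8 -/
theorem omng11_of_g8 [Fintype F] [Fact (∀ r : F, r ^ 2 ≠ -B + A * r)] (hm : 3 ≤ m)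
    (hL : ∀ {a b : Fin m ⊕ Fin m}, a ≠ b → a ≠ ng b → ∀ (t : F) (M : Matrix.GeneralLinearGroup (Im (Fin m)) F),
      (M : Matrix (Im (Fin m)) (Im (Fin m)) F) = TmL a b t → M ∈ Cfsg.Geo.omegaGL (Cfsg.quadFormMinus m F A B))
    (hS : ∀ (a : Fin m ⊕ Fin m) (u : Kq F A B) (M : Matrix.GeneralLinearGroup (Im (Fin m)) F),
      (M : Matrix (Im (Fin m)) (Im (Fin m)) F) = TmS a u → M ∈ Cfsg.Geo.omegaGL (Cfsg.quadFormMinus m F A B)) :
    ∃ S : SysM F A B (Fin m) ↥(Cfsg.Omega F (Cfsg.quadFormMinus m F A B)),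
      S.XQ (fun _ _ => True) (fun _ => True) = ⊤ ∧
      (∀ a b : Fin m ⊕ Fin m, a ≠ b → a ≠ ng b → ∀ t : F, omatM (S.x a b t) = TmL a b t) ∧
      ∀ (a : Fin m ⊕ Fin m) (u : Kq F A B), omatM (S.xs a u) = TmS a u :=
  omng11_core (matSysM F A B (Fin m)) (fun _ _ hab hab' t => matSysM_x hab hab' t) (fun a u => matSysM_xs a u)
    (omng9_core hm hL hS)

end G

end Cfsg.Agent.Lib.Helper12.OMN
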