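import Mathlib
import Cfsg.Agent.Lib.Helper12.OMN.Defs
import Cfsg.Agent.Lib.Helper12.OMN.Mat
import Cfsg.Agent.Lib.helper4.OMNG8
import Cfsg.Agent.Lib.Helper1.OMNG9core

/-!
# Project OMN (designer helper12), rows G9, G11 (helper1), VERBATIM: `omegaGL_eq_EOM`, `exists_omegaSysM` (TARGET (N-b))
-/

set_option autoImplicit false

namespace Cfsg.Agent.Lib.Helper12.OMN

open Matrix Cfsg.Agent.Lib.helper15.St2 Cfsg.Agent.Lib.helper3.STC Cfsg.Agent.Lib.Lead.STD Cfsg.Agent.Lib.helper17.STM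
  Cfsg.Agent.Lib.Lead.SPN Cfsg.Agent.Lib.Helper28.CTD Cfsg.Agent.Lib.Helper28.OMM

universe u w

section G

variable {m : ℕ} {F : Type u} [Field F] {A B : F}

/-- G9 [S]  `omega_le_of_siegelM` (`aniso_of_fact`), `siegel_mem_EOM`; `TmL_mem_omegaGL`, `TmS_mem_omegaGL` + `Subgroup.closure_le`. -/
theorem omegaGL_eq_EOM [Fintype F] [Fact (∀ r : F, r ^ 2 ≠ -B + A * r)] (hm : 3 ≤ m) :
    Cfsg.Geo.omegaGL (Cfsg.quadFormMinus m F A B) = EOM m F A B :=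
  omng9_core hm (fun hab hab' t M hM => TmL_mem_omegaGL hm hab hab' t M hM) (fun a u M hM => TmS_mem_omegaGL hm a u M hM)

/-- G11 [M]  **(N-b) the system of `Ω⁻_{2m+2}(F)`.** -/
theorem exists_omegaSysM [Fintype F] [Fact (∀ r : F, r ^ 2 ≠ -B + A * r)] (hm : 3 ≤ m) :
    ∃ S : SysM F A B (Fin m) ↥(Cfsg.Omega F (Cfsg.quadFormMinus m F A B)),
      S.XQ (fun _ _ => True) (fun _ => True) = ⊤ ∧
      (∀ a b : Fin m ⊕ Fin m, a ≠ b → a ≠ ng b → ∀ t : F, omatM (S.x a b t) = TmL a b t) ∧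
      ∀ (a : Fin m ⊕ Fin m) (u : Kq F A B), omatM (S.xs a u) = TmS a u :=
  omng11_of_g8 hm (fun hab hab' t M hM => TmL_mem_omegaGL hm hab hab' t M hM) (fun a u M hM => TmS_mem_omegaGL hm a u M hM)

end G

end Cfsg.Agent.Lib.Helper12.OMN
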