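import Mathlib

set_option autoImplicit false

namespace Cfsg.Agent.Lib.Helper1.OMO

theorem omocombeven_h1_sum_three (ν : Multiset ℕ) (a b c : ℕ) (hab : a ≠ b) (hac : a ≠ c) (hbc : b ≠ c)
    (h : ∀ e ∈ ν, e = a ∨ e = b ∨ e = c) : ν.sum = ν.count a * a + ν.count b * b + ν.count c * c := by
  induction ν using Multiset.induction_on with
  | empty => simp
  | cons x ν ih =>
    have ih' := ih (fun e he => h e (Multiset.mem_cons_of_mem he))
    rw [Multiset.sum_cons, ih', Multiset.count_cons, Multiset.count_cons, Multiset.count_cons]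
    rcases h x (Multiset.mem_cons_self x ν) with rfl | rfl | rfl
    · rw [if_pos rfl, if_neg (Ne.symm hab), if_neg (Ne.symm hac)]
      ring
    · rw [if_neg hab, if_pos rfl, if_neg (Ne.symm hbc)]
      ring
    · rw [if_neg hac, if_neg hbc, if_pos rfl]
      ring

theorem omocombeven_h1_comb_even (p d m : ℕ) (hp : 3 ≤ p) (hd : 2 ≤ d) (hde : Even d) (hme : Even m)
    (h : ∀ μ : Multiset ℕ, (∀ e ∈ μ, 0 < e ∧ e ≤ p) → (∀ e : ℕ, Even e → Even (μ.count e)) → μ.sum = 2 * d → (∃ e ∈ μ, Odd e) →
      ∃ ν : Multiset ℕ, ν ≤ μ ∧ ν.sum = m ∧ ∀ e : ℕ, Even e → Even (ν.count e)) : m % 4 = 0 := by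
  obtain ⟨ν, hνle, hνsum, hνe⟩ := h (Multiset.replicate (d - 2) 2 + {3, 1})
    (by
      intro e he
      rcases Multiset.mem_add.mp he with he | he
      · rw [Multiset.eq_of_mem_replicate he]; omega
      · have : e = 3 ∨ e = 1 := by simpa using he
        omega)
    (by
      intro e hee
      rw [Multiset.count_add, Multiset.count_replicate]
      have h1 : e ≠ 1 := by
        rintro rfl
        exact absurd hee (by decide)
      have h3 : e ≠ 3 := by
        rintro rfl
        exact absurd hee (by decide)
      have h6 : Multiset.count e ({3, 1} : Multiset ℕ) = 0 := by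
        rw [Multiset.count_eq_zero]
        intro hmem
        have : e = 3 ∨ e = 1 := by simpa using hmem
        omega
      rw [h6, add_zero]
      split_ifs
      · obtain ⟨k, hk⟩ := hde
        exact ⟨k - 1, by omega⟩
      · exact Even.zero)
    (by
      rw [Multiset.sum_add, Multiset.sum_replicate, smul_eq_mul]
      simp
      omega)
    ⟨1, by simp, by decide⟩
  have hmem : ∀ e ∈ ν, e = 2 ∨ e = 3 ∨ e = 1 := by
    intro e he
    rcases Multiset.mem_add.mp (Multiset.mem_of_le hνle he) with he | he
    · exact Or.inl (Multiset.eq_of_mem_replicate he)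
    · have : e = 3 ∨ e = 1 := by simpa using he
      omega
  have hsum := omocombeven_h1_sum_three ν 2 3 1 (by decide) (by decide) (by decide) hmem
  have hc3 : ν.count 3 ≤ 1 := by
    have := Multiset.count_le_of_le 3 hνle
    rw [Multiset.count_add, Multiset.count_replicate] at this
    simpa using this
  have hc1 : ν.count 1 ≤ 1 := by
    have := Multiset.count_le_of_le 1 hνle
    rw [Multiset.count_add, Multiset.count_replicate] at this
    simpa using this
  obtain ⟨c', hc'⟩ := hνe 2 (by decide)
  obtain ⟨m', hm'⟩ := hme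
  have h3 : ν.count 3 = 0 ∨ ν.count 3 = 1 := by omega
  have h1 : ν.count 1 = 0 ∨ ν.count 1 = 1 := by omega
  rcases h3 with h3 | h3 <;> rcases h1 with h1 | h1 <;> omega

end Cfsg.Agent.Lib.Helper1.OMO
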