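import Mathlib
import Cfsg.Agent.Lib.helper17.OMP.Defs
import Cfsg.Agent.Lib.helper4.OMPE9

/-!
# Project OMP (designer helper17), row A15 core (helper1): type I' everywhere

`ompa15_core`: `one_gen` with the STATEMENTS of A6 `PP_indep NN_indep`, A9 `PP_conj NN_conj`, A13 `tv_comm_PP tv_comm_NN`
and A14 `one_all` (at the given `p Φ y`) as hypotheses.
-/

set_option autoImplicit false

namespace Cfsg.Agent.Lib.helper17.OMP

open Matrix Cfsg.Agent.Lib.helper14.CTE Cfsg.Agent.Lib.helper14.CTA Cfsg.Agent.Lib.helper17.SLN Cfsg.Agent.Lib.Helper28.CTD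

universe u v w

section A

variable {F : Type u} [Field F] {G : Type v} [Group G] {ι : Type w} [Fintype ι] [DecidableEq ι]

/-- conjugation of a transvection when only the row `c` of `g` is known up to a scalar -/
theorem ompa15_conj_tv_row (g : Matrix.SpecialLinearGroup ι F) (i j a c : ι) (hij : i ≠ j) (hac : a ≠ c) (β : F)
    (h1 : g.1 *ᵥ Pi.single i 1 = Pi.single a 1) (h2 : Pi.single c 1 ᵥ* g.1 = Pi.single j β) (x : F) :
    g * tv i j (β * x) * g⁻¹ = tv a c x := by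
  rw [mul_inv_eq_iff_eq_mul]
  apply Subtype.ext
  rw [Matrix.SpecialLinearGroup.coe_mul, Matrix.SpecialLinearGroup.coe_mul, tv_coe hij, tv_coe hac]
  unfold Matrix.transvection
  rw [mul_add, add_mul, mul_one, one_mul]
  congr 1
  ext p q
  have e1 : ∀ p, g.1 p i = if p = a then 1 else 0 := by
    intro p
    have := congrFun h1 p
    rw [Matrix.mulVec_single_one, Pi.single_apply] at this
    exact this
  have e2 : ∀ q, g.1 c q = if q = j then β else 0 := by
    intro q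
    have := congrFun h2 q
    rw [Matrix.single_one_vecMul, Pi.single_apply] at this
    exact this
  rw [ctatvapi_mul_single, ctatvapi_single_mul, e1, e2]
  by_cases hq : q = j
  · by_cases hp : p = a
    · rw [if_pos hq, if_pos hp, if_pos hp, if_pos hq]
      ring
    · rw [if_pos hq, if_neg hp, if_neg hp, zero_mul]
  · rw [if_neg hq, if_neg hq, mul_zero, ite_self]

omit [DecidableEq ι] in
/-- four distinct elements exhaust a type with four elements -/
theorem ompa15_four (h4 : Fintype.card ι = 4) (a b c d : ι) (hab : a ≠ b) (hac : a ≠ c) (had : a ≠ d) (hbc : b ≠ c)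
    (hbd : b ≠ d) (hcd : c ≠ d) (q : ι) : q = a ∨ q = b ∨ q = c ∨ q = d := by
  classical
  have hs : ({a, b, c, d} : Finset ι).card = 4 := by
    rw [Finset.card_insert_of_notMem, Finset.card_insert_of_notMem, Finset.card_insert_of_notMem,
      Finset.card_singleton]
    · simpa using hcd
    · simp [hbc, hbd]
    · simp [hab, hac, had]
  have hu : ({a, b, c, d} : Finset ι) = Finset.univ := by
    apply Finset.eq_univ_of_card
    rw [hs, h4]
  have hq : q ∈ ({a, b, c, d} : Finset ι) := by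
    rw [hu]
    exact Finset.mem_univ q
  simpa using hq

omit [DecidableEq ι] in
/-- a fifth element -/
theorem ompa15_fifth (h5 : 5 ≤ Fintype.card ι) (a b c d : ι) : ∃ k : ι, k ≠ a ∧ k ≠ b ∧ k ≠ c ∧ k ≠ d := by
  classical
  have hs : ({a, b, c, d} : Finset ι).card ≤ 4 := Finset.card_le_four
  have hlt : ({a, b, c, d} : Finset ι).card < (Finset.univ : Finset ι).card := by
    rw [Finset.card_univ]
    omega
  obtain ⟨k, -, hk⟩ := Finset.exists_mem_notMem_of_card_lt_card hlt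
  refine ⟨k, ?_, ?_, ?_, ?_⟩ <;> intro h <;> apply hk <;> simp [h]

/-- conjugation transports commutation -/
theorem ompa15_conj_comm {g a b a' b' : G} (ha : g * a * g⁻¹ = a') (hb : g * b * g⁻¹ = b') (h : Commute a b) :
    Commute a' b' := by
  rw [← ha, ← hb]
  show g * a * g⁻¹ * (g * b * g⁻¹) = g * b * g⁻¹ * (g * a * g⁻¹)
  have h' : a * b = b * a := h
  calc g * a * g⁻¹ * (g * b * g⁻¹) = g * (a * b) * g⁻¹ := by group
    _ = g * (b * a) * g⁻¹ := by rw [h']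
    _ = g * b * g⁻¹ * (g * a * g⁻¹) := by group

theorem ompa15_core (h4 : 4 ≤ Fintype.card ι) (p : Pts ι) (Φ : Matrix.SpecialLinearGroup ι F →* G) (y : G)
    (hPPindep : ∀ (a b k k' : ι), a ≠ b → a ≠ k → b ≠ k → a ≠ k' → b ≠ k' → ∀ t : F,
      PP p Φ y a b k t = PP p Φ y a b k' t)
    (hNNindep : ∀ (a b k k' : ι), a ≠ b → a ≠ k → b ≠ k → a ≠ k' → b ≠ k' → ∀ t : F,
      NN p Φ y a b k t = NN p Φ y a b k' t)
    (hPPconj : ∀ (g : Matrix.SpecialLinearGroup ι F) (a b k a' b' k' : ι), a ≠ b → a ≠ k → b ≠ k →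
      a' ≠ b' → a' ≠ k' → b' ≠ k' → Mv1 g a a' → Mv1 g b b' → Mv1 g k k' → ∀ t : F,
      Φ g * PP p Φ y a b k t * (Φ g)⁻¹ = PP p Φ y a' b' k' t)
    (hNNconj : ∀ (g : Matrix.SpecialLinearGroup ι F) (a b k a' b' k' : ι), a ≠ b → a ≠ k → b ≠ k →
      a' ≠ b' → a' ≠ k' → b' ≠ k' → Mv1 g a a' → Mv1 g b b' → Mv1 g k k' → ∀ t : F,
      Φ g * NN p Φ y a b k t * (Φ g)⁻¹ = NN p Φ y a' b' k' t)
    (htvPP : ∀ (a b k i j : ι), b ≠ k → i ≠ j → i ≠ b → j ≠ b → i ≠ k → j ≠ k → j ≠ a → ∀ s t : F,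
      Commute (Φ (tv i j s)) (PP p Φ y a b k t))
    (htvNN : ∀ (a b k i j : ι), b ≠ k → i ≠ j → i ≠ b → j ≠ b → i ≠ k → j ≠ k → i ≠ a → ∀ s t : F,
      Commute (Φ (tv i j s)) (NN p Φ y a b k t))
    (hone : Fintype.card ι = 4 → ∀ t u : F,
      (Commute (Φ (tv p.o2 p.o3 t)) (PP p Φ y p.o0 p.o1 p.o2 u) ∧ Commute (Φ (tv p.o3 p.o2 t)) (PP p Φ y p.o0 p.o1 p.o2 u)) ∧
      (Commute (Φ (tv p.o2 p.o3 t)) (NN p Φ y p.o0 p.o1 p.o2 u) ∧ Commute (Φ (tv p.o3 p.o2 t)) (NN p Φ y p.o0 p.o1 p.o2 u)))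
    (a b k i j : ι) (hab : a ≠ b) (hak : a ≠ k) (hbk : b ≠ k) (hij : i ≠ j) (hia : i ≠ a) (hib : i ≠ b) (hja : j ≠ a) (hjb : j ≠ b)
    (t u : F) :
    Commute (Φ (tv i j t)) (PP p Φ y a b k u) ∧ Commute (Φ (tv i j t)) (NN p Φ y a b k u) := by
  by_cases h5 : 5 ≤ Fintype.card ι
  · obtain ⟨k', hk'a, hk'b, hk'i, hk'j⟩ := ompa15_fifth h5 a b i j
    rw [hPPindep a b k k' hab hak hbk hk'a.symm hk'b.symm u, hNNindep a b k k' hab hak hbk hk'a.symm hk'b.symm u]
    exact ⟨htvPP a b k' i j hk'b.symm hij hib hjb hk'i.symm hk'j.symm hja t u,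
      htvNN a b k' i j hk'b.symm hij hib hjb hk'i.symm hk'j.symm hia t u⟩
  · have h4' : Fintype.card ι = 4 := by omega
    rw [hPPindep a b k i hab hak hbk hia.symm hib.symm u, hNNindep a b k i hab hak hbk hia.symm hib.symm u]
    obtain ⟨g, h0, h1, h2⟩ := exists_Mv3 (F := F) h4 p.o0 p.o1 p.o2 a b i p.h01 p.h02 p.h12 hab hia.symm hib.symm
    -- the row `j` of `g`
    have hrow : Pi.single j 1 ᵥ* g.1 = Pi.single p.o3 (g.1 j p.o3) := by
      funext q
      rw [Matrix.single_one_vecMul, Pi.single_apply]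
      show g.1 j q = _
      have hcol : ∀ (c c' : ι), g.1 *ᵥ Pi.single c 1 = Pi.single c' 1 → j ≠ c' → g.1 j c = 0 := by
        intro c c' h hne
        have := congrFun h j
        rw [Matrix.mulVec_single_one, Pi.single_apply, if_neg hne] at this
        exact this
      rcases ompa15_four h4' p.o0 p.o1 p.o2 p.o3 p.h01 p.h02 p.h03 p.h12 p.h13 p.h23 q with rfl | rfl | rfl | rfl
      · rw [if_neg p.h03, hcol _ _ h0.1 hja]
      · rw [if_neg p.h13, hcol _ _ h1.1 hjb]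
      · rw [if_neg p.h23, hcol _ _ h2.1 hij.symm]
      · rw [if_pos rfl]
    have hconj : Φ g * Φ (tv p.o2 p.o3 (g.1 j p.o3 * t)) * (Φ g)⁻¹ = Φ (tv i j t) := by
      rw [← map_inv, ← map_mul, ← map_mul, ompa15_conj_tv_row g p.o2 p.o3 i j p.h23 hij _ h2.1 hrow t]
    obtain ⟨⟨hP, -⟩, ⟨hN, -⟩⟩ := hone h4' (g.1 j p.o3 * t) u
    exact ⟨ompa15_conj_comm hconj (hPPconj g p.o0 p.o1 p.o2 a b i p.h01 p.h02 p.h12 hab hia.symm hib.symm h0 h1 h2 u) hP,
      ompa15_conj_comm hconj (hNNconj g p.o0 p.o1 p.o2 a b i p.h01 p.h02 p.h12 hab hia.symm hib.symm h0 h1 h2 u) hN⟩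

end A

end Cfsg.Agent.Lib.helper17.OMP
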