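import Mathlib
import Cfsg.Agent.Lib.helper17.OMP.Defs
import Cfsg.Agent.Lib.Helper1.OMPA15core
import Cfsg.Agent.Lib.helper17.OMPA4
import Cfsg.Agent.Lib.helper17.OMPA5
import Cfsg.Agent.Lib.Helper18.OMPA9
import Cfsg.Agent.Lib.Helper29.OMPA13
import Cfsg.Agent.Lib.Helper22.OMPA10core
import Cfsg.Agent.Lib.Helper29.OMPA14core
import Cfsg.Agent.Lib.Helper13.OMPE3
import Cfsg.Agent.Lib.helper2.OMPE4
import Cfsg.Agent.Lib.Helper11.OMPE6
import Cfsg.Agent.Lib.Helper5.OMPE8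

/-!
# Project OMP (designer helper17), row A15 (helper1), verbatim: type I' everywhere

The statements of A10 (`hE_PP_fst hE_PP_snd hE_NN_fst hE_NN_snd`) and A14 (`one_all`) are instantiated here under OWN names
(`ompa15_hE_*`, `ompa15_one_all`) from helper22's / helper29's cores, so that this row does not wait for their verbatim wrappers.
-/

set_option autoImplicit false

namespace Cfsg.Agent.Lib.helper17.OMP

open Matrix Cfsg.Agent.Lib.helper14.CTE Cfsg.Agent.Lib.helper14.CTA Cfsg.Agent.Lib.helper17.SLN Cfsg.Agent.Lib.Helper28.CTD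
  Cfsg.Agent.Lib.helper3.STC Cfsg.Agent.Lib.Lead.STD

universe u v w

section A

variable {F : Type u} [Field F] {G : Type v} [Group G] {ι : Type w} [Fintype ι] [DecidableEq ι]

/-- own-name instance of A10 `hE_PP_fst` -/
theorem ompa15_hE_PP_fst (h4 : 4 ≤ Fintype.card ι) (p : Pts ι) (Φ : Matrix.SpecialLinearGroup ι F →* G) (y : G) (H : OG p Φ y)
    (a b k m : ι) (hab : a ≠ b) (hak : a ≠ k) (hbk : b ≠ k) (hma : m ≠ a) (hmb : m ≠ b) (s : F) (hs : s ≠ 0) (t : F) :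
    Φ (hE a m s) * PP p Φ y a b k t * (Φ (hE a m s))⁻¹ = PP p Φ y a b k (s * t) :=
  ompa10_PP_fst_core h4 p Φ y (fun i j hij g hg => yy_comm_blk h4 p Φ y H.cB i j hij g hg)
    (fun a b k k' hab hak hbk hak' hbk' t => PP_indep h4 p Φ y H a b k k' hab hak hbk hak' hbk' t)
    (fun i j hij s hs a b hab t => hE_conj_tv i j hij s hs a b hab t)
    a b k m hab hak hbk hma hmb s hs t

/-- own-name instance of A10 `hE_NN_fst` -/
theorem ompa15_hE_NN_fst (h4 : 4 ≤ Fintype.card ι) (p : Pts ι) (Φ : Matrix.SpecialLinearGroup ι F →* G) (y : G) (H : OG p Φ y)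
    (a b k m : ι) (hab : a ≠ b) (hak : a ≠ k) (hbk : b ≠ k) (hma : m ≠ a) (hmb : m ≠ b) (s : F) (hs : s ≠ 0) (t : F) :
    Φ (hE a m s) * NN p Φ y a b k t * (Φ (hE a m s))⁻¹ = NN p Φ y a b k (s⁻¹ * t) :=
  ompa10_NN_fst_core h4 p Φ y (fun i j hij g hg => yy_comm_blk h4 p Φ y H.cB i j hij g hg)
    (fun a b k k' hab hak hbk hak' hbk' t => NN_indep h4 p Φ y H a b k k' hab hak hbk hak' hbk' t)
    (fun i j hij s hs a b hab t => hE_conj_tv i j hij s hs a b hab t)
    a b k m hab hak hbk hma hmb s hs t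

/-- own-name instance of A10 `hE_PP_snd` -/
theorem ompa15_hE_PP_snd (h4 : 4 ≤ Fintype.card ι) (p : Pts ι) (Φ : Matrix.SpecialLinearGroup ι F →* G) (y : G) (H : OG p Φ y)
    (a b k m : ι) (hab : a ≠ b) (hak : a ≠ k) (hbk : b ≠ k) (hma : m ≠ a) (hmb : m ≠ b) (s : F) (hs : s ≠ 0) (t : F) :
    Φ (hE b m s) * PP p Φ y a b k t * (Φ (hE b m s))⁻¹ = PP p Φ y a b k (s * t) :=
  ompa10_PP_snd_core p Φ y
    (fun a b k m hab hak hbk hma hmb s hs t => ompa15_hE_PP_fst h4 p Φ y H a b k m hab hak hbk hma hmb s hs t)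
    (fun a b k hab hak hbk t => PP_swap h4 p Φ y H a b k hab hak hbk t)
    a b k m hab hak hbk hma hmb s hs t

/-- own-name instance of A10 `hE_NN_snd` -/
theorem ompa15_hE_NN_snd (h4 : 4 ≤ Fintype.card ι) (p : Pts ι) (Φ : Matrix.SpecialLinearGroup ι F →* G) (y : G) (H : OG p Φ y)
    (a b k m : ι) (hab : a ≠ b) (hak : a ≠ k) (hbk : b ≠ k) (hma : m ≠ a) (hmb : m ≠ b) (s : F) (hs : s ≠ 0) (t : F) :
    Φ (hE b m s) * NN p Φ y a b k t * (Φ (hE b m s))⁻¹ = NN p Φ y a b k (s⁻¹ * t) :=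
  ompa10_NN_snd_core p Φ y
    (fun a b k m hab hak hbk hma hmb s hs t => ompa15_hE_NN_fst h4 p Φ y H a b k m hab hak hbk hma hmb s hs t)
    (fun a b k hab hak hbk t => NN_swap h4 p Φ y H a b k hab hak hbk t)
    a b k m hab hak hbk hma hmb s hs t

/-- own-name instance of A14 `one_all` -/
theorem ompa15_one_all [Fintype F] (h4 : Fintype.card ι = 4) (p : Pts ι) (Φ : Matrix.SpecialLinearGroup ι F →* G) (y : G) (H : OG p Φ y)
    (t u : F) :
    (Commute (Φ (tv p.o2 p.o3 t)) (PP p Φ y p.o0 p.o1 p.o2 u) ∧ Commute (Φ (tv p.o3 p.o2 t)) (PP p Φ y p.o0 p.o1 p.o2 u)) ∧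
      (Commute (Φ (tv p.o2 p.o3 t)) (NN p Φ y p.o0 p.o1 p.o2 u) ∧ Commute (Φ (tv p.o3 p.o2 t)) (NN p Φ y p.o0 p.o1 p.o2 u)) := by
  have h4' : 4 ≤ Fintype.card ι := by omega
  exact ompa14_core p Φ y (H.one h4)
    (fun a b k k' hab hak hbk hak' hbk' t => PP_indep h4' p Φ y H a b k k' hab hak hbk hak' hbk' t)
    (fun a b k k' hab hak hbk hak' hbk' t => NN_indep h4' p Φ y H a b k k' hab hak hbk hak' hbk' t)
    (fun g a b k a' b' k' hab hak hbk hab' hak' hbk' ha hb hk t =>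
      PP_conj h4' p Φ y H g a b k a' b' k' hab hak hbk hab' hak' hbk' ha hb hk t)
    (fun g a b k a' b' k' hab hak hbk hab' hak' hbk' ha hb hk t =>
      NN_conj h4' p Φ y H g a b k a' b' k' hab hak hbk hab' hak' hbk' ha hb hk t)
    (fun a b k m hab hak hbk hma hmb s hs t => ompa15_hE_PP_fst h4' p Φ y H a b k m hab hak hbk hma hmb s hs t)
    (fun a b k m hab hak hbk hma hmb s hs t => ompa15_hE_PP_snd h4' p Φ y H a b k m hab hak hbk hma hmb s hs t)
    (fun a b k m hab hak hbk hma hmb s hs t => ompa15_hE_NN_fst h4' p Φ y H a b k m hab hak hbk hma hmb s hs t)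
    (fun a b k m hab hak hbk hma hmb s hs t => ompa15_hE_NN_snd h4' p Φ y H a b k m hab hak hbk hma hmb s hs t)
    (fun i j hij s hs a b hab t => hE_conj_tv i j hij s hs a b hab t)
    (fun i j m hij him hjm s hs => hE_chain i j m hij him hjm s hs)
    (fun i j hij s hs => hE_swap i j hij s hs)
    (fun i j hij => Mv1_wE i j hij)
    (fun i j a hij hai haj => Mv1_wE_of_ne i j a hij hai haj)
    (fun a b hab t => wE_conj_tv_ab a b hab t)
    t u

/-- A15 [M]  **type I' everywhere**: four distinct indices `a b i j`. -/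
theorem one_gen [Fintype F] (h4 : 4 ≤ Fintype.card ι) (p : Pts ι) (Φ : Matrix.SpecialLinearGroup ι F →* G) (y : G) (H : OG p Φ y)
    (a b k i j : ι) (hab : a ≠ b) (hak : a ≠ k) (hbk : b ≠ k) (hij : i ≠ j) (hia : i ≠ a) (hib : i ≠ b) (hja : j ≠ a) (hjb : j ≠ b)
    (t u : F) :
    Commute (Φ (tv i j t)) (PP p Φ y a b k u) ∧ Commute (Φ (tv i j t)) (NN p Φ y a b k u) :=
  ompa15_core h4 p Φ y
    (fun a b k k' hab hak hbk hak' hbk' t => PP_indep h4 p Φ y H a b k k' hab hak hbk hak' hbk' t)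
    (fun a b k k' hab hak hbk hak' hbk' t => NN_indep h4 p Φ y H a b k k' hab hak hbk hak' hbk' t)
    (fun g a b k a' b' k' hab hak hbk hab' hak' hbk' ha hb hk t =>
      PP_conj h4 p Φ y H g a b k a' b' k' hab hak hbk hab' hak' hbk' ha hb hk t)
    (fun g a b k a' b' k' hab hak hbk hab' hak' hbk' ha hb hk t =>
      NN_conj h4 p Φ y H g a b k a' b' k' hab hak hbk hab' hak' hbk' ha hb hk t)
    (fun a b k i j hbk hij hib hjb hik hjk hja s t => tv_comm_PP h4 p Φ y H a b k i j hbk hij hib hjb hik hjk hja s t)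
    (fun a b k i j hbk hij hib hjb hik hjk hia s t => tv_comm_NN h4 p Φ y H a b k i j hbk hij hib hjb hik hjk hia s t)
    (fun h4' t u => ompa15_one_all h4' p Φ y H t u)
    a b k i j hab hak hbk hij hia hib hja hjb t u

end A

end Cfsg.Agent.Lib.helper17.OMP
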