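import Mathlib
import Cfsg.Agent.Lib.helper17.OMP.Defs
import Cfsg.Agent.Lib.Helper28.CTDM1f
import Cfsg.Agent.Lib.helper15.OMPA16

/-!
# Project OMP (designer helper17), row A19 (helper1, own-name copies): `c3` and `hspin` of `extendD`

`ompa19h1_ext_spin` : the statement of `ext_spin`, proved (no open dependencies: `hm i j = wn i j * wn i j` and `ctdm1f_wn_sq`).
`ompa19h1_c3_core` : `ext_c3` with the conclusion of A12 `two_gen` at `(a, b, k) = (o2, o0, o1)` as a hypothesis.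
-/

set_option autoImplicit false

namespace Cfsg.Agent.Lib.helper17.OMP

open Matrix Cfsg.Agent.Lib.helper14.CTE Cfsg.Agent.Lib.helper14.CTA Cfsg.Agent.Lib.helper17.SLN Cfsg.Agent.Lib.Helper28.CTD
  Cfsg.Agent.Lib.helper3.STC Cfsg.Agent.Lib.Lead.STD

universe u v w

section A

variable {F : Type u} [Field F] {G : Type v} [Group G] {ι : Type w} [Fintype ι] [DecidableEq ι]

/-- `h_ij(-1)` is the square of the Weyl word `wn i j` -/
theorem ompa19h1_hm_eq (i j : ι) : (hm i j : Matrix.SpecialLinearGroup ι F) = wn i j * wn i j := by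
  unfold hm hE wn
  have e : (-(-1 : F)⁻¹) = 1 := by rw [inv_neg, inv_one, neg_neg]
  rw [e]

/-- the matrix of `h_ij(-1)` -/
theorem ompa19h1_hm_coe (i j : ι) (hij : i ≠ j) :
    ((hm i j : Matrix.SpecialLinearGroup ι F) : Matrix ι ι F) =
      Matrix.diagonal (fun k => if k = i then (-1 : F) else if k = j then -1 else 1) := by
  rw [ompa19h1_hm_eq, ctdm1f_wn_sq i j hij]

theorem ompa19h1_hm_symm (i j : ι) (hij : i ≠ j) : (hm i j : Matrix.SpecialLinearGroup ι F) = hm j i := by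
  apply Subtype.ext
  rw [ompa19h1_hm_coe i j hij, ompa19h1_hm_coe j i hij.symm]
  congr 1
  funext k
  by_cases h1 : k = i
  · subst h1
    simp [hij]
  · by_cases h2 : k = j
    · simp [h2]
    · simp [h1, h2]

theorem ompa19h1_hm_mul (i j m : ι) (hij : i ≠ j) (him : i ≠ m) (hjm : j ≠ m) :
    (hm i m : Matrix.SpecialLinearGroup ι F) * hm m j = hm i j := by
  apply Subtype.ext
  rw [Matrix.SpecialLinearGroup.coe_mul, ompa19h1_hm_coe i m him, ompa19h1_hm_coe m j hjm.symm, ompa19h1_hm_coe i j hij,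
    Matrix.diagonal_mul_diagonal]
  congr 1
  funext k
  by_cases h1 : k = i
  · subst h1
    simp [hij, him]
  · by_cases h2 : k = j
    · subst h2
      simp [h1, hjm]
    · by_cases h3 : k = m
      · subst h3
        simp [h1, h2]
      · simp [h1, h2, h3]

/-- `d3 = wn 1 2 * wn 1 2` in `SL₃` -/
theorem ompa19h1_d3_eq : (d3 : SL3 F) = wn (1 : Fin 3) 2 * wn (1 : Fin 3) 2 := by
  apply Subtype.ext
  rw [ctdm1f_wn_sq (1 : Fin 3) 2 (by decide)]
  have hd : ((d3 : SL3 F) : Matrix (Fin 3) (Fin 3) F) = blk23M ((-1 : SL2 F) : Matrix (Fin 2) (Fin 2) F) := rfl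
  rw [hd, Matrix.SpecialLinearGroup.coe_neg, Matrix.SpecialLinearGroup.coe_one]
  ext a b
  fin_cases a <;> fin_cases b <;> simp [blk23M, Matrix.diagonal]

/-- `embI` of a Weyl word -/
theorem ompa19h1_embI_wn {κ : Type} [Fintype κ] [DecidableEq κ] (f : κ → ι) (hf : Function.Injective f) (a b : κ) (hab : a ≠ b) :
    embI f hf (wn a b : Matrix.SpecialLinearGroup κ F) = wn (f a) (f b) := by
  unfold wn
  rw [map_mul, map_mul, ompa16_embI_tv f hf a b hab, ompa16_embI_tv f hf b a hab.symm]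

/-- the statement of A19 `ext_spin` -/
theorem ompa19h1_ext_spin (p : Pts ι) (Φ : Matrix.SpecialLinearGroup ι F →* G) (y : G) (H : OG p Φ y) :
    Φ (wn p.o2 p.o0 * wn p.o2 p.o0) = Theta p Φ y d3 := by
  have e1 : Theta p Φ y d3 = y * Φ (hm p.o2 p.o1) * y⁻¹ := by
    unfold Theta
    rw [MonoidHom.comp_apply, MonoidHom.comp_apply, ompa19h1_d3_eq, map_mul,
      ompa19h1_embI_wn (f3 p) (f3_injective p) 1 2 (by decide), ompa19h1_hm_eq]
    rfl
  have e2 : y * Φ (hm p.o2 p.o1) * y⁻¹ = y * y * Φ (hm p.o1 p.o2) := by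
    have h := H.invD
    rw [ompa19h1_hm_symm p.o2 p.o1 p.h12.symm]
    have h' : Φ (hm p.o1 p.o2) * y⁻¹ * (Φ (hm p.o1 p.o2))⁻¹ = y := by
      have := congrArg (fun z => z⁻¹) h
      simp only [_root_.mul_inv_rev, inv_inv] at this
      rw [← mul_assoc] at this
      exact this
    calc y * Φ (hm p.o1 p.o2) * y⁻¹ = y * (Φ (hm p.o1 p.o2) * y⁻¹ * (Φ (hm p.o1 p.o2))⁻¹) * Φ (hm p.o1 p.o2) := by group
      _ = y * y * Φ (hm p.o1 p.o2) := by rw [h']
  rw [e1, e2, H.spin, ← map_mul, ompa19h1_hm_mul p.o0 p.o2 p.o1 p.h02 p.h01 p.h12.symm, ← ompa19h1_hm_eq,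
    ompa19h1_hm_symm p.o2 p.o0 p.h02.symm]

/-- A19 `ext_c3` with the conclusion of A12 `two_gen` at `(o2, o0, o1)` as a hypothesis -/
theorem ompa19h1_c3_core (p : Pts ι) (Φ : Matrix.SpecialLinearGroup ι F →* G) (y : G)
    (hB : ∀ g : Matrix.SpecialLinearGroup ι F, Mv g p.o0 p.o1 p.o0 p.o1 → Commute y (Φ g))
    (htwo : ∀ t u : F,
      (Commute (Φ (tv p.o2 p.o0 t)) (PP p Φ y p.o2 p.o0 p.o1 u) ∧ Commute (Φ (tv p.o0 p.o2 t)) (PP p Φ y p.o2 p.o0 p.o1 u)) ∧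
      (Commute (Φ (tv p.o2 p.o0 t)) (NN p Φ y p.o2 p.o0 p.o1 u) ∧ Commute (Φ (tv p.o0 p.o2 t)) (NN p Φ y p.o2 p.o0 p.o1 u)))
    (t : F) (g : SL3 F) (hg : g = e3 1 2 1 ∨ g = e3 2 1 1) :
    Φ (tv p.o2 p.o0 t) * Theta p Φ y g = Theta p Φ y g * Φ (tv p.o2 p.o0 t) ∧
      Φ (tv p.o0 p.o2 t) * Theta p Φ y g = Theta p Φ y g * Φ (tv p.o0 p.o2 t) := by
  rcases hg with rfl | rfl
  · rw [Theta_e3_12 p Φ y hB 1]
    exact ⟨(htwo t 1).1.1, (htwo t 1).1.2⟩
  · rw [Theta_e3_21 p Φ y hB 1]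
    exact ⟨(htwo t 1).2.1, (htwo t 1).2.2⟩

end A

end Cfsg.Agent.Lib.helper17.OMP
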