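import Mathlib
import Cfsg.Agent.Lib.helper17.OMP.Defs
import Cfsg.Agent.Lib.Helper28.CTDS2
import Cfsg.Agent.Lib.helper15.OMPA16

/-!
# Project OMP (designer helper17), row A20 core (helper1): the `DSys`

`ompa20h1_core`: `omp_dsys` with `H.cB` and the statements of A17 `ext_a1 ext_c1`, A18 `ext_c2`, A19 `ext_c3 ext_spin` (at the given `p Φ y`)
as hypotheses; helper28's CTD row S2 `extendD` with `Θ = Theta p Φ y`, `(p, a, b) = (o3, o2, o0)`.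
-/

set_option autoImplicit false

namespace Cfsg.Agent.Lib.helper17.OMP

open Matrix Cfsg.Agent.Lib.helper14.CTE Cfsg.Agent.Lib.helper14.CTA Cfsg.Agent.Lib.helper17.SLN Cfsg.Agent.Lib.Helper28.CTD
  Cfsg.Agent.Lib.helper3.STC Cfsg.Agent.Lib.Lead.STD

universe u v w

section A

variable {F : Type u} [Field F] {G : Type v} [Group G] {ι : Type w} [Fintype ι] [DecidableEq ι]

theorem ompa20h1_core (h4 : 4 ≤ Fintype.card ι) (p : Pts ι) (Φ : Matrix.SpecialLinearGroup ι F →* G) (y : G)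
    (hB : ∀ g : Matrix.SpecialLinearGroup ι F, Mv g p.o0 p.o1 p.o0 p.o1 → Commute y (Φ g))
    (ha1 : ∀ t : F, Theta p Φ y (e3 0 1 t) = Φ (tv p.o3 p.o2 t) ∧ Theta p Φ y (e3 1 0 t) = Φ (tv p.o2 p.o3 t))
    (hc1 : ∀ (i j : ι) (t : F), i ≠ j → j ≠ p.o2 → j ≠ p.o0 →
      Φ (tv i j t) * Theta p Φ y (e3 1 2 1) = Theta p Φ y (e3 1 2 1) * Φ (tv i j t))
    (hc2 : ∀ (i j : ι) (t : F), i ≠ j → i ≠ p.o2 → i ≠ p.o0 →
      Φ (tv i j t) * Theta p Φ y (e3 2 1 1) = Theta p Φ y (e3 2 1 1) * Φ (tv i j t))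
    (hc3 : ∀ (t : F) (g : SL3 F), g = e3 1 2 1 ∨ g = e3 2 1 1 →
      Φ (tv p.o2 p.o0 t) * Theta p Φ y g = Theta p Φ y g * Φ (tv p.o2 p.o0 t) ∧
        Φ (tv p.o0 p.o2 t) * Theta p Φ y g = Theta p Φ y g * Φ (tv p.o0 p.o2 t))
    (hspin : Φ (wn p.o2 p.o0 * wn p.o2 p.o0) = Theta p Φ y d3) :
    ∃ D : DSys F G ι, D.Φ = Φ ∧ (∀ t, D.P.X (Pi.single p.o2 t) (Pi.single p.o0 1) = PP p Φ y p.o2 p.o0 p.o1 t) ∧
      (∀ t, D.N.X (Pi.single p.o0 t) (Pi.single p.o2 1) = NN p Φ y p.o2 p.o0 p.o1 t) := by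
  obtain ⟨D, hD, hP, hN⟩ := extendD h4 Φ (Theta p Φ y) p.o3 p.o2 p.o0 p.h23.symm p.h03.symm p.h02.symm
    (fun t => (ha1 t).1) (fun t => (ha1 t).2) hc1 hc2 hc3 hspin
  refine ⟨D, hD, ?_, ?_⟩
  · intro t
    rw [hP t, Theta_e3_12 p Φ y hB t]
  · intro t
    rw [hN t, Theta_e3_21 p Φ y hB t]

end A

end Cfsg.Agent.Lib.helper17.OMP
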