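import Mathlib
import Cfsg.Agent.Lib.helper17.OMP.Defs
import Cfsg.Agent.Lib.Helper26.OMPE5
import Cfsg.Agent.Lib.helper4.OMPE9

/-!
# Project OMP (designer helper17), row A21 core (helper1): all new root elements of the `DSys` are the `PP`, `NN`

`ompa21_core`: `dsys_values` with the STATEMENTS of A9 `PP_conj`, `NN_conj` (at the given `p Φ y`) as hypotheses.
-/

set_option autoImplicit false

namespace Cfsg.Agent.Lib.helper17.OMP

open Matrix Cfsg.Agent.Lib.helper14.CTE Cfsg.Agent.Lib.helper14.CTA Cfsg.Agent.Lib.helper17.SLN Cfsg.Agent.Lib.Helper28.CTD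

universe u v w

section A

variable {F : Type u} [Field F] {G : Type v} [Group G] {ι : Type w} [Fintype ι] [DecidableEq ι]

theorem ompa21_mulVec_single (g : Matrix.SpecialLinearGroup ι F) (c c' : ι)
    (h : g.1 *ᵥ Pi.single c 1 = Pi.single c' 1) (t : F) : g.1 *ᵥ Pi.single c t = Pi.single c' t := by
  have e : ∀ d : ι, (Pi.single d t : ι → F) = t • Pi.single d 1 := by
    intro d
    rw [← Pi.single_smul, smul_eq_mul, mul_one]
  rw [e c, Matrix.mulVec_smul, h, ← e c']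

theorem ompa21_tinvN_mulVec (g : Matrix.SpecialLinearGroup ι F) (c c' : ι) (h : Mv1 g c c') (t : F) :
    (tinvN g).1 *ᵥ Pi.single c t = Pi.single c' t := by
  apply ompa21_mulVec_single
  rw [tinvN_mulVec]
  exact (Mv1.inv h).2

theorem ompa21_core (h4 : 4 ≤ Fintype.card ι) (p : Pts ι) (Φ : Matrix.SpecialLinearGroup ι F →* G) (y : G)
    (hPPconj : ∀ (g : Matrix.SpecialLinearGroup ι F) (a b k a' b' k' : ι), a ≠ b → a ≠ k → b ≠ k →
      a' ≠ b' → a' ≠ k' → b' ≠ k' → Mv1 g a a' → Mv1 g b b' → Mv1 g k k' → ∀ t : F,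
      Φ g * PP p Φ y a b k t * (Φ g)⁻¹ = PP p Φ y a' b' k' t)
    (hNNconj : ∀ (g : Matrix.SpecialLinearGroup ι F) (a b k a' b' k' : ι), a ≠ b → a ≠ k → b ≠ k →
      a' ≠ b' → a' ≠ k' → b' ≠ k' → Mv1 g a a' → Mv1 g b b' → Mv1 g k k' → ∀ t : F,
      Φ g * NN p Φ y a b k t * (Φ g)⁻¹ = NN p Φ y a' b' k' t)
    (D : DSys F G ι) (hΦ : D.Φ = Φ)
    (hP : ∀ t, D.P.X (Pi.single p.o2 t) (Pi.single p.o0 1) = PP p Φ y p.o2 p.o0 p.o1 t)
    (hN : ∀ t, D.N.X (Pi.single p.o0 t) (Pi.single p.o2 1) = NN p Φ y p.o2 p.o0 p.o1 t)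
    (a b k : ι) (hab : a ≠ b) (hak : a ≠ k) (hbk : b ≠ k) (t : F) :
    D.x (Sum.inl a) (Sum.inr b) t = PP p Φ y a b k t ∧ D.x (Sum.inr b) (Sum.inl a) t = NN p Φ y a b k t := by
  subst hΦ
  obtain ⟨g, h2, h0, h1⟩ := exists_Mv3 (F := F) h4 p.o2 p.o0 p.o1 a b k p.h02.symm p.h12.symm p.h01 hab hak hbk
  constructor
  · show D.P.X (Pi.single a t) (Pi.single b 1) = _
    have e := D.P.equiv g (Pi.single p.o2 t) (Pi.single p.o0 1)
    rw [ompa21_mulVec_single g p.o2 a h2.1 t, ompa21_mulVec_single g p.o0 b h0.1 1, hP] at e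
    rw [e]
    exact hPPconj g p.o2 p.o0 p.o1 a b k p.h02.symm p.h12.symm p.h01 hab hak hbk h2 h0 h1 t
  · show D.N.X (Pi.single b t) (Pi.single a 1) = _
    have e := D.N.equiv (tinvN g) (Pi.single p.o0 t) (Pi.single p.o2 1)
    rw [ompa21_tinvN_mulVec g p.o0 b h0 t, ompa21_tinvN_mulVec g p.o2 a h2 1, hN] at e
    have e' : (D.Φ.comp (tinvN : Matrix.SpecialLinearGroup ι F ≃* Matrix.SpecialLinearGroup ι F).toMonoidHom)
        (tinvN g) = D.Φ g := by
      rw [MonoidHom.comp_apply]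
      congr 1
      exact tinvN.left_inv g
    rw [e'] at e
    rw [e]
    exact hNNconj g p.o2 p.o0 p.o1 a b k p.h02.symm p.h12.symm p.h01 hab hak hbk h2 h0 h1 t

end A

end Cfsg.Agent.Lib.helper17.OMP
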