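import Mathlib
import Cfsg.Agent.Lib.helper17.OMP.Defs
import Cfsg.Agent.Lib.Helper1.OMPA21core
import Cfsg.Agent.Lib.Helper18.OMPA9

/-!
# Project OMP (designer helper17), row A21 (helper1), verbatim: all new root elements of the `DSys` are the `PP`, `NN`
-/

set_option autoImplicit false

namespace Cfsg.Agent.Lib.helper17.OMP

open Matrix Cfsg.Agent.Lib.helper14.CTE Cfsg.Agent.Lib.helper14.CTA Cfsg.Agent.Lib.helper17.SLN Cfsg.Agent.Lib.Helper28.CTD
  Cfsg.Agent.Lib.helper3.STC Cfsg.Agent.Lib.Lead.STD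

universe u v w

section A

variable {F : Type u} [Field F] {G : Type v} [Group G] {ι : Type w} [Fintype ι] [DecidableEq ι]

/-- A21 [M]  **all the new root elements of the `DSys` are the `PP`, `NN`.** -/
theorem dsys_values (h4 : 4 ≤ Fintype.card ι) (p : Pts ι) (Φ : Matrix.SpecialLinearGroup ι F →* G) (y : G) (H : OG p Φ y)
    (D : DSys F G ι) (hΦ : D.Φ = Φ)
    (hP : ∀ t, D.P.X (Pi.single p.o2 t) (Pi.single p.o0 1) = PP p Φ y p.o2 p.o0 p.o1 t)
    (hN : ∀ t, D.N.X (Pi.single p.o0 t) (Pi.single p.o2 1) = NN p Φ y p.o2 p.o0 p.o1 t)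
    (a b k : ι) (hab : a ≠ b) (hak : a ≠ k) (hbk : b ≠ k) (t : F) :
    D.x (Sum.inl a) (Sum.inr b) t = PP p Φ y a b k t ∧ D.x (Sum.inr b) (Sum.inl a) t = NN p Φ y a b k t :=
  ompa21_core h4 p Φ y
    (fun g a b k a' b' k' hab hak hbk hab' hak' hbk' ha hb hk t =>
      PP_conj h4 p Φ y H g a b k a' b' k' hab hak hbk hab' hak' hbk' ha hb hk t)
    (fun g a b k a' b' k' hab hak hbk hab' hak' hbk' ha hb hk t =>
      NN_conj h4 p Φ y H g a b k a' b' k' hab hak hbk hab' hak' hbk' ha hb hk t)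
    D hΦ hP hN a b k hab hak hbk t

end A

end Cfsg.Agent.Lib.helper17.OMP
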