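import Mathlib
import Cfsg.Agent.Lib.helper17.OMP.Defs
import Cfsg.Agent.Lib.Helper18.OMPA8

/-!
# Project OMP (designer helper17), row A22 core (helper1): `y` is the Weyl element of the root `e_0 + e_1`

`ompa22h1_core`: `y_eq_w` with `H.pin`, the conclusion of A21 `dsys_values` (at the given `D`) and the statements of A7 `PP_swap`, `NN_swap`
as hypotheses.
-/

set_option autoImplicit false

namespace Cfsg.Agent.Lib.helper17.OMP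

open Matrix Cfsg.Agent.Lib.helper14.CTE Cfsg.Agent.Lib.helper14.CTA Cfsg.Agent.Lib.helper17.SLN Cfsg.Agent.Lib.Helper28.CTD
  Cfsg.Agent.Lib.Lead.STD

universe u v w

section A

variable {F : Type u} [Field F] {G : Type v} [Group G] {ι : Type w} [Fintype ι] [DecidableEq ι]

theorem ompa22h1_core (p : Pts ι) (Φ : Matrix.SpecialLinearGroup ι F →* G) (y : G)
    (hpin : yy p Φ y p.o0 p.o2 * Φ (wE p.o1 p.o2) * (yy p Φ y p.o0 p.o2)⁻¹ = y⁻¹)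
    (hPPswap : ∀ (a b k : ι), a ≠ b → a ≠ k → b ≠ k → ∀ t : F, PP p Φ y b a k (-t) = PP p Φ y a b k t)
    (hNNswap : ∀ (a b k : ι), a ≠ b → a ≠ k → b ≠ k → ∀ t : F, NN p Φ y b a k (-t) = NN p Φ y a b k t)
    (D : DSys F G ι)
    (hvals : ∀ (a b k : ι), a ≠ b → a ≠ k → b ≠ k → ∀ t : F,
      D.x (Sum.inl a) (Sum.inr b) t = PP p Φ y a b k t ∧ D.x (Sum.inr b) (Sum.inl a) t = NN p Φ y a b k t) :
    y = wOf D.x (Sum.inl p.o0) (Sum.inr p.o1) 1 := by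
  have e1 : yy p Φ y p.o0 p.o2 * Φ (wE p.o1 p.o2) * (yy p Φ y p.o0 p.o2)⁻¹ =
      PP p Φ y p.o1 p.o0 p.o2 1 * NN p Φ y p.o1 p.o0 p.o2 (-1) * PP p Φ y p.o1 p.o0 p.o2 1 := by
    unfold PP NN wE
    rw [map_mul, map_mul]
    group
  have e2 : PP p Φ y p.o1 p.o0 p.o2 1 = PP p Φ y p.o0 p.o1 p.o2 (-1) := by
    have := hPPswap p.o0 p.o1 p.o2 p.h01 p.h02 p.h12 (-1)
    rw [neg_neg] at this
    exact this
  have e3 : NN p Φ y p.o1 p.o0 p.o2 (-1) = NN p Φ y p.o0 p.o1 p.o2 1 :=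
    hNNswap p.o0 p.o1 p.o2 p.h01 p.h02 p.h12 1
  rw [e1, e2, e3] at hpin
  have hv := hvals p.o0 p.o1 p.o2 p.h01 p.h02 p.h12
  unfold wOf
  rw [(hv 1).1, (hv (-(1 : F)⁻¹)).2]
  have e4 : (-(1 : F)⁻¹) = -1 := by rw [inv_one]
  rw [e4, NN_neg]
  have e5 : PP p Φ y p.o0 p.o1 p.o2 1 = (PP p Φ y p.o0 p.o1 p.o2 (-1))⁻¹ := by
    rw [PP_neg, inv_inv]
  rw [e5]
  generalize PP p Φ y p.o0 p.o1 p.o2 (-1) = P at hpin ⊢
  generalize NN p Φ y p.o0 p.o1 p.o2 1 = N at hpin ⊢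
  have : y = (P * N * P)⁻¹ := by rw [hpin, inv_inv]
  rw [this]
  group

end A

end Cfsg.Agent.Lib.helper17.OMP
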