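import Mathlib
import Cfsg.Agent.Lib.helper17.OMP.Defs
import Cfsg.Agent.Lib.Helper28.CTDM1f
import Cfsg.Agent.Lib.Helper28.OMMO10

/-!
# Project OMP (designer helper17), row D5 (helper1): `⟨mx a b t⟩ ≤ SL (Fin n ⊕ Fin n) F` is `Ω⁺_{2n}(F)`

Both groups embed into `GL (Fin n ⊕ Fin n) F` with the same image `EO n F` (helper28's OMM O10 `omegaGL_eq_EO`).
-/

set_option autoImplicit false

namespace Cfsg.Agent.Lib.helper17.OMP

open Matrix Cfsg.Agent.Lib.helper14.CTE Cfsg.Agent.Lib.helper14.CTA Cfsg.Agent.Lib.helper17.SLN Cfsg.Agent.Lib.Helper28.CTD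
  Cfsg.Agent.Lib.helper3.STC Cfsg.Agent.Lib.Lead.STD

universe u v w

/-- the image of `⟨mx a b t⟩` in `GL` is `EO n F` -/
theorem ompd5_map_toGL {F : Type u} [Field F] (n : ℕ) :
    ((matSys F (Fin n)).XQ (fun _ _ => True)).map Matrix.SpecialLinearGroup.toGL = Cfsg.Agent.Lib.Helper28.OMM.EO n F := by
  unfold SysD.XQ Cfsg.Agent.Lib.Helper28.OMM.EO
  rw [MonoidHom.map_closure]
  congr 1
  ext M
  constructor
  · rintro ⟨g, ⟨a, b, t, hab, hab', -, rfl⟩, rfl⟩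
    exact ⟨a, b, t, hab, hab', mx_coe a b hab hab' t⟩
  · rintro ⟨a, b, t, hab, hab', hM⟩
    refine ⟨mx a b t, ⟨a, b, t, hab, hab', trivial, rfl⟩, ?_⟩
    apply Units.ext
    rw [hM]
    exact mx_coe a b hab hab' t

/-- D5 [M]  **the matrix group `⟨mx a b t⟩ ≤ SL (Fin n ⊕ Fin n) F` is `Ω⁺_{2n}(F)`.** -/
theorem xq_equiv_omega {F : Type u} [Field F] [Fintype F] (n : ℕ) (hn : 4 ≤ n) :
    ∃ κ : ↥((matSys F (Fin n)).XQ (fun _ _ => True)) ≃* ↥(Cfsg.Omega F (Cfsg.quadFormPlus n F)),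
      ∀ x : ↥((matSys F (Fin n)).XQ (fun _ _ => True)),
        ((((κ x : Cfsg.Omega F (Cfsg.quadFormPlus n F)) : Cfsg.isometryGroup F (Cfsg.quadFormPlus n F)) :
          Matrix.GeneralLinearGroup (Fin n ⊕ Fin n) F) : Matrix (Fin n ⊕ Fin n) (Fin n ⊕ Fin n) F) =
          ((x : Matrix.SpecialLinearGroup (Fin n ⊕ Fin n) F) : Matrix (Fin n ⊕ Fin n) (Fin n ⊕ Fin n) F) := by
  have hinj : Function.Injective (Cfsg.isometryGroup F (Cfsg.quadFormPlus n F)).subtype :=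
    Subgroup.subtype_injective _
  have hEq : ((matSys F (Fin n)).XQ (fun _ _ => True)).map Matrix.SpecialLinearGroup.toGL =
      (Cfsg.Omega F (Cfsg.quadFormPlus n F)).map (Cfsg.isometryGroup F (Cfsg.quadFormPlus n F)).subtype := by
    rw [ompd5_map_toGL]
    exact (Cfsg.Agent.Lib.Helper28.OMM.omegaGL_eq_EO hn).symm
  let e1 := Subgroup.equivMapOfInjective ((matSys F (Fin n)).XQ (fun _ _ => True)) Matrix.SpecialLinearGroup.toGL
    Matrix.SpecialLinearGroup.toGL_injective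
  let e2 := Subgroup.equivMapOfInjective (Cfsg.Omega F (Cfsg.quadFormPlus n F))
    (Cfsg.isometryGroup F (Cfsg.quadFormPlus n F)).subtype hinj
  let e3 := MulEquiv.subgroupCongr hEq
  refine ⟨e1.trans (e3.trans e2.symm), ?_⟩
  intro x
  have h1 : (e2 ((e1.trans (e3.trans e2.symm)) x) : Matrix.GeneralLinearGroup (Fin n ⊕ Fin n) F) =
      Matrix.SpecialLinearGroup.toGL (x : Matrix.SpecialLinearGroup (Fin n ⊕ Fin n) F) := by
    simp only [MulEquiv.trans_apply, MulEquiv.apply_symm_apply]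
    rfl
  have h2 : (e2 ((e1.trans (e3.trans e2.symm)) x) : Matrix.GeneralLinearGroup (Fin n ⊕ Fin n) F) =
      ((((e1.trans (e3.trans e2.symm)) x : Cfsg.Omega F (Cfsg.quadFormPlus n F)) :
        Cfsg.isometryGroup F (Cfsg.quadFormPlus n F)) : Matrix.GeneralLinearGroup (Fin n ⊕ Fin n) F) := rfl
  rw [← h2, h1]
  rfl

end Cfsg.Agent.Lib.helper17.OMP
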