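import Mathlib
import Cfsg.Agent.Lib.helper17.OMP.Defs
import Cfsg.Agent.Lib.Helper28.CTDM1f
import Cfsg.Agent.Lib.Helper24.STDX1
import Cfsg.Agent.Lib.Helper16.OMPM8
import Cfsg.Agent.Lib.helper17.OMPD2

/-!
# Project OMP (designer helper17), row D6 core (helper1): the model inside `⟨mx a b t⟩`

`ompd6_core`: `exists_model` with the conclusions of M7 `model_rel` and M9 `xq_gen` (at `S = matSys F (Fin n)`, `φ = PhiM`) as hypotheses.
-/

set_option autoImplicit false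

namespace Cfsg.Agent.Lib.helper17.OMP

open Matrix Cfsg.Agent.Lib.helper14.CTE Cfsg.Agent.Lib.helper14.CTA Cfsg.Agent.Lib.helper17.SLN Cfsg.Agent.Lib.Helper28.CTD
  Cfsg.Agent.Lib.helper3.STC Cfsg.Agent.Lib.Lead.STD

universe u v w

/-- `PhiM` maps into `⟨mx a b t⟩` -/
theorem ompd6_PhiM_mem {F : Type u} [Field F] (n : ℕ) (hn : 4 ≤ n) (g : Matrix.SpecialLinearGroup (Fin n) F) :
    PhiM g ∈ (matSys F (Fin n)).XQ (fun _ _ => True) := by
  have : Nontrivial (Fin n) := Fin.nontrivial_iff_two_le.mpr (by omega)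
  have hg : g ∈ Subgroup.closure {x : Matrix.SpecialLinearGroup (Fin n) F | ∃ (i j : Fin n) (t : F), i ≠ j ∧ x = tv i j t} := by
    rw [tv_gen]
    exact Subgroup.mem_top g
  have hle : Subgroup.closure {x : Matrix.SpecialLinearGroup (Fin n) F | ∃ (i j : Fin n) (t : F), i ≠ j ∧ x = tv i j t} ≤
      ((matSys F (Fin n)).XQ (fun _ _ => True)).comap PhiM := by
    rw [Subgroup.closure_le]
    rintro _ ⟨i, j, t, -, rfl⟩
    show PhiM (tv i j t) ∈ (matSys F (Fin n)).XQ (fun _ _ => True)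
    rw [PhiM_tv]
    exact (matSys F (Fin n)).x_mem_XQ (Q := fun _ _ => True) trivial t
  exact hle hg

theorem ompd6_core {F : Type u} [Field F] [Fintype F] (n : ℕ) (hn : 4 ≤ n) (ζ : F)
    (hM7 : ORel (ptsFin n hn) ζ (coxc n) (PhiM : Matrix.SpecialLinearGroup (Fin n) F →* Matrix.SpecialLinearGroup (Fin n ⊕ Fin n) F)
      ((matSys F (Fin n)).w (Sum.inl (ptsFin n hn).o0) (Sum.inr (ptsFin n hn).o1) 1))
    (hM9 : (matSys F (Fin n)).XQ (fun _ _ => True) ≤
      Subgroup.closure ({g | ∃ (i j : Fin n) (t : F), g = (matSys F (Fin n)).x (Sum.inl i) (Sum.inl j) t} ∪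
        {(matSys F (Fin n)).w (Sum.inl (ptsFin n hn).o0) (Sum.inr (ptsFin n hn).o1) 1})) :
    ∃ (Φ' : Matrix.SpecialLinearGroup (Fin n) F →* ↥((matSys F (Fin n)).XQ (fun _ _ => True)))
      (y' : ↥((matSys F (Fin n)).XQ (fun _ _ => True))),
      (∀ (i j : Fin n) (t : F), (Φ' (tv i j t) : Matrix.SpecialLinearGroup (Fin n ⊕ Fin n) F) = mx (Sum.inl i) (Sum.inl j) t) ∧
      (y' : Matrix.SpecialLinearGroup (Fin n ⊕ Fin n) F) =
        (matSys F (Fin n)).w (Sum.inl (ptsFin n hn).o0) (Sum.inr (ptsFin n hn).o1) 1 ∧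
      ORel (ptsFin n hn) ζ (coxc n) Φ' y' ∧
      Subgroup.closure (Set.range Φ' ∪ {y'}) = ⊤ := by
  set X := (matSys F (Fin n)).XQ (fun _ _ => True) with hX
  set Φ' : Matrix.SpecialLinearGroup (Fin n) F →* ↥X := PhiM.codRestrict X (ompd6_PhiM_mem n hn) with hΦ'
  have hy : (matSys F (Fin n)).w (Sum.inl (ptsFin n hn).o0) (Sum.inr (ptsFin n hn).o1) 1 ∈ X := by
    unfold SysD.w
    exact X.mul_mem (X.mul_mem ((matSys F (Fin n)).x_mem_XQ (Q := fun _ _ => True) trivial _)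
      ((matSys F (Fin n)).x_mem_XQ (Q := fun _ _ => True) trivial _))
      ((matSys F (Fin n)).x_mem_XQ (Q := fun _ _ => True) trivial _)
  set y' : ↥X := ⟨_, hy⟩ with hy'
  refine ⟨Φ', y', ?_, rfl, ?_, ?_⟩
  · intro i j t
    show PhiM (tv i j t) = _
    exact PhiM_tv i j t
  · apply ORel.of_injective X.subtype (Subgroup.subtype_injective X)
    have e : X.subtype.comp Φ' = PhiM := by
      ext g : 1
      rfl
    rw [e]
    exact hM7
  · rw [eq_top_iff]
    rintro ⟨x, hx⟩ -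
    have hmap : X ≤ (Subgroup.closure (Set.range Φ' ∪ {y'})).map X.subtype := by
      refine le_trans hM9 ?_
      rw [Subgroup.closure_le]
      rintro z (⟨i, j, t, rfl⟩ | hz)
      · refine ⟨Φ' (tv i j t), Subgroup.subset_closure (Or.inl ⟨_, rfl⟩), ?_⟩
        show PhiM (tv i j t) = _
        exact PhiM_tv i j t
      · rw [Set.mem_singleton_iff] at hz
        subst hz
        exact ⟨y', Subgroup.subset_closure (Or.inr rfl), rfl⟩
    obtain ⟨x', hx', hxx⟩ := hmap hx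
    have : x' = ⟨x, hx⟩ := Subtype.ext hxx
    rw [← this]
    exact hx'

end Cfsg.Agent.Lib.helper17.OMP
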