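import Mathlib
import Cfsg.Agent.Lib.helper17.OMP.Defs
import Cfsg.Agent.Lib.Helper1.OMPD6core
import Cfsg.Agent.Lib.helper6.OMPM6
import Cfsg.Agent.Lib.helper6.OMPM9
import Cfsg.Agent.Lib.Helper11.OMPE14

/-!
# Project OMP (designer helper17), row D6 (helper1), verbatim: the model inside `⟨mx a b t⟩`
-/

set_option autoImplicit false

namespace Cfsg.Agent.Lib.helper17.OMP

open Matrix Cfsg.Agent.Lib.helper14.CTE Cfsg.Agent.Lib.helper14.CTA Cfsg.Agent.Lib.helper17.SLN Cfsg.Agent.Lib.Helper28.CTD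
  Cfsg.Agent.Lib.helper3.STC Cfsg.Agent.Lib.Lead.STD

universe u v w

/-- D6 [M]  **the model inside `⟨mx a b t⟩`.** -/
theorem exists_model {F : Type u} [Field F] [Fintype F] (n : ℕ) (hn : 4 ≤ n) (ζ : F) :
    ∃ (Φ' : Matrix.SpecialLinearGroup (Fin n) F →* ↥((matSys F (Fin n)).XQ (fun _ _ => True)))
      (y' : ↥((matSys F (Fin n)).XQ (fun _ _ => True))),
      (∀ (i j : Fin n) (t : F), (Φ' (tv i j t) : Matrix.SpecialLinearGroup (Fin n ⊕ Fin n) F) = mx (Sum.inl i) (Sum.inl j) t) ∧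
      (y' : Matrix.SpecialLinearGroup (Fin n ⊕ Fin n) F) =
        (matSys F (Fin n)).w (Sum.inl (ptsFin n hn).o0) (Sum.inr (ptsFin n hn).o1) 1 ∧
      ORel (ptsFin n hn) ζ (coxc n) Φ' y' ∧
      Subgroup.closure (Set.range Φ' ∪ {y'}) = ⊤ :=
  ompd6_core n hn ζ
    (model_rel (matSys F (Fin n)) matSys_spin (ptsFin n hn) ζ (coxc n) (coxc_mem n hn) PhiM (fun i j t => PhiM_tv i j t))
    (xq_gen (by rw [Fintype.card_fin]; omega) (matSys F (Fin n)) (ptsFin n hn))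

end Cfsg.Agent.Lib.helper17.OMP
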