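import Mathlib
import Cfsg.Agent.Lib.helper17.OMP.Defs
import Cfsg.Agent.Lib.Helper11.OMPE1
import Cfsg.Agent.Lib.Helper26.OMPE5
import Cfsg.Agent.Lib.Helper22.CTASIMPLEGEN

/-!
# Project OMP (designer helper17), row E13 core (helper1): the Coxeter word `coxc n`

`ompe13_core`: `coxHyp` with the STATEMENT of E11 `blk_gen` (at `ι = Fin n`) as a hypothesis.
-/

set_option autoImplicit false

namespace Cfsg.Agent.Lib.helper17.OMP

open Matrix Cfsg.Agent.Lib.helper14.CTE Cfsg.Agent.Lib.helper14.CTA Cfsg.Agent.Lib.helper17.SLN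

universe u v w

section E13

variable {F : Type u} [Field F]

/-- the `k`-th factor of the Coxeter word -/
def ompe13_f (n k : ℕ) : Matrix.SpecialLinearGroup (Fin n) F :=
  if h : k + 3 < n then (wE (⟨k + 2, by omega⟩ : Fin n) ⟨k + 3, h⟩ : Matrix.SpecialLinearGroup (Fin n) F) else 1

/-- the partial products of the Coxeter word -/
def ompe13_coxL (n m : ℕ) : Matrix.SpecialLinearGroup (Fin n) F :=
  ((List.range m).map (fun k => (ompe13_f n k : Matrix.SpecialLinearGroup (Fin n) F))).prod

theorem ompe13_cox_eq (n : ℕ) : (cox n : Matrix.SpecialLinearGroup (Fin n) F) = ompe13_coxL n (n - 3) := rfl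

theorem ompe13_coxL_zero (n : ℕ) : (ompe13_coxL n 0 : Matrix.SpecialLinearGroup (Fin n) F) = 1 := by
  unfold ompe13_coxL
  simp

theorem ompe13_coxL_succ (n m : ℕ) :
    (ompe13_coxL n (m + 1) : Matrix.SpecialLinearGroup (Fin n) F) = ompe13_coxL n m * ompe13_f n m := by
  unfold ompe13_coxL
  rw [List.range_succ, List.map_append, List.prod_append]
  simp

theorem ompe13_mulVec_neg {n : ℕ} (M : Matrix (Fin n) (Fin n) F) (j : Fin n) :
    M *ᵥ Pi.single j (-1) = -(M *ᵥ Pi.single j 1) := by
  rw [← Matrix.mulVec_neg]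
  congr 1
  rw [← Pi.single_neg]

theorem ompe13_vecMul_neg {n : ℕ} (M : Matrix (Fin n) (Fin n) F) (j : Fin n) :
    Pi.single j (-1) ᵥ* M = -(Pi.single j 1 ᵥ* M) := by
  rw [← Matrix.neg_vecMul]
  congr 1
  rw [← Pi.single_neg]

theorem ompe13_single_neg {n : ℕ} (j : Fin n) : (Pi.single j (-1) : Fin n → F) = -Pi.single j 1 := by
  rw [← Pi.single_neg]

/-- the invariant of the partial products -/
structure ompe13_Inv (n m : ℕ) (g : Matrix.SpecialLinearGroup (Fin n) F) : Prop where
  c1 : ∀ j : Fin n, (j.val < 2 ∨ m + 2 < j.val) → g.1 *ᵥ Pi.single j 1 = Pi.single j 1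
  c2 : ∀ j j' : Fin n, 2 ≤ j.val → j.val < m + 2 → j'.val = j.val + 1 → g.1 *ᵥ Pi.single j 1 = Pi.single j' (-1)
  c3 : ∀ j j' : Fin n, j.val = m + 2 → j'.val = 2 → g.1 *ᵥ Pi.single j 1 = Pi.single j' 1
  r1 : ∀ j : Fin n, (j.val < 2 ∨ m + 2 < j.val) → Pi.single j 1 ᵥ* g.1 = Pi.single j 1
  r2 : ∀ j j' : Fin n, 2 ≤ j.val → j.val < m + 2 → j'.val = j.val + 1 → Pi.single j' 1 ᵥ* g.1 = Pi.single j (-1)
  r3 : ∀ j j' : Fin n, j.val = m + 2 → j'.val = 2 → Pi.single j' 1 ᵥ* g.1 = Pi.single j 1

theorem ompe13_inv (n : ℕ) : ∀ m : ℕ, m + 3 ≤ n → ompe13_Inv (F := F) n m (ompe13_coxL n m) := by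
  intro m
  induction m with
  | zero =>
    intro _
    rw [ompe13_coxL_zero]
    refine ⟨?_, ?_, ?_, ?_, ?_, ?_⟩
    · intro j _
      rw [Matrix.SpecialLinearGroup.coe_one, Matrix.one_mulVec]
    · intro j j' h1 h2 _
      omega
    · intro j j' h1 h2
      have : j = j' := Fin.ext (by omega)
      subst this
      rw [Matrix.SpecialLinearGroup.coe_one, Matrix.one_mulVec]
    · intro j _
      rw [Matrix.SpecialLinearGroup.coe_one, Matrix.vecMul_one]
    · intro j j' h1 h2 _
      omega
    · intro j j' h1 h2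
      have : j = j' := Fin.ext (by omega)
      subst this
      rw [Matrix.SpecialLinearGroup.coe_one, Matrix.vecMul_one]
  | succ m ih =>
    intro hm
    have IH := ih (by omega)
    have h3 : m + 3 < n := by omega
    rw [ompe13_coxL_succ]
    have hf : (ompe13_f n m : Matrix.SpecialLinearGroup (Fin n) F) =
        wE (⟨m + 2, by omega⟩ : Fin n) ⟨m + 3, h3⟩ := by
      unfold ompe13_f
      rw [dif_pos h3]
    rw [hf]
    set a : Fin n := ⟨m + 2, by omega⟩ with ha
    set b : Fin n := ⟨m + 3, h3⟩ with hb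
    have hab : a ≠ b := by
      intro h
      have := congrArg Fin.val h
      simp [ha, hb] at this
    have hav : a.val = m + 2 := rfl
    have hbv : b.val = m + 3 := rfl
    set g := (ompe13_coxL n m : Matrix.SpecialLinearGroup (Fin n) F) with hg
    have mv : ∀ v : Fin n → F, (g * wE a b : Matrix.SpecialLinearGroup (Fin n) F).1 *ᵥ v =
        g.1 *ᵥ ((wE a b : Matrix.SpecialLinearGroup (Fin n) F).1 *ᵥ v) := by
      intro v
      rw [Matrix.SpecialLinearGroup.coe_mul, Matrix.mulVec_mulVec]
    have vm : ∀ v : Fin n → F, v ᵥ* (g * wE a b : Matrix.SpecialLinearGroup (Fin n) F).1 =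
        (v ᵥ* g.1) ᵥ* (wE a b : Matrix.SpecialLinearGroup (Fin n) F).1 := by
      intro v
      rw [Matrix.SpecialLinearGroup.coe_mul, Matrix.vecMul_vecMul]
    refine ⟨?_, ?_, ?_, ?_, ?_, ?_⟩
    · intro j hj
      have hja : j ≠ a := by
        intro h; rw [h, hav] at hj; omega
      have hjb : j ≠ b := by
        intro h; rw [h, hbv] at hj; omega
      rw [mv, wE_mulVec_of_ne a b j hab hja hjb]
      exact IH.c1 j (by omega)
    · intro j j' h1 h2 h3'
      by_cases hj : j.val < m + 2
      · have hja : j ≠ a := by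
          intro h; rw [h, hav] at hj; omega
        have hjb : j ≠ b := by
          intro h; rw [h, hbv] at hj; omega
        rw [mv, wE_mulVec_of_ne a b j hab hja hjb]
        exact IH.c2 j j' h1 hj h3'
      · have hja : j = a := Fin.ext (by rw [hav]; omega)
        have hjb : j' = b := Fin.ext (by rw [hbv, h3', hja, hav])
        rw [mv, hja, hjb, wE_mulVec_fst a b hab, ompe13_mulVec_neg, IH.c1 b (Or.inr (by rw [hbv]; omega)),
          ompe13_single_neg]
    · intro j j' h1 h2
      have hjb : j = b := Fin.ext (by rw [hbv]; omega)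
      rw [mv, hjb, wE_mulVec_snd a b hab]
      exact IH.c3 a j' hav h2
    · intro j hj
      have hja : j ≠ a := by
        intro h; rw [h, hav] at hj; omega
      have hjb : j ≠ b := by
        intro h; rw [h, hbv] at hj; omega
      rw [vm, IH.r1 j (by omega), vecMul_wE_of_ne a b j hab hja hjb]
    · intro j j' h1 h2 h3'
      by_cases hj : j.val < m + 2
      · have hja : j ≠ a := by
          intro h; rw [h, hav] at hj; omega
        have hjb : j ≠ b := by
          intro h; rw [h, hbv] at hj; omega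
        rw [vm, IH.r2 j j' h1 hj h3', ompe13_vecMul_neg, vecMul_wE_of_ne a b j hab hja hjb, ompe13_single_neg]
      · have hja : j = a := Fin.ext (by rw [hav]; omega)
        have hjb : j' = b := Fin.ext (by rw [hbv, h3', hja, hav])
        rw [vm, hja, hjb, IH.r1 b (Or.inr (by rw [hbv]; omega)), vecMul_wE_snd a b hab]
    · intro j j' h1 h2
      have hjb : j = b := Fin.ext (by rw [hbv]; omega)
      rw [vm, IH.r3 a j' hav h2, hjb, vecMul_wE_fst a b hab]

/-- conjugation of a transvection by an element moving the indices with both signs `-1` -/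
theorem ompe13_conj_tv_nn {ι : Type w} [Fintype ι] [DecidableEq ι] (g : Matrix.SpecialLinearGroup ι F) (i j a c : ι)
    (hij : i ≠ j) (hac : a ≠ c)
    (h1 : g.1 *ᵥ Pi.single i 1 = Pi.single a (-1)) (h2 : Pi.single c 1 ᵥ* g.1 = Pi.single j (-1)) (x : F) :
    g * tv i j x * g⁻¹ = tv a c x := by
  rw [mul_inv_eq_iff_eq_mul]
  apply Subtype.ext
  rw [Matrix.SpecialLinearGroup.coe_mul, Matrix.SpecialLinearGroup.coe_mul, tv_coe hij, tv_coe hac]
  unfold Matrix.transvection
  rw [mul_add, add_mul, mul_one, one_mul]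
  congr 1
  ext p q
  have e1 : ∀ p, g.1 p i = if p = a then -1 else 0 := by
    intro p
    have := congrFun h1 p
    rw [Matrix.mulVec_single_one, Pi.single_apply] at this
    exact this
  have e2 : ∀ q, g.1 c q = if q = j then -1 else 0 := by
    intro q
    have := congrFun h2 q
    rw [Matrix.single_one_vecMul, Pi.single_apply] at this
    exact this
  rw [ctatvapi_mul_single, ctatvapi_single_mul, e1, e2]
  by_cases hq : q = j
  · by_cases hp : p = a
    · rw [if_pos hq, if_pos hp, if_pos hp, if_pos hq]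
      ring
    · rw [if_pos hq, if_neg hp, if_neg hp, zero_mul]
  · rw [if_neg hq, if_neg hq, mul_zero, ite_self]

/-- E13 core: `coxHyp` with the statement of E11 `blk_gen` as a hypothesis -/
theorem ompe13_core (n : ℕ) (hn : 4 ≤ n)
    (hblk : ∀ (a b : Fin n) (_ : a ≠ b) (g : Matrix.SpecialLinearGroup (Fin n) F) (_ : Mv g a b a b),
      g ∈ Subgroup.closure {x : Matrix.SpecialLinearGroup (Fin n) F |
        ∃ (i j : Fin n) (t : F), i ≠ j ∧ i ≠ a ∧ i ≠ b ∧ j ≠ a ∧ j ≠ b ∧ x = tv i j t}) :
    CoxHyp (F := F) (ptsFin n hn) (coxc n) := by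
  have hInv := ompe13_inv (F := F) n (n - 3) (by omega)
  rw [← ompe13_cox_eq] at hInv
  have hMvcox : Mv (cox n : Matrix.SpecialLinearGroup (Fin n) F) (ptsFin n hn).o0 (ptsFin n hn).o1
      (ptsFin n hn).o0 (ptsFin n hn).o1 := by
    refine ⟨hInv.c1 _ (Or.inl ?_), hInv.c1 _ (Or.inl ?_), hInv.r1 _ (Or.inl ?_), hInv.r1 _ (Or.inl ?_)⟩ <;>
      simp [ptsFin]
  refine ⟨?_, ?_⟩
  · unfold coxc
    split_ifs with h4
    · rw [Mv_iff]
      exact ⟨Mv1_one _, Mv1_one _⟩
    · exact hMvcox
  · intro S hc h23 h32 g hg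
    -- the simple root subgroups
    have hsimple : ∀ (k : ℕ), ∀ (hk : k + 3 < n), ∀ t : F,
        tv (⟨k + 2, by omega⟩ : Fin n) ⟨k + 3, hk⟩ t ∈ S ∧ tv (⟨k + 3, hk⟩ : Fin n) ⟨k + 2, by omega⟩ t ∈ S := by
      intro k
      induction k with
      | zero =>
        intro hk t
        exact ⟨h23 t, h32 t⟩
      | succ k ih =>
        intro hk t
        have hk' : k + 3 < n := by omega
        have hn4 : n ≠ 4 := by omega
        have hcox : (cox n : Matrix.SpecialLinearGroup (Fin n) F) ∈ S := by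
          unfold coxc at hc
          rw [if_neg hn4] at hc
          exact hc
        obtain ⟨i1, i2⟩ := ih hk' t
        set a : Fin n := ⟨k + 2, by omega⟩ with ha
        set b : Fin n := ⟨k + 3, hk'⟩ with hb
        set c : Fin n := ⟨k + 4, hk⟩ with hcd
        have hab : a ≠ b := by
          intro h; have := congrArg Fin.val h; simp [ha, hb] at this
        have hbc : b ≠ c := by
          intro h; have := congrArg Fin.val h; simp [hb, hcd] at this
        have e1 : (cox n : Matrix.SpecialLinearGroup (Fin n) F) * tv a b t * (cox n)⁻¹ = tv b c t :=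
          ompe13_conj_tv_nn _ a b b c hab hbc
            (hInv.c2 a b (by simp [ha]) (by simp [ha]; omega) (by simp [ha, hb]))
            (hInv.r2 b c (by simp [hb]) (by simp [hb]; omega) (by simp [hb, hcd])) t
        have e2 : (cox n : Matrix.SpecialLinearGroup (Fin n) F) * tv b a t * (cox n)⁻¹ = tv c b t :=
          ompe13_conj_tv_nn _ b a c b hab.symm hbc.symm
            (hInv.c2 b c (by simp [hb]) (by simp [hb]; omega) (by simp [hb, hcd]))
            (hInv.r2 a b (by simp [ha]) (by simp [ha]; omega) (by simp [ha, hb])) t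
        constructor
        · show tv b c t ∈ S
          rw [← e1]
          exact S.mul_mem (S.mul_mem hcox i1) (S.inv_mem hcox)
        · show tv c b t ∈ S
          rw [← e2]
          exact S.mul_mem (S.mul_mem hcox i2) (S.inv_mem hcox)
    have hsimple' : ∀ (k : ℕ) (hk : k + 1 < n), 2 ≤ k → ∀ t : F,
        tv (⟨k, Nat.lt_of_succ_lt hk⟩ : Fin n) ⟨k + 1, hk⟩ t ∈ S ∧
          tv (⟨k + 1, hk⟩ : Fin n) ⟨k, Nat.lt_of_succ_lt hk⟩ t ∈ S := by
      intro k hk h2 t
      obtain ⟨k', rfl⟩ : ∃ k', k = k' + 2 := ⟨k - 2, by omega⟩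
      exact hsimple k' (by omega) t
    have hall : ∀ (i j : Fin n), i ≠ j → 2 ≤ i.val → 2 ≤ j.val → ∀ t : F, tv i j t ∈ S := by
      intro i j hij hi hj t
      rcases lt_or_gt_of_ne hij with h | h
      · have := simplegen_up (F := F) i j h t
        refine (Subgroup.closure_le S).2 ?_ this
        rintro _ ⟨k, hk, s, h1, h2, rfl⟩
        exact (hsimple' k hk (by omega) s).1
      · have := simplegen_down (F := F) i j h t
        refine (Subgroup.closure_le S).2 ?_ this
        rintro _ ⟨k, hk, s, h1, h2, rfl⟩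
        exact (hsimple' k hk (by omega) s).2
    have hmem := hblk (ptsFin n hn).o0 (ptsFin n hn).o1 (ptsFin n hn).h01 g hg
    refine (Subgroup.closure_le S).2 ?_ hmem
    rintro _ ⟨i, j, t, hij, hi0, hi1, hj0, hj1, rfl⟩
    apply hall i j hij
    · by_contra h
      have : i.val = 0 ∨ i.val = 1 := by omega
      rcases this with h' | h'
      · exact hi0 (Fin.ext (by simp [ptsFin, h']))
      · exact hi1 (Fin.ext (by simp [ptsFin, h']))
    · by_contra h
      have : j.val = 0 ∨ j.val = 1 := by omega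
      rcases this with h' | h'
      · exact hj0 (Fin.ext (by simp [ptsFin, h']))
      · exact hj1 (Fin.ext (by simp [ptsFin, h']))

end E13

end Cfsg.Agent.Lib.helper17.OMP
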