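import Mathlib
import Cfsg.Agent.Lib.helper17.OMP.Defs
import Cfsg.Agent.Lib.Helper1.OMPE13core
import Cfsg.Agent.Lib.helper4.OMPE11

/-!
# Project OMP (designer helper17), row E13 (helper1), verbatim: the Coxeter word `coxc n` satisfies `CoxHyp`
-/

set_option autoImplicit false

namespace Cfsg.Agent.Lib.helper17.OMP

open Matrix Cfsg.Agent.Lib.helper14.CTE Cfsg.Agent.Lib.helper14.CTA Cfsg.Agent.Lib.helper17.SLN

universe u v w

section E13

variable {F : Type u} [Field F]

/-- E13 [M-L]  the Coxeter word. -/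
theorem coxHyp (n : ℕ) (hn : 4 ≤ n) : CoxHyp (F := F) (ptsFin n hn) (coxc n) :=
  ompe13_core n hn (fun a b hab g hg => blk_gen a b hab g hg)

end E13

end Cfsg.Agent.Lib.helper17.OMP
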