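import Mathlib
import Cfsg.Agent.Lib.helper17.OMP.Defs
import Cfsg.Agent.Lib.Helper11.OMPE1
import Cfsg.Agent.Lib.Helper28.CTDM1f
import Cfsg.Agent.Lib.helper2.OMPE4

/-!
# Project OMP (designer helper17), rows E2 E3 (helper1, OWN-NAME insurance copies `ompe2h1_*`, `ompe3h1_*`)

The statements of E2 `wE_inv wE_mul_self wn_eq_wE` and E3 `hE_coe hE_conj_tv hE_inv` under own names, so that nothing waits.
-/

set_option autoImplicit false

namespace Cfsg.Agent.Lib.helper17.OMP

open Matrix Cfsg.Agent.Lib.helper14.CTE Cfsg.Agent.Lib.helper14.CTA Cfsg.Agent.Lib.helper17.SLN Cfsg.Agent.Lib.Helper28.CTD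

universe u v w

section E

variable {F : Type u} [Field F] {ι : Type w} [Fintype ι] [DecidableEq ι]

/-- two matrices with the same action on all vectors are equal -/
theorem ompe2h1_ext_mulVec (M N : Matrix ι ι F) (h : ∀ v : ι → F, M *ᵥ v = N *ᵥ v) : M = N := by
  ext p q
  have := congrFun (h (Pi.single q 1)) p
  rw [Matrix.mulVec_single_one, Matrix.mulVec_single_one] at this
  exact this

theorem ompe2h1_wE_mul_wE (i j : ι) (hij : i ≠ j) : (wE i j : Matrix.SpecialLinearGroup ι F) * wE j i = 1 := by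
  apply Subtype.ext
  rw [Matrix.SpecialLinearGroup.coe_mul, Matrix.SpecialLinearGroup.coe_one]
  apply ompe2h1_ext_mulVec
  intro v
  rw [← Matrix.mulVec_mulVec, ompe1_wE_mulVec j i hij.symm, ompe1_wE_mulVec i j hij, Matrix.one_mulVec]
  funext k
  have hji : j ≠ i := hij.symm
  by_cases hki : k = i
  · rw [hki]
    simp
  · by_cases hkj : k = j
    · rw [hkj]
      simp [hij, hji]
    · simp [hki, hkj]

/-- the statement of E2 `wE_inv` -/
theorem ompe2h1_wE_inv (i j : ι) (hij : i ≠ j) : (wE i j : Matrix.SpecialLinearGroup ι F)⁻¹ = wE j i :=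
  inv_eq_of_mul_eq_one_right (ompe2h1_wE_mul_wE i j hij)

/-- `h_ij(-1)` is the square of the Weyl word `wn i j` -/
theorem ompe2h1_hm_eq (i j : ι) : (hm i j : Matrix.SpecialLinearGroup ι F) = wn i j * wn i j := by
  unfold hm hE wn
  have e : (-(-1 : F)⁻¹) = 1 := by rw [inv_neg, inv_one, neg_neg]
  rw [e]

/-- the statement of E2 `wn_eq_wE` -/
theorem ompe2h1_wn_eq_wE (i j : ι) (hij : i ≠ j) : (wn i j : Matrix.SpecialLinearGroup ι F) = wE j i := by
  have h : (wn i j : Matrix.SpecialLinearGroup ι F)⁻¹ = wE i j := ctdm1f_wn_inv i j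
  rw [← ompe2h1_wE_inv i j hij, ← h, inv_inv]

/-- the statement of E2 `wE_mul_self` -/
theorem ompe2h1_wE_mul_self (i j : ι) (hij : i ≠ j) : (wE i j : Matrix.SpecialLinearGroup ι F) * wE i j = hm i j := by
  rw [ompe2h1_hm_eq, ompe2h1_wn_eq_wE i j hij]
  -- `wE i j * wE i j = wE j i * wE j i`: both are the inverse of ... ; compare the actions
  apply Subtype.ext
  rw [Matrix.SpecialLinearGroup.coe_mul, Matrix.SpecialLinearGroup.coe_mul]
  apply ompe2h1_ext_mulVec
  intro v
  rw [← Matrix.mulVec_mulVec, ← Matrix.mulVec_mulVec, ompe1_wE_mulVec i j hij, ompe1_wE_mulVec i j hij,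
    ompe1_wE_mulVec j i hij.symm, ompe1_wE_mulVec j i hij.symm]
  funext k
  have hji : j ≠ i := hij.symm
  by_cases hki : k = i
  · rw [hki]
    simp [hij, hji]
  · by_cases hkj : k = j
    · rw [hkj]
      simp [hij, hji]
    · simp [hki, hkj]

/-- the statement of E3 `hE_coe` -/
theorem ompe3h1_hE_coe (i j : ι) (hij : i ≠ j) (s : F) (hs : s ≠ 0) :
    ((hE i j s : Matrix.SpecialLinearGroup ι F) : Matrix ι ι F) =
      Matrix.diagonal (fun k => if k = i then s else if k = j then s⁻¹ else 1) :=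
  ompe4_hE_coe i j hij s hs

/-- the statement of E3 `hE_conj_tv` -/
theorem ompe3h1_hE_conj_tv (i j : ι) (hij : i ≠ j) (s : F) (hs : s ≠ 0) (a b : ι) (hab : a ≠ b) (t : F) :
    (hE i j s : Matrix.SpecialLinearGroup ι F) * tv a b t * (hE i j s)⁻¹ =
      tv a b ((if a = i then s else if a = j then s⁻¹ else 1) * (if b = i then s else if b = j then s⁻¹ else 1)⁻¹ * t) := by
  have hd : ∀ k : ι, (if k = i then s else if k = j then s⁻¹ else 1) ≠ 0 := by
    intro k
    split_ifs
    · exact hs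
    · exact inv_ne_zero hs
    · exact one_ne_zero
  rw [mul_inv_eq_iff_eq_mul]
  apply Subtype.ext
  rw [Matrix.SpecialLinearGroup.coe_mul, Matrix.SpecialLinearGroup.coe_mul, ompe4_hE_coe i j hij s hs, tv_coe hab, tv_coe hab]
  unfold Matrix.transvection
  rw [mul_add, add_mul, mul_one, one_mul]
  congr 1
  ext p q
  rw [Matrix.diagonal_mul, Matrix.mul_diagonal, Matrix.single_apply, Matrix.single_apply]
  by_cases h : a = p ∧ b = q
  · simp only [if_pos h]
    obtain ⟨rfl, rfl⟩ := h
    have hb := hd b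
    generalize (if a = i then s else if a = j then s⁻¹ else 1) = da
    generalize (if b = i then s else if b = j then s⁻¹ else 1) = db at hb
    field_simp
  · simp only [if_neg h, mul_zero, zero_mul]

/-- the statement of E3 `hE_inv` -/
theorem ompe3h1_hE_inv (i j : ι) (hij : i ≠ j) (s : F) (hs : s ≠ 0) :
    (hE i j s : Matrix.SpecialLinearGroup ι F)⁻¹ = hE i j s⁻¹ := by
  apply inv_eq_of_mul_eq_one_right
  apply Subtype.ext
  rw [Matrix.SpecialLinearGroup.coe_mul, ompe4_hE_coe i j hij s hs, ompe4_hE_coe i j hij s⁻¹ (inv_ne_zero hs),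
    Matrix.diagonal_mul_diagonal, Matrix.SpecialLinearGroup.coe_one, ← Matrix.diagonal_one]
  congr 1
  funext k
  by_cases hki : k = i
  · subst hki
    simp [hs]
  · by_cases hkj : k = j
    · subst hkj
      simp [hki, hs]
    · simp [hki, hkj]

end E

end Cfsg.Agent.Lib.helper17.OMP
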