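import Mathlib

/-!
# Project OMP (S2295), presentation plumbing F1 (helper1): adjoining one free generator and finitely many relators
to a presented group.  Mathlib only.
-/

set_option autoImplicit false

namespace Cfsg.Agent.Lib.Helper1.OMP

universe u w

/-- evaluation of a word in `a + 1` letters factors through the free product `A * ℤ`. -/
theorem omp_adjoin_ev {A : Type u} [Group A] {a : ℕ} {R : Set (FreeGroup (Fin a))}
    (eA : PresentedGroup R ≃* A) {H : Type w} [Group H] (α' : A →* H) (y' : H) :
    FreeGroup.lift (Fin.lastCases y' (fun i => α' (eA (PresentedGroup.of i)))) =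
      (Monoid.Coprod.lift α' (zpowersHom _ y')).comp
        (FreeGroup.lift (Fin.lastCases (Monoid.Coprod.inr (Multiplicative.ofAdd 1))
          (fun i => Monoid.Coprod.inl (eA (PresentedGroup.of i))))) := by
  ext j
  simp only [MonoidHom.comp_apply, FreeGroup.lift_apply_of]
  refine Fin.lastCases ?_ (fun i => ?_) j
  · rw [Fin.lastCases_last, Fin.lastCases_last, Monoid.Coprod.lift_apply_inr, zpowersHom_apply]
    simp
  · rw [Fin.lastCases_castSucc, Fin.lastCases_castSucc, Monoid.Coprod.lift_apply_inl]

/-- F1: if `A = ⟨Fin a | RA⟩` and `S` is a finite subset of the free product `A * ℤ`, then `(A * ℤ)/⟨⟨S⟩⟩` has a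
presentation on `a + 1` generators with `|RA| + |S|` relators (stated through its universal property). -/
theorem omp_adjoin_pres {A : Type u} [Group A] {a : ℕ}
    (RA : Finset (FreeGroup (Fin a))) (eA : PresentedGroup (↑RA : Set (FreeGroup (Fin a))) ≃* A)
    (S : Finset (Monoid.Coprod A (Multiplicative ℤ))) :
    ∃ rels : Finset (FreeGroup (Fin (a + 1))), rels.card ≤ RA.card + S.card ∧
      ∃ (α : A →* PresentedGroup (↑rels : Set (FreeGroup (Fin (a + 1)))))
        (y : PresentedGroup (↑rels : Set (FreeGroup (Fin (a + 1))))),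
        (∀ s ∈ S, Monoid.Coprod.lift α (zpowersHom _ y) s = 1) ∧
        Subgroup.closure (Set.range α ∪ {y}) = ⊤ ∧
        ∀ (H : Type w) [Group H] (α' : A →* H) (y' : H),
          (∀ s ∈ S, Monoid.Coprod.lift α' (zpowersHom _ y') s = 1) →
          ∃ ψ : PresentedGroup (↑rels : Set (FreeGroup (Fin (a + 1)))) →* H,
            (∀ x, ψ (α x) = α' x) ∧ ψ y = y' := by
  classical
  -- the embedding of the free group of `A` and the evaluation into the free product
  let ιA : FreeGroup (Fin a) →* FreeGroup (Fin (a + 1)) := FreeGroup.map Fin.castSucc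
  let gθ : Fin (a + 1) → Monoid.Coprod A (Multiplicative ℤ) :=
    Fin.lastCases (Monoid.Coprod.inr (Multiplicative.ofAdd 1))
      (fun i => Monoid.Coprod.inl (eA (PresentedGroup.of i)))
  let θ : FreeGroup (Fin (a + 1)) →* Monoid.Coprod A (Multiplicative ℤ) := FreeGroup.lift gθ
  have hθl : θ (FreeGroup.of (Fin.last a)) = Monoid.Coprod.inr (Multiplicative.ofAdd 1) := by
    show FreeGroup.lift gθ (FreeGroup.of (Fin.last a)) = _
    rw [FreeGroup.lift_apply_of]
    exact Fin.lastCases_last
  have hθc : ∀ i : Fin a, θ (FreeGroup.of (Fin.castSucc i)) = Monoid.Coprod.inl (eA (PresentedGroup.of i)) := by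
    intro i
    show FreeGroup.lift gθ (FreeGroup.of (Fin.castSucc i)) = _
    rw [FreeGroup.lift_apply_of]
    exact Fin.lastCases_castSucc _
  have hθA : ∀ w : FreeGroup (Fin a), θ (ιA w) = Monoid.Coprod.inl (eA (PresentedGroup.mk _ w)) := by
    intro w
    have : θ.comp ιA = (Monoid.Coprod.inl.comp eA.toMonoidHom).comp (PresentedGroup.mk _) := by
      ext i
      simp only [MonoidHom.comp_apply]
      show θ (FreeGroup.map Fin.castSucc (FreeGroup.of i)) = _
      rw [FreeGroup.map.of, hθc]
      rfl
    exact DFunLike.congr_fun this w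
  -- `θ` is onto
  have hθs : Function.Surjective θ := by
    rw [← MonoidHom.range_eq_top, eq_top_iff, ← Monoid.Coprod.codisjoint_range_inl_range_inr.eq_top]
    refine sup_le ?_ ?_
    · rintro _ ⟨x, rfl⟩
      obtain ⟨p, rfl⟩ := eA.surjective x
      obtain ⟨w, rfl⟩ := PresentedGroup.mk_surjective _ p
      exact ⟨ιA w, hθA w⟩
    · rintro _ ⟨n, rfl⟩
      refine ⟨(FreeGroup.of (Fin.last a)) ^ (Multiplicative.toAdd n), ?_⟩
      rw [map_zpow, hθl, ← map_zpow]
      congr 1
      rw [← ofAdd_zsmul]
      simp
  choose v hv using hθs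
  refine ⟨RA.image ιA ∪ S.image v, ?_, ?_⟩
  · refine (Finset.card_union_le _ _).trans (Nat.add_le_add Finset.card_image_le Finset.card_image_le)
  set rels : Finset (FreeGroup (Fin (a + 1))) := RA.image ιA ∪ S.image v with hrels
  have hev : ∀ {H : Type w} [Group H] (α' : A →* H) (y' : H),
      FreeGroup.lift (Fin.lastCases y' (fun i => α' (eA (PresentedGroup.of i)))) =
        (Monoid.Coprod.lift α' (zpowersHom _ y')).comp θ := fun α' y' => omp_adjoin_ev eA α' y'
  -- the generators in the presented group
  have hmk : ∀ w, PresentedGroup.mk (↑rels : Set (FreeGroup (Fin (a + 1)))) w =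
      FreeGroup.lift (fun j => PresentedGroup.of (rels := (↑rels : Set (FreeGroup (Fin (a + 1))))) j) w := by
    intro w
    have : PresentedGroup.mk (↑rels : Set (FreeGroup (Fin (a + 1)))) =
        FreeGroup.lift (fun j => PresentedGroup.of (rels := (↑rels : Set (FreeGroup (Fin (a + 1))))) j) := by
      ext j
      simp [PresentedGroup.of]
    rw [this]
  -- the homomorphism `α`
  have hA1 : ∀ r ∈ (↑RA : Set (FreeGroup (Fin a))),
      FreeGroup.lift (fun i => PresentedGroup.of (rels := (↑rels : Set (FreeGroup (Fin (a + 1)))))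
        (Fin.castSucc i)) r = 1 := by
    intro r hr
    have h1 : FreeGroup.lift (fun i => PresentedGroup.of (rels := (↑rels : Set (FreeGroup (Fin (a + 1)))))
        (Fin.castSucc i)) = (PresentedGroup.mk (↑rels : Set (FreeGroup (Fin (a + 1))))).comp ιA := by
      ext i
      simp only [MonoidHom.comp_apply, FreeGroup.lift_apply_of]
      show _ = PresentedGroup.mk _ (FreeGroup.map Fin.castSucc (FreeGroup.of i))
      rw [FreeGroup.map.of]
      rfl
    rw [h1, MonoidHom.comp_apply]
    apply PresentedGroup.one_of_mem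
    rw [hrels]
    exact Finset.mem_coe.mpr (Finset.mem_union_left _ (Finset.mem_image_of_mem _ hr))
  let α : A →* PresentedGroup (↑rels : Set (FreeGroup (Fin (a + 1)))) :=
    (PresentedGroup.toGroup hA1).comp eA.symm.toMonoidHom
  have hα : ∀ w : FreeGroup (Fin a), α (eA (PresentedGroup.mk _ w)) = PresentedGroup.mk _ (ιA w) := by
    intro w
    show PresentedGroup.toGroup hA1 (eA.symm (eA (PresentedGroup.mk _ w))) = _
    rw [eA.symm_apply_apply]
    have h1 : FreeGroup.lift (fun i => PresentedGroup.of (rels := (↑rels : Set (FreeGroup (Fin (a + 1)))))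
        (Fin.castSucc i)) = (PresentedGroup.mk (↑rels : Set (FreeGroup (Fin (a + 1))))).comp ιA := by
      ext i
      simp only [MonoidHom.comp_apply, FreeGroup.lift_apply_of]
      show _ = PresentedGroup.mk _ (FreeGroup.map Fin.castSucc (FreeGroup.of i))
      rw [FreeGroup.map.of]
      rfl
    show FreeGroup.lift _ w = _
    rw [h1]
    rfl
  have hαof : ∀ i : Fin a, α (eA (PresentedGroup.of i)) = PresentedGroup.of (Fin.castSucc i) := by
    intro i
    have := hα (FreeGroup.of i)
    rw [show ιA (FreeGroup.of i) = FreeGroup.of (Fin.castSucc i) from FreeGroup.map.of] at this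
    exact this
  -- `mk` factors through `θ`
  have hmkθ : ∀ w, PresentedGroup.mk (↑rels : Set (FreeGroup (Fin (a + 1)))) w =
      Monoid.Coprod.lift α (zpowersHom _ (PresentedGroup.of (rels := (↑rels : Set (FreeGroup (Fin (a + 1)))))
        (Fin.last a))) (θ w) := by
    intro w
    have h2 : FreeGroup.lift (Fin.lastCases (PresentedGroup.of (rels := (↑rels : Set (FreeGroup (Fin (a + 1)))))
        (Fin.last a)) (fun i => α (eA (PresentedGroup.of i)))) =
        (Monoid.Coprod.lift α (zpowersHom _ (PresentedGroup.of (rels := (↑rels : Set (FreeGroup (Fin (a + 1)))))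
        (Fin.last a)))).comp θ :=
      omp_adjoin_ev eA α (PresentedGroup.of (rels := (↑rels : Set (FreeGroup (Fin (a + 1))))) (Fin.last a))
    have h3 : (fun j => PresentedGroup.of (rels := (↑rels : Set (FreeGroup (Fin (a + 1))))) j) =
        Fin.lastCases (PresentedGroup.of (rels := (↑rels : Set (FreeGroup (Fin (a + 1))))) (Fin.last a))
          (fun i => α (eA (PresentedGroup.of i))) := by
      funext j
      refine Fin.lastCases ?_ (fun i => ?_) j
      · rw [Fin.lastCases_last]
      · rw [Fin.lastCases_castSucc, hαof]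
    rw [hmk, h3, h2]
    rfl
  refine ⟨α, PresentedGroup.of (Fin.last a), ?_, ?_, ?_⟩
  · intro s hs
    rw [← hv s, ← hmkθ]
    apply PresentedGroup.one_of_mem
    rw [hrels]
    exact Finset.mem_coe.mpr (Finset.mem_union_right _ (Finset.mem_image_of_mem _ hs))
  · rw [eq_top_iff, ← PresentedGroup.closure_range_of]
    rw [Subgroup.closure_le]
    rintro _ ⟨j, rfl⟩
    refine Fin.lastCases ?_ (fun i => ?_) j
    · exact Subgroup.subset_closure (Or.inr rfl)
    · rw [← hαof]
      exact Subgroup.subset_closure (Or.inl ⟨_, rfl⟩)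
  · intro H _ α' y' hS
    have hrel : ∀ r ∈ (↑rels : Set (FreeGroup (Fin (a + 1)))),
        FreeGroup.lift (Fin.lastCases y' (fun i => α' (eA (PresentedGroup.of i)))) r = 1 := by
      intro r hr
      rw [hev α' y', MonoidHom.comp_apply]
      rw [hrels] at hr
      rcases Finset.mem_union.mp (Finset.mem_coe.mp hr) with h | h
      · obtain ⟨r', hr', rfl⟩ := Finset.mem_image.mp h
        rw [hθA, Monoid.Coprod.lift_apply_inl, PresentedGroup.one_of_mem (Finset.mem_coe.mpr hr'), map_one,
          map_one]
      · obtain ⟨s, hs, rfl⟩ := Finset.mem_image.mp h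
        rw [hv s]
        exact hS s hs
    refine ⟨PresentedGroup.toGroup hrel, ?_, ?_⟩
    · intro x
      obtain ⟨p, rfl⟩ := eA.surjective x
      obtain ⟨w, rfl⟩ := PresentedGroup.mk_surjective _ p
      rw [hα]
      show FreeGroup.lift _ (ιA w) = _
      rw [hev α' y', MonoidHom.comp_apply, hθA, Monoid.Coprod.lift_apply_inl]
    · show FreeGroup.lift _ (FreeGroup.of (Fin.last a)) = _
      rw [FreeGroup.lift_apply_of, Fin.lastCases_last]

end Cfsg.Agent.Lib.Helper1.OMP
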