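import Mathlib
import Cfsg.Prelude.Def_Classical
import Cfsg.Agent.Lib.Helper18.STDR0

/-!
# Project OMP (S2295), row F2 (helper1): the centre of `Ω⁺_{2n}(F)` is cyclic (`n ≥ 3`), given that the elementary
orthogonal matrices `Td a b 1` lie in `Ω` (OMM O10).  Hence `PΩ` costs one more relator.
-/

set_option autoImplicit false

namespace Cfsg.Agent.Lib.Helper1.OMP

open Matrix Cfsg.Agent.Lib.helper3.STC Cfsg.Agent.Lib.Lead.STD

universe u

variable {n : ℕ} {F : Type u} [Field F]

/-- a third index -/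
theorem ompf2_exists_third (hn : 3 ≤ n) (x y : Fin n) : ∃ k : Fin n, k ≠ x ∧ k ≠ y := by
  by_contra h
  push Not at h
  have h1 : (Finset.univ : Finset (Fin n)) ⊆ {x, y} := by
    intro k _
    by_cases hk : k = x
    · simp [hk]
    · simp [h k hk]
  have h2 := Finset.card_le_card h1
  have h3 : ({x, y} : Finset (Fin n)).card ≤ 2 := Finset.card_le_two
  rw [Finset.card_univ, Fintype.card_fin] at h2
  omega

/-- a matrix commuting with all `Td a b 1` is scalar -/
theorem ompf2_scalar (hn : 3 ≤ n) (M : Matrix (Fin n ⊕ Fin n) (Fin n ⊕ Fin n) F)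
    (hM : ∀ a b : Fin n ⊕ Fin n, a ≠ b → a ≠ ng b → M * Td a b (1 : F) = Td a b 1 * M)
    (a₀ : Fin n ⊕ Fin n) : M = M a₀ a₀ • (1 : Matrix (Fin n ⊕ Fin n) (Fin n ⊕ Fin n) F) := by
  -- the key identity
  have key : ∀ a b : Fin n ⊕ Fin n, a ≠ b → a ≠ ng b → ∀ i,
      M i a = (if i = a then M b b else 0) - (if i = ng b then M (ng a) b else 0) := by
    intro a b hab hab' i
    have h1 := congrArg (fun X => (X *ᵥ (Pi.single b (1 : F))) i) (hM a b hab hab')
    simp only [← Matrix.mulVec_mulVec, Td_mulVec] at h1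
    have hb : (Pi.single b (1 : F) : Fin n ⊕ Fin n → F) (ng a) = 0 := by
      rw [Pi.single_apply, if_neg]
      intro h
      apply hab'
      rw [← h, stdr0_ng_ng]
    rw [hb, mul_zero, Pi.single_zero, sub_zero, Pi.single_eq_same, mul_one, Matrix.mulVec_add] at h1
    simp only [Matrix.mulVec_single_one, Pi.add_apply, Pi.sub_apply, Pi.single_apply, one_mul] at h1
    have h2 : M i a = (if i = a then M b b else 0) - (if i = ng b then M (ng a) b else 0) := by
      have h3 : (M.col b i + M.col a i : F) = M.col b i + (if i = a then M.col b b else 0) -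
          (if i = ng b then M.col b (ng a) else 0) := h1
      simp only [Matrix.col_apply] at h3
      linear_combination h3
    exact h2
  have hoff : ∀ i a : Fin n ⊕ Fin n, i ≠ a → M i a = 0 := by
    intro i a hia
    obtain ⟨k, hk1, hk2⟩ := ompf2_exists_third hn (ab a) (ab i)
    have h1 : a ≠ Sum.inl k := by
      intro h
      apply hk1
      rw [h]
      rfl
    have h2 : a ≠ ng (Sum.inl k) := by
      intro h
      apply hk1
      rw [h]
      rfl
    have h3 : i ≠ ng (Sum.inl k) := by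
      intro h
      apply hk2
      rw [h]
      rfl
    rw [key a (Sum.inl k) h1 h2 i, if_neg hia, if_neg h3, sub_zero]
  have hdiag : ∀ a b : Fin n ⊕ Fin n, a ≠ b → a ≠ ng b → M a a = M b b := by
    intro a b hab hab'
    rw [key a b hab hab' a, if_pos rfl, if_neg hab', sub_zero]
  have hall : ∀ a : Fin n ⊕ Fin n, M a a = M a₀ a₀ := by
    intro a
    obtain ⟨k, hk1, hk2⟩ := ompf2_exists_third hn (ab a) (ab a₀)
    have h1 : a ≠ Sum.inl k := by
      intro h; apply hk1; rw [h]; rfl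
    have h2 : a ≠ ng (Sum.inl k) := by
      intro h; apply hk1; rw [h]; rfl
    have h3 : a₀ ≠ Sum.inl k := by
      intro h; apply hk2; rw [h]; rfl
    have h4 : a₀ ≠ ng (Sum.inl k) := by
      intro h; apply hk2; rw [h]; rfl
    rw [hdiag a _ h1 h2, hdiag a₀ _ h3 h4]
  ext i j
  rw [Matrix.smul_apply, Matrix.one_apply, smul_eq_mul]
  by_cases hij : i = j
  · subst hij
    rw [if_pos rfl, mul_one, hall]
  · rw [if_neg hij, mul_zero, hoff i j hij]

/-- the statement of "the elementary orthogonal matrices lie in `Ω`" (a consequence of OMM O10b `omega_eq_closure`). -/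
def TdInOmega (n : ℕ) (F : Type u) [Field F] : Prop :=
  ∀ a b : Fin n ⊕ Fin n, a ≠ b → a ≠ ng b →
    ∃ g : Cfsg.Omega F (Cfsg.quadFormPlus n F),
      (((g : Cfsg.isometryGroup F (Cfsg.quadFormPlus n F)) : Matrix.GeneralLinearGroup (Fin n ⊕ Fin n) F) :
        Matrix (Fin n ⊕ Fin n) (Fin n ⊕ Fin n) F) = Td a b (1 : F)

/-- a central element of `Ω` is `± 1` -/
theorem ompf2_center_scalar (hn : 3 ≤ n) (hTd : TdInOmega n F)
    (z : Cfsg.Omega F (Cfsg.quadFormPlus n F)) (hz : z ∈ Subgroup.center (Cfsg.Omega F (Cfsg.quadFormPlus n F))) :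
    ∃ d : F, d * d = 1 ∧
      (((z : Cfsg.isometryGroup F (Cfsg.quadFormPlus n F)) : Matrix.GeneralLinearGroup (Fin n ⊕ Fin n) F) :
        Matrix (Fin n ⊕ Fin n) (Fin n ⊕ Fin n) F) = d • (1 : Matrix (Fin n ⊕ Fin n) (Fin n ⊕ Fin n) F) := by
  set M : Matrix (Fin n ⊕ Fin n) (Fin n ⊕ Fin n) F :=
    (((z : Cfsg.isometryGroup F (Cfsg.quadFormPlus n F)) : Matrix.GeneralLinearGroup (Fin n ⊕ Fin n) F) :
        Matrix (Fin n ⊕ Fin n) (Fin n ⊕ Fin n) F) with hMdef
  have hcomm : ∀ a b : Fin n ⊕ Fin n, a ≠ b → a ≠ ng b → M * Td a b (1 : F) = Td a b 1 * M := by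
    intro a b hab hab'
    obtain ⟨g, hg⟩ := hTd a b hab hab'
    have h1 : g * z = z * g := (Subgroup.mem_center_iff.mp hz) g
    have h2 := congrArg (fun x : Cfsg.Omega F (Cfsg.quadFormPlus n F) =>
      (((x : Cfsg.isometryGroup F (Cfsg.quadFormPlus n F)) : Matrix.GeneralLinearGroup (Fin n ⊕ Fin n) F) :
        Matrix (Fin n ⊕ Fin n) (Fin n ⊕ Fin n) F)) h1
    simp only [Subgroup.coe_mul, Units.val_mul] at h2
    rw [hg] at h2
    exact h2.symm
  let a₀ : Fin n ⊕ Fin n := Sum.inl ⟨0, by omega⟩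
  have hsc := ompf2_scalar hn M hcomm a₀
  refine ⟨M a₀ a₀, ?_, hsc⟩
  -- `z` is an isometry
  have hiso : ∀ u v : Fin n ⊕ Fin n → F, Cfsg.quadFormPlus n F (M *ᵥ u) = Cfsg.quadFormPlus n F u := by
    intro u v
    exact (z : Cfsg.isometryGroup F (Cfsg.quadFormPlus n F)).2 u v
  have h3 := hiso (Pi.single a₀ 1 + Pi.single (ng a₀) 1) 0
  rw [hsc, Matrix.smul_mulVec, Matrix.one_mulVec] at h3
  have hq : ∀ c : F, Cfsg.quadFormPlus n F (c • (Pi.single a₀ 1 + Pi.single (ng a₀) 1)) = c * c := by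
    intro c
    unfold Cfsg.quadFormPlus
    rw [Finset.sum_eq_single (⟨0, by omega⟩ : Fin n)]
    · simp [a₀, ng]
    · intro i _ hi
      have : (Sum.inl i : Fin n ⊕ Fin n) ≠ a₀ := by
        intro h
        exact hi (Sum.inl.inj h)
      simp [a₀, ng, hi]
    · intro h
      exact absurd (Finset.mem_univ _) h
  have h4 := hq (M a₀ a₀)
  have h5 := hq 1
  rw [one_smul, mul_one] at h5
  rw [h3, h5] at h4
  exact h4.symm

/-- F2 [M]: the centre of `Ω⁺_{2n}(F)` is cyclic -/
theorem omp_center_cyclic (hn : 3 ≤ n) (hTd : TdInOmega n F) :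
    IsCyclic (Subgroup.center (Cfsg.Omega F (Cfsg.quadFormPlus n F))) := by
  classical
  let a₀ : Fin n ⊕ Fin n := Sum.inl ⟨0, by omega⟩
  let ι : Subgroup.center (Cfsg.Omega F (Cfsg.quadFormPlus n F)) → F := fun z =>
    ((((z : Cfsg.Omega F (Cfsg.quadFormPlus n F)) : Cfsg.isometryGroup F (Cfsg.quadFormPlus n F)) :
      Matrix.GeneralLinearGroup (Fin n ⊕ Fin n) F) : Matrix (Fin n ⊕ Fin n) (Fin n ⊕ Fin n) F) a₀ a₀
  have hd : ∀ z : Subgroup.center (Cfsg.Omega F (Cfsg.quadFormPlus n F)),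
      ι z * ι z = 1 ∧ ((((z : Cfsg.Omega F (Cfsg.quadFormPlus n F)) : Cfsg.isometryGroup F (Cfsg.quadFormPlus n F)) :
      Matrix.GeneralLinearGroup (Fin n ⊕ Fin n) F) : Matrix (Fin n ⊕ Fin n) (Fin n ⊕ Fin n) F) =
        ι z • (1 : Matrix (Fin n ⊕ Fin n) (Fin n ⊕ Fin n) F) := by
    intro z
    obtain ⟨d, hd1, hd2⟩ := ompf2_center_scalar hn hTd z.1 z.2
    have : ι z = d := by
      show _ = d
      simp only [ι]
      rw [hd2, Matrix.smul_apply, Matrix.one_apply_eq, smul_eq_mul, mul_one]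
    rw [this]
    exact ⟨hd1, hd2⟩
  have hinj : Function.Injective ι := by
    intro z z' h
    apply Subtype.ext
    apply Subtype.ext
    apply Subtype.ext
    apply Units.ext
    rw [(hd z).2, (hd z').2, h]
  have hrange : ∀ z, ι z ∈ ({1, -1} : Finset F) := by
    intro z
    have h1 := (hd z).1
    have h2 : (ι z - 1) * (ι z + 1) = 0 := by linear_combination h1
    rcases mul_eq_zero.mp h2 with h | h
    · simp [sub_eq_zero.mp h]
    · simp [eq_neg_of_add_eq_zero_left h]
  have hfin : Finite (Subgroup.center (Cfsg.Omega F (Cfsg.quadFormPlus n F))) := by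
    let ι' : Subgroup.center (Cfsg.Omega F (Cfsg.quadFormPlus n F)) → ({1, -1} : Finset F) :=
      fun z => ⟨ι z, hrange z⟩
    have : Function.Injective ι' := fun z z' h => hinj (congrArg Subtype.val h)
    exact Finite.of_injective ι' this
  have hcard : Nat.card (Subgroup.center (Cfsg.Omega F (Cfsg.quadFormPlus n F))) ≤ 2 := by
    let ι' : Subgroup.center (Cfsg.Omega F (Cfsg.quadFormPlus n F)) → ({1, -1} : Finset F) :=
      fun z => ⟨ι z, hrange z⟩
    have hi : Function.Injective ι' := fun z z' h => hinj (congrArg Subtype.val h)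
    have h1 := Nat.card_le_card_of_injective ι' hi
    have h2 : Nat.card ({1, -1} : Finset F) ≤ 2 := by
      rw [Nat.card_eq_fintype_card, Fintype.card_coe]
      exact Finset.card_le_two
    exact h1.trans h2
  have hpos : 0 < Nat.card (Subgroup.center (Cfsg.Omega F (Cfsg.quadFormPlus n F))) := Nat.card_pos
  rcases Nat.lt_or_ge (Nat.card (Subgroup.center (Cfsg.Omega F (Cfsg.quadFormPlus n F)))) 2 with h | h
  · have h1 : Nat.card (Subgroup.center (Cfsg.Omega F (Cfsg.quadFormPlus n F))) = 1 := by omega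
    have : Subsingleton (Subgroup.center (Cfsg.Omega F (Cfsg.quadFormPlus n F))) :=
      (Nat.card_eq_one_iff_unique.mp h1).1
    exact isCyclic_of_subsingleton
  · have h1 : Nat.card (Subgroup.center (Cfsg.Omega F (Cfsg.quadFormPlus n F))) = 2 := by omega
    have : Fact (Nat.Prime 2) := ⟨Nat.prime_two⟩
    exact isCyclic_of_prime_card h1

end Cfsg.Agent.Lib.Helper1.OMP
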