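import Mathlib
import Cfsg.Agent.Lib.Helper1.SLN.Defs
import Cfsg.Agent.Lib.Helper1.SLN.Defs2
import Cfsg.Agent.Lib.Helper28.SAP6c
import Cfsg.Agent.Lib.Helper11.SAPSM23h11
import Cfsg.Agent.Lib.Helper25.PresPad
import Cfsg.Agent.Lib.Helper22.SLNF7

/-!
# Project SL7 (designer helper1), row FIN2 (`sl7_main` = S2288): the core, with the statements of A1 A2 A3b X1 T5 as hypotheses.
-/

set_option autoImplicit false

namespace Cfsg.Agent.Lib.Helper1.SLN

open Matrix Equiv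

universe u

/-- the statement of A3b for a fixed field (as a hypothesis). -/
def Sl7A3b (F : Type u) [Field F] [Fintype F] : Prop :=
  ∀ (M : ℕ) {kT : ℕ} (RT : Finset (FreeGroup (Fin kT)))
    (_eT : PresentedGroup (↑RT : Set (FreeGroup (Fin kT))) ≃* alternatingGroup (Fin (M + 4)))
    (L : List (FreeGroup (Fin 4)))
    (eL : PresentedGroup (↑((FreeGroup.of (3 : Fin 4)) ^ 3 :: L).toFinset : Set (FreeGroup (Fin 4))) ≃*
      Matrix.SpecialLinearGroup (Fin 3) F)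
    (_heL : eL (PresentedGroup.of 3) = cM)
    (S : Finset (Monoid.Coprod (alternatingGroup (Fin (M + 4))) (Matrix.SpecialLinearGroup (Fin 3) F)))
    (_hS : ∀ (G : Type) [Group G] (α : alternatingGroup (Fin (M + 4)) →* G)
      (β : Matrix.SpecialLinearGroup (Fin 3) F →* G), α (c3 M) = β cM →
      (∀ s ∈ S, Monoid.Coprod.lift α β s = 1) → Glue M α β)
    (_hSM : ∀ s ∈ S, Monoid.Coprod.lift (alphaM (F := F) (n := M + 4)) (betaM M) s = 1),
    ∃ rels : Finset (FreeGroup (Fin (kT + 3))), rels.card ≤ RT.card + L.length + S.card ∧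
      Nonempty (PresentedGroup (↑rels : Set (FreeGroup (Fin (kT + 3)))) ≃*
        Matrix.SpecialLinearGroup (Fin (M + 4)) F)

/-- the statement of A1 / A2 at a fixed `M` (as a hypothesis). -/
def Sl7GlueSet (F : Type u) [Field F] [Fintype F] (M : ℕ) : Prop :=
  ∃ S : Finset (Monoid.Coprod (alternatingGroup (Fin (M + 4))) (Matrix.SpecialLinearGroup (Fin 3) F)),
    S.card ≤ 4 ∧
    (∀ (G : Type) [Group G] (α : alternatingGroup (Fin (M + 4)) →* G)
      (β : Matrix.SpecialLinearGroup (Fin 3) F →* G), α (c3 M) = β cM →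
      (∀ s ∈ S, Monoid.Coprod.lift α β s = 1) → Glue M α β) ∧
    ∀ s ∈ S, Monoid.Coprod.lift (alphaM (F := F) (n := M + 4)) (betaM M) s = 1

/-- the statement of X1 (as a hypothesis). -/
def Sl7X1 (F : Type u) [Field F] [Fintype F] : Prop :=
  ∃ (L : List (FreeGroup (Fin 4))), L.length ≤ 13 ∧
    ∃ eL : PresentedGroup (↑((FreeGroup.of (3 : Fin 4)) ^ 3 :: L).toFinset : Set (FreeGroup (Fin 4))) ≃*
      Matrix.SpecialLinearGroup (Fin 3) F, eL (PresentedGroup.of 3) = cM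

/-- the five-generator presentation of `SL_(M+4)(F)` with `rT + 17` relators. -/
theorem sl7fin2_five {F : Type u} [Field F] [Fintype F] (hA3b : Sl7A3b F) (hX1 : Sl7X1 F) (M : ℕ)
    (hG : Sl7GlueSet F M) (rT : ℕ)
    (hT : ∃ rels : Finset (FreeGroup (Fin 2)), rels.card ≤ rT ∧
      Nonempty (PresentedGroup (↑rels : Set (FreeGroup (Fin 2))) ≃* alternatingGroup (Fin (M + 4)))) :
    ∃ rels : Finset (FreeGroup (Fin 5)), rels.card ≤ rT + 17 ∧
      Nonempty (PresentedGroup (↑rels : Set (FreeGroup (Fin 5))) ≃*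
        Matrix.SpecialLinearGroup (Fin (M + 4)) F) := by
  obtain ⟨RT, hRT, ⟨eT⟩⟩ := hT
  obtain ⟨L, hL, eL, heL⟩ := hX1
  obtain ⟨S, hS4, hS, hSM⟩ := hG
  obtain ⟨rels, hc, he⟩ := hA3b M RT eT L eL heL S hS hSM
  exact ⟨rels, by omega, he⟩

/-- FIN2 core: S2288 from the statements of A1 A2 A3b X1 T5. -/
theorem sl7fin2_core {F : Type u} [Field F] [Fintype F] (hA3b : Sl7A3b F) (hX1 : Sl7X1 F)
    (hA1 : ∀ M : ℕ, Sl7GlueSet F (M + 1)) (hA2 : Sl7GlueSet F 0)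
    (hT5 : ∃ rels : Finset (FreeGroup (Fin 2)), rels.card ≤ 4 ∧
      Nonempty (PresentedGroup (↑rels : Set (FreeGroup (Fin 2))) ≃* alternatingGroup (Fin 5)))
    (n : ℕ) (hn : 4 ≤ n) :
    (∃ rels : Finset (FreeGroup (Fin 7)), rels.card ≤ 25 ∧ Nonempty (PresentedGroup (↑rels : Set (FreeGroup (Fin 7))) ≃* Matrix.SpecialLinearGroup (Fin n) F)) ∧ (∃ rels : Finset (FreeGroup (Fin 7)), rels.card ≤ 26 ∧ Nonempty (PresentedGroup (↑rels : Set (FreeGroup (Fin 7))) ≃* Matrix.ProjectiveSpecialLinearGroup (Fin n) F)) ∧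
    (∃ rels : Finset (FreeGroup (Fin 6)), rels.card ≤ 21 ∧ Nonempty (PresentedGroup (↑rels : Set (FreeGroup (Fin 6))) ≃* Matrix.SpecialLinearGroup (Fin 4) F)) ∧ (∃ rels : Finset (FreeGroup (Fin 6)), rels.card ≤ 22 ∧ Nonempty (PresentedGroup (↑rels : Set (FreeGroup (Fin 6))) ≃* Matrix.SpecialLinearGroup (Fin 5) F)) := by
  -- the three kinds of five-generator presentations
  have h4 : ∃ rels : Finset (FreeGroup (Fin 5)), rels.card ≤ 3 + 17 ∧
      Nonempty (PresentedGroup (↑rels : Set (FreeGroup (Fin 5))) ≃*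
        Matrix.SpecialLinearGroup (Fin (0 + 4)) F) :=
    sl7fin2_five hA3b hX1 0 hA2 3 Cfsg.Agent.Lib.helper7.SAP.sapsm3_h11_pres_A4
  have h5 : ∃ rels : Finset (FreeGroup (Fin 5)), rels.card ≤ 4 + 17 ∧
      Nonempty (PresentedGroup (↑rels : Set (FreeGroup (Fin 5))) ≃*
        Matrix.SpecialLinearGroup (Fin (1 + 4)) F) :=
    sl7fin2_five hA3b hX1 1 (hA1 0) 4 hT5
  have h6 : ∀ M : ℕ, 2 ≤ M → ∃ rels : Finset (FreeGroup (Fin 5)), rels.card ≤ 6 + 17 ∧
      Nonempty (PresentedGroup (↑rels : Set (FreeGroup (Fin 5))) ≃*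
        Matrix.SpecialLinearGroup (Fin (M + 4)) F) := by
    intro M hM
    obtain ⟨M', rfl⟩ : ∃ M', M = M' + 1 := ⟨M - 1, by omega⟩
    exact sl7fin2_five hA3b hX1 (M' + 1) (hA1 M') 6
      (Cfsg.Agent.Lib.Helper28.SAP6.sap6_alt (M' + 1 + 4) (by omega))
  -- all `n`: at most 23 relators on five generators
  have hall : ∀ M : ℕ, ∃ rels : Finset (FreeGroup (Fin 5)), rels.card ≤ 23 ∧
      Nonempty (PresentedGroup (↑rels : Set (FreeGroup (Fin 5))) ≃*
        Matrix.SpecialLinearGroup (Fin (M + 4)) F) := by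
    intro M
    rcases Nat.lt_or_ge M 2 with h | h
    · interval_cases M
      · obtain ⟨r, hr, e⟩ := h4; exact ⟨r, by omega, e⟩
      · obtain ⟨r, hr, e⟩ := h5; exact ⟨r, by omega, e⟩
    · obtain ⟨r, hr, e⟩ := h6 M h; exact ⟨r, by omega, e⟩
  obtain ⟨M, rfl⟩ : ∃ M, n = M + 4 := ⟨n - 4, by omega⟩
  have h7 : ∃ rels : Finset (FreeGroup (Fin 7)), rels.card ≤ 25 ∧
      Nonempty (PresentedGroup (↑rels : Set (FreeGroup (Fin 7))) ≃*
        Matrix.SpecialLinearGroup (Fin (M + 4)) F) := by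
    obtain ⟨r, hr, e⟩ := Cfsg.Agent.Lib.Helper25.PresPad.pad_exists (m := 5) (n := 7) (r := 23)
      (by norm_num) (by norm_num) (hall M)
    exact ⟨r, by omega, e⟩
  refine ⟨h7, ?_, ?_, ?_⟩
  · obtain ⟨R, hR, ⟨e⟩⟩ := h7
    obtain ⟨rels, hc, he⟩ := psl_pres (F := F) (M + 4) (by omega) R e
    exact ⟨rels, by omega, he⟩
  · obtain ⟨r, hr, e⟩ := Cfsg.Agent.Lib.Helper25.PresPad.pad_exists (m := 5) (n := 6) (r := 3 + 17)
      (by norm_num) (by norm_num) h4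
    exact ⟨r, by omega, e⟩
  · obtain ⟨r, hr, e⟩ := Cfsg.Agent.Lib.Helper25.PresPad.pad_exists (m := 5) (n := 6) (r := 4 + 17)
      (by norm_num) (by norm_num) h5
    exact ⟨r, by omega, e⟩

end Cfsg.Agent.Lib.Helper1.SLN
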