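import Mathlib
import Cfsg.Agent.Lib.Helper1.SLN.Defs
import Cfsg.Agent.Lib.Helper1.SLN.Defs2
import Cfsg.Agent.Lib.Lead.SLn
import Cfsg.Agent.Lib.Helper16.SLNM3

/-!
# Project SL7 (designer helper1), row Q2b (`closure_yM4`): `SL₃(F)`, `|F| = 4`, is generated by `y = x₀₁(1) · diag(ζ, 1, ζ⁻¹)` and the 3-cycle `cM`.

`(c y c y y)³ c = x₀₁(1)` (found by computer, `y⁻¹ = y²`), then `d = x₀₁(1)⁻¹ y`, all `x₀₁(t)` by torus conjugation, `cM`-conjugation and three commutators.
Also the generic tail `sl7q2_top_of_T01` (usable by Q2a).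
-/

set_option autoImplicit false

namespace Cfsg.Agent.Lib.Helper1.SLN

open Matrix Equiv

universe u

private theorem sl7q2b_ext {F : Type u} {a11 a12 a13 a21 a22 a23 a31 a32 a33 b11 b12 b13 b21 b22 b23 b31 b32 b33 : F}
    (h11 : a11 = b11) (h12 : a12 = b12) (h13 : a13 = b13) (h21 : a21 = b21) (h22 : a22 = b22) (h23 : a23 = b23)
    (h31 : a31 = b31) (h32 : a32 = b32) (h33 : a33 = b33) :
    (!![a11, a12, a13; a21, a22, a23; a31, a32, a33] : Matrix (Fin 3) (Fin 3) F) =
      !![b11, b12, b13; b21, b22, b23; b31, b32, b33] := by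
  rw [h11, h12, h13, h21, h22, h23, h31, h32, h33]

private theorem sl7q2b_m0 {F : Type u} [Field F] (z : F) (hz : z * z = z + 1) (h2 : (2 : F) = 0) :
    (!![1, 1, 0; 0, 1, 0; 0, 0, 1] : Matrix (Fin 3) (Fin 3) F) * !![z, 0, 0; 0, 1, 0; 0, 0, z + 1] =
      !![z, 1, 0; 0, 1, 0; 0, 0, z + 1] := by
  rw [Matrix.mul_fin_three]
  refine sl7q2b_ext ?_ ?_ ?_ ?_ ?_ ?_ ?_ ?_ ?_
  · linear_combination (0 : F) * hz + ((0 : F) + (0 : F) * z) * h2
  · linear_combination (0 : F) * hz + ((0 : F) + (0 : F) * z) * h2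
  · linear_combination (0 : F) * hz + ((0 : F) + (0 : F) * z) * h2
  · linear_combination (0 : F) * hz + ((0 : F) + (0 : F) * z) * h2
  · linear_combination (0 : F) * hz + ((0 : F) + (0 : F) * z) * h2
  · linear_combination (0 : F) * hz + ((0 : F) + (0 : F) * z) * h2
  · linear_combination (0 : F) * hz + ((0 : F) + (0 : F) * z) * h2
  · linear_combination (0 : F) * hz + ((0 : F) + (0 : F) * z) * h2
  · linear_combination (0 : F) * hz + ((0 : F) + (0 : F) * z) * h2

private theorem sl7q2b_m1 {F : Type u} [Field F] (z : F) (hz : z * z = z + 1) (h2 : (2 : F) = 0) :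
    (!![0, 0, 1; 1, 0, 0; 0, 1, 0] : Matrix (Fin 3) (Fin 3) F) * !![z, 1, 0; 0, 1, 0; 0, 0, z + 1] =
      !![0, 0, z + 1; z, 1, 0; 0, 1, 0] := by
  rw [Matrix.mul_fin_three]
  refine sl7q2b_ext ?_ ?_ ?_ ?_ ?_ ?_ ?_ ?_ ?_
  · linear_combination (0 : F) * hz + ((0 : F) + (0 : F) * z) * h2
  · linear_combination (0 : F) * hz + ((0 : F) + (0 : F) * z) * h2
  · linear_combination (0 : F) * hz + ((0 : F) + (0 : F) * z) * h2
  · linear_combination (0 : F) * hz + ((0 : F) + (0 : F) * z) * h2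
  · linear_combination (0 : F) * hz + ((0 : F) + (0 : F) * z) * h2
  · linear_combination (0 : F) * hz + ((0 : F) + (0 : F) * z) * h2
  · linear_combination (0 : F) * hz + ((0 : F) + (0 : F) * z) * h2
  · linear_combination (0 : F) * hz + ((0 : F) + (0 : F) * z) * h2
  · linear_combination (0 : F) * hz + ((0 : F) + (0 : F) * z) * h2

private theorem sl7q2b_m2 {F : Type u} [Field F] (z : F) (hz : z * z = z + 1) (h2 : (2 : F) = 0) :
    (!![0, 0, z + 1; z, 1, 0; 0, 1, 0] : Matrix (Fin 3) (Fin 3) F) * !![0, 0, 1; 1, 0, 0; 0, 1, 0] =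
      !![0, z + 1, 0; 1, 0, z; 1, 0, 0] := by
  rw [Matrix.mul_fin_three]
  refine sl7q2b_ext ?_ ?_ ?_ ?_ ?_ ?_ ?_ ?_ ?_
  · linear_combination (0 : F) * hz + ((0 : F) + (0 : F) * z) * h2
  · linear_combination (0 : F) * hz + ((0 : F) + (0 : F) * z) * h2
  · linear_combination (0 : F) * hz + ((0 : F) + (0 : F) * z) * h2
  · linear_combination (0 : F) * hz + ((0 : F) + (0 : F) * z) * h2
  · linear_combination (0 : F) * hz + ((0 : F) + (0 : F) * z) * h2
  · linear_combination (0 : F) * hz + ((0 : F) + (0 : F) * z) * h2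
  · linear_combination (0 : F) * hz + ((0 : F) + (0 : F) * z) * h2
  · linear_combination (0 : F) * hz + ((0 : F) + (0 : F) * z) * h2
  · linear_combination (0 : F) * hz + ((0 : F) + (0 : F) * z) * h2

private theorem sl7q2b_m3 {F : Type u} [Field F] (z : F) (hz : z * z = z + 1) (h2 : (2 : F) = 0) :
    (!![0, z + 1, 0; 1, 0, z; 1, 0, 0] : Matrix (Fin 3) (Fin 3) F) * !![z, 1, 0; 0, 1, 0; 0, 0, z + 1] =
      !![0, z + 1, 0; z, 1, 1; z, 1, 0] := by
  rw [Matrix.mul_fin_three]
  refine sl7q2b_ext ?_ ?_ ?_ ?_ ?_ ?_ ?_ ?_ ?_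
  · linear_combination (0 : F) * hz + ((0 : F) + (0 : F) * z) * h2
  · linear_combination (0 : F) * hz + ((0 : F) + (0 : F) * z) * h2
  · linear_combination (0 : F) * hz + ((0 : F) + (0 : F) * z) * h2
  · linear_combination (0 : F) * hz + ((0 : F) + (0 : F) * z) * h2
  · linear_combination (0 : F) * hz + ((0 : F) + (0 : F) * z) * h2
  · linear_combination (1 : F) * hz + ((0 : F) + (1 : F) * z) * h2
  · linear_combination (0 : F) * hz + ((0 : F) + (0 : F) * z) * h2
  · linear_combination (0 : F) * hz + ((0 : F) + (0 : F) * z) * h2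
  · linear_combination (0 : F) * hz + ((0 : F) + (0 : F) * z) * h2

private theorem sl7q2b_m4 {F : Type u} [Field F] (z : F) (hz : z * z = z + 1) (h2 : (2 : F) = 0) :
    (!![0, z + 1, 0; z, 1, 1; z, 1, 0] : Matrix (Fin 3) (Fin 3) F) * !![z, 1, 0; 0, 1, 0; 0, 0, z + 1] =
      !![0, z + 1, 0; z + 1, z + 1, z + 1; z + 1, z + 1, 0] := by
  rw [Matrix.mul_fin_three]
  refine sl7q2b_ext ?_ ?_ ?_ ?_ ?_ ?_ ?_ ?_ ?_
  · linear_combination (0 : F) * hz + ((0 : F) + (0 : F) * z) * h2
  · linear_combination (0 : F) * hz + ((0 : F) + (0 : F) * z) * h2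
  · linear_combination (0 : F) * hz + ((0 : F) + (0 : F) * z) * h2
  · linear_combination (1 : F) * hz + ((0 : F) + (0 : F) * z) * h2
  · linear_combination (0 : F) * hz + ((0 : F) + (0 : F) * z) * h2
  · linear_combination (0 : F) * hz + ((0 : F) + (0 : F) * z) * h2
  · linear_combination (1 : F) * hz + ((0 : F) + (0 : F) * z) * h2
  · linear_combination (0 : F) * hz + ((0 : F) + (0 : F) * z) * h2
  · linear_combination (0 : F) * hz + ((0 : F) + (0 : F) * z) * h2

private theorem sl7q2b_m5 {F : Type u} [Field F] (z : F) (hz : z * z = z + 1) (h2 : (2 : F) = 0) :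
    (!![0, z + 1, 0; z + 1, z + 1, z + 1; z + 1, z + 1, 0] : Matrix (Fin 3) (Fin 3) F) * !![0, z + 1, 0; z + 1, z + 1, z + 1; z + 1, z + 1, 0] =
      !![z, z, z; 0, z, z; z, 0, z] := by
  rw [Matrix.mul_fin_three]
  refine sl7q2b_ext ?_ ?_ ?_ ?_ ?_ ?_ ?_ ?_ ?_
  · linear_combination (1 : F) * hz + ((1 : F) + (1 : F) * z) * h2
  · linear_combination (1 : F) * hz + ((1 : F) + (1 : F) * z) * h2
  · linear_combination (1 : F) * hz + ((1 : F) + (1 : F) * z) * h2
  · linear_combination (2 : F) * hz + ((2 : F) + (3 : F) * z) * h2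
  · linear_combination (3 : F) * hz + ((3 : F) + (4 : F) * z) * h2
  · linear_combination (1 : F) * hz + ((1 : F) + (1 : F) * z) * h2
  · linear_combination (1 : F) * hz + ((1 : F) + (1 : F) * z) * h2
  · linear_combination (2 : F) * hz + ((2 : F) + (3 : F) * z) * h2
  · linear_combination (1 : F) * hz + ((1 : F) + (1 : F) * z) * h2

private theorem sl7q2b_m6 {F : Type u} [Field F] (z : F) (hz : z * z = z + 1) (h2 : (2 : F) = 0) :
    (!![z, z, z; 0, z, z; z, 0, z] : Matrix (Fin 3) (Fin 3) F) * !![0, z + 1, 0; z + 1, z + 1, z + 1; z + 1, z + 1, 0] =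
      !![0, 1, 1; 0, 0, 1; 1, 0, 0] := by
  rw [Matrix.mul_fin_three]
  refine sl7q2b_ext ?_ ?_ ?_ ?_ ?_ ?_ ?_ ?_ ?_
  · linear_combination (2 : F) * hz + ((1 : F) + (2 : F) * z) * h2
  · linear_combination (3 : F) * hz + ((1 : F) + (3 : F) * z) * h2
  · linear_combination (1 : F) * hz + ((0 : F) + (1 : F) * z) * h2
  · linear_combination (2 : F) * hz + ((1 : F) + (2 : F) * z) * h2
  · linear_combination (2 : F) * hz + ((1 : F) + (2 : F) * z) * h2
  · linear_combination (1 : F) * hz + ((0 : F) + (1 : F) * z) * h2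
  · linear_combination (1 : F) * hz + ((0 : F) + (1 : F) * z) * h2
  · linear_combination (2 : F) * hz + ((1 : F) + (2 : F) * z) * h2
  · linear_combination (0 : F) * hz + ((0 : F) + (0 : F) * z) * h2

private theorem sl7q2b_m7 {F : Type u} [Field F] (z : F) (hz : z * z = z + 1) (h2 : (2 : F) = 0) :
    (!![0, 1, 1; 0, 0, 1; 1, 0, 0] : Matrix (Fin 3) (Fin 3) F) * !![0, 0, 1; 1, 0, 0; 0, 1, 0] =
      !![1, 1, 0; 0, 1, 0; 0, 0, 1] := by
  rw [Matrix.mul_fin_three]
  refine sl7q2b_ext ?_ ?_ ?_ ?_ ?_ ?_ ?_ ?_ ?_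
  · linear_combination (0 : F) * hz + ((0 : F) + (0 : F) * z) * h2
  · linear_combination (0 : F) * hz + ((0 : F) + (0 : F) * z) * h2
  · linear_combination (0 : F) * hz + ((0 : F) + (0 : F) * z) * h2
  · linear_combination (0 : F) * hz + ((0 : F) + (0 : F) * z) * h2
  · linear_combination (0 : F) * hz + ((0 : F) + (0 : F) * z) * h2
  · linear_combination (0 : F) * hz + ((0 : F) + (0 : F) * z) * h2
  · linear_combination (0 : F) * hz + ((0 : F) + (0 : F) * z) * h2
  · linear_combination (0 : F) * hz + ((0 : F) + (0 : F) * z) * h2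
  · linear_combination (0 : F) * hz + ((0 : F) + (0 : F) * z) * h2

section tail

variable {F : Type u} [Field F]

/-- the generic tail: a subgroup of `SL₃(F)` containing `cM` and all `x₀₁(t)` is everything. -/
theorem sl7q2_top_of_T01 (K : Subgroup (Matrix.SpecialLinearGroup (Fin 3) F))
    (hc : (cM : Matrix.SpecialLinearGroup (Fin 3) F) ∈ K)
    (h01 : ∀ t : F, Matrix.SpecialLinearGroup.transvection (i := (0 : Fin 3)) (j := 1) (by decide) t ∈ K) :
    K = ⊤ := by
  have hci : (cM : Matrix.SpecialLinearGroup (Fin 3) F)⁻¹ ∈ K := K.inv_mem hc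
  have h12 : ∀ t : F, Matrix.SpecialLinearGroup.transvection (i := (1 : Fin 3)) (j := 2) (by decide) t ∈ K := by
    intro t
    have h := cM_conj (F := F) 0 1 (by decide) t
    have hm : (cM : Matrix.SpecialLinearGroup (Fin 3) F) *
        Matrix.SpecialLinearGroup.transvection (i := (0 : Fin 3)) (j := 1) (by decide) t * cM⁻¹ ∈ K :=
      K.mul_mem (K.mul_mem hc (h01 t)) hci
    rw [h] at hm
    exact hm
  have h20 : ∀ t : F, Matrix.SpecialLinearGroup.transvection (i := (2 : Fin 3)) (j := 0) (by decide) t ∈ K := by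
    intro t
    have h := cM_conj (F := F) 1 2 (by decide) t
    have hm : (cM : Matrix.SpecialLinearGroup (Fin 3) F) *
        Matrix.SpecialLinearGroup.transvection (i := (1 : Fin 3)) (j := 2) (by decide) t * cM⁻¹ ∈ K :=
      K.mul_mem (K.mul_mem hc (h12 t)) hci
    rw [h] at hm
    exact hm
  have hcomm : ∀ a b : Matrix.SpecialLinearGroup (Fin 3) F, a ∈ K → b ∈ K → a * b * a⁻¹ * b⁻¹ ∈ K := by
    intro a b ha hb
    exact K.mul_mem (K.mul_mem (K.mul_mem ha hb) (K.inv_mem ha)) (K.inv_mem hb)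
  have h02 : ∀ t : F, Matrix.SpecialLinearGroup.transvection (i := (0 : Fin 3)) (j := 2) (by decide) t ∈ K := by
    intro t
    have h := Cfsg.Agent.Lib.Lead.transvection_eq_commutator (F := F) (i := (0 : Fin 3)) (j := 2) (k := 1)
      (by decide) (by decide) (by decide) t 1
    rw [mul_one, commutatorElement_def] at h
    rw [h]
    exact hcomm _ _ (h01 t) (h12 1)
  have h10 : ∀ t : F, Matrix.SpecialLinearGroup.transvection (i := (1 : Fin 3)) (j := 0) (by decide) t ∈ K := by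
    intro t
    have h := Cfsg.Agent.Lib.Lead.transvection_eq_commutator (F := F) (i := (1 : Fin 3)) (j := 0) (k := 2)
      (by decide) (by decide) (by decide) t 1
    rw [mul_one, commutatorElement_def] at h
    rw [h]
    exact hcomm _ _ (h12 t) (h20 1)
  have h21 : ∀ t : F, Matrix.SpecialLinearGroup.transvection (i := (2 : Fin 3)) (j := 1) (by decide) t ∈ K := by
    intro t
    have h := Cfsg.Agent.Lib.Lead.transvection_eq_commutator (F := F) (i := (2 : Fin 3)) (j := 1) (k := 0)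
      (by decide) (by decide) (by decide) t 1
    rw [mul_one, commutatorElement_def] at h
    rw [h]
    exact hcomm _ _ (h20 t) (h01 1)
  rw [eq_top_iff, ← Cfsg.Agent.Lib.Lead.SL_closure_transvections, Subgroup.closure_le]
  rintro A ⟨i, j, h, c, rfl⟩
  fin_cases i <;> fin_cases j
  · exact absurd rfl h
  · exact h01 c
  · exact h02 c
  · exact h10 c
  · exact absurd rfl h
  · exact h12 c
  · exact h20 c
  · exact h21 c
  · exact absurd rfl h

/-- `dM` is multiplicative. -/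
theorem sl7q2b_dM_mul (s s' : Fˣ) : (dM (s * s') : Matrix.SpecialLinearGroup (Fin 3) F) = dM s * dM s' := by
  apply Subtype.ext
  rw [Matrix.SpecialLinearGroup.coe_mul, dM_coe, dM_coe, dM_coe, Matrix.mul_fin_three]
  simp [mul_comm]

theorem sl7q2b_dM_one : (dM (1 : Fˣ) : Matrix.SpecialLinearGroup (Fin 3) F) = 1 := by
  apply Subtype.ext
  rw [dM_coe]
  ext i j
  fin_cases i <;> fin_cases j <;> simp

/-- `dM` as a homomorphism. -/
def sl7q2b_dHom : Fˣ →* Matrix.SpecialLinearGroup (Fin 3) F where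
  toFun := dM
  map_one' := sl7q2b_dM_one
  map_mul' := sl7q2b_dM_mul

/-- `dM s` conjugates `x₀₁(t)` to `x₀₁(s t)`. -/
theorem sl7q2b_dM_conj (s : Fˣ) (t : F) :
    (dM s : Matrix.SpecialLinearGroup (Fin 3) F) *
      Matrix.SpecialLinearGroup.transvection (i := (0 : Fin 3)) (j := 1) (by decide) t * (dM s)⁻¹ =
      Matrix.SpecialLinearGroup.transvection (i := (0 : Fin 3)) (j := 1) (by decide) ((s : F) * t) := by
  rw [mul_inv_eq_iff_eq_mul]
  apply Subtype.ext
  simp only [Matrix.SpecialLinearGroup.coe_mul, dM_coe, Matrix.SpecialLinearGroup.transvection_coe]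
  ext i j
  fin_cases i <;> fin_cases j <;>
    simp [Matrix.mul_apply, Fin.sum_univ_three, Matrix.single_apply, Matrix.one_apply]

end tail

section main

variable {F : Type u} [Field F]

/-- the key identity, on the level of matrices. -/
private theorem sl7q2b_key (z : F) (hz : z * z = z + 1) (h2 : (2 : F) = 0) :
    ((((!![0, 0, 1; 1, 0, 0; 0, 1, 0] : Matrix (Fin 3) (Fin 3) F) *
      (!![1, 1, 0; 0, 1, 0; 0, 0, 1] * !![z, 0, 0; 0, 1, 0; 0, 0, z + 1]) *
      !![0, 0, 1; 1, 0, 0; 0, 1, 0] *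
      (!![1, 1, 0; 0, 1, 0; 0, 0, 1] * !![z, 0, 0; 0, 1, 0; 0, 0, z + 1]) *
      (!![1, 1, 0; 0, 1, 0; 0, 0, 1] * !![z, 0, 0; 0, 1, 0; 0, 0, z + 1])) ^ 3) *
      !![0, 0, 1; 1, 0, 0; 0, 1, 0]) = !![1, 1, 0; 0, 1, 0; 0, 0, 1] := by
  rw [sl7q2b_m0 z hz h2, sl7q2b_m1 z hz h2, sl7q2b_m2 z hz h2, sl7q2b_m3 z hz h2, sl7q2b_m4 z hz h2,
    pow_succ, pow_two, sl7q2b_m5 z hz h2, sl7q2b_m6 z hz h2, sl7q2b_m7 z hz h2]

theorem sl7q2b_T01_coe (t : F) :
    ((Matrix.SpecialLinearGroup.transvection (i := (0 : Fin 3)) (j := 1) (by decide) t :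
      Matrix.SpecialLinearGroup (Fin 3) F) : Matrix (Fin 3) (Fin 3) F) = !![1, t, 0; 0, 1, 0; 0, 0, 1] := by
  rw [Matrix.SpecialLinearGroup.transvection_coe]
  ext i j
  fin_cases i <;> fin_cases j <;> simp [Matrix.single_apply, Matrix.one_apply]

/-- Q2b [M-L] -/
theorem closure_yM4 [Fintype F] (hF : Fintype.card F = 4) (ζ : Fˣ) (hζ : ∀ y : Fˣ, y ∈ Subgroup.zpowers ζ) :
    Subgroup.closure ({emb23 (xU (1 : F)) * dM ζ, cM} : Set (Matrix.SpecialLinearGroup (Fin 3) F)) = ⊤ := by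
  classical
  set K : Subgroup (Matrix.SpecialLinearGroup (Fin 3) F) :=
    Subgroup.closure ({emb23 (xU (1 : F)) * dM ζ, cM} : Set (Matrix.SpecialLinearGroup (Fin 3) F)) with hK
  have hy : emb23 (xU (1 : F)) * dM ζ ∈ K := Subgroup.subset_closure (by simp)
  have hc : (cM : Matrix.SpecialLinearGroup (Fin 3) F) ∈ K := Subgroup.subset_closure (by simp)
  -- the field with four elements
  have h4 : (4 : F) = 0 := by
    have h := Nat.cast_card_eq_zero F
    rw [hF] at h
    exact_mod_cast h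
  have h2 : (2 : F) = 0 := by
    have h : (2 : F) * 2 = 0 := by rw [← h4]; norm_num
    exact mul_self_eq_zero.mp h
  have hcardU : Fintype.card Fˣ = 3 := by rw [Fintype.card_units, hF]
  have hz3 : ζ ^ 3 = 1 := by rw [← hcardU]; exact pow_card_eq_one
  have hz1 : ζ ≠ 1 := by
    intro h
    have hall : ∀ y : Fˣ, y = 1 := by
      intro y
      have hy' := hζ y
      rw [h, Subgroup.zpowers_one_eq_bot, Subgroup.mem_bot] at hy'
      exact hy'
    have hle : Fintype.card Fˣ ≤ 1 := Fintype.card_le_one_iff.mpr (fun a b => by rw [hall a, hall b])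
    omega
  set z : F := (ζ : F) with hzdef
  have hzz : z * z = z + 1 := by
    have h3 : z ^ 3 = 1 := by rw [hzdef, ← Units.val_pow_eq_pow_val, hz3, Units.val_one]
    have hne : z - 1 ≠ 0 := by
      intro h
      apply hz1
      ext
      rw [Units.val_one]
      linear_combination h
    have hprod : (z - 1) * (z * z + z + 1) = 0 := by linear_combination h3
    have h0 := (mul_eq_zero.mp hprod).resolve_left hne
    linear_combination h0 - (z + 1) * h2
  have hzi : ((ζ⁻¹ : Fˣ) : F) = z + 1 := by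
    have h1 : z * (z + 1) = 1 := by linear_combination hzz + z * h2
    rw [Units.val_inv_eq_inv_val]
    exact (eq_inv_of_mul_eq_one_right h1).symm
  -- the coordinates of the generators
  have hyc : ((emb23 (xU (1 : F)) * dM ζ : Matrix.SpecialLinearGroup (Fin 3) F) : Matrix (Fin 3) (Fin 3) F) =
      !![1, 1, 0; 0, 1, 0; 0, 0, 1] * !![z, 0, 0; 0, 1, 0; 0, 0, z + 1] := by
    rw [Matrix.SpecialLinearGroup.coe_mul, emb23_xU, sl7q2b_T01_coe, dM_coe, hzi]
  have hu : emb23 (xU (1 : F)) =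
      (cM * (emb23 (xU (1 : F)) * dM ζ) * cM * (emb23 (xU (1 : F)) * dM ζ) * (emb23 (xU (1 : F)) * dM ζ)) ^ 3 * cM := by
    apply Subtype.ext
    rw [Matrix.SpecialLinearGroup.coe_mul, Matrix.SpecialLinearGroup.coe_pow]
    simp only [Matrix.SpecialLinearGroup.coe_mul]
    rw [← Matrix.SpecialLinearGroup.coe_mul (emb23 (xU (1 : F))) (dM ζ), hyc, cM_coe, emb23_xU, sl7q2b_T01_coe]
    exact (sl7q2b_key z hzz h2).symm
  have huK : emb23 (xU (1 : F)) ∈ K := by
    rw [hu]
    exact K.mul_mem (K.pow_mem (K.mul_mem (K.mul_mem (K.mul_mem (K.mul_mem hc hy) hc) hy) hy) 3) hc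
  have hd : (dM ζ : Matrix.SpecialLinearGroup (Fin 3) F) ∈ K := by
    have h : (dM ζ : Matrix.SpecialLinearGroup (Fin 3) F) = (emb23 (xU (1 : F)))⁻¹ * (emb23 (xU (1 : F)) * dM ζ) := by
      group
    rw [h]
    exact K.mul_mem (K.inv_mem huK) hy
  apply sl7q2_top_of_T01 K hc
  intro t
  by_cases ht : t = 0
  · subst ht
    have h1 : (Matrix.SpecialLinearGroup.transvection (i := (0 : Fin 3)) (j := 1) (by decide) (0 : F) :
        Matrix.SpecialLinearGroup (Fin 3) F) = 1 := by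
      apply Subtype.ext
      rw [Matrix.SpecialLinearGroup.transvection_coe]
      simp
    rw [h1]
    exact K.one_mem
  · obtain ⟨k, hk⟩ := Subgroup.mem_zpowers_iff.mp (hζ (Units.mk0 t ht))
    have hdk : (dM (ζ ^ k) : Matrix.SpecialLinearGroup (Fin 3) F) ∈ K := by
      have h : (dM (ζ ^ k) : Matrix.SpecialLinearGroup (Fin 3) F) = (dM ζ) ^ k :=
        map_zpow (sl7q2b_dHom (F := F)) ζ k
      rw [h]
      exact K.zpow_mem hd k
    rw [hk] at hdk
    have hconj := sl7q2b_dM_conj (F := F) (Units.mk0 t ht) 1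
    rw [Units.val_mk0, mul_one, ← emb23_xU] at hconj
    rw [← hconj]
    exact K.mul_mem (K.mul_mem hdk huK) (K.inv_mem hdk)

end main

end Cfsg.Agent.Lib.Helper1.SLN
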