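import Mathlib
import Cfsg.Agent.Lib.Helper1.SLN.Defs
import Cfsg.Agent.Lib.Helper1.SLN.Defs2
import Cfsg.Agent.Lib.Helper1.SL7Q2b
import Cfsg.Agent.Lib.helper6.SL7Q0

/-!
# SL7 skeleton 2, row Q2a (`closure_yM`), verbatim (helper1, second writer).  Extras `sl7q2a_*`.
-/

set_option autoImplicit false

namespace Cfsg.Agent.Lib.Helper1.SLN

open Matrix Equiv
open Cfsg.Agent.Lib.helper17.SLP

universe u v w

section Q

variable {F : Type u} [Field F]

theorem sl7q2a_T01_add (s t : F) :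
    (Matrix.SpecialLinearGroup.transvection (i := (0 : Fin 3)) (j := 1) (by decide) (s + t) :
      Matrix.SpecialLinearGroup (Fin 3) F) =
    Matrix.SpecialLinearGroup.transvection (i := (0 : Fin 3)) (j := 1) (by decide) s *
      Matrix.SpecialLinearGroup.transvection (i := (0 : Fin 3)) (j := 1) (by decide) t := by
  apply Subtype.ext
  rw [Matrix.SpecialLinearGroup.coe_mul, sl7q2b_T01_coe, sl7q2b_T01_coe, sl7q2b_T01_coe, Matrix.mul_fin_three]
  simp [add_comm]

theorem sl7q2a_T01_zero :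
    (Matrix.SpecialLinearGroup.transvection (i := (0 : Fin 3)) (j := 1) (by decide) (0 : F) :
      Matrix.SpecialLinearGroup (Fin 3) F) = 1 := by
  apply Subtype.ext
  rw [Matrix.SpecialLinearGroup.transvection_coe]
  simp

theorem sl7q2a_T01_neg (t : F) :
    (Matrix.SpecialLinearGroup.transvection (i := (0 : Fin 3)) (j := 1) (by decide) t :
      Matrix.SpecialLinearGroup (Fin 3) F)⁻¹ =
    Matrix.SpecialLinearGroup.transvection (i := (0 : Fin 3)) (j := 1) (by decide) (-t) := by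
  apply inv_eq_of_mul_eq_one_right
  rw [← sl7q2a_T01_add, add_neg_cancel, sl7q2a_T01_zero]

theorem sl7q2a_T01_pow (n : ℕ) :
    (Matrix.SpecialLinearGroup.transvection (i := (0 : Fin 3)) (j := 1) (by decide) (1 : F) :
      Matrix.SpecialLinearGroup (Fin 3) F) ^ n =
    Matrix.SpecialLinearGroup.transvection (i := (0 : Fin 3)) (j := 1) (by decide) (n : F) := by
  induction n with
  | zero => rw [pow_zero, Nat.cast_zero, sl7q2a_T01_zero]
  | succ k ih => rw [pow_succ, ih, Nat.cast_succ, sl7q2a_T01_add]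

theorem sl7q2a_etaM_mul (s s' : Fˣ) :
    (etaM (s * s') : Matrix.SpecialLinearGroup (Fin 3) F) = etaM s * etaM s' := by
  apply Subtype.ext
  rw [Matrix.SpecialLinearGroup.coe_mul, etaM_coe, etaM_coe, etaM_coe, Matrix.mul_fin_three]
  simp [mul_comm, mul_left_comm, mul_assoc]

theorem sl7q2a_etaM_one : (etaM (1 : Fˣ) : Matrix.SpecialLinearGroup (Fin 3) F) = 1 := by
  apply Subtype.ext
  rw [etaM_coe]
  ext i j
  fin_cases i <;> fin_cases j <;> simp

/-- `etaM` as a homomorphism. -/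
def sl7q2a_etaHom : Fˣ →* Matrix.SpecialLinearGroup (Fin 3) F where
  toFun := etaM
  map_one' := sl7q2a_etaM_one
  map_mul' := sl7q2a_etaM_mul

theorem sl7q2a_comm (s : Fˣ) (t : F) :
    Commute (Matrix.SpecialLinearGroup.transvection (i := (0 : Fin 3)) (j := 1) (by decide) t :
      Matrix.SpecialLinearGroup (Fin 3) F) (etaM s) := by
  apply Subtype.ext
  rw [Matrix.SpecialLinearGroup.coe_mul, Matrix.SpecialLinearGroup.coe_mul, sl7q2b_T01_coe, etaM_coe,
    Matrix.mul_fin_three, Matrix.mul_fin_three]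
  simp [mul_comm]

/-- `dM (s³) * cM * etaM s = etaM s * cM`. -/
theorem sl7q2a_diag (s : Fˣ) :
    (dM (s ^ 3) : Matrix.SpecialLinearGroup (Fin 3) F) * cM * etaM s = etaM s * cM := by
  apply Subtype.ext
  simp only [Matrix.SpecialLinearGroup.coe_mul, dM_coe, etaM_coe, cM_coe, Matrix.mul_fin_three,
    Units.val_inv_eq_inv_val, Units.val_pow_eq_pow_val]
  have h0 : (s : F) ≠ 0 := s.ne_zero
  ext i j
  fin_cases i <;> fin_cases j <;> simp <;> field_simp

/-- the arithmetic hypothesis of `span_pow_top` for `k = 3`. -/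
theorem sl7q2a_hk (q : ℕ) (hq : 2 ≤ q) (h4 : q ≠ 4) : q < ((q - 1) / Nat.gcd 3 (q - 1) + 1) ^ 2 := by
  have hd : Nat.gcd 3 (q - 1) ∣ 3 := Nat.gcd_dvd_left 3 (q - 1)
  have h13 : Nat.gcd 3 (q - 1) = 1 ∨ Nat.gcd 3 (q - 1) = 3 :=
    (Nat.dvd_prime Nat.prime_three).mp hd
  rcases h13 with h | h
  · rw [h, Nat.div_one]
    have : q - 1 + 1 = q := by omega
    rw [this]
    nlinarith
  · rw [h]
    have h2 : 3 ∣ q - 1 := h ▸ Nat.gcd_dvd_right 3 (q - 1)
    obtain ⟨m, hm⟩ := h2
    rw [hm, Nat.mul_div_cancel_left m (by norm_num : 0 < 3)]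
    have hm1 : 2 ≤ m := by omega
    have hq' : q = 3 * m + 1 := by omega
    rw [hq']
    nlinarith

/-- Q2a [M-L] -/
theorem closure_yM [Fintype F] (hF : Fintype.card F ≠ 4) (ζ : Fˣ) (hζ : ∀ y : Fˣ, y ∈ Subgroup.zpowers ζ) :
    Subgroup.closure ({emb23 (xU (1 : F)) * etaM ζ, cM} : Set (Matrix.SpecialLinearGroup (Fin 3) F)) = ⊤ := by
  classical
  set K : Subgroup (Matrix.SpecialLinearGroup (Fin 3) F) :=
    Subgroup.closure ({emb23 (xU (1 : F)) * etaM ζ, cM} : Set (Matrix.SpecialLinearGroup (Fin 3) F)) with hK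
  have hy : emb23 (xU (1 : F)) * etaM ζ ∈ K := Subgroup.subset_closure (by simp)
  have hc : (cM : Matrix.SpecialLinearGroup (Fin 3) F) ∈ K := Subgroup.subset_closure (by simp)
  have hq2 : 2 ≤ Fintype.card F := Fintype.one_lt_card
  have hz : ζ ^ (Fintype.card F - 1) = 1 := by
    rw [← Fintype.card_units]; exact pow_card_eq_one
  have hcast : ((Fintype.card F - 1 : ℕ) : F) = -1 := by
    rw [Nat.cast_sub (by omega), Nat.cast_card_eq_zero, Nat.cast_one, zero_sub]
  have hpow : (emb23 (xU (1 : F)) * etaM ζ) ^ (Fintype.card F - 1) =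
      Matrix.SpecialLinearGroup.transvection (i := (0 : Fin 3)) (j := 1) (by decide) (-1 : F) := by
    rw [emb23_xU, (sl7q2a_comm ζ 1).mul_pow, sl7q2a_T01_pow, hcast]
    have h : (etaM ζ : Matrix.SpecialLinearGroup (Fin 3) F) ^ (Fintype.card F - 1) =
        etaM (ζ ^ (Fintype.card F - 1)) := (map_pow (sl7q2a_etaHom (F := F)) ζ _).symm
    rw [h, hz, sl7q2a_etaM_one, mul_one]
  have huK : Matrix.SpecialLinearGroup.transvection (i := (0 : Fin 3)) (j := 1) (by decide) (1 : F) ∈ K := by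
    have h : (Matrix.SpecialLinearGroup.transvection (i := (0 : Fin 3)) (j := 1) (by decide) (1 : F) :
        Matrix.SpecialLinearGroup (Fin 3) F) =
        ((emb23 (xU (1 : F)) * etaM ζ) ^ (Fintype.card F - 1))⁻¹ := by
      rw [hpow, sl7q2a_T01_neg, neg_neg]
    rw [h]
    exact K.inv_mem (K.pow_mem hy _)
  have he : (etaM ζ : Matrix.SpecialLinearGroup (Fin 3) F) ∈ K := by
    have h : (etaM ζ : Matrix.SpecialLinearGroup (Fin 3) F) =
        (emb23 (xU (1 : F)))⁻¹ * (emb23 (xU (1 : F)) * etaM ζ) := by group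
    rw [h, emb23_xU]
    rw [emb23_xU] at hy
    exact K.mul_mem (K.inv_mem huK) hy
  have hd : (dM (ζ ^ 3) : Matrix.SpecialLinearGroup (Fin 3) F) ∈ K := by
    have h : (dM (ζ ^ 3) : Matrix.SpecialLinearGroup (Fin 3) F) = etaM ζ * cM * (etaM ζ)⁻¹ * cM⁻¹ := by
      rw [← sl7q2a_diag]; group
    rw [h]
    exact K.mul_mem (K.mul_mem (K.mul_mem he hc) (K.inv_mem he)) (K.inv_mem hc)
  -- the additive subgroup of parameters
  let S : AddSubgroup F :=
    { carrier := {t | Matrix.SpecialLinearGroup.transvection (i := (0 : Fin 3)) (j := 1) (by decide) t ∈ K}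
      zero_mem' := by
        change Matrix.SpecialLinearGroup.transvection (i := (0 : Fin 3)) (j := 1) (by decide) (0 : F) ∈ K
        rw [sl7q2a_T01_zero]; exact K.one_mem
      add_mem' := by
        intro s t hs ht
        change Matrix.SpecialLinearGroup.transvection (i := (0 : Fin 3)) (j := 1) (by decide) (s + t) ∈ K
        rw [sl7q2a_T01_add]
        exact K.mul_mem hs ht
      neg_mem' := by
        intro s hs
        change Matrix.SpecialLinearGroup.transvection (i := (0 : Fin 3)) (j := 1) (by decide) (-s) ∈ K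
        rw [← sl7q2a_T01_neg]
        exact K.inv_mem hs }
  have hSmem : ∀ t, t ∈ S ↔
      Matrix.SpecialLinearGroup.transvection (i := (0 : Fin 3)) (j := 1) (by decide) t ∈ K := fun t => Iff.rfl
  have hS1 : (1 : F) ∈ S := by rw [hSmem]; exact huK
  have hSz : ∀ t ∈ S, ((ζ ^ 3 : Fˣ) : F) * t ∈ S := by
    intro t ht
    rw [hSmem] at ht ⊢
    rw [← sl7q2b_dM_conj]
    exact K.mul_mem (K.mul_mem hd ht) (K.inv_mem hd)
  have hStop : S = ⊤ := span_pow_top ζ hζ 3 (sl7q2a_hk _ hq2 hF) S hS1 hSz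
  apply sl7q2_top_of_T01 K hc
  intro t
  have : t ∈ S := by rw [hStop]; trivial
  exact this

end Q

end Cfsg.Agent.Lib.Helper1.SLN
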