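import Mathlib
import Cfsg.Agent.Lib.Helper1.SLN.Defs
import Cfsg.Agent.Lib.Helper1.SLN.Defs2
import Cfsg.Agent.Lib.Helper1.SL7Q2a
import Cfsg.Agent.Lib.Helper1.SL7Q2b

/-!
# SL7 skeleton 2, row Q2 (`exists_yM`), verbatim (helper1, second writer).
-/

set_option autoImplicit false

namespace Cfsg.Agent.Lib.Helper1.SLN

open Matrix Equiv
open Cfsg.Agent.Lib.helper17.SLP

universe u v w

section Q

variable {F : Type u} [Field F]

/-- Q2 [S]  deps Q2a Q2b (`IsCyclic.exists_generator`). -/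
theorem exists_yM [Fintype F] :
    ∃ y : Matrix.SpecialLinearGroup (Fin 3) F,
      Subgroup.closure ({y, cM} : Set (Matrix.SpecialLinearGroup (Fin 3) F)) = ⊤ := by
  obtain ⟨ζ, hζ⟩ := IsCyclic.exists_generator (α := Fˣ)
  by_cases h : Fintype.card F = 4
  · exact ⟨_, closure_yM4 h ζ hζ⟩
  · exact ⟨_, closure_yM h ζ hζ⟩

end Q

end Cfsg.Agent.Lib.Helper1.SLN
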