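import Mathlib
import Cfsg.Agent.Lib.helper17.SL3.Defs

/-!
# Project SL3 (designer helper17), row C2 (`span_all`), written by helper1.

`sl3c2_core`: the statement with the statement of C1 (`cubes_span`) as a hypothesis.
-/

set_option autoImplicit false

namespace Cfsg.Agent.Lib.helper17.SL3

open Cfsg.Agent.Lib.helper17.SLP
open Polynomial

universe u v

/-- every nonzero element is `ζ ^ i * s₀` with `i : ℕ`. -/
theorem sl3c2_exists_pow {F : Type*} [Field F] [Fintype F] (ζ : Fˣ)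
    (hζ : ∀ y : Fˣ, y ∈ Subgroup.zpowers ζ) (s₀ s : F) (hs₀ : s₀ ≠ 0) (hs : s ≠ 0) :
    ∃ i : ℕ, s = (ζ : F) ^ i * s₀ := by
  have hne : s / s₀ ≠ 0 := div_ne_zero hs hs₀
  have hmem : Units.mk0 (s / s₀) hne ∈ Submonoid.powers ζ :=
    (mem_powers_iff_mem_zpowers).2 (hζ _)
  obtain ⟨i, hi⟩ := hmem
  refine ⟨i, ?_⟩
  have hi' : ζ ^ i = Units.mk0 (s / s₀) hne := hi
  have h2 : ((ζ ^ i : Fˣ) : F) = s / s₀ := by rw [hi']; rfl
  rw [Units.val_pow_eq_pow_val] at h2
  rw [h2]
  field_simp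

/-- second half of the propagation: from one full row `s₀` to all rows. -/
theorem sl3c2_rows {F : Type*} [Field F] [Fintype F] (ζ : Fˣ)
    (hζ : ∀ y : Fˣ, y ∈ Subgroup.zpowers ζ) (a : Fˣ) (D : F → F → Prop)
    (h0l : ∀ t, D 0 t)
    (h1 : ∀ s t, D s t → D ((ζ : F) * s) ((a : F) * t))
    (s₀ : F) (hs : s₀ ≠ 0) (h : ∀ t, D s₀ t) : ∀ s t, D s t := by
  have key : ∀ i : ℕ, ∀ t, D ((ζ : F) ^ i * s₀) t := by
    intro i
    induction i with
    | zero => intro t; simpa using h t
    | succ i ih =>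
      intro t
      have h2 := h1 _ _ (ih (((a⁻¹ : Fˣ) : F) * t))
      have e1 : (ζ : F) * ((ζ : F) ^ i * s₀) = (ζ : F) ^ (i + 1) * s₀ := by ring
      have e2 : (a : F) * (((a⁻¹ : Fˣ) : F) * t) = t := by
        rw [← mul_assoc, ← Units.val_mul, mul_inv_cancel, Units.val_one, one_mul]
      rwa [e1, e2] at h2
  intro s t
  by_cases hs0 : s = 0
  · subst hs0; exact h0l t
  · obtain ⟨i, rfl⟩ := sl3c2_exists_pow ζ hζ s₀ s hs hs0
    exact key i t

/-- C2 with the statement of C1 as a hypothesis. -/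
theorem sl3c2_core {F : Type*} [Field F] [Fintype F] (ζ : Fˣ)
    (hC1 : AddSubgroup.closure (Set.range fun j : ℕ => (ζ : F) ^ (3 * j)) = ⊤)
    (hζ : ∀ y : Fˣ, y ∈ Subgroup.zpowers ζ) (a : Fˣ) (D : F → F → Prop)
    (h0l : ∀ t, D 0 t) (h0r : ∀ s, D s 0)
    (hal : ∀ s s' t, D s t → D s' t → D (s + s') t) (har : ∀ s t t', D s t → D s t' → D s (t + t'))
    (h1 : ∀ s t, D s t → D ((ζ : F) * s) ((a : F) * t)) (h3 : ∀ s t, D s t → D s ((ζ : F) ^ 3 * t))
    (s₀ t₀ : F) (hs : s₀ ≠ 0) (ht : t₀ ≠ 0) (h : D s₀ t₀) : ∀ s t, D s t := by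
  -- step 1: the cubes
  have hcube : ∀ j : ℕ, D s₀ ((ζ : F) ^ (3 * j) * t₀) := by
    intro j
    induction j with
    | zero => simpa using h
    | succ j ih =>
      have h2 := h3 _ _ ih
      have e : (ζ : F) ^ 3 * ((ζ : F) ^ (3 * j) * t₀) = (ζ : F) ^ (3 * (j + 1)) * t₀ := by ring
      rwa [e] at h2
  -- step 2: nsmul closure
  have hnsmul : ∀ (n : ℕ) (r : F), D s₀ (r * t₀) → D s₀ ((n • r) * t₀) := by
    intro n r hr
    induction n with
    | zero => simpa using h0r s₀
    | succ n ih =>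
      have := har _ _ _ ih hr
      have e : n • r * t₀ + r * t₀ = ((n + 1) • r) * t₀ := by
        rw [succ_nsmul, add_mul]
      rwa [e] at this
  have hall : ∀ r : F, D s₀ (r * t₀) := by
    intro r
    have hr : r ∈ AddSubgroup.closure (Set.range fun j : ℕ => (ζ : F) ^ (3 * j)) := by
      rw [hC1]; trivial
    induction hr using AddSubgroup.closure_induction with
    | mem x hx =>
      obtain ⟨j, rfl⟩ := hx
      exact hcube j
    | zero => simpa using h0r s₀
    | add x y _ _ hx hy =>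
      have := har _ _ _ hx hy
      rwa [← add_mul] at this
    | neg x _ hx =>
      have h2 := hnsmul (Fintype.card F - 1) x hx
      have e : (Fintype.card F - 1) • x = -x := by
        have hc : Fintype.card F • x = 0 := card_nsmul_eq_zero
        have hpos : 0 < Fintype.card F := Fintype.card_pos
        have : Fintype.card F = (Fintype.card F - 1) + 1 := by omega
        rw [this, succ_nsmul] at hc
        exact eq_neg_of_add_eq_zero_left hc
      rwa [e] at h2
  have hrow : ∀ t, D s₀ t := by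
    intro t
    have := hall (t / t₀)
    rwa [div_mul_cancel₀ t ht] at this
  exact sl3c2_rows ζ hζ a D h0l h1 s₀ hs hrow

end Cfsg.Agent.Lib.helper17.SL3
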