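import Mathlib
import Cfsg.Agent.Lib.helper17.SL3.Defs
import Cfsg.Agent.Lib.Helper1.SL3C2

/-!
# Project SL3 (designer helper17), row C3 (`span_all4`), written by helper1.
-/

set_option autoImplicit false

namespace Cfsg.Agent.Lib.helper17.SL3

open Cfsg.Agent.Lib.helper17.SLP
open Polynomial

universe u v

/-- in a field with four elements `x + x = 0`. -/
theorem sl3c3_add_self {F : Type*} [Field F] [Fintype F] (hq : Fintype.card F = 4) (x : F) :
    x + x = 0 := by
  have h4 : ((Fintype.card F : ℕ) : F) = 0 := Nat.cast_card_eq_zero F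
  rw [hq] at h4
  have h2 : (2 : F) = 0 := by
    have : (2 : F) * 2 = 0 := by
      have : ((4 : ℕ) : F) = 2 * 2 := by norm_num
      rw [← this]; exact h4
    exact mul_self_eq_zero.1 this
  have : x + x = 2 * x := by ring
  rw [this, h2, zero_mul]

/-- in a field with four elements, `0, t₀, t₁, t₀ + t₁` are all the elements. -/
theorem sl3c3_four {F : Type*} [Field F] [Fintype F] (hq : Fintype.card F = 4)
    (t₀ t₁ : F) (ht₀ : t₀ ≠ 0) (ht₁ : t₁ ≠ 0) (hne : t₀ ≠ t₁) (t : F) :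
    t = 0 ∨ t = t₀ ∨ t = t₁ ∨ t = t₀ + t₁ := by
  classical
  have h2 := sl3c3_add_self hq
  have hsum : t₀ + t₁ ≠ 0 := by
    intro h
    apply hne
    have : t₀ = -t₁ := eq_neg_of_add_eq_zero_left h
    rw [this]
    exact (eq_neg_of_add_eq_zero_left (h2 t₁)).symm
  have hs0 : t₀ + t₁ ≠ t₀ := by
    intro h; apply ht₁; simpa using h
  have hs1 : t₀ + t₁ ≠ t₁ := by
    intro h; apply ht₀; simpa using h
  have hcard : ({0, t₀, t₁, t₀ + t₁} : Finset F).card = 4 := by
    rw [Finset.card_insert_of_notMem, Finset.card_insert_of_notMem, Finset.card_insert_of_notMem,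
      Finset.card_singleton]
    · simp only [Finset.mem_singleton]; exact fun h => hs1 h.symm
    · simp only [Finset.mem_insert, Finset.mem_singleton, not_or]
      exact ⟨hne, fun h => hs0 h.symm⟩
    · simp only [Finset.mem_insert, Finset.mem_singleton, not_or]
      exact ⟨fun h => ht₀ h.symm, fun h => ht₁ h.symm, fun h => hsum h.symm⟩
  have huniv : ({0, t₀, t₁, t₀ + t₁} : Finset F) = Finset.univ := by
    apply Finset.eq_univ_of_card
    rw [hcard, hq]
  have : t ∈ ({0, t₀, t₁, t₀ + t₁} : Finset F) := by rw [huniv]; exact Finset.mem_univ t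
  simpa only [Finset.mem_insert, Finset.mem_singleton] using this

/-- C3 -/
theorem span_all4 {F : Type*} [Field F] [Fintype F] (hq : Fintype.card F = 4) (ζ : Fˣ)
    (hζ : ∀ y : Fˣ, y ∈ Subgroup.zpowers ζ) (a : Fˣ) (D : F → F → Prop)
    (h0l : ∀ t, D 0 t) (h0r : ∀ s, D s 0)
    (hal : ∀ s s' t, D s t → D s' t → D (s + s') t) (har : ∀ s t t', D s t → D s t' → D s (t + t'))
    (h1 : ∀ s t, D s t → D ((ζ : F) * s) ((a : F) * t))
    (s₀ t₀ t₁ : F) (hs : s₀ ≠ 0) (ht₀ : t₀ ≠ 0) (ht₁ : t₁ ≠ 0) (hne : t₀ ≠ t₁)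
    (h : D s₀ t₀) (h' : D s₀ t₁) : ∀ s t, D s t := by
  have hrow : ∀ t, D s₀ t := by
    intro t
    rcases sl3c3_four hq t₀ t₁ ht₀ ht₁ hne t with rfl | rfl | rfl | rfl
    · exact h0r s₀
    · exact h
    · exact h'
    · exact har _ _ _ h h'
  exact sl3c2_rows ζ hζ a D h0l h1 s₀ hs hrow

end Cfsg.Agent.Lib.helper17.SL3
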