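import Mathlib
import Cfsg.Agent.Lib.helper17.SL3.Defs
import Cfsg.Agent.Lib.helper17.SL3.Defs2
import Cfsg.Agent.Lib.Helper1.SL3C2
import Cfsg.Agent.Lib.Helper1.SL3C3

/-!
# Project SL3 (designer helper17), rows C4 (`commute_all`) and C6 (`cm_all`): cores on the statement of C1;
rows C5 (`commute_all4`) and C7 (`cm_all4`) verbatim;
written by helper1.
-/

set_option autoImplicit false

namespace Cfsg.Agent.Lib.helper17.SL3

open Cfsg.Agent.Lib.helper17.SLP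
open Polynomial

universe u v

section Aux

variable {F : Type u} [Field F] {G : Type v} [Group G]

theorem sl3c4_zero (X : F → G) (hX : ∀ s t, X (s + t) = X s * X t) : X 0 = 1 := by
  have := hX 0 0
  rw [add_zero] at this
  exact (mul_eq_left.1 this.symm)

theorem sl3c4_neg (X : F → G) (hX : ∀ s t, X (s + t) = X s * X t) (t : F) : X (-t) = (X t)⁻¹ := by
  have := hX (-t) t
  rw [neg_add_cancel, sl3c4_zero X hX] at this
  exact eq_inv_of_mul_eq_one_left this.symm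

theorem sl3c4_conj_commute (g a b : G) (h : Commute a b) : Commute (g * a * g⁻¹) (g * b * g⁻¹) := by
  unfold Commute SemiconjBy at *
  calc g * a * g⁻¹ * (g * b * g⁻¹) = g * (a * b) * g⁻¹ := by group
    _ = g * (b * a) * g⁻¹ := by rw [h]
    _ = g * b * g⁻¹ * (g * a * g⁻¹) := by group

theorem sl3c4_act_one (ζ : Fˣ) (g : G) (X : F → G) (h : Act ζ g X 1) (t : F) :
    g * X t * g⁻¹ = X ((ζ : F) * t) := by
  have := h t
  rwa [zpow_one] at this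

theorem sl3c4_act_zero (ζ : Fˣ) (g : G) (X : F → G) (h : Act ζ g X 0) (t : F) :
    g * X t * g⁻¹ = X t := by
  have := h t
  rwa [zpow_zero, Units.val_one, one_mul] at this

theorem sl3c4_act_three (ζ : Fˣ) (g : G) (X : F → G) (h : Act ζ g X 3) (t : F) :
    g * X t * g⁻¹ = X ((ζ : F) ^ 3 * t) := by
  have := h t
  have e : ((ζ ^ (3 : ℤ) : Fˣ) : F) = (ζ : F) ^ 3 := by
    rw [show (3 : ℤ) = ((3 : ℕ) : ℤ) from rfl, zpow_natCast, Units.val_pow_eq_pow_val]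
  rwa [e] at this

theorem sl3c6_cm_conj (g a b : G) : cm (g * a * g⁻¹) (g * b * g⁻¹) = g * cm a b * g⁻¹ := by
  unfold cm; group

theorem sl3c6_cm_mul_left (a a' b : G) : cm (a * a') b = a * cm a' b * a⁻¹ * cm a b := by
  unfold cm; group

theorem sl3c6_cm_mul_right (a b b' : G) : cm a (b * b') = cm a b * (b * cm a b' * b⁻¹) := by
  unfold cm; group

end Aux

variable {F : Type u} [Field F] [Fintype F] {G : Type v} [Group G]

/-- C4 with the statement of C1 as a hypothesis. -/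
theorem sl3c4_core (ζ : Fˣ)
    (hC1 : AddSubgroup.closure (Set.range fun j : ℕ => (ζ : F) ^ (3 * j)) = ⊤)
    (hζ : ∀ y : Fˣ, y ∈ Subgroup.zpowers ζ)
    (X Y : F → G) (hX : ∀ s t, X (s + t) = X s * X t) (hY : ∀ s t, Y (s + t) = Y s * Y t)
    (τ₁ τ₃ : G) (e : ℤ) (h1X : Act ζ τ₁ X 1) (h1Y : Act ζ τ₁ Y e) (h3X : Act ζ τ₃ X 0) (h3Y : Act ζ τ₃ Y 3)
    (s₀ t₀ : F) (hs : s₀ ≠ 0) (ht : t₀ ≠ 0) (h : Commute (X s₀) (Y t₀)) : ∀ s t, Commute (X s) (Y t) := by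
  refine sl3c2_core ζ hC1 hζ (ζ ^ e) (fun s t => Commute (X s) (Y t)) ?_ ?_ ?_ ?_ ?_ ?_ s₀ t₀ hs ht h
  · intro t; show Commute (X 0) (Y t); rw [sl3c4_zero X hX]; exact Commute.one_left _
  · intro s; show Commute (X s) (Y 0); rw [sl3c4_zero Y hY]; exact Commute.one_right _
  · intro s s' t h1 h2; show Commute (X (s + s')) (Y t); rw [hX]; exact h1.mul_left h2
  · intro s t t' h1 h2; show Commute (X s) (Y (t + t')); rw [hY]; exact h1.mul_right h2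
  · intro s t h1
    show Commute (X ((ζ : F) * s)) (Y (((ζ ^ e : Fˣ) : F) * t))
    rw [← sl3c4_act_one ζ τ₁ X h1X, ← h1Y t]
    exact sl3c4_conj_commute τ₁ _ _ h1
  · intro s t h1
    show Commute (X s) (Y ((ζ : F) ^ 3 * t))
    rw [← sl3c4_act_zero ζ τ₃ X h3X s, ← sl3c4_act_three ζ τ₃ Y h3Y t]
    exact sl3c4_conj_commute τ₃ _ _ h1

/-- C6 with the statement of C1 as a hypothesis. -/
theorem sl3c6_core (ζ : Fˣ)
    (hC1 : AddSubgroup.closure (Set.range fun j : ℕ => (ζ : F) ^ (3 * j)) = ⊤)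
    (hζ : ∀ y : Fˣ, y ∈ Subgroup.zpowers ζ)
    (X Y Z : F → G) (hX : ∀ s t, X (s + t) = X s * X t) (hY : ∀ s t, Y (s + t) = Y s * Y t)
    (hZ : ∀ s t, Z (s + t) = Z s * Z t) (hXZ : ∀ s r, Commute (X s) (Z r)) (hYZ : ∀ t r, Commute (Y t) (Z r))
    (τ₁ τ₃ : G) (e : ℤ) (h1X : Act ζ τ₁ X 1) (h1Y : Act ζ τ₁ Y e) (h1Z : Act ζ τ₁ Z (1 + e))
    (h3X : Act ζ τ₃ X 0) (h3Y : Act ζ τ₃ Y 3) (h3Z : Act ζ τ₃ Z 3)
    (s₀ t₀ : F) (hs : s₀ ≠ 0) (ht : t₀ ≠ 0) (h : cm (X s₀) (Y t₀) = Z (s₀ * t₀)) :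
    ∀ s t, cm (X s) (Y t) = Z (s * t) := by
  refine sl3c2_core ζ hC1 hζ (ζ ^ e) (fun s t => cm (X s) (Y t) = Z (s * t)) ?_ ?_ ?_ ?_ ?_ ?_ s₀ t₀ hs ht h
  · intro t; show cm (X 0) (Y t) = Z (0 * t)
    rw [sl3c4_zero X hX, zero_mul, sl3c4_zero Z hZ]; unfold cm; group
  · intro s; show cm (X s) (Y 0) = Z (s * 0)
    rw [sl3c4_zero Y hY, mul_zero, sl3c4_zero Z hZ]; unfold cm; group
  · intro s s' t h1 h2; show cm (X (s + s')) (Y t) = Z ((s + s') * t)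
    rw [hX, sl3c6_cm_mul_left, h1, h2, add_mul, hZ]
    have := hXZ s (s' * t)
    have e1 : X s * Z (s' * t) * (X s)⁻¹ = Z (s' * t) := by
      rw [this.eq, mul_assoc, mul_inv_cancel, mul_one]
    rw [e1]
    have hc : Z (s * t) * Z (s' * t) = Z (s' * t) * Z (s * t) := by
      rw [← hZ, ← hZ, add_comm]
    exact hc.symm
  · intro s t t' h1 h2; show cm (X s) (Y (t + t')) = Z (s * (t + t'))
    rw [hY, sl3c6_cm_mul_right, h1, h2, mul_add, hZ]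
    have := hYZ t (s * t')
    have e1 : Y t * Z (s * t') * (Y t)⁻¹ = Z (s * t') := by
      rw [this.eq, mul_assoc, mul_inv_cancel, mul_one]
    rw [e1]
  · intro s t h1
    show cm (X ((ζ : F) * s)) (Y (((ζ ^ e : Fˣ) : F) * t)) = Z ((ζ : F) * s * (((ζ ^ e : Fˣ) : F) * t))
    rw [← sl3c4_act_one ζ τ₁ X h1X, ← h1Y t, sl3c6_cm_conj, h1, h1Z]
    congr 1
    rw [zpow_add, zpow_one, Units.val_mul]; ring
  · intro s t h1
    show cm (X s) (Y ((ζ : F) ^ 3 * t)) = Z (s * ((ζ : F) ^ 3 * t))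
    rw [← sl3c4_act_zero ζ τ₃ X h3X s, ← sl3c4_act_three ζ τ₃ Y h3Y t, sl3c6_cm_conj, h1,
      sl3c4_act_three ζ τ₃ Z h3Z]
    congr 1
    ring

/-- C5 -/
theorem commute_all4 (hq : Fintype.card F = 4) (ζ : Fˣ) (hζ : ∀ y : Fˣ, y ∈ Subgroup.zpowers ζ)
    (X Y : F → G) (hX : ∀ s t, X (s + t) = X s * X t) (hY : ∀ s t, Y (s + t) = Y s * Y t)
    (τ₁ : G) (e : ℤ) (h1X : Act ζ τ₁ X 1) (h1Y : Act ζ τ₁ Y e)
    (s₀ t₀ t₁ : F) (hs : s₀ ≠ 0) (ht₀ : t₀ ≠ 0) (ht₁ : t₁ ≠ 0) (hne : t₀ ≠ t₁)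
    (h : Commute (X s₀) (Y t₀)) (h' : Commute (X s₀) (Y t₁)) : ∀ s t, Commute (X s) (Y t) := by
  refine span_all4 hq ζ hζ (ζ ^ e) (fun s t => Commute (X s) (Y t)) ?_ ?_ ?_ ?_ ?_ s₀ t₀ t₁ hs ht₀ ht₁ hne h h'
  · intro t; show Commute (X 0) (Y t); rw [sl3c4_zero X hX]; exact Commute.one_left _
  · intro s; show Commute (X s) (Y 0); rw [sl3c4_zero Y hY]; exact Commute.one_right _
  · intro s s' t h1 h2; show Commute (X (s + s')) (Y t); rw [hX]; exact h1.mul_left h2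
  · intro s t t' h1 h2; show Commute (X s) (Y (t + t')); rw [hY]; exact h1.mul_right h2
  · intro s t h1
    show Commute (X ((ζ : F) * s)) (Y (((ζ ^ e : Fˣ) : F) * t))
    rw [← sl3c4_act_one ζ τ₁ X h1X, ← h1Y t]
    exact sl3c4_conj_commute τ₁ _ _ h1

/-- C7 -/
theorem cm_all4 (hq : Fintype.card F = 4) (ζ : Fˣ) (hζ : ∀ y : Fˣ, y ∈ Subgroup.zpowers ζ)
    (X Y Z : F → G) (hX : ∀ s t, X (s + t) = X s * X t) (hY : ∀ s t, Y (s + t) = Y s * Y t)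
    (hZ : ∀ s t, Z (s + t) = Z s * Z t) (hXZ : ∀ s r, Commute (X s) (Z r)) (hYZ : ∀ t r, Commute (Y t) (Z r))
    (τ₁ : G) (e : ℤ) (h1X : Act ζ τ₁ X 1) (h1Y : Act ζ τ₁ Y e) (h1Z : Act ζ τ₁ Z (1 + e))
    (s₀ t₀ t₁ : F) (hs : s₀ ≠ 0) (ht₀ : t₀ ≠ 0) (ht₁ : t₁ ≠ 0) (hne : t₀ ≠ t₁)
    (h : cm (X s₀) (Y t₀) = Z (s₀ * t₀)) (h' : cm (X s₀) (Y t₁) = Z (s₀ * t₁)) :
    ∀ s t, cm (X s) (Y t) = Z (s * t) := by
  refine span_all4 hq ζ hζ (ζ ^ e) (fun s t => cm (X s) (Y t) = Z (s * t)) ?_ ?_ ?_ ?_ ?_ s₀ t₀ t₁ hs ht₀ ht₁ hne h h'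
  · intro t; show cm (X 0) (Y t) = Z (0 * t)
    rw [sl3c4_zero X hX, zero_mul, sl3c4_zero Z hZ]; unfold cm; group
  · intro s; show cm (X s) (Y 0) = Z (s * 0)
    rw [sl3c4_zero Y hY, mul_zero, sl3c4_zero Z hZ]; unfold cm; group
  · intro s s' t h1 h2; show cm (X (s + s')) (Y t) = Z ((s + s') * t)
    rw [hX, sl3c6_cm_mul_left, h1, h2, add_mul, hZ]
    have := hXZ s (s' * t)
    have e1 : X s * Z (s' * t) * (X s)⁻¹ = Z (s' * t) := by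
      rw [this.eq, mul_assoc, mul_inv_cancel, mul_one]
    rw [e1]
    have hc : Z (s * t) * Z (s' * t) = Z (s' * t) * Z (s * t) := by
      rw [← hZ, ← hZ, add_comm]
    exact hc.symm
  · intro s t t' h1 h2; show cm (X s) (Y (t + t')) = Z (s * (t + t'))
    rw [hY, sl3c6_cm_mul_right, h1, h2, mul_add, hZ]
    have := hYZ t (s * t')
    have e1 : Y t * Z (s * t') * (Y t)⁻¹ = Z (s * t') := by
      rw [this.eq, mul_assoc, mul_inv_cancel, mul_one]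
    rw [e1]
  · intro s t h1
    show cm (X ((ζ : F) * s)) (Y (((ζ ^ e : Fˣ) : F) * t)) = Z ((ζ : F) * s * (((ζ ^ e : Fˣ) : F) * t))
    rw [← sl3c4_act_one ζ τ₁ X h1X, ← h1Y t, sl3c6_cm_conj, h1, h1Z]
    congr 1
    rw [zpow_add, zpow_one, Units.val_mul]; ring

end Cfsg.Agent.Lib.helper17.SL3
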