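import Mathlib
import Cfsg.Agent.Lib.helper17.SL3.Defs
import Cfsg.Agent.Lib.helper17.SL3.Defs2
import Cfsg.Agent.Lib.Helper13.SL3C1
import Cfsg.Agent.Lib.Helper1.SL3C2
import Cfsg.Agent.Lib.Helper1.SL3C4core

/-!
# Project SL3 (designer helper17), rows C2 (`span_all`), C4 (`commute_all`), C6 (`cm_all`) VERBATIM,
written by helper1 (cores in `Helper1.SL3C2`, `Helper1.SL3C4core`; C1 = `Helper13.SL3C1`).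
-/

set_option autoImplicit false

namespace Cfsg.Agent.Lib.helper17.SL3

open Cfsg.Agent.Lib.helper17.SLP
open Polynomial

universe u v

/-- C2 -/
theorem span_all {F : Type*} [Field F] [Fintype F] (hq : Fintype.card F ≠ 4) (ζ : Fˣ)
    (hζ : ∀ y : Fˣ, y ∈ Subgroup.zpowers ζ) (a : Fˣ) (D : F → F → Prop)
    (h0l : ∀ t, D 0 t) (h0r : ∀ s, D s 0)
    (hal : ∀ s s' t, D s t → D s' t → D (s + s') t) (har : ∀ s t t', D s t → D s t' → D s (t + t'))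
    (h1 : ∀ s t, D s t → D ((ζ : F) * s) ((a : F) * t)) (h3 : ∀ s t, D s t → D s ((ζ : F) ^ 3 * t))
    (s₀ t₀ : F) (hs : s₀ ≠ 0) (ht : t₀ ≠ 0) (h : D s₀ t₀) : ∀ s t, D s t :=
  sl3c2_core ζ (cubes_span hq ζ hζ) hζ a D h0l h0r hal har h1 h3 s₀ t₀ hs ht h

variable {F : Type u} [Field F] [Fintype F] {G : Type v} [Group G]

/-- C4 -/
theorem commute_all (hq : Fintype.card F ≠ 4) (ζ : Fˣ) (hζ : ∀ y : Fˣ, y ∈ Subgroup.zpowers ζ)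
    (X Y : F → G) (hX : ∀ s t, X (s + t) = X s * X t) (hY : ∀ s t, Y (s + t) = Y s * Y t)
    (τ₁ τ₃ : G) (e : ℤ) (h1X : Act ζ τ₁ X 1) (h1Y : Act ζ τ₁ Y e) (h3X : Act ζ τ₃ X 0) (h3Y : Act ζ τ₃ Y 3)
    (s₀ t₀ : F) (hs : s₀ ≠ 0) (ht : t₀ ≠ 0) (h : Commute (X s₀) (Y t₀)) : ∀ s t, Commute (X s) (Y t) :=
  sl3c4_core ζ (cubes_span hq ζ hζ) hζ X Y hX hY τ₁ τ₃ e h1X h1Y h3X h3Y s₀ t₀ hs ht h

/-- C6 -/
theorem cm_all (hq : Fintype.card F ≠ 4) (ζ : Fˣ) (hζ : ∀ y : Fˣ, y ∈ Subgroup.zpowers ζ)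
    (X Y Z : F → G) (hX : ∀ s t, X (s + t) = X s * X t) (hY : ∀ s t, Y (s + t) = Y s * Y t)
    (hZ : ∀ s t, Z (s + t) = Z s * Z t) (hXZ : ∀ s r, Commute (X s) (Z r)) (hYZ : ∀ t r, Commute (Y t) (Z r))
    (τ₁ τ₃ : G) (e : ℤ) (h1X : Act ζ τ₁ X 1) (h1Y : Act ζ τ₁ Y e) (h1Z : Act ζ τ₁ Z (1 + e))
    (h3X : Act ζ τ₃ X 0) (h3Y : Act ζ τ₃ Y 3) (h3Z : Act ζ τ₃ Z 3)
    (s₀ t₀ : F) (hs : s₀ ≠ 0) (ht : t₀ ≠ 0) (h : cm (X s₀) (Y t₀) = Z (s₀ * t₀)) :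
    ∀ s t, cm (X s) (Y t) = Z (s * t) :=
  sl3c6_core ζ (cubes_span hq ζ hζ) hζ X Y Z hX hY hZ hXZ hYZ τ₁ τ₃ e h1X h1Y h1Z h3X h3Y h3Z s₀ t₀ hs ht h

end Cfsg.Agent.Lib.helper17.SL3
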