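import Mathlib
import Cfsg.Agent.Lib.Helper1.SL7FIN2core
import Cfsg.Agent.Lib.Helper26.SL7A3b
import Cfsg.Agent.Lib.Helper11.SL7X1
import Cfsg.Agent.Lib.Helper11.SL7T5
import Cfsg.Agent.Lib.helper23.SL7A1core
import Cfsg.Agent.Lib.Helper29.SL7A2core
import Cfsg.Agent.Lib.Helper5.SL7H5core
import Cfsg.Agent.Lib.Helper11.SL7H3
import Cfsg.Agent.Lib.Helper16.SL7H6
import Cfsg.Agent.Lib.helper2.SL7Z3
import Cfsg.Agent.Lib.Helper24.SL7TS4
import Cfsg.Agent.Lib.helper6.SL7Q1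
import Cfsg.Agent.Lib.Helper1.SL7Q2
import Cfsg.Agent.Lib.helper23.SL7MZ1

/-!
# Project SL7 (designer helper1), row FIN2: `sl7_main` (= S2288), verbatim.
The rows A1 A2 H5 are assembled here from their landed cores (own names `sl7fin2_*`), so that this file does not wait for the verbatim wrappers.
-/

set_option autoImplicit false

namespace Cfsg.Agent.Lib.Helper1.SLN

open Matrix Equiv
open Cfsg.Agent.Lib.helper17.SLP

universe u v w

/-- the statement of H5 (`glue_of_two`), from its core and H3. -/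
theorem sl7fin2_glue_of_two {F : Type u} [Field F] {G : Type v} [Group G] [Fintype F] (M : ℕ)
    (α : alternatingGroup (Fin (M + 4)) →* G)
    (β : Matrix.SpecialLinearGroup (Fin 3) F →* G) (H : Glue3 M α β)
    (h5a : Commute (β (emb23 (xU (1 : F)))) (α (rho M) * β (emb23 (xU (1 : F))) * (α (rho M))⁻¹))
    (h5b : Commute (β (emb23 (xU (1 : F)))) (α (rho M) * β (emb23 (xL (1 : F))) * (α (rho M))⁻¹)) :
    Glue M α β :=
  sl7h5_core M α β H (fun s t => torus_comm M α β H s t) h5a h5b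

/-- the statement of A1 (`exists_glueset5`), from its core. -/
theorem sl7fin2_glueset5 {F : Type u} [Field F] [Fintype F] (M : ℕ) : Sl7GlueSet F (M + 1) :=
  sl7a1_core M (exists_nu (M + 1) (by omega)) exists_yM exists_flip_gens
    (fun _ _ α β h2c ν x hN y hy a₁ a₂ ha₁ ha₂ hcl r1 r2 r3 =>
      glue3_of_rels (M + 1) α β h2c ν x hN y hy a₁ a₂ ha₁ ha₂ hcl r1 r2 r3)
    (fun _ _ α β H h5a => two_of_one M α β H h5a)
    (fun _ _ α β H h5a h5b => sl7fin2_glue_of_two (M + 1) α β H h5a h5b)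
    (fun ν h0 h1 h2 A => alphaM_nu (M + 1) ν h0 h1 h2 A)

/-- the statement of A2 (`exists_glueset4`), from its core. -/
theorem sl7fin2_glueset4 {F : Type u} [Field F] [Fintype F] : Sl7GlueSet F 0 :=
  sl7a2_core exists_flip_gens
    (fun _ _ α β H h5a h5b => sl7fin2_glue_of_two 0 α β H h5a h5b)

/-- FIN2 [M]  = S2288. -/
theorem sl7_main {F : Type u} [Field F] [Fintype F] (n : ℕ) (hn : 4 ≤ n) :
    (∃ rels : Finset (FreeGroup (Fin 7)), rels.card ≤ 25 ∧ Nonempty (PresentedGroup (↑rels : Set (FreeGroup (Fin 7))) ≃* Matrix.SpecialLinearGroup (Fin n) F)) ∧ (∃ rels : Finset (FreeGroup (Fin 7)), rels.card ≤ 26 ∧ Nonempty (PresentedGroup (↑rels : Set (FreeGroup (Fin 7))) ≃* Matrix.ProjectiveSpecialLinearGroup (Fin n) F)) ∧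
    (∃ rels : Finset (FreeGroup (Fin 6)), rels.card ≤ 21 ∧ Nonempty (PresentedGroup (↑rels : Set (FreeGroup (Fin 6))) ≃* Matrix.SpecialLinearGroup (Fin 4) F)) ∧ (∃ rels : Finset (FreeGroup (Fin 6)), rels.card ≤ 22 ∧ Nonempty (PresentedGroup (↑rels : Set (FreeGroup (Fin 6))) ≃* Matrix.SpecialLinearGroup (Fin 5) F)) :=
  sl7fin2_core (fun M _ RT eT L eL heL S hS hSM => sl_pres_glue M RT eT L eL heL S hS hSM)
    sl3_explicit (fun M => sl7fin2_glueset5 M) sl7fin2_glueset4 pres_A5 n hn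

end Cfsg.Agent.Lib.Helper1.SLN
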