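import Mathlib
import Cfsg.Prelude.Def_Classical
import Cfsg.Agent.Lib.Helper1.OMPF1
import Cfsg.Agent.Lib.Helper1.OMPF2
import Cfsg.Agent.Lib.Helper1.SL7FIN2
import Cfsg.Agent.Lib.Helper21.PresQuot
import Cfsg.Agent.Lib.Helper25.PresPad

/-!
# Project OMP (S2295), row F3 (helper1): the final assembly, with the gluing theorem of the project (one new
generator `y` and at most six relators, seven for `n = 4`, on top of `SL_n(F)`) and `Td a b 1 ∈ Ω` as hypotheses.
-/

set_option autoImplicit false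

namespace Cfsg.Agent.Lib.Helper1.OMP

open Matrix

universe u

/-- the gluing statement of project OMP at `n`, with at most `k` relators: a finite subset `S` of the free product
`SL_n(F) * ℤ`, satisfied by a model `(Φ₀, y₀)` in `Ω⁺_{2n}(F)`, such that every group generated by a pair `(α, y)`
satisfying `S` maps bijectively onto `Ω` by any homomorphism compatible with the model. -/
def OmpGlueSet (F : Type u) [Field F] [Fintype F] (n k : ℕ) : Prop :=
  ∃ S : Finset (Monoid.Coprod (Matrix.SpecialLinearGroup (Fin n) F) (Multiplicative ℤ)), S.card ≤ k ∧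
    ∃ (Φ₀ : Matrix.SpecialLinearGroup (Fin n) F →* Cfsg.Omega F (Cfsg.quadFormPlus n F))
      (y₀ : Cfsg.Omega F (Cfsg.quadFormPlus n F)),
      (∀ s ∈ S, Monoid.Coprod.lift Φ₀ (zpowersHom _ y₀) s = 1) ∧
      ∀ (G : Type) [Group G] (α : Matrix.SpecialLinearGroup (Fin n) F →* G) (y : G)
        (π : G →* Cfsg.Omega F (Cfsg.quadFormPlus n F)),
        (∀ s ∈ S, Monoid.Coprod.lift α (zpowersHom _ y) s = 1) →
        Subgroup.closure (Set.range α ∪ {y}) = ⊤ →
        (∀ x, π (α x) = Φ₀ x) → π y = y₀ → Function.Bijective π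

/-- one more generator and `k` more relators -/
theorem ompf3_pres_of_glue {F : Type u} [Field F] [Fintype F] (n k a r : ℕ)
    (hA : ∃ rels : Finset (FreeGroup (Fin a)), rels.card ≤ r ∧
      Nonempty (PresentedGroup (↑rels : Set (FreeGroup (Fin a))) ≃* Matrix.SpecialLinearGroup (Fin n) F))
    (hG : OmpGlueSet F n k) :
    ∃ rels : Finset (FreeGroup (Fin (a + 1))), rels.card ≤ r + k ∧
      Nonempty (PresentedGroup (↑rels : Set (FreeGroup (Fin (a + 1)))) ≃*
        Cfsg.Omega F (Cfsg.quadFormPlus n F)) := by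
  obtain ⟨RA, hRA, ⟨eA⟩⟩ := hA
  obtain ⟨S, hS, Φ₀, y₀, hmodel, habs⟩ := hG
  obtain ⟨rels, hc, α, y, hkill, hgen, huniv⟩ := omp_adjoin_pres.{u, u} RA eA S
  obtain ⟨ψ, hψα, hψy⟩ := huniv _ Φ₀ y₀ hmodel
  have hb := habs _ α y ψ hkill hgen hψα hψy
  exact ⟨rels, by omega, ⟨MulEquiv.ofBijective ψ hb⟩⟩

/-- the central quotient costs one relator when the centre is cyclic -/
theorem ompf3_pres_center {G : Type u} [Group G] {k r : ℕ} (hc : IsCyclic (Subgroup.center G))
    (h : ∃ rels : Finset (FreeGroup (Fin k)), rels.card ≤ r ∧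
      Nonempty (PresentedGroup (↑rels : Set (FreeGroup (Fin k))) ≃* G)) :
    ∃ rels : Finset (FreeGroup (Fin k)), rels.card ≤ r + 1 ∧
      Nonempty (PresentedGroup (↑rels : Set (FreeGroup (Fin k))) ≃* G ⧸ Subgroup.center G) := by
  obtain ⟨R, hR, ⟨e⟩⟩ := h
  obtain ⟨g, hg⟩ := hc.exists_generator
  have hN : Subgroup.center G = Subgroup.zpowers (g : G) := by
    ext x
    constructor
    · intro hx
      obtain ⟨m, hm⟩ := Subgroup.mem_zpowers_iff.mp (hg ⟨x, hx⟩)
      refine Subgroup.mem_zpowers_iff.mpr ⟨m, ?_⟩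
      have := congrArg Subtype.val hm
      simpa using this
    · intro hx
      obtain ⟨m, rfl⟩ := Subgroup.mem_zpowers_iff.mp hx
      exact Subgroup.zpow_mem _ g.2 m
  obtain ⟨rels, hc', e', _⟩ := Cfsg.Agent.Lib.Helper21.PresQuot.quot_central R e (g : G) g.2
    (Subgroup.center G) hN
  exact ⟨rels, by omega, ⟨e'⟩⟩

/-- F3 core: S2295 from the gluing statement and `Td a b 1 ∈ Ω`. -/
theorem ompf3_core {F : Type u} [Field F] [Fintype F]
    (hTd : ∀ n : ℕ, 4 ≤ n → TdInOmega n F)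
    (h4 : OmpGlueSet F 4 7) (h5 : ∀ n : ℕ, 5 ≤ n → OmpGlueSet F n 6) (n : ℕ) (hn : 4 ≤ n) :
    (∃ rels : Finset (FreeGroup (Fin 8)), rels.card ≤ 31 ∧ Nonempty (PresentedGroup (↑rels : Set (FreeGroup (Fin 8))) ≃* ↥(Cfsg.Omega F (Cfsg.quadFormPlus n F)))) ∧ (∃ rels : Finset (FreeGroup (Fin 8)), rels.card ≤ 32 ∧ Nonempty (PresentedGroup (↑rels : Set (FreeGroup (Fin 8))) ≃* Cfsg.POmega F (Cfsg.quadFormPlus n F))) ∧
    (n ≤ 5 → (∃ rels : Finset (FreeGroup (Fin 8)), rels.card ≤ 29 ∧ Nonempty (PresentedGroup (↑rels : Set (FreeGroup (Fin 8))) ≃* ↥(Cfsg.Omega F (Cfsg.quadFormPlus n F)))) ∧ (∃ rels : Finset (FreeGroup (Fin 8)), rels.card ≤ 30 ∧ Nonempty (PresentedGroup (↑rels : Set (FreeGroup (Fin 8))) ≃* Cfsg.POmega F (Cfsg.quadFormPlus n F)))) := by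
  have hcyc : IsCyclic (Subgroup.center (Cfsg.Omega F (Cfsg.quadFormPlus n F))) :=
    omp_center_cyclic (by omega) (hTd n hn)
  obtain ⟨hsl7, -, hsl4, hsl5⟩ := Cfsg.Agent.Lib.Helper1.SLN.sl7_main (F := F) n hn
  -- the small cases: 8 generators, at most 29 relators
  have hsmall : n ≤ 5 → ∃ rels : Finset (FreeGroup (Fin 8)), rels.card ≤ 29 ∧
      Nonempty (PresentedGroup (↑rels : Set (FreeGroup (Fin 8))) ≃* ↥(Cfsg.Omega F (Cfsg.quadFormPlus n F))) := by
    intro h5'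
    have hcases : n = 4 ∨ n = 5 := by omega
    rcases hcases with rfl | rfl
    · have h := ompf3_pres_of_glue 4 7 6 21 hsl4 h4
      obtain ⟨r, hr, e⟩ := Cfsg.Agent.Lib.Helper25.PresPad.pad_exists (m := 7) (n := 8) (r := 21 + 7)
        (by norm_num) (by norm_num) h
      exact ⟨r, by omega, e⟩
    · have h := ompf3_pres_of_glue 5 6 6 22 hsl5 (h5 5 le_rfl)
      obtain ⟨r, hr, e⟩ := Cfsg.Agent.Lib.Helper25.PresPad.pad_exists (m := 7) (n := 8) (r := 22 + 6)
        (by norm_num) (by norm_num) h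
      exact ⟨r, by omega, e⟩
  -- all cases: 8 generators, at most 31 relators
  have hall : ∃ rels : Finset (FreeGroup (Fin 8)), rels.card ≤ 31 ∧
      Nonempty (PresentedGroup (↑rels : Set (FreeGroup (Fin 8))) ≃* ↥(Cfsg.Omega F (Cfsg.quadFormPlus n F))) := by
    rcases Nat.lt_or_ge n 5 with h | h
    · obtain ⟨r, hr, e⟩ := hsmall (by omega)
      exact ⟨r, by omega, e⟩
    · exact ompf3_pres_of_glue n 6 7 25 hsl7 (h5 n h)
  refine ⟨hall, ompf3_pres_center hcyc hall, fun h => ⟨hsmall h, ompf3_pres_center hcyc (hsmall h)⟩⟩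

end Cfsg.Agent.Lib.Helper1.OMP
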