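import Mathlib
import Cfsg.Agent.Lib.Helper1.OMPF3core
import Cfsg.Agent.Lib.Helper28.OMMO10

/-!
# Project OMP (S2295), row F3 (helper1): the final assembly with `Td a b 1 ∈ Ω` discharged from OMM O10b
(`omega_eq_closure`, helper28): S2295 from the gluing statement `OmpGlueSet` alone.
-/

set_option autoImplicit false

namespace Cfsg.Agent.Lib.Helper1.OMP

open Matrix Cfsg.Agent.Lib.helper3.STC Cfsg.Agent.Lib.Lead.STD Cfsg.Agent.Lib.Helper28.CTD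
  Cfsg.Agent.Lib.Helper28.OMM

universe u

/-- the elementary orthogonal matrices lie in `Ω⁺_{2n}(F)`, `n ≥ 4` -/
theorem ompf3_TdInOmega {F : Type u} [Field F] [Fintype F] (n : ℕ) (hn : 4 ≤ n) : TdInOmega n F := by
  intro a b hab hab'
  have hmem : Matrix.SpecialLinearGroup.toGL (mx a b (1 : F) : Matrix.SpecialLinearGroup (Fin n ⊕ Fin n) F) ∈
      Cfsg.isometryGroup F (Cfsg.quadFormPlus n F) := EO_le_iso (ommo5_mx_mem hab hab' 1)
  have hΩ : (⟨_, hmem⟩ : Cfsg.isometryGroup F (Cfsg.quadFormPlus n F)) ∈ Cfsg.Omega F (Cfsg.quadFormPlus n F) := by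
    rw [omega_eq_closure hn]
    apply Subgroup.subset_closure
    exact ⟨a, b, 1, hab, hab', mx_coe a b hab hab' 1⟩
  exact ⟨⟨_, hΩ⟩, mx_coe a b hab hab' 1⟩

/-- F3: S2295 from the gluing statement of project OMP. -/
theorem ompf3_main {F : Type u} [Field F] [Fintype F]
    (h4 : OmpGlueSet F 4 7) (h5 : ∀ n : ℕ, 5 ≤ n → OmpGlueSet F n 6) (n : ℕ) (hn : 4 ≤ n) :
    (∃ rels : Finset (FreeGroup (Fin 8)), rels.card ≤ 31 ∧ Nonempty (PresentedGroup (↑rels : Set (FreeGroup (Fin 8))) ≃* ↥(Cfsg.Omega F (Cfsg.quadFormPlus n F)))) ∧ (∃ rels : Finset (FreeGroup (Fin 8)), rels.card ≤ 32 ∧ Nonempty (PresentedGroup (↑rels : Set (FreeGroup (Fin 8))) ≃* Cfsg.POmega F (Cfsg.quadFormPlus n F))) ∧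
    (n ≤ 5 → (∃ rels : Finset (FreeGroup (Fin 8)), rels.card ≤ 29 ∧ Nonempty (PresentedGroup (↑rels : Set (FreeGroup (Fin 8))) ≃* ↥(Cfsg.Omega F (Cfsg.quadFormPlus n F)))) ∧ (∃ rels : Finset (FreeGroup (Fin 8)), rels.card ≤ 30 ∧ Nonempty (PresentedGroup (↑rels : Set (FreeGroup (Fin 8))) ≃* Cfsg.POmega F (Cfsg.quadFormPlus n F)))) :=
  ompf3_core (fun n hn => ompf3_TdInOmega n hn) h4 h5 n hn

end Cfsg.Agent.Lib.Helper1.OMP
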