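import Mathlib
import Cfsg.Agent.Lib.Helper18.ONE.Defs
import Cfsg.Agent.Lib.helper4.ONEUNIPABS
import Cfsg.Agent.Lib.Helper1.OMOMAIN
import Cfsg.Agent.Lib.Helper1.OMOREALODD
import Cfsg.Agent.Lib.Helper19.OMOCOMPL
import Cfsg.Agent.Lib.Helper16.OA25

set_option autoImplicit false
set_option linter.unusedVariables false
set_option linter.unusedSectionVars false

open scoped MatrixGroups

namespace Cfsg.Agent.Lib.Helper18.ONE

open Polynomial Module Cfsg.Agent.Lib.Helper13.S5955 Cfsg.Agent.Lib.helper15.S5972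
open Cfsg.Agent.Lib.helper14.JTa Cfsg.Agent.Lib.Helper9.OPH Cfsg.Agent.Lib.Helper1.OMO

theorem oneunipex_h1_ty_rep (n b k : ℕ) (ν : Multiset ℕ) :
    ty (Multiset.replicate n b + ν) k = n * min b k + ty ν k := by
  unfold ty
  rw [Multiset.map_add, Multiset.sum_add, Multiset.map_replicate, Multiset.sum_replicate, smul_eq_mul]

theorem oneunipex_h1_ty_rep' (n b k : ℕ) (ν : Multiset ℕ) :
    ty (ν + Multiset.replicate n b) k = ty ν k + n * min b k := by
  unfold ty
  rw [Multiset.map_add, Multiset.sum_add, Multiset.map_replicate, Multiset.sum_replicate, smul_eq_mul]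

theorem oneunipex_h1_ty_single (a k : ℕ) : ty {a} k = min a k := by
  unfold ty
  simp

theorem oneunipex_h1_abs {F : Type*} [Field F] {ι : Type} [Fintype ι] [DecidableEq ι] (h2 : (2 : F) ≠ 0)
    (Q : QuadraticForm F (ι → F)) (x : Matrix ι ι F) (hdet : IsUnit x)
    (hx : ∀ v, Q (x.mulVec v) = Q v) (d : ℕ) (hcard : Fintype.card ι = 2 * d + 1)
    (h1 : dk (Matrix.toLin' x - 1) 1 + 2 * d + 1 ≤ dk (Matrix.toLin' x - 1) 2 + d + 1)
    (hd2 : dk (Matrix.toLin' x - 1) 2 ≤ dk (Matrix.toLin' x - 1) 1 + d)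
    (h3 : dk (Matrix.toLin' x - 1) 3 = 2 * d + 1)
    (W : Submodule F (ι → F)) (hWe : Even (Module.finrank F ↥W))
    (hW : Cfsg.Geo.IsNondegenerateOn (QuadraticMap.polar (⇑Q)) W)
    (hxW : W.map (Matrix.toLin' x) ≤ W) : Cfsg.Geo.IsPlusTypeOn (⇑Q) W := by
  obtain ⟨W', hc, hW'⟩ := omo_compl Q x hdet hx W hW hxW
  set N : Module.End F (ι → F) := Matrix.toLin' x - 1 with hN
  have hfr : Module.finrank F (ι → F) = 2 * d + 1 := by
    rw [Module.finrank_fintype_fun_eq_card, hcard]
  have hN3 : N ^ 3 = 0 := pow_eq_zero_of_dk N 3 (by rw [h3, hfr])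
  have hsymm : ∀ u v, QuadraticMap.polarBilin Q u v = QuadraticMap.polarBilin Q v u := by
    intro u v
    exact QuadraticMap.polar_comm Q u v
  have hpres : ∀ u v, QuadraticMap.polarBilin Q (Matrix.toLin' x u) (Matrix.toLin' x v) = QuadraticMap.polarBilin Q u v := by
    intro u v
    show QuadraticMap.polar (⇑Q) (Matrix.toLin' x u) (Matrix.toLin' x v) = QuadraticMap.polar (⇑Q) u v
    unfold QuadraticMap.polar
    rw [← map_add, Matrix.toLin'_apply, Matrix.toLin'_apply, Matrix.toLin'_apply, hx, hx, hx]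
  have hker : Module.finrank F (LinearMap.ker N) = dk N 1 := by
    unfold dk
    rw [pow_one]
  have hrange : Module.finrank F (LinearMap.range (N ^ 2)) + dk N 2 = 2 * d + 1 := by
    have := LinearMap.finrank_range_add_finrank_ker (N ^ 2)
    rw [hfr] at this
    unfold dk
    exact this
  have hek : Module.finrank F ↥(LinearMap.range N ⊓ LinearMap.ker N) = ek N 1 := by
    unfold ek
    rw [pow_one]
  have hsucc : dk N 2 = dk N 1 + ek N 1 := dk_succ N 1
  have hone : Module.finrank F (LinearMap.ker (Matrix.toLin' x - 1)) +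
      Module.finrank F (LinearMap.range ((Matrix.toLin' x - 1) ^ 2)) ≤
      Module.finrank F ↥(LinearMap.range (Matrix.toLin' x - 1) ⊓ LinearMap.ker (Matrix.toLin' x - 1)) + 1 := by
    rw [← hN, hker, hek]
    omega
  have hSW : SInv (Matrix.toLin' x) W := fun w hw => hxW (Submodule.mem_map_of_mem hw)
  have hSW' : SInv (Matrix.toLin' x) W' := fun w hw => hW' w hw
  obtain ⟨U, hUW, hUti, hUdim⟩ := unip_abs (QuadraticMap.polarBilin Q) hsymm (Matrix.toLin' x) hpres hN3 hone W W' hSW hSW' hc hWe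
  refine ⟨U, hUW, ?_, hUdim⟩
  intro u hu
  have h5 := hUti u hu u hu
  have h6 : QuadraticMap.polar (⇑Q) u u = 2 * Q u := by
    rw [QuadraticMap.polar_self, nsmul_eq_mul]
    norm_num
  have h7 : (2 : F) * Q u = 0 := by
    rw [← h6]
    exact h5
  rcases mul_eq_zero.mp h7 with h8 | h8
  · exact absurd h8 h2
  · exact h8

theorem oneunipex_h1_unip_ex {F : Type*} [Field F] [Fintype F] {p : ℕ} [Fact p.Prime] [CharP F p]
    (hodd : Odd (Fintype.card F)) (d : ℕ) (hd : 3 ≤ d) :
    ∃ x : GL (Unit ⊕ (Fin d ⊕ Fin d)) F, x ∈ Cfsg.Geo.omegaGL (Cfsg.quadFormOdd d F) ∧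
      orderOf x = p ∧
      ∀ W : Submodule F (Unit ⊕ (Fin d ⊕ Fin d) → F), Even (Module.finrank F ↥W) →
        Cfsg.Geo.IsNondegenerateOn (QuadraticMap.polar (Cfsg.quadFormOdd d F)) W →
        W.map (Matrix.toLin' (x : Matrix (Unit ⊕ (Fin d ⊕ Fin d)) (Unit ⊕ (Fin d ⊕ Fin d)) F)) ≤ W →
        Cfsg.Geo.IsPlusTypeOn (Cfsg.quadFormOdd d F) W := by
  classical
  have hpq : p ∣ Fintype.card F := by
    have h0 : ((Fintype.card F : ℕ) : F) = 0 := Nat.cast_card_eq_zero F
    exact (CharP.cast_eq_zero_iff F p _).mp h0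
  have hp2 : p ≠ 2 := by
    rintro rfl
    obtain ⟨t, ht⟩ := hodd
    omega
  have hp3 : 3 ≤ p := by
    have := (Fact.out : p.Prime).two_le
    omega
  have h2 : (2 : F) ≠ 0 := by
    intro h
    have h3 : ((2 : ℕ) : F) = 0 := by exact_mod_cast h
    have h4 := (CharP.cast_eq_zero_iff F p 2).mp h3
    have h5 := (Nat.prime_dvd_prime_iff_eq (Fact.out : p.Prime) Nat.prime_two).mp h4
    exact hp2 h5
  have hcard : Fintype.card (Unit ⊕ (Fin d ⊕ Fin d)) = 2 * d + 1 := by
    simp
    omega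
  have hQcoe : ⇑(Cfsg.Agent.Lib.Helper16.qfOdd d F) = Cfsg.quadFormOdd d F := Cfsg.Agent.Lib.Helper16.qfOdd_coe d F
  obtain ⟨μ, hμp, hμe, hμs, hone, hk1, hk2, hk3⟩ : ∃ μ : Multiset ℕ, (∀ e ∈ μ, 0 < e ∧ e ≤ p) ∧
      (∀ e : ℕ, Even e → Even (μ.count e)) ∧ μ.sum = 2 * d + 1 ∧ (¬ ∀ e ∈ μ, e = 1) ∧
      (ty μ 1 + 2 * d + 1 ≤ ty μ 2 + d + 1) ∧ (ty μ 2 ≤ ty μ 1 + d) ∧ ty μ 3 = 2 * d + 1 := by
    rcases Nat.even_or_odd d with hde | hdo
    · refine ⟨Multiset.replicate d 2 + {1}, ?_, ?_, ?_, ?_, ?_, ?_, ?_⟩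
      · intro e he
        rcases Multiset.mem_add.mp he with he | he
        · rw [Multiset.eq_of_mem_replicate he]; omega
        · rw [Multiset.mem_singleton.mp he]; omega
      · intro e hee
        rw [Multiset.count_add, Multiset.count_replicate, Multiset.count_singleton]
        have h1 : e ≠ 1 := by
          rintro rfl
          exact absurd hee (by decide)
        rw [if_neg h1, add_zero]
        split_ifs
        · exact hde
        · exact Even.zero
      · rw [Multiset.sum_add, Multiset.sum_replicate, Multiset.sum_singleton, smul_eq_mul]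
        ring
      · intro h
        have := h 2 (Multiset.mem_add.mpr (Or.inl (Multiset.mem_replicate.mpr ⟨by omega, rfl⟩)))
        omega
      · rw [oneunipex_h1_ty_rep, oneunipex_h1_ty_rep, oneunipex_h1_ty_single, oneunipex_h1_ty_single]
        simp
        omega
      · rw [oneunipex_h1_ty_rep, oneunipex_h1_ty_rep, oneunipex_h1_ty_single, oneunipex_h1_ty_single]
        simp
        omega
      · rw [oneunipex_h1_ty_rep, oneunipex_h1_ty_single]
        simp
        omega
    · refine ⟨{3} + Multiset.replicate (d - 1) 2, ?_, ?_, ?_, ?_, ?_, ?_, ?_⟩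
      · intro e he
        rcases Multiset.mem_add.mp he with he | he
        · rw [Multiset.mem_singleton.mp he]; omega
        · rw [Multiset.eq_of_mem_replicate he]; omega
      · intro e hee
        rw [Multiset.count_add, Multiset.count_replicate, Multiset.count_singleton]
        have h1 : e ≠ 3 := by
          rintro rfl
          exact absurd hee (by decide)
        rw [if_neg h1, zero_add]
        split_ifs
        · obtain ⟨k, hk⟩ := hdo
          exact ⟨k, by omega⟩
        · exact Even.zero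
      · rw [Multiset.sum_add, Multiset.sum_replicate, Multiset.sum_singleton, smul_eq_mul]
        omega
      · intro h
        have := h 3 (Multiset.mem_add.mpr (Or.inl (Multiset.mem_singleton.mpr rfl)))
        omega
      · rw [oneunipex_h1_ty_rep', oneunipex_h1_ty_rep', oneunipex_h1_ty_single, oneunipex_h1_ty_single]
        simp
        omega
      · rw [oneunipex_h1_ty_rep', oneunipex_h1_ty_rep', oneunipex_h1_ty_single, oneunipex_h1_ty_single]
        simp
        omega
      · rw [oneunipex_h1_ty_rep', oneunipex_h1_ty_single]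
        simp
        omega
  have hreal : RealQ (⇑(Cfsg.Agent.Lib.Helper16.qfOdd d F)) μ := by
    rw [hQcoe]
    exact omo_real_odd h2 d μ (fun e he => (hμp e he).1) hμe hμs
  obtain ⟨x, hxΩ, hxp, hx1, hns, hxiso, hxK, hxty⟩ := omomain_key hp2 h2 (Cfsg.Agent.Lib.Helper16.qfOdd d F)
    (Cfsg.Agent.Lib.Helper16.OA.qfOdd_nondeg d h2) (by rw [hcard]; omega) μ hμp (by rw [hcard]; exact hμs) hreal hone
  rw [hQcoe] at hxΩ
  refine ⟨x, hxΩ, orderOf_eq_prime hxp hx1, ?_⟩
  intro W hWe hWnd hxW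
  have := oneunipex_h1_abs h2 (Cfsg.Agent.Lib.Helper16.qfOdd d F)
    (x : Matrix (Unit ⊕ (Fin d ⊕ Fin d)) (Unit ⊕ (Fin d ⊕ Fin d)) F) ⟨x, rfl⟩ hxiso d hcard
    (by rw [hxty, hxty]; exact hk1) (by rw [hxty, hxty]; exact hk2) (by rw [hxty]; exact hk3) W hWe
    (by rw [hQcoe]; exact hWnd) hxW
  rw [hQcoe] at this
  exact this

end Cfsg.Agent.Lib.Helper18.ONE
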