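import Mathlib

set_option autoImplicit false

namespace Cfsg.Agent.Lib.helper17.ONM

universe u v

theorem onmodd_pow_card {Γ : Type*} {G : Type*} [Group Γ] [Group G] [Finite Γ] (σ : Γ →* G)
    (κ : Γ) (hκ : κ ∈ σ.ker) : κ ^ Nat.card σ.ker = 1 := by
  have h := pow_card_eq_one' (G := σ.ker) (x := ⟨κ, hκ⟩)
  have h2 := congrArg Subtype.val h
  simpa using h2

theorem onmodd_aux {Γ : Type*} {G : Type*} [Group Γ] [Group G] [Finite Γ] (σ : Γ →* G)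
    (hodd : Odd (Nat.card σ.ker)) (κ : Γ) (hκ : κ ∈ σ.ker) (h2 : κ * κ = 1) : κ = 1 := by
  obtain ⟨m, hm⟩ := hodd
  have h := onmodd_pow_card σ κ hκ
  rw [hm, pow_succ, pow_mul, pow_two, h2, one_pow, one_mul] at h
  exact h

theorem onm_odd_eq {Γ : Type*} {G : Type*} [Group Γ] [Group G] [Finite Γ] (σ : Γ →* G)
    (hc : σ.ker ≤ Subgroup.center Γ) (hodd : Odd (Nat.card σ.ker)) (T T' : Γ) (hT : T * T = 1)
    (hT' : T' * T' = 1) (h : σ T = σ T') : T = T' := by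
  have hκ : T⁻¹ * T' ∈ σ.ker := by
    rw [MonoidHom.mem_ker, map_mul, map_inv, h, inv_mul_cancel]
  have hcen := hc hκ
  have hcomm : ∀ x : Γ, x * (T⁻¹ * T') = (T⁻¹ * T') * x := fun x => Subgroup.mem_center_iff.mp hcen x
  have hTinv : T⁻¹ = T := inv_eq_of_mul_eq_one_right hT
  have h2 : (T⁻¹ * T') * (T⁻¹ * T') = 1 := by
    calc (T⁻¹ * T') * (T⁻¹ * T') = T⁻¹ * (T' * (T⁻¹ * T')) := by group
      _ = T⁻¹ * ((T⁻¹ * T') * T') := by rw [hcomm T']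
      _ = (T⁻¹ * T⁻¹) * (T' * T') := by group
      _ = 1 := by rw [hT', hTinv, hT, one_mul]
  have h1 := onmodd_aux σ hodd _ hκ h2
  have : T' = T := by
    calc T' = T * (T⁻¹ * T') := by group
      _ = T := by rw [h1, mul_one]
  exact this.symm

theorem onm_odd_inv {Γ : Type*} {G : Type*} [Group Γ] [Group G] [Finite Γ] (σ : Γ →* G)
    (hs : Function.Surjective σ) (hc : σ.ker ≤ Subgroup.center Γ) (hodd : Odd (Nat.card σ.ker)) (t : G)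
    (ht : t * t = 1) : ∃ T : Γ, σ T = t ∧ T * T = 1 := by
  obtain ⟨T₀, hT₀⟩ := hs t
  obtain ⟨m, hm⟩ := hodd
  have hκ : T₀ * T₀ ∈ σ.ker := by
    rw [MonoidHom.mem_ker, map_mul, hT₀, ht]
  have hκm : (T₀ * T₀) ^ m ∈ σ.ker := Subgroup.pow_mem _ hκ m
  have hcomm : ∀ x : Γ, x * (T₀ * T₀) ^ m = (T₀ * T₀) ^ m * x :=
    fun x => Subgroup.mem_center_iff.mp (hc hκm) x
  have hpow := onmodd_pow_card σ _ hκ
  refine ⟨T₀ * (T₀ * T₀) ^ m, ?_, ?_⟩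
  · rw [map_mul, hT₀, MonoidHom.mem_ker.mp hκm, mul_one]
  · calc T₀ * (T₀ * T₀) ^ m * (T₀ * (T₀ * T₀) ^ m)
        = T₀ * ((T₀ * T₀) ^ m * T₀) * (T₀ * T₀) ^ m := by group
      _ = T₀ * (T₀ * (T₀ * T₀) ^ m) * (T₀ * T₀) ^ m := by rw [← hcomm T₀]
      _ = (T₀ * T₀) ^ (2 * m + 1) := by
        rw [pow_succ, two_mul, pow_add]
        calc T₀ * (T₀ * (T₀ * T₀) ^ m) * (T₀ * T₀) ^ m
            = (T₀ * T₀) * (T₀ * T₀) ^ m * (T₀ * T₀) ^ m := by group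
          _ = (T₀ * T₀) ^ m * (T₀ * T₀) * (T₀ * T₀) ^ m := by rw [hcomm (T₀ * T₀)]
          _ = (T₀ * T₀) ^ m * (T₀ * T₀) ^ m * (T₀ * T₀) := by
            rw [mul_assoc, hcomm (T₀ * T₀), ← mul_assoc]
      _ = 1 := by rw [← hm, hpow]

theorem onm_odd_dih {Γ : Type*} {G : Type*} [Group Γ] [Group G] [Finite Γ] (σ : Γ →* G)
    (hc : σ.ker ≤ Subgroup.center Γ) (hodd : Odd (Nat.card σ.ker)) (S T : Γ) (hS : S * S = 1)
    (hT : T * T = 1) (m : ℕ) (h : (σ S * σ T) ^ m = 1) : (S * T) ^ m = 1 := by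
  have hκ : (S * T) ^ m ∈ σ.ker := by
    rw [MonoidHom.mem_ker, map_pow, map_mul, h]
  have hcomm : ∀ x : Γ, x * (S * T) ^ m = (S * T) ^ m * x :=
    fun x => Subgroup.mem_center_iff.mp (hc hκ) x
  have hSinv : S⁻¹ = S := inv_eq_of_mul_eq_one_right hS
  have hTinv : T⁻¹ = T := inv_eq_of_mul_eq_one_right hT
  have hconj : S * (S * T) ^ m * S⁻¹ = ((S * T) ^ m)⁻¹ := by
    rw [← conj_pow, ← inv_pow]
    congr 1
    rw [mul_inv_rev, hSinv, hTinv]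
    calc S * (S * T) * S = (S * S) * T * S := by group
      _ = T * S := by rw [hS, one_mul]
  have h1 : S * (S * T) ^ m * S⁻¹ = (S * T) ^ m := by
    rw [hcomm S, mul_assoc, mul_inv_cancel, mul_one]
  have h2 : (S * T) ^ m * (S * T) ^ m = 1 := by
    have : (S * T) ^ m = ((S * T) ^ m)⁻¹ := h1.symm.trans hconj
    calc (S * T) ^ m * (S * T) ^ m = (S * T) ^ m * ((S * T) ^ m)⁻¹ := by rw [← this]
      _ = 1 := mul_inv_cancel _
  exact onmodd_aux σ hodd _ hκ h2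

theorem onm_odd_sqrt {Γ : Type*} {G : Type*} [Group Γ] [Group G] [Finite Γ] (σ : Γ →* G)
    (hc : σ.ker ≤ Subgroup.center Γ) (hodd : Odd (Nat.card σ.ker)) (g₀ u : Γ)
    (h : σ (g₀ * g₀) = σ u) : ∃ g₁ : Γ, σ g₁ = σ g₀ ∧ g₁ * g₁ = u := by
  obtain ⟨m, hm⟩ := hodd
  have hκ : (g₀ * g₀)⁻¹ * u ∈ σ.ker := by
    rw [MonoidHom.mem_ker, map_mul, map_inv, h, inv_mul_cancel]
  set κ : Γ := (g₀ * g₀)⁻¹ * u with hκdef
  have hκm : κ ^ (m + 1) ∈ σ.ker := Subgroup.pow_mem _ hκ (m + 1)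
  have hcomm : ∀ x : Γ, x * κ ^ (m + 1) = κ ^ (m + 1) * x :=
    fun x => Subgroup.mem_center_iff.mp (hc hκm) x
  have hpow := onmodd_pow_card σ _ hκ
  refine ⟨g₀ * κ ^ (m + 1), ?_, ?_⟩
  · rw [map_mul, MonoidHom.mem_ker.mp hκm, mul_one]
  · have hk2 : κ ^ (m + 1) * κ ^ (m + 1) = κ := by
      rw [← pow_add, show m + 1 + (m + 1) = (2 * m + 1) + 1 by ring, pow_succ, ← hm, hpow, one_mul]
    calc g₀ * κ ^ (m + 1) * (g₀ * κ ^ (m + 1))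
        = g₀ * (κ ^ (m + 1) * g₀) * κ ^ (m + 1) := by group
      _ = g₀ * (g₀ * κ ^ (m + 1)) * κ ^ (m + 1) := by rw [← hcomm g₀]
      _ = (g₀ * g₀) * (κ ^ (m + 1) * κ ^ (m + 1)) := by group
      _ = (g₀ * g₀) * κ := by rw [hk2]
      _ = u := by rw [hκdef]; group

end Cfsg.Agent.Lib.helper17.ONM
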