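import Mathlib
import Cfsg.Agent.Lib.Helper19.ORE.Defs

/-!
# Project ORE, row K1: determinant of the twisted cyclic shift.
-/

set_option autoImplicit false

namespace Cfsg.Agent.Lib.Helper19.ORE

open Polynomial Module

universe u

section General
variable {F : Type u} [Field F]

/-- the twisted shift is a column-scaled permutation matrix. -/
theorem orek1_eq_submatrix (k : ℕ) (c : F) :
    tshift (k + 1) c =
      (Matrix.diagonal (fun j : Fin (k + 1) => if (j : ℕ) + 1 = k + 1 then c else 1)).submatrix
        (finRotate (k + 1)).symm id := by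
  ext i j
  simp only [tshift, Matrix.submatrix_apply, Matrix.diagonal_apply, id]
  have hiff : ((finRotate (k + 1)).symm i = j) ↔ (finRotate (k + 1) j = i) := by
    constructor
    · intro h
      rw [← h]
      simp
    · intro h
      rw [← h]
      simp
  have hval : (finRotate (k + 1) j : ℕ) = if j = Fin.last k then (0 : ℕ) else (j : ℕ) + 1 :=
    coe_finRotate j
  have hi := i.isLt
  have hj := j.isLt
  by_cases hjl : (j : ℕ) + 1 = k + 1
  · -- j is the last index
    have hjlast : j = Fin.last k := by
      apply Fin.ext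
      simp only [Fin.val_last]
      omega
    have hrot : (finRotate (k + 1) j : ℕ) = 0 := by
      rw [hval, if_pos hjlast]
    by_cases hi0 : (i : ℕ) = 0
    · have h1 : (finRotate (k + 1)).symm i = j := by
        rw [hiff]
        apply Fin.ext
        rw [hrot, hi0]
      rw [if_pos h1, h1, if_pos hjl]
      by_cases h2 : (j : ℕ) + 1 = (i : ℕ)
      · -- then k + 1 = 0, impossible
        omega
      · rw [if_neg h2, if_pos ⟨hi0, hjl⟩]
    · have h1 : ¬ (finRotate (k + 1)).symm i = j := by
        rw [hiff]
        intro h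
        apply hi0
        rw [← h, hrot]
      rw [if_neg h1]
      have h2 : ¬ (j : ℕ) + 1 = (i : ℕ) := by omega
      rw [if_neg h2, if_neg (fun h => hi0 h.1)]
  · have hjlast : j ≠ Fin.last k := by
      intro h
      apply hjl
      rw [h]
      simp
    have hrot : (finRotate (k + 1) j : ℕ) = (j : ℕ) + 1 := by
      rw [hval, if_neg hjlast]
    by_cases h2 : (j : ℕ) + 1 = (i : ℕ)
    · have h1 : (finRotate (k + 1)).symm i = j := by
        rw [hiff]
        apply Fin.ext
        rw [hrot, h2]
      rw [if_pos h1, h1, if_neg hjl, if_pos h2]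
    · have h1 : ¬ (finRotate (k + 1)).symm i = j := by
        rw [hiff]
        intro h
        apply h2
        rw [← h, hrot]
      rw [if_neg h1, if_neg h2, if_neg (fun h => hjl h.2)]

/-- product of the column scalars. -/
theorem orek1_prod (k : ℕ) (c : F) :
    (∏ j : Fin (k + 1), (if (j : ℕ) + 1 = k + 1 then c else (1 : F))) = c := by
  rw [Finset.prod_eq_single (Fin.last k)]
  · simp
  · intro j _ hj
    have : ¬ (j : ℕ) + 1 = k + 1 := by
      intro h
      apply hj
      apply Fin.ext
      simp only [Fin.val_last]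
      omega
    rw [if_neg this]
  · intro h
    exact absurd (Finset.mem_univ _) h

/-- **K1**.  The twisted shift `tshift n c` (`e_j ↦ e_(j+1)`, `e_(n-1) ↦ c e_0`) has
determinant `(-1)^(n+1) c`. -/
theorem det_tshift (n : ℕ) (hn : 1 ≤ n) (c : F) :
    (tshift n c).det = (-1) ^ (n + 1) * c := by
  obtain ⟨k, rfl⟩ : ∃ k, n = k + 1 := ⟨n - 1, by omega⟩
  rw [orek1_eq_submatrix, Matrix.det_permute, Matrix.det_diagonal, orek1_prod,
    Equiv.Perm.sign_symm, sign_finRotate]
  have : ((-1 : ℤˣ) ^ (k + 1 - 1) : ℤˣ) = (-1) ^ k := by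
    congr 1
  rw [this]
  have h2 : ((-1 : F)) ^ (k + 1 + 1) = (-1) ^ k := by
    rw [pow_add, pow_add]
    simp
  rw [h2]
  congr 1
  simp

end General

end Cfsg.Agent.Lib.Helper19.ORE
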