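import Mathlib
import Cfsg.Agent.Lib.Helper19.ORE.Defs

/-!
# Project ORE, row K2: `diag (μ^i)` normalises the twisted shift up to the scalar `μ`.
-/

set_option autoImplicit false

namespace Cfsg.Agent.Lib.Helper19.ORE

open Polynomial Module

universe u

section General
variable {F : Type u} [Field F]

/-- **K2**.  `diag (μ^i) * tshift = μ • (tshift * diag (μ^i))` if `μ^n = 1`;  entrywise. -/
theorem diag_tshift (n : ℕ) (c μ : F) (hμ : μ ^ n = 1) :
    Matrix.diagonal (fun i : Fin n => μ ^ (i : ℕ)) * tshift n c =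
      μ • (tshift n c * Matrix.diagonal (fun i : Fin n => μ ^ (i : ℕ))) := by
  ext i j
  rw [Matrix.diagonal_mul, Matrix.smul_apply, Matrix.mul_diagonal]
  simp only [tshift, smul_eq_mul]
  by_cases h1 : (j : ℕ) + 1 = (i : ℕ)
  · rw [if_pos h1, ← h1, pow_succ]
    ring
  · rw [if_neg h1]
    by_cases h2 : (i : ℕ) = 0 ∧ (j : ℕ) + 1 = n
    · rw [if_pos h2, h2.1, pow_zero, one_mul]
      have : μ * (c * μ ^ (j : ℕ)) = c * μ ^ ((j : ℕ) + 1) := by
        rw [pow_succ]
        ring
      rw [this, h2.2, hμ, mul_one]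
    · rw [if_neg h2]
      ring

end General

end Cfsg.Agent.Lib.Helper19.ORE
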