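import Mathlib
import Cfsg.Agent.Lib.Helper19.ORE.Defs
import Cfsg.Agent.Lib.Helper1.OREK1

/-!
# Project ORE, row K3: `det (a + b J) = (a² + b²)^m` for `J = (tshift (2m) (-1))^m`.
-/

set_option autoImplicit false

namespace Cfsg.Agent.Lib.Helper19.ORE

open Polynomial Module

universe u

section General
variable {F : Type u} [Field F]

/-- explicit powers of the twisted shift (`k ≤ n`). -/
theorem orek3_pow (n : ℕ) (c : F) (k : ℕ) (hk : k ≤ n) :
    (tshift n c) ^ k = Matrix.of (fun i j : Fin n =>
      if (j : ℕ) + k = (i : ℕ) then (1 : F) else if (j : ℕ) + k = (i : ℕ) + n then c else 0) := by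
  induction k with
  | zero =>
    ext i j
    rw [pow_zero, Matrix.one_apply, Matrix.of_apply]
    have hi := i.isLt
    have hj := j.isLt
    by_cases h : i = j
    · rw [if_pos h, if_pos (by rw [h]; rfl)]
    · rw [if_neg h]
      have h1 : ¬ (j : ℕ) + 0 = (i : ℕ) := by
        intro h'
        apply h
        apply Fin.ext
        omega
      have h2 : ¬ (j : ℕ) + 0 = (i : ℕ) + n := by omega
      rw [if_neg h1, if_neg h2]
  | succ k ih =>
    have ih' := ih (by omega)
    ext i j
    rw [pow_succ, ih', Matrix.mul_apply]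
    have hi := i.isLt
    have hj := j.isLt
    by_cases hjn : (j : ℕ) + 1 = n
    · -- only `l = 0` contributes
      have hn0 : 0 < n := by omega
      rw [Finset.sum_eq_single (⟨0, hn0⟩ : Fin n)]
      · simp only [tshift, Matrix.of_apply, true_and, and_true, if_true, if_false]
        split_ifs <;> first | (exfalso; omega) | simp
      · intro l _ hl
        have hl0 : (l : ℕ) ≠ 0 := by
          intro h
          apply hl
          apply Fin.ext
          exact h
        have hll := l.isLt
        simp only [tshift, Matrix.of_apply]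
        split_ifs <;> first | (exfalso; omega) | simp
      · intro h
        exact absurd (Finset.mem_univ _) h
    · -- only `l = j + 1` contributes
      have hj1 : (j : ℕ) + 1 < n := by omega
      rw [Finset.sum_eq_single (⟨(j : ℕ) + 1, hj1⟩ : Fin n)]
      · simp only [tshift, Matrix.of_apply, true_and, and_true, if_true, if_false]
        split_ifs <;> first | (exfalso; omega) | simp
      · intro l _ hl
        have hl0 : (l : ℕ) ≠ (j : ℕ) + 1 := by
          intro h
          apply hl
          apply Fin.ext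
          exact h
        have hll := l.isLt
        simp only [tshift, Matrix.of_apply]
        split_ifs <;> first | (exfalso; omega) | simp
      · intro h
        exact absurd (Finset.mem_univ _) h

/-- the explicit form of `J = (tshift (2m) (-1))^m`. -/
theorem orek3_J (m : ℕ) :
    (tshift (2 * m) (-1 : F)) ^ m = Matrix.of (fun i j : Fin (2 * m) =>
      if (j : ℕ) + m = (i : ℕ) then (1 : F) else if (i : ℕ) + m = (j : ℕ) then -1 else 0) := by
  rw [orek3_pow (2 * m) (-1 : F) m (by omega)]
  ext i j
  have e : ((j : ℕ) + m = (i : ℕ) + 2 * m) ↔ ((i : ℕ) + m = (j : ℕ)) := by omega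
  simp only [Matrix.of_apply, e]

/-- the reindexing `Fin m ⊕ Fin m ≃ Fin (2 m)`. -/
def orek3_e (m : ℕ) : Fin m ⊕ Fin m ≃ Fin (2 * m) :=
  finSumFinEquiv.trans (finCongr (two_mul m).symm)

theorem orek3_e_inl (m : ℕ) (i : Fin m) : ((orek3_e m (Sum.inl i) : Fin (2 * m)) : ℕ) = (i : ℕ) := by
  simp [orek3_e]

theorem orek3_e_inr (m : ℕ) (i : Fin m) :
    ((orek3_e m (Sum.inr i) : Fin (2 * m)) : ℕ) = m + (i : ℕ) := by
  simp [orek3_e, Nat.add_comm]

/-- block form of `a + b J`. -/
theorem orek3_blocks (m : ℕ) (a b : F) :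
    (a • (1 : Matrix (Fin (2 * m)) (Fin (2 * m)) F) + b • (tshift (2 * m) (-1)) ^ m).submatrix
        (orek3_e m) (orek3_e m) =
      Matrix.fromBlocks (a • (1 : Matrix (Fin m) (Fin m) F)) ((-b) • (1 : Matrix (Fin m) (Fin m) F))
        (b • (1 : Matrix (Fin m) (Fin m) F)) (a • (1 : Matrix (Fin m) (Fin m) F)) := by
  rw [orek3_J]
  ext i j
  rcases i with i | i <;> rcases j with j | j
  · -- inl inl
    have hi := i.isLt
    have hj := j.isLt
    simp only [Matrix.submatrix_apply, Matrix.add_apply, Matrix.smul_apply, Matrix.one_apply,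
      Matrix.of_apply, Matrix.fromBlocks_apply₁₁, smul_eq_mul, orek3_e_inl, Fin.ext_iff]
    split_ifs <;> first | (exfalso; omega) | ring
  · -- inl inr
    have hi := i.isLt
    have hj := j.isLt
    simp only [Matrix.submatrix_apply, Matrix.add_apply, Matrix.smul_apply, Matrix.one_apply,
      Matrix.of_apply, Matrix.fromBlocks_apply₁₂, smul_eq_mul, orek3_e_inl, orek3_e_inr,
      Fin.ext_iff]
    split_ifs <;> first | (exfalso; omega) | ring
  · -- inr inl
    have hi := i.isLt
    have hj := j.isLt
    simp only [Matrix.submatrix_apply, Matrix.add_apply, Matrix.smul_apply, Matrix.one_apply,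
      Matrix.of_apply, Matrix.fromBlocks_apply₂₁, smul_eq_mul, orek3_e_inl, orek3_e_inr,
      Fin.ext_iff]
    split_ifs <;> first | (exfalso; omega) | ring
  · -- inr inr
    have hi := i.isLt
    have hj := j.isLt
    simp only [Matrix.submatrix_apply, Matrix.add_apply, Matrix.smul_apply, Matrix.one_apply,
      Matrix.of_apply, Matrix.fromBlocks_apply₂₂, smul_eq_mul, orek3_e_inr, Fin.ext_iff]
    split_ifs <;> first | (exfalso; omega) | ring

/-- **K3**.  For `n = 2 m`, `J := (tshift n (-1))^m` is `e_i ↦ e_(i+m)`, `e_(i+m) ↦ -e_i`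
(`i < m`), so `a + b J` has determinant `(a² + b²)^m`. -/
theorem det_add_J (m : ℕ) (a b : F) :
    (a • (1 : Matrix (Fin (2 * m)) (Fin (2 * m)) F) + b • (tshift (2 * m) (-1)) ^ m).det =
      (a ^ 2 + b ^ 2) ^ m := by
  rw [← Matrix.det_submatrix_equiv_self (orek3_e m), orek3_blocks]
  by_cases ha : a = 0
  · -- antidiagonal blocks: use the lower-left / upper-right swap through `fromBlocks` algebra
    subst ha
    -- `fromBlocks 0 (-b) b 0 = fromBlocks (-b) 0 0 b * fromBlocks 0 1 1 0`-type identities are
    -- awkward; instead go back to `b • J`.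
    rw [← orek3_blocks, Matrix.det_submatrix_equiv_self]
    rw [zero_smul, zero_add, Matrix.det_smul, Matrix.det_pow]
    rcases Nat.eq_zero_or_pos m with hm | hm
    · subst hm
      simp
    · rw [det_tshift (2 * m) (by omega)]
      have h1 : ((-1 : F)) ^ (2 * m + 1) * (-1) = 1 := by
        rw [pow_succ, pow_mul]
        simp
      rw [h1, one_pow, mul_one, Fintype.card_fin, pow_mul]
      ring
  · haveI : Invertible (a • (1 : Matrix (Fin m) (Fin m) F)) :=
      invertibleOfRightInverse _ (a⁻¹ • (1 : Matrix (Fin m) (Fin m) F)) (by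
        rw [Matrix.smul_mul, Matrix.mul_smul, Matrix.mul_one, smul_smul, mul_inv_cancel₀ ha,
          one_smul])
    rw [Matrix.det_fromBlocks₁₁]
    have hinv : ⅟ (a • (1 : Matrix (Fin m) (Fin m) F)) = a⁻¹ • (1 : Matrix (Fin m) (Fin m) F) := by
      apply invOf_eq_right_inv
      rw [Matrix.smul_mul, Matrix.mul_smul, Matrix.mul_one, smul_smul, mul_inv_cancel₀ ha,
        one_smul]
    rw [hinv]
    have hS : a • (1 : Matrix (Fin m) (Fin m) F) -
        b • (1 : Matrix (Fin m) (Fin m) F) * a⁻¹ • (1 : Matrix (Fin m) (Fin m) F) *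
          (-b) • (1 : Matrix (Fin m) (Fin m) F) =
        (a + b * a⁻¹ * b) • (1 : Matrix (Fin m) (Fin m) F) := by
      simp only [Matrix.smul_mul, Matrix.mul_smul, Matrix.mul_one, Matrix.one_mul, smul_smul]
      rw [← sub_smul]
      congr 1
      ring
    rw [hS, Matrix.det_smul, Matrix.det_smul, Matrix.det_one, mul_one, mul_one, Fintype.card_fin,
      ← mul_pow]
    congr 1
    field_simp

end General

end Cfsg.Agent.Lib.Helper19.ORE
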