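import Mathlib
import Cfsg.Agent.Lib.Helper19.ORE.Defs
import Cfsg.Agent.Lib.Helper1.OREK1
import Cfsg.Agent.Lib.Helper1.OREK2
import Cfsg.Agent.Lib.Helper1.OREK3

/-!
# Project ORE, row K4 (Part S): scalar matrices of `SL_n(F)`, `F` finite, are commutators.
-/

set_option autoImplicit false

namespace Cfsg.Agent.Lib.Helper19.ORE

open Polynomial Module

universe u

section General
variable {F : Type u} [Field F]

/-- every element of a finite field is a sum of two squares. -/
theorem orek4_sq_add_sq [Fintype F] (x : F) : ∃ a b : F, a ^ 2 + b ^ 2 = x := by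
  by_cases h2 : ringChar F = 2
  · obtain ⟨r, hr⟩ := FiniteField.isSquare_of_char_two h2 x
    exact ⟨r, 0, by rw [hr]; ring⟩
  · have hodd := FiniteField.odd_card_of_char_ne_two h2
    obtain ⟨a, b, hab⟩ := FiniteField.exists_root_sum_quadratic (f := (X : F[X]) ^ 2)
      (g := (X : F[X]) ^ 2 - C x) (degree_X_pow 2) (degree_X_pow_sub_C (by decide) _) hodd
    refine ⟨a, b, ?_⟩
    simp only [eval_pow, eval_X, eval_sub, eval_C] at hab
    linear_combination hab

/-- the group-theoretic core: `y A = A g y` gives `g = [A⁻¹, y]`. -/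
theorem orek4_comm {G : Type*} [Group G] (A g y : G) (h : y * A = A * g * y) :
    g = A⁻¹ * y * A⁻¹⁻¹ * y⁻¹ := by
  rw [inv_inv, mul_assoc A⁻¹ y A, h]
  group

/-- determinant of `diag (μ^i)`. -/
theorem orek4_det_diag (n : ℕ) (μ : F) :
    (Matrix.diagonal (fun i : Fin n => μ ^ (i : ℕ))).det = μ ^ (∑ i ∈ Finset.range n, i) := by
  rw [Matrix.det_diagonal, Finset.prod_pow_eq_pow_sum, Fin.sum_univ_eq_sum_range (fun i => i) n]

/-- **K4** (Part S). scalar matrices in `SL_n(F)` are commutators. -/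
theorem scalar_comm [Fintype F] (n : ℕ) (hn : 1 ≤ n) (g : Matrix.SpecialLinearGroup (Fin n) F)
    (μ : F) (hg : (g : Matrix (Fin n) (Fin n) F) = μ • 1) :
    ∃ a b : Matrix.SpecialLinearGroup (Fin n) F, g = a * b * a⁻¹ * b⁻¹ := by
  -- `μ ^ n = 1`
  have hμ : μ ^ n = 1 := by
    have h1 := g.det_coe
    rw [hg, Matrix.det_smul, Matrix.det_one, mul_one, Fintype.card_fin] at h1
    exact h1
  -- the shift
  have hdetA : (tshift n ((-1 : F) ^ (n + 1))).det = 1 := by
    rw [det_tshift n hn, ← pow_add]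
    have : n + 1 + (n + 1) = 2 * (n + 1) := by ring
    rw [this, pow_mul]
    simp
  let Abar : Matrix.SpecialLinearGroup (Fin n) F := ⟨tshift n ((-1 : F) ^ (n + 1)), hdetA⟩
  -- it suffices to find `y` of determinant one with `y A = μ A y`
  suffices hy : ∃ y : Matrix (Fin n) (Fin n) F, y.det = 1 ∧
      y * tshift n ((-1 : F) ^ (n + 1)) = μ • (tshift n ((-1 : F) ^ (n + 1)) * y) by
    obtain ⟨y, hdy, hyA⟩ := hy
    let ybar : Matrix.SpecialLinearGroup (Fin n) F := ⟨y, hdy⟩
    refine ⟨Abar⁻¹, ybar, ?_⟩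
    apply orek4_comm
    apply Subtype.ext
    simp only [Matrix.SpecialLinearGroup.coe_mul]
    change y * tshift n ((-1 : F) ^ (n + 1)) = tshift n ((-1 : F) ^ (n + 1)) * (g : Matrix (Fin n) (Fin n) F) * y
    rw [hyA, hg, Matrix.mul_smul, Matrix.mul_one, Matrix.smul_mul]
  -- the diagonal matrix
  have hy0 := diag_tshift n ((-1 : F) ^ (n + 1)) μ hμ
  have hS2 := Finset.sum_range_id_mul_two n
  rcases Nat.even_or_odd' n with ⟨m, hm | hm⟩
  · -- `n = 2 m`
    subst hm
    obtain ⟨a, b, hab⟩ := orek4_sq_add_sq μ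
    have hc : ((-1 : F)) ^ (2 * m + 1) = -1 := by
      rw [pow_succ, pow_mul]
      simp
    rw [hc] at hy0 ⊢
    refine ⟨Matrix.diagonal (fun i : Fin (2 * m) => μ ^ (i : ℕ)) *
      (a • (1 : Matrix (Fin (2 * m)) (Fin (2 * m)) F) + b • (tshift (2 * m) (-1)) ^ m), ?_, ?_⟩
    · rw [Matrix.det_mul, det_add_J, orek4_det_diag, hab, ← pow_add]
      have hsum : (∑ i ∈ Finset.range (2 * m), i) + m = (2 * m) * m := by
        have h1 : 1 ≤ 2 * m := hn
        have h2 : (2 * m) * (2 * m - 1) = (2 * m) * (2 * m) - 2 * m := by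
          rw [Nat.mul_sub, mul_one]
        have h3 : 2 * m ≤ (2 * m) * (2 * m) := Nat.le_mul_of_pos_right _ (by omega)
        have h4 : (2 * m) * (2 * m) = ((2 * m) * m) * 2 := by ring
        omega
      rw [hsum, pow_mul, hμ, one_pow]
    · have hcomm : (a • (1 : Matrix (Fin (2 * m)) (Fin (2 * m)) F) + b • (tshift (2 * m) (-1)) ^ m) *
          tshift (2 * m) (-1) = tshift (2 * m) (-1) *
          (a • (1 : Matrix (Fin (2 * m)) (Fin (2 * m)) F) + b • (tshift (2 * m) (-1)) ^ m) := by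
        rw [add_mul, mul_add, Matrix.smul_mul, Matrix.mul_smul, Matrix.smul_mul, Matrix.mul_smul,
          Matrix.one_mul, Matrix.mul_one, ← pow_succ, ← pow_succ']
      rw [Matrix.mul_assoc, hcomm, ← Matrix.mul_assoc, hy0, Matrix.smul_mul, Matrix.mul_assoc]
  · -- `n = 2 m + 1`
    subst hm
    refine ⟨Matrix.diagonal (fun i : Fin (2 * m + 1) => μ ^ (i : ℕ)), ?_, hy0⟩
    rw [orek4_det_diag]
    have hsum : (∑ i ∈ Finset.range (2 * m + 1), i) = (2 * m + 1) * m := by
      have h4 : (2 * m + 1) * (2 * m + 1 - 1) = ((2 * m + 1) * m) * 2 := by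
        rw [Nat.add_sub_cancel]
        ring
      omega
    rw [hsum, pow_mul, hμ, one_pow]

end General

end Cfsg.Agent.Lib.Helper19.ORE
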