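import Mathlib
import Cfsg.Prelude.Def_GeometricClasses
import Cfsg.Agent.Lib.Helper19.OU.Defs

set_option autoImplicit false
set_option linter.unusedVariables false
set_option linter.unusedSectionVars false

namespace Cfsg.Agent.Lib.Helper19.OU

open Matrix Cfsg.Agent.Lib.Helper28.HForm Cfsg.Agent.Lib.Helper28.OGen
  Cfsg.Agent.Lib.Helper28.OMax Cfsg.Agent.Lib.Helper28.OQ Cfsg.Agent.Lib.Helper28.OMax2
  Cfsg.Agent.Lib.Helper28.OIwa Cfsg.Agent.Lib.Helper28.OPair

variable {n : ℕ} {F : Type*} [Field F] {Q : (Fin n → F) → F}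
  {f : (Fin n → F) → (Fin n → F) → F} {θ : Matrix (Fin n) (Fin n) F} {t N : F}
  {G M : Subgroup (Matrix.GeneralLinearGroup (Fin n) F)}

theorem ounorm_not_scalar (hn : 0 < n) (ks : KS Q f θ t N) (a : F) :
    θ ≠ a • (1 : Matrix (Fin n) (Fin n) F) := by
  intro h
  have hne : Nonempty (Fin n) := ⟨⟨0, hn⟩⟩
  have h1ne : (1 : Matrix (Fin n) (Fin n) F) ≠ 0 := one_ne_zero
  have hsq := ks.sq
  rw [h, Matrix.smul_mul, Matrix.mul_smul, Matrix.mul_one] at hsq
  have h2 : (a * a - t * a + N) • (1 : Matrix (Fin n) (Fin n) F) = 0 := by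
    have : a • a • (1 : Matrix (Fin n) (Fin n) F) - (t • a • (1 : Matrix (Fin n) (Fin n) F)
        - N • (1 : Matrix (Fin n) (Fin n) F)) = 0 := sub_eq_zero.2 hsq
    rw [← this]
    module
  rcases smul_eq_zero.1 h2 with h3 | h3
  · exact ks.irr a h3
  · exact h1ne h3

theorem norm_iff (ks : KS Q f θ t N) (K : Subalgebra F (Matrix (Fin n) (Fin n) F))
    (hspan : ∀ m : Matrix (Fin n) (Fin n) F, m ∈ K ↔
      ∃ a b : F, m = a • (1 : Matrix (Fin n) (Fin n) F) + b • θ)
    (g : Matrix.GeneralLinearGroup (Fin n) F) :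
    g ∈ Cfsg.Geo.subalgebraNormalizer K ↔
      ∃ a b : F, (g : Matrix (Fin n) (Fin n) F) * θ *
        ((g⁻¹ : Matrix.GeneralLinearGroup (Fin n) F) : Matrix (Fin n) (Fin n) F) =
          a • (1 : Matrix (Fin n) (Fin n) F) + b • θ := by
  have hθK : θ ∈ K := (hspan θ).2 ⟨0, 1, by rw [zero_smul, zero_add, one_smul]⟩
  constructor
  · intro hg
    exact (hspan _).1 ((hg θ).1 hθK)
  · rintro ⟨a, b, hab⟩
    rcases Nat.eq_zero_or_pos n with hn | hn
    · subst hn
      intro k
      have e : (g : Matrix (Fin 0) (Fin 0) F) * k *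
          ((g⁻¹ : Matrix.GeneralLinearGroup (Fin 0) F) : Matrix (Fin 0) (Fin 0) F) = k :=
        Subsingleton.elim _ _
      rw [e]
    · set gm : Matrix (Fin n) (Fin n) F := (g : Matrix (Fin n) (Fin n) F) with hgm
      set gi : Matrix (Fin n) (Fin n) F :=
        ((g⁻¹ : Matrix.GeneralLinearGroup (Fin n) F) : Matrix (Fin n) (Fin n) F) with hgi
      have h1 : gm * gi = 1 := Units.mul_inv g
      have h2 : gi * gm = 1 := Units.inv_mul g
      have hb : b ≠ 0 := by
        intro hb0
        rw [hb0, zero_smul, add_zero] at hab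
        have h3 : θ = gi * (gm * θ * gi) * gm := by
          rw [← Matrix.mul_assoc, ← Matrix.mul_assoc, h2, Matrix.one_mul, Matrix.mul_assoc, h2,
            Matrix.mul_one]
        rw [hab, Matrix.mul_smul, Matrix.mul_one, Matrix.smul_mul, h2] at h3
        exact ounorm_not_scalar hn ks a h3
      have hinv : gi * θ * gm = b⁻¹ • (θ - a • (1 : Matrix (Fin n) (Fin n) F)) := by
        have h3 : θ = gi * (gm * θ * gi) * gm := by
          rw [← Matrix.mul_assoc, ← Matrix.mul_assoc, h2, Matrix.one_mul, Matrix.mul_assoc, h2,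
            Matrix.mul_one]
        rw [hab, Matrix.mul_add, Matrix.add_mul, Matrix.mul_smul, Matrix.mul_one, Matrix.smul_mul, h2,
          Matrix.mul_smul, Matrix.smul_mul] at h3
        have h4 : gi * θ * gm = b⁻¹ • (b • (gi * θ * gm)) := by
          rw [smul_smul, inv_mul_cancel₀ hb, one_smul]
        have h5 : b • (gi * θ * gm) = θ - a • (1 : Matrix (Fin n) (Fin n) F) := by
          rw [eq_sub_iff_add_eq, add_comm]
          exact h3.symm
        rw [h4, h5]
      intro k
      constructor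
      · intro hk
        obtain ⟨c, d, rfl⟩ := (hspan k).1 hk
        rw [hspan]
        refine ⟨c + d * a, d * b, ?_⟩
        rw [Matrix.mul_add, Matrix.add_mul, Matrix.mul_smul, Matrix.mul_one, Matrix.smul_mul, h1,
          Matrix.mul_smul, Matrix.smul_mul, hab]
        module
      · intro hk
        obtain ⟨c, d, hcd⟩ := (hspan _).1 hk
        have h3 : k = gi * (gm * k * gi) * gm := by
          rw [← Matrix.mul_assoc, ← Matrix.mul_assoc, h2, Matrix.one_mul, Matrix.mul_assoc, h2,
            Matrix.mul_one]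
        rw [hspan]
        refine ⟨c - d * b⁻¹ * a, d * b⁻¹, ?_⟩
        rw [h3, hcd, Matrix.mul_add, Matrix.add_mul, Matrix.mul_smul, Matrix.mul_one, Matrix.smul_mul,
          h2, Matrix.mul_smul, Matrix.smul_mul, hinv]
        module

end Cfsg.Agent.Lib.Helper19.OU
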