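import Mathlib
import Cfsg.Prelude.Def_GeometricClasses
import Cfsg.Agent.Lib.Helper19.OU.Defs
import Cfsg.Agent.Lib.Helper20.OURHO

set_option autoImplicit false
set_option linter.unusedVariables false
set_option linter.unusedSectionVars false

namespace Cfsg.Agent.Lib.Helper19.OU

open Matrix Cfsg.Agent.Lib.Helper28.HForm Cfsg.Agent.Lib.Helper28.OGen
  Cfsg.Agent.Lib.Helper28.OMax Cfsg.Agent.Lib.Helper28.OQ Cfsg.Agent.Lib.Helper28.OMax2
  Cfsg.Agent.Lib.Helper28.OIwa Cfsg.Agent.Lib.Helper28.OPair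

variable {n : ℕ} {F : Type*} [Field F] {Q : (Fin n → F) → F}
  {f : (Fin n → F) → (Fin n → F) → F} {θ : Matrix (Fin n) (Fin n) F} {t N : F}
  {G M : Subgroup (Matrix.GeneralLinearGroup (Fin n) F)}

theorem ourssub_rho_self (hq : QF Q f) {u : Fin n → F} (hu : Q u = 0) (c : F) (x : Fin n → F) :
    Rho Q f u (c • u) x = x := by
  unfold Rho
  rw [hq.smul, hu, hq.sym.smul_left]
  module

theorem ourssub_isRho_ext {g g' : Matrix.GeneralLinearGroup (Fin n) F} {u y : Fin n → F}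
    (hg : IsRho Q f g u y) (hg' : IsRho Q f g' u y) : g = g' :=
  gl_ext g g' (fun x => by rw [hg x, hg' x])

theorem rs_self (hq : QF Q f) {u : Fin n → F} (hu : Q u = 0) : u ∈ RS Q f M u := by
  refine ⟨f_sing hq hu, fun c g hg => ?_⟩
  have h1 : g = 1 := by
    apply gl_ext
    intro x
    rw [hg x, ourssub_rho_self hq hu, Units.val_one, Matrix.one_mulVec]
  rw [h1]
  exact M.one_mem

theorem rs_add (hq : QF Q f) (vf : VFacts Q f) (hG : SgGroupQ Q f G) {u y y' : Fin n → F}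
    (hu : Q u = 0) (hu0 : u ≠ 0) (hy : y ∈ RS Q f M u) (hy' : y' ∈ RS Q f M u) :
    y + y' ∈ RS Q f M u := by
  have hf := hq.sym
  refine ⟨by rw [f_add_right hf, hy.1, hy'.1, add_zero], fun c g hg => ?_⟩
  have e1 : f u (c • y) = 0 := by rw [s_smul_right hf, hy.1, mul_zero]
  have e2 : f u (c • y') = 0 := by rw [s_smul_right hf, hy'.1, mul_zero]
  obtain ⟨g1, -, hg1⟩ := rho_ex hq vf hG hu hu0 (c • y) e1
  obtain ⟨g2, -, hg2⟩ := rho_ex hq vf hG hu hu0 (c • y') e2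
  have h12 : IsRho Q f (g1 * g2) u (c • y + c • y') := rho_mul hq hu e1 e2 hg1 hg2
  rw [← smul_add] at h12
  rw [ourssub_isRho_ext hg h12]
  exact M.mul_mem (hy.2 c g1 hg1) (hy'.2 c g2 hg2)

theorem rs_smul (hq : QF Q f) {u y : Fin n → F} (a : F) (hy : y ∈ RS Q f M u) :
    a • y ∈ RS Q f M u := by
  have hf := hq.sym
  refine ⟨by rw [s_smul_right hf, hy.1, mul_zero], fun c g hg => ?_⟩
  rw [smul_smul] at hg
  exact hy.2 (c * a) g hg

theorem rs_neg (hq : QF Q f) {u y : Fin n → F} (hy : y ∈ RS Q f M u) : -y ∈ RS Q f M u := by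
  have := rs_smul (M := M) hq (-1 : F) hy
  rwa [neg_one_smul] at this

theorem rs_sub (hq : QF Q f) (vf : VFacts Q f) (hG : SgGroupQ Q f G) {u y y' : Fin n → F}
    (hu : Q u = 0) (hu0 : u ≠ 0) (hy : y ∈ RS Q f M u) (hy' : y' ∈ RS Q f M u) :
    y - y' ∈ RS Q f M u := by
  rw [sub_eq_add_neg]
  exact rs_add hq vf hG hu hu0 hy (rs_neg hq hy')

theorem rs_conj (hq : QF Q f) (hG : SgGroupQ Q f G) (hM : M ≤ G)
    {k : Matrix.GeneralLinearGroup (Fin n) F} (hk : k ∈ M) {u y : Fin n → F}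
    (hy : y ∈ RS Q f M u) :
    (k : Matrix (Fin n) (Fin n) F) *ᵥ y ∈ RS Q f M ((k : Matrix (Fin n) (Fin n) F) *ᵥ u) := by
  have hkQ : ∀ x, Q ((k : Matrix (Fin n) (Fin n) F) *ᵥ x) = Q x := hG.iso k (hM hk)
  have hkiQ : ∀ x, Q (((k⁻¹ : Matrix.GeneralLinearGroup (Fin n) F) :
      Matrix (Fin n) (Fin n) F) *ᵥ x) = Q x := hG.iso k⁻¹ (hM (M.inv_mem hk))
  refine ⟨by rw [iso_f hq k hkQ]; exact hy.1, fun c g hg => ?_⟩
  have h1 := rho_conj hq hkiQ hg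
  rw [Cfsg.Agent.S5643.inv_mv, Matrix.mulVec_smul, Cfsg.Agent.S5643.inv_mv, inv_inv] at h1
  have h2 : k⁻¹ * g * k ∈ M := hy.2 c _ h1
  have h3 : g = k * (k⁻¹ * g * k) * k⁻¹ := by group
  rw [h3]
  exact M.mul_mem (M.mul_mem hk h2) (M.inv_mem hk)

theorem rs_conj_fix (hq : QF Q f) (vf : VFacts Q f) (hG : SgGroupQ Q f G) (hM : M ≤ G)
    {k : Matrix.GeneralLinearGroup (Fin n) F} (hk : k ∈ M) {u y : Fin n → F}
    (hu : Q u = 0) (hu0 : u ≠ 0) (hku : (k : Matrix (Fin n) (Fin n) F) *ᵥ u = u)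
    (hy : y ∈ RS Q f M u) : (k : Matrix (Fin n) (Fin n) F) *ᵥ y - y ∈ RS Q f M u := by
  have h1 := rs_conj hq hG hM hk hy
  rw [hku] at h1
  exact rs_sub hq vf hG hu hu0 h1 hy

theorem rs_iff_sro (hq : QF Q f) {u y : Fin n → F} (hy : Q y = 0) (huy : f u y = 0) :
    y ∈ RS Q f M u ↔ SRO f M u y := by
  constructor
  · intro h c g hg
    exact h.2 c g ((rho_sg hq c hy).2 hg)
  · intro h
    exact ⟨huy, fun c g hg => h c g ((rho_sg hq c hy).1 hg)⟩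

theorem rs_symm (hq : QF Q f) {u y : Fin n → F} (hu : Q u = 0) (hy : Q y = 0)
    (h : y ∈ RS Q f M u) : u ∈ RS Q f M y := by
  have hf := hq.sym
  refine ⟨by rw [s_symm hf]; exact h.1, fun c g hg => ?_⟩
  have h1 : IsSg f g y u c := (rho_sg hq c hu).1 hg
  have h2 : IsSg f g u y (-c) := isSg_swap h1
  exact h.2 (-c) g ((rho_sg hq (-c) hy).2 h2)

theorem rs_tv (hq : QF Q f) (hG : SgGroupQ Q f G) {u y : Fin n → F} (hu : Q u = 0) (hy : Q y = 0)
    (h : y ∈ RS Q f M u) (c : F) : ∃ g ∈ M, IsSg f g u y c := by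
  obtain ⟨g, hg⟩ := hG.ex u y c hu hy h.1
  exact ⟨g, h.2 c g ((rho_sg hq c hy).2 hg), hg⟩

end Cfsg.Agent.Lib.Helper19.OU
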