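import Mathlib
import Cfsg.Prelude.Def_GeometricClasses
import Cfsg.Agent.Lib.Helper19.OU.Defs
import Cfsg.Agent.Lib.Helper1.OURSSUB
import Cfsg.Agent.Lib.Helper20.OUKLIN
import Cfsg.Agent.Lib.Helper13.OUFORM
import Cfsg.Agent.Lib.helper2.OUEXSP
import Cfsg.Agent.Lib.Helper11.OUSPRA

set_option autoImplicit false
set_option linter.unusedVariables false
set_option linter.unusedSectionVars false

namespace Cfsg.Agent.Lib.Helper19.OU

open Matrix Cfsg.Agent.Lib.Helper28.HForm Cfsg.Agent.Lib.Helper28.OGen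
  Cfsg.Agent.Lib.Helper28.OMax Cfsg.Agent.Lib.Helper28.OQ Cfsg.Agent.Lib.Helper28.OMax2
  Cfsg.Agent.Lib.Helper28.OIwa Cfsg.Agent.Lib.Helper28.OPair

variable {n : ℕ} {F : Type*} [Field F] {Q : (Fin n → F) → F}
  {f : (Fin n → F) → (Fin n → F) → F} {θ : Matrix (Fin n) (Fin n) F} {t N : F}
  {G M : Subgroup (Matrix.GeneralLinearGroup (Fin n) F)}

theorem ouprop1_zero_mem_kl (θ : Matrix (Fin n) (Fin n) F) (u : Fin n → F) :
    (0 : Fin n → F) ∈ Kl θ u := Submodule.zero_mem _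

theorem ouprop1_step [Fintype F] (hn : 11 ≤ n) (ks : KS Q f θ t N) (am : Amb Q f θ G M)
    {x y : Fin n → F} (hx : Q x = 0) (hx0 : x ≠ 0) (hy : Q y = 0) (hxy : HO f θ x y)
    (hyx : y ∉ Kl θ x) (h : Full1 Q f θ M x) : Full1 Q f θ M y := by
  have hy0 : y ≠ 0 := by
    intro h0
    exact hyx (h0 ▸ ouprop1_zero_mem_kl θ x)
  have hyR : y ∈ RS Q f M x := h y hy hxy
  have hxR : x ∈ RS Q f M y := rs_symm ks.hq hx hy hyR
  have hxk : x ∉ Kl θ y := fun hmem => hyx (kl_symm ks hx0 hmem)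
  exact spread_A hn ks am hy hy0 hx (ho_symm ks hxy) hxk hxR

theorem all_full1 [Fintype F] (hn : 11 ≤ n) (ks : KS Q f θ t N) (am : Amb Q f θ G M)
    {u₀ : Fin n → F} (hu : Q u₀ = 0) (hu0 : u₀ ≠ 0) (h : Full1 Q f θ M u₀) :
    ∀ x, Q x = 0 → x ≠ 0 → Full1 Q f θ M x := by
  intro x hx hx0
  have hS : 2 * Module.finrank F (Kl θ u₀ ⊔ Kl θ x : Submodule F (Fin n → F)) + 3 ≤ n := by
    have := kl_sup_finrank_le θ u₀ x
    omega
  obtain ⟨w, hw, hperp, hwS⟩ := ex_sing_perp ks.hq (Kl θ u₀ ⊔ Kl θ x) hS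
  have hw0 : w ≠ 0 := by
    intro h0
    exact hwS (h0 ▸ Submodule.zero_mem _)
  have hwu : w ∉ Kl θ u₀ := fun hmem => hwS (Submodule.mem_sup_left hmem)
  have hwx : w ∉ Kl θ x := fun hmem => hwS (Submodule.mem_sup_right hmem)
  have hou : HO f θ u₀ w := ho_of_perp ks (Kl θ u₀ ⊔ Kl θ x) le_sup_left hperp
  have hox : HO f θ x w := ho_of_perp ks (Kl θ u₀ ⊔ Kl θ x) le_sup_right hperp
  have hFw : Full1 Q f θ M w := ouprop1_step hn ks am hu hu0 hw hou hwu h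
  have hxw : x ∉ Kl θ w := fun hmem => hwx (kl_symm ks hx0 hmem)
  exact ouprop1_step hn ks am hw hw0 hx (ho_symm ks hox) hxw hFw

end Cfsg.Agent.Lib.Helper19.OU
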