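import Mathlib
import Cfsg.Agent.Lib.Helper24.P2P.Defs
import Cfsg.Agent.Lib.Helper25.CharBasic
import Cfsg.Agent.Lib.Helper25.CharBound
import Cfsg.Agent.Lib.Helper25.CharLinear

set_option autoImplicit false
set_option linter.unusedVariables false
set_option linter.unusedSectionVars false
set_option linter.style.haveILetI false
open scoped ComplexConjugate
open Classical

namespace Cfsg.Agent.Lib.Helper24.P2P

open MulAction Cfsg.Agent.Lib.helper6.PermChar Cfsg.Agent.Lib.Lead.W2P Cfsg.Agent.Lib.Helper25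

universe u v

section generic

variable {G : Type u} [Group G] [Fintype G]

theorem p2pvals_sum_zero (χ : Cfsg.IrrCharacter G) (hne : χ ≠ trivIrr G) :
    ∑ g : G, (χ : G → ℂ) g = 0 := by
  have h := irr_classInner χ (trivIrr G)
  rw [if_neg hne] at h
  unfold Cfsg.classInner at h
  have hcard : (Nat.card G : ℂ) ≠ 0 := by
    exact_mod_cast Nat.card_pos.ne'
  rcases mul_eq_zero.mp h with h0 | h0
  · exact absurd (inv_eq_zero.mp h0) hcard
  · simpa using h0

theorem p2pvals_sum_sq (χ : Cfsg.IrrCharacter G) :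
    ∑ g : G, (χ : G → ℂ) g * conj ((χ : G → ℂ) g) = (Nat.card G : ℂ) := by
  have h := irr_classInner χ χ
  rw [if_pos rfl] at h
  unfold Cfsg.classInner at h
  have hcard : (Nat.card G : ℂ) ≠ 0 := by
    exact_mod_cast Nat.card_pos.ne'
  field_simp at h
  exact h

theorem p2pvals_T_nonneg (P n : ℤ) (hn : n ≤ P - 1) : 0 ≤ (n - 1) * n * (P - 1 - n) := by
  have h1 : 0 ≤ (n - 1) * n := by
    rcases le_or_gt n 0 with h | h
    · nlinarith
    · nlinarith
  have h2 : 0 ≤ P - 1 - n := by linarith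
  exact mul_nonneg h1 h2

theorem values_of_moment (p : ℕ) (hp : p.Prime) (hp3 : 3 < p) (χ : Cfsg.IrrCharacter G)
    (hdeg : (χ : G → ℂ) 1 = (p : ℂ) - 1)
    (hint : ∀ g : G, ∃ n : ℤ, (χ : G → ℂ) g = (n : ℂ))
    (hsing : ∀ g : G, p ∣ orderOf g → (χ : G → ℂ) g = -1)
    (hcount : 2 * p * Nat.card {g : G // p ∣ orderOf g} = (p - 1) * Nat.card G)
    (hne : χ ≠ trivIrr G)
    (m : ℕ) (hcube : ∑ g : G, (χ : G → ℂ) g ^ 3 = (Nat.card G : ℂ) * (1 + (m : ℂ))) :
    ∀ g : G, ¬ p ∣ orderOf g →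
      (χ : G → ℂ) g = 0 ∨ (χ : G → ℂ) g = 1 ∨ (χ : G → ℂ) g = (p : ℂ) - 1 := by
  choose n hn using hint
  have hsum1 : ∑ g : G, n g = 0 := by
    have h := p2pvals_sum_zero χ hne
    simp only [hn] at h
    exact_mod_cast h
  have hsum2 : ∑ g : G, (n g) ^ 2 = (Nat.card G : ℤ) := by
    have h := p2pvals_sum_sq χ
    simp only [hn, map_intCast] at h
    have h' : ((∑ g : G, (n g) ^ 2 : ℤ) : ℂ) = ((Nat.card G : ℤ) : ℂ) := by
      push_cast
      rw [← h]
      apply Finset.sum_congr rfl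
      intro g _
      ring
    exact_mod_cast h'
  have hsum3 : ∑ g : G, (n g) ^ 3 = (Nat.card G : ℤ) * (1 + (m : ℤ)) := by
    simp only [hn] at hcube
    have h' : ((∑ g : G, (n g) ^ 3 : ℤ) : ℂ) = (((Nat.card G : ℤ) * (1 + (m : ℤ)) : ℤ) : ℂ) := by
      push_cast
      rw [← hcube]
    exact_mod_cast h'
  have hp1 : 1 ≤ p := by omega
  have hT : ∑ g : G, ((n g - 1) * n g * ((p : ℤ) - 1 - n g)) =
      (Nat.card G : ℤ) * ((p : ℤ) - 1 - (m : ℤ)) := by
    have e : ∀ g : G, (n g - 1) * n g * ((p : ℤ) - 1 - n g) =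
        -(n g) ^ 3 + (p : ℤ) * (n g) ^ 2 - ((p : ℤ) - 1) * n g := by
      intro g
      ring
    simp only [e]
    rw [Finset.sum_sub_distrib, Finset.sum_add_distrib, Finset.sum_neg_distrib,
      ← Finset.mul_sum, ← Finset.mul_sum, hsum1, hsum2, hsum3]
    ring
  have hsplit := Finset.sum_filter_add_sum_filter_not (Finset.univ : Finset G)
    (fun g => p ∣ orderOf g) (fun g => (n g - 1) * n g * ((p : ℤ) - 1 - n g))
  have hnsing : ∀ g : G, p ∣ orderOf g → n g = -1 := by
    intro g hg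
    have h := hsing g hg
    rw [hn g] at h
    exact_mod_cast h
  have hs1 : ∑ g ∈ Finset.univ.filter (fun g : G => p ∣ orderOf g),
      ((n g - 1) * n g * ((p : ℤ) - 1 - n g)) =
      2 * (p : ℤ) * (Nat.card {g : G // p ∣ orderOf g} : ℤ) := by
    have e : ∀ g ∈ Finset.univ.filter (fun g : G => p ∣ orderOf g),
        (n g - 1) * n g * ((p : ℤ) - 1 - n g) = 2 * (p : ℤ) := by
      intro g hg
      rw [Finset.mem_filter] at hg
      rw [hnsing g hg.2]
      ring
    rw [Finset.sum_congr rfl e, Finset.sum_const, Nat.card_eq_fintype_card,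
      Fintype.card_subtype]
    simp only [nsmul_eq_mul]
    ring
  have hcountZ : 2 * (p : ℤ) * (Nat.card {g : G // p ∣ orderOf g} : ℤ) =
      ((p : ℤ) - 1) * (Nat.card G : ℤ) := by
    have := congrArg (fun x : ℕ => (x : ℤ)) hcount
    simp only [Nat.cast_mul, Nat.cast_ofNat, Nat.cast_sub hp1, Nat.cast_one] at this
    exact this
  have hreg : ∑ g ∈ Finset.univ.filter (fun g : G => ¬ p ∣ orderOf g),
      ((n g - 1) * n g * ((p : ℤ) - 1 - n g)) = -((m : ℤ) * (Nat.card G : ℤ)) := by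
    rw [hs1, hT, hcountZ] at hsplit
    linarith
  have hbound : ∀ g : G, n g ≤ (p : ℤ) - 1 := by
    intro g
    have h := irr_norm_le χ g
    rw [hdeg, hn g, Complex.norm_intCast] at h
    have h2 : ‖(p : ℂ) - 1‖ = (p : ℝ) - 1 := by
      have : ((p : ℂ) - 1) = (((p : ℝ) - 1 : ℝ) : ℂ) := by push_cast; ring
      rw [this, Complex.norm_real, Real.norm_eq_abs, abs_of_nonneg]
      have : (1 : ℝ) ≤ (p : ℝ) := by exact_mod_cast hp1
      linarith
    rw [h2] at h
    have h3 : ((n g : ℤ) : ℝ) ≤ (p : ℝ) - 1 := le_trans (le_abs_self _) h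
    have h4 : ((n g : ℤ) : ℝ) ≤ (((p : ℤ) - 1 : ℤ) : ℝ) := by
      push_cast
      exact h3
    exact_mod_cast h4
  have hnonneg : ∀ g ∈ Finset.univ.filter (fun g : G => ¬ p ∣ orderOf g),
      0 ≤ (n g - 1) * n g * ((p : ℤ) - 1 - n g) :=
    fun g _ => p2pvals_T_nonneg (p : ℤ) (n g) (hbound g)
  have hle : ∑ g ∈ Finset.univ.filter (fun g : G => ¬ p ∣ orderOf g),
      ((n g - 1) * n g * ((p : ℤ) - 1 - n g)) ≤ 0 := by
    rw [hreg]
    have : 0 ≤ (m : ℤ) * (Nat.card G : ℤ) := by positivity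
    linarith
  have hzero : ∑ g ∈ Finset.univ.filter (fun g : G => ¬ p ∣ orderOf g),
      ((n g - 1) * n g * ((p : ℤ) - 1 - n g)) = 0 :=
    le_antisymm hle (Finset.sum_nonneg hnonneg)
  have hall := (Finset.sum_eq_zero_iff_of_nonneg hnonneg).mp hzero
  intro g hg
  have h0 := hall g (by rw [Finset.mem_filter]; exact ⟨Finset.mem_univ _, hg⟩)
  rcases mul_eq_zero.mp h0 with h1 | h1
  · rcases mul_eq_zero.mp h1 with h2 | h2
    · right; left
      rw [hn g]
      have : n g = 1 := by linarith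
      rw [this]
      simp
    · left
      rw [hn g, h2]
      simp
  · right; right
    rw [hn g]
    have : n g = (p : ℤ) - 1 := by linarith
    rw [this]
    push_cast
    ring

end generic

end Cfsg.Agent.Lib.Helper24.P2P
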