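import Mathlib
import Cfsg.Agent.Lib.Helper24.P2P.Defs
import Cfsg.Agent.Lib.Helper1.P2PVALS

set_option autoImplicit false
set_option linter.unusedVariables false
set_option linter.unusedSectionVars false
set_option linter.style.haveILetI false
open scoped ComplexConjugate
open Classical

namespace Cfsg.Agent.Lib.Helper24.P2P

open MulAction Cfsg.Agent.Lib.helper6.PermChar Cfsg.Agent.Lib.Lead.W2P Cfsg.Agent.Lib.Helper25

universe u v

section generic

variable {G : Type u} [Group G] [Fintype G]

theorem p2pordv_arith (P N a s : ℤ) (e1 : P - 1 + a - s = 0) (e2 : (P - 1) ^ 2 + a + s = N)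
    (e3 : 2 * P * s = (P - 1) * N) : N = P * (P - 1) * (P - 2) := by
  have h2s : 2 * s = N - (P - 1) * (P - 2) := by linear_combination e2 - e1
  linear_combination e3 - P * h2s

theorem order_of_values (p : ℕ) (hp : p.Prime) (hp3 : 3 < p) (χ : Cfsg.IrrCharacter G)
    (hdeg : (χ : G → ℂ) 1 = (p : ℂ) - 1)
    (hsing : ∀ g : G, p ∣ orderOf g → (χ : G → ℂ) g = -1)
    (hcount : 2 * p * Nat.card {g : G // p ∣ orderOf g} = (p - 1) * Nat.card G)
    (hne : χ ≠ trivIrr G)
    (hfaith : ∀ g : G, (χ : G → ℂ) g = (χ : G → ℂ) 1 → g = 1)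
    (hval : ∀ g : G, ¬ p ∣ orderOf g →
      (χ : G → ℂ) g = 0 ∨ (χ : G → ℂ) g = 1 ∨ (χ : G → ℂ) g = (p : ℂ) - 1) :
    Nat.card G = p * (p - 1) * (p - 2) := by
  have hp1 : 1 ≤ p := by omega
  have hp2 : 2 ≤ p := by omega
  have hpC1 : (p : ℂ) - 1 ≠ 1 := by
    intro e
    have h2 : (p : ℂ) = 2 := by linear_combination e
    have h3 : p = 2 := by exact_mod_cast h2
    omega
  have hpC0 : (p : ℂ) - 1 ≠ 0 := by
    intro e
    have h2 : (p : ℂ) = 1 := by linear_combination e
    have h3 : p = 1 := by exact_mod_cast h2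
    omega
  have h1reg : ¬ p ∣ orderOf (1 : G) := by
    rw [orderOf_one]
    intro hd
    have := Nat.le_of_dvd one_pos hd
    omega
  set A : Finset G := Finset.univ.filter (fun g : G => ¬ p ∣ orderOf g ∧ (χ : G → ℂ) g = 1)
    with hA
  set S : Finset G := Finset.univ.filter (fun g : G => p ∣ orderOf g) with hS
  have hpt : ∀ g : G, (χ : G → ℂ) g = (if g = 1 then (p : ℂ) - 1 else 0) +
      (if g ∈ A then (1 : ℂ) else 0) - (if g ∈ S then (1 : ℂ) else 0) := by
    intro g
    by_cases hg : p ∣ orderOf g
    · have hg1 : g ≠ 1 := by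
        intro e
        rw [e] at hg
        exact h1reg hg
      have hgA : g ∉ A := by
        rw [hA, Finset.mem_filter]
        intro h
        exact h.2.1 hg
      have hgS : g ∈ S := by
        rw [hS, Finset.mem_filter]
        exact ⟨Finset.mem_univ _, hg⟩
      rw [if_neg hg1, if_neg hgA, if_pos hgS, hsing g hg]
      ring
    · have hgS : g ∉ S := by
        rw [hS, Finset.mem_filter]
        intro h
        exact hg h.2
      rcases hval g hg with h0 | h0 | h0
      · have hg1 : g ≠ 1 := by
          intro e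
          rw [e, hdeg] at h0
          exact hpC0 h0
        have hgA : g ∉ A := by
          rw [hA, Finset.mem_filter]
          intro h
          rw [h0] at h
          exact zero_ne_one h.2.2
        rw [if_neg hg1, if_neg hgA, if_neg hgS, h0]
        ring
      · have hg1 : g ≠ 1 := by
          intro e
          rw [e, hdeg] at h0
          exact hpC1 h0
        have hgA : g ∈ A := by
          rw [hA, Finset.mem_filter]
          exact ⟨Finset.mem_univ _, hg, h0⟩
        rw [if_neg hg1, if_pos hgA, if_neg hgS, h0]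
        ring
      · have hg1 : g = 1 := hfaith g (by rw [h0, hdeg])
        have hgA : g ∉ A := by
          rw [hA, Finset.mem_filter]
          intro h
          rw [h0] at h
          exact hpC1 h.2.2
        rw [if_pos hg1, if_neg hgA, if_neg hgS, h0]
        ring
  have hconj : ∀ g : G, conj ((χ : G → ℂ) g) = (χ : G → ℂ) g := by
    intro g
    rw [hpt g]
    simp only [map_sub, map_add, apply_ite (starRingEnd ℂ), map_one, map_zero, map_natCast]
  have hsq : ∀ g : G, (χ : G → ℂ) g * conj ((χ : G → ℂ) g) =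
      (if g = 1 then ((p : ℂ) - 1) ^ 2 else 0) +
      (if g ∈ A then (1 : ℂ) else 0) + (if g ∈ S then (1 : ℂ) else 0) := by
    intro g
    rw [hconj g]
    by_cases hg : p ∣ orderOf g
    · have hg1 : g ≠ 1 := by
        intro e
        rw [e] at hg
        exact h1reg hg
      have hgA : g ∉ A := by
        rw [hA, Finset.mem_filter]
        intro h
        exact h.2.1 hg
      have hgS : g ∈ S := by
        rw [hS, Finset.mem_filter]
        exact ⟨Finset.mem_univ _, hg⟩
      rw [if_neg hg1, if_neg hgA, if_pos hgS, hsing g hg]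
      ring
    · have hgS : g ∉ S := by
        rw [hS, Finset.mem_filter]
        intro h
        exact hg h.2
      rcases hval g hg with h0 | h0 | h0
      · have hg1 : g ≠ 1 := by
          intro e
          rw [e, hdeg] at h0
          exact hpC0 h0
        have hgA : g ∉ A := by
          rw [hA, Finset.mem_filter]
          intro h
          rw [h0] at h
          exact zero_ne_one h.2.2
        rw [if_neg hg1, if_neg hgA, if_neg hgS, h0]
        ring
      · have hg1 : g ≠ 1 := by
          intro e
          rw [e, hdeg] at h0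
          exact hpC1 h0
        have hgA : g ∈ A := by
          rw [hA, Finset.mem_filter]
          exact ⟨Finset.mem_univ _, hg, h0⟩
        rw [if_neg hg1, if_pos hgA, if_neg hgS, h0]
        ring
      · have hg1 : g = 1 := hfaith g (by rw [h0, hdeg])
        have hgA : g ∉ A := by
          rw [hA, Finset.mem_filter]
          intro h
          rw [h0] at h
          exact hpC1 h.2.2
        rw [if_pos hg1, if_neg hgA, if_neg hgS, h0]
        ring
  have hScard : (S.card : ℕ) = Nat.card {g : G // p ∣ orderOf g} := by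
    rw [Nat.card_eq_fintype_card, Fintype.card_subtype]
  have hsum1 := p2pvals_sum_zero χ hne
  have hsum2 := p2pvals_sum_sq χ
  simp only [hpt] at hsum1
  simp only [hsq] at hsum2
  rw [Finset.sum_sub_distrib, Finset.sum_add_distrib, Finset.sum_ite_eq' Finset.univ (1 : G),
    Finset.sum_boole, Finset.sum_boole] at hsum1
  rw [Finset.sum_add_distrib, Finset.sum_add_distrib, Finset.sum_ite_eq' Finset.univ (1 : G),
    Finset.sum_boole, Finset.sum_boole] at hsum2
  simp only [Finset.mem_univ, if_true, Finset.filter_mem_eq_inter, Finset.univ_inter] at hsum1 hsum2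
  have e1 : ((p : ℤ) - 1 + (A.card : ℤ) - (S.card : ℤ) : ℤ) = 0 := by
    have : (((p : ℤ) - 1 + (A.card : ℤ) - (S.card : ℤ) : ℤ) : ℂ) = ((0 : ℤ) : ℂ) := by
      push_cast
      exact hsum1
    exact_mod_cast this
  have e2 : (((p : ℤ) - 1) ^ 2 + (A.card : ℤ) + (S.card : ℤ) : ℤ) = (Nat.card G : ℤ) := by
    have : ((((p : ℤ) - 1) ^ 2 + (A.card : ℤ) + (S.card : ℤ) : ℤ) : ℂ) =
        (((Nat.card G : ℤ)) : ℂ) := by
      push_cast
      exact hsum2
    exact_mod_cast this
  have e3 : 2 * (p : ℤ) * (S.card : ℤ) = ((p : ℤ) - 1) * (Nat.card G : ℤ) := by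
    have := congrArg (fun x : ℕ => (x : ℤ)) hcount
    simp only [Nat.cast_mul, Nat.cast_ofNat, Nat.cast_sub hp1, Nat.cast_one] at this
    rw [← hScard] at this
    exact this
  have hfin := p2pordv_arith (p : ℤ) (Nat.card G : ℤ) (A.card : ℤ) (S.card : ℤ) e1 e2 e3
  have hcast : ((p * (p - 1) * (p - 2) : ℕ) : ℤ) = (p : ℤ) * ((p : ℤ) - 1) * ((p : ℤ) - 2) := by
    rw [Nat.cast_mul, Nat.cast_mul, Nat.cast_sub hp1, Nat.cast_sub hp2]
    simp
  have : ((Nat.card G : ℕ) : ℤ) = ((p * (p - 1) * (p - 2) : ℕ) : ℤ) := by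
    rw [hcast]
    exact hfin
  exact_mod_cast this

end generic

end Cfsg.Agent.Lib.Helper24.P2P
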