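import Mathlib
import Cfsg.Agent.Lib.Helper1.PmQ

set_option autoImplicit false

namespace Cfsg.Agent.Lib.Helper1

open scoped Pointwise commutatorElement

universe u

theorem solvable_of_card_pm_q_aux : ∀ (n : ℕ) (G : Type u) [Group G] [Finite G], Nat.card G = n →
    ∀ p q m : ℕ, p.Prime → q.Prime → n = p ^ m * q → Group.IsSolvable G := by
  intro n
  induction n using Nat.strong_induction_on with
  | _ n ih =>
    intro G _ _ hn p q m hp hq hG
    by_cases hpq : p = q
    · subst hpq
      exact solvable_of_card_prime_pow hp (k := m + 1) (by rw [hn, hG, pow_succ])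
    by_cases hm : m = 0
    · subst hm
      exact solvable_of_card_prime_pow hq (k := 1) (by rw [hn, hG]; simp)
    have hm1 : 1 ≤ m := Nat.one_le_iff_ne_zero.mpr hm
    have : Fact p.Prime := ⟨hp⟩
    have : Fact q.Prime := ⟨hq⟩
    have hG' : Nat.card G = p ^ m * q := hn.trans hG
    obtain ⟨P⟩ := (inferInstance : Nonempty (Sylow p G))
    have hcardP : Nat.card (P : Subgroup G) = p ^ m := sylow_card_of_card_eq hq hpq hG' P
    have hclaim : (∃ N : Subgroup G, N.Normal ∧ N ≠ ⊥ ∧ IsPGroup p N) ∨
        (∃ Q : Sylow q G, (Q : Subgroup G).Normal) := by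
      by_cases hPn : (P : Subgroup G).Normal
      · left
        refine ⟨P, hPn, ?_, P.2⟩
        intro hbot
        have : Nat.card (P : Subgroup G) = 1 := by rw [hbot]; exact Subgroup.card_bot
        rw [hcardP] at this
        have := Nat.one_lt_pow hm hp.one_lt
        omega
      · have hne : Nonempty {pq : Sylow p G × Sylow p G // pq.1 ≠ pq.2} := by
          by_contra hcon
          apply hPn
          have hss : Subsingleton (Sylow p G) := by
            constructor
            intro Q₁ Q₂
            by_contra hne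
            exact hcon ⟨⟨(Q₁, Q₂), hne⟩⟩
          exact Sylow.normal_of_subsingleton P
        obtain ⟨⟨⟨P₁, P₂⟩, hP12⟩, hmax⟩ := Finite.exists_max
          (fun pq : {pq : Sylow p G × Sylow p G // pq.1 ≠ pq.2} =>
            Nat.card ((pq.1.1 : Subgroup G) ⊓ pq.1.2 : Subgroup G))
        have hmax' : ∀ Q₁ Q₂ : Sylow p G, Q₁ ≠ Q₂ →
            Nat.card ((Q₁ : Subgroup G) ⊓ Q₂ : Subgroup G) ≤
              Nat.card ((P₁ : Subgroup G) ⊓ P₂ : Subgroup G) :=
          fun Q₁ Q₂ h => hmax ⟨(Q₁, Q₂), h⟩
        by_cases hD : (P₁ : Subgroup G) ⊓ P₂ = ⊥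
        · right
          obtain ⟨Q⟩ := (inferInstance : Nonempty (Sylow q G))
          refine ⟨Q, sylow_q_normal_of_TI hpq hm1 hG' P hPn ?_ Q⟩
          intro Q₁ Q₂ h12
          have h1 := hmax' Q₁ Q₂ h12
          rw [hD, Subgroup.card_bot] at h1
          apply Subgroup.card_eq_one.mp
          have hpos : 0 < Nat.card ((Q₁ : Subgroup G) ⊓ Q₂ : Subgroup G) := Nat.card_pos
          omega
        · left
          exact exists_normal_pgroup_of_max_inter hq hpq hG' P₁ P₂ hP12 hD hmax'
    rcases hclaim with ⟨N, hNn, hNbot, hNp⟩ | ⟨Q, hQn⟩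
    · obtain ⟨k, hk⟩ := IsPGroup.iff_card.mp hNp
      have hk0 : k ≠ 0 := by
        intro h0
        apply hNbot
        apply Subgroup.card_eq_one.mp
        rw [hk, h0, pow_zero]
      have hkm : k ≤ m := by
        have h1 : p ^ k ∣ p ^ m * q := by
          rw [← hk, ← hG']; exact Subgroup.card_subgroup_dvd_card N
        have h2 : (p ^ k).Coprime q := Nat.Coprime.pow_left _ ((Nat.coprime_primes hp hq).mpr hpq)
        have h3 : p ^ k ∣ p ^ m := h2.dvd_of_dvd_mul_right h1
        exact (Nat.pow_dvd_pow_iff_le_right hp.one_lt).mp h3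
      have hidx : N.index = p ^ (m - k) * q := by
        have h1 := N.card_mul_index
        rw [hk, hG'] at h1
        have h2 : p ^ k * N.index = p ^ k * (p ^ (m - k) * q) := by
          rw [h1, ← mul_assoc, ← pow_add, Nat.add_sub_cancel' hkm]
        exact Nat.eq_of_mul_eq_mul_left (pow_pos hp.pos k) h2
      have hcardQ : Nat.card (G ⧸ N) = p ^ (m - k) * q := by
        rw [← Subgroup.index_eq_card, hidx]
      have hlt : Nat.card (G ⧸ N) < n := by
        rw [hcardQ, hG]
        apply Nat.mul_lt_mul_of_pos_right _ hq.pos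
        apply Nat.pow_lt_pow_right hp.one_lt
        omega
      have hsolvQ : Group.IsSolvable (G ⧸ N) := ih _ hlt (G ⧸ N) rfl p q (m - k) hp hq hcardQ
      have hsolvN : Group.IsSolvable N := solvable_of_card_prime_pow hp hk
      exact solvable_of_normal_of_quotient N hsolvN hsolvQ
    · have hcardQ : Nat.card (Q : Subgroup G) = q := sylow_card_of_card_eq' hp hpq hG' Q
      have hidx : (Q : Subgroup G).index = p ^ m := by
        have h1 := (Q : Subgroup G).card_mul_index
        rw [hcardQ, hG', mul_comm] at h1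
        exact Nat.eq_of_mul_eq_mul_right hq.pos h1
      have hsolvQ : Group.IsSolvable (G ⧸ (Q : Subgroup G)) :=
        solvable_of_card_prime_pow hp (k := m) (by rw [← Subgroup.index_eq_card, hidx])
      have hsolvN : Group.IsSolvable (Q : Subgroup G) :=
        solvable_of_card_prime_pow hq (k := 1) (by rw [hcardQ, pow_one])
      exact solvable_of_normal_of_quotient (Q : Subgroup G) hsolvN hsolvQ

theorem solvable_of_card_pm_q {G : Type*} [Group G] [Finite G] (p q m : ℕ) (hp : p.Prime)
    (hq : q.Prime) (hG : Nat.card G = p ^ m * q) : Group.IsSolvable G :=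
  solvable_of_card_pm_q_aux _ G rfl p q m hp hq hG

end Cfsg.Agent.Lib.Helper1
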