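import Mathlib
import Cfsg.Agent.Lib.Helper1.PmQ2

set_option autoImplicit false

namespace Cfsg.Agent.Lib.Helper1

open scoped Pointwise commutatorElement

variable {G : Type*} [Group G]

theorem index_normalCore_dvd_factorial [Finite G] (H : Subgroup G) :
    H.normalCore.index ∣ H.index.factorial := by
  rw [Subgroup.normalCore_eq_ker, Subgroup.index_eq_card (H := H), ← Nat.card_perm,
    Subgroup.index_eq_card]
  exact Subgroup.card_dvd_of_injective _
    (QuotientGroup.kerLift_injective (MulAction.toPermHom G (G ⧸ H)))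

theorem sylow_card_p2q2 [Finite G] (p q : ℕ) (hp : p.Prime) (hq : q.Prime) (hpq : p ≠ q)
    (hG : Nat.card G = p ^ 2 * q ^ 2) [Fact p.Prime] (P : Sylow p G) :
    Nat.card (P : Subgroup G) = p ^ 2 := by
  rw [P.card_eq_multiplicity, hG]
  congr 1
  rw [Nat.factorization_mul (pow_ne_zero _ hp.ne_zero) (pow_ne_zero _ hq.ne_zero)]
  have h0 : (q ^ 2).factorization p = 0 := by
    apply Nat.factorization_eq_zero_of_not_dvd
    intro h
    exact hpq ((Nat.prime_dvd_prime_iff_eq hp hq).mp (hp.dvd_of_dvd_pow h))
  rw [Finsupp.add_apply, h0, Nat.Prime.factorization_pow hp]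
  simp

theorem solvable_of_card_36 [Finite G] (hG : Nat.card G = 36) : Group.IsSolvable G := by
  have : Fact (Nat.Prime 3) := ⟨Nat.prime_three⟩
  obtain ⟨P⟩ := (inferInstance : Nonempty (Sylow 3 G))
  have hG' : Nat.card G = 3 ^ 2 * 2 ^ 2 := by rw [hG]; norm_num
  have hcardP : Nat.card (P : Subgroup G) = 3 ^ 2 :=
    sylow_card_p2q2 3 2 Nat.prime_three Nat.prime_two (by norm_num) hG' P
  have hidx : (P : Subgroup G).index = 4 := by
    have h1 := (P : Subgroup G).card_mul_index
    rw [hcardP, hG] at h1
    omega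
  set K := (P : Subgroup G).normalCore with hK
  have hKn : K.Normal := Subgroup.normalCore_normal _
  have hKP : K ≤ P := Subgroup.normalCore_le _
  have h24 : K.index ∣ 24 := by
    have := index_normalCore_dvd_factorial (P : Subgroup G)
    rw [hidx] at this
    exact this
  have hKcard : Nat.card K ∣ 9 := by
    have := Subgroup.card_dvd_of_le hKP
    rw [hcardP] at this
    exact this
  have hmul := K.card_mul_index
  rw [hG] at hmul
  have hdiv : Nat.card K ∈ Nat.divisors 9 := Nat.mem_divisors.mpr ⟨hKcard, by norm_num⟩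
  have hdivs : Nat.divisors 9 = {1, 3, 9} := by decide
  rw [hdivs] at hdiv
  simp only [Finset.mem_insert, Finset.mem_singleton] at hdiv
  have hsolvK : Group.IsSolvable K := by
    have := (P.2.to_le hKP).isNilpotent
    infer_instance
  rcases hdiv with h1 | h3 | h9
  · exfalso
    rw [h1, one_mul] at hmul
    rw [hmul] at h24
    norm_num at h24
  · have hi : K.index = 12 := by rw [h3] at hmul; omega
    have hQ : Group.IsSolvable (G ⧸ K) :=
      solvable_of_card_pm_q 2 3 2 Nat.prime_two Nat.prime_three
        (by rw [← Subgroup.index_eq_card, hi]; norm_num)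
    exact solvable_of_normal_of_quotient K hsolvK hQ
  · have hi : K.index = 4 := by rw [h9] at hmul; omega
    have hQ : Group.IsSolvable (G ⧸ K) :=
      solvable_of_card_prime_pow Nat.prime_two (k := 2)
        (by rw [← Subgroup.index_eq_card, hi]; norm_num)
    exact solvable_of_normal_of_quotient K hsolvK hQ

theorem solvable_of_card_p2q2_lt [Finite G] (p q : ℕ) (hp : p.Prime) (hq : q.Prime) (hqp : q < p)
    (hG : Nat.card G = p ^ 2 * q ^ 2) : Group.IsSolvable G := by
  have : Fact p.Prime := ⟨hp⟩
  have hpq : p ≠ q := hqp.ne'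
  obtain ⟨P⟩ := (inferInstance : Nonempty (Sylow p G))
  have hcardP : Nat.card (P : Subgroup G) = p ^ 2 := sylow_card_p2q2 p q hp hq hpq hG P
  have hidx : (P : Subgroup G).index = q ^ 2 := by
    have h1 := (P : Subgroup G).card_mul_index
    rw [hcardP, hG] at h1
    exact Nat.eq_of_mul_eq_mul_left (pow_pos hp.pos 2) h1
  have hdvd : Nat.card (Sylow p G) ∣ q ^ 2 := hidx ▸ P.card_dvd_index
  have hmod := card_sylow_modEq_one p G
  obtain ⟨k, hk2, hk⟩ := (Nat.dvd_prime_pow hq).mp hdvd
  have hk012 : k = 0 ∨ k = 1 ∨ k = 2 := by omega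
  rcases hk012 with h0 | h1 | h2
  · rw [h0, pow_zero] at hk
    have hss : Subsingleton (Sylow p G) := by
      have := (Nat.card_eq_one_iff_unique.mp hk).1
      infer_instance
    have hPn : (P : Subgroup G).Normal := Sylow.normal_of_subsingleton P
    have hs1 : Group.IsSolvable (P : Subgroup G) := solvable_of_card_prime_pow hp hcardP
    have hs2 : Group.IsSolvable (G ⧸ (P : Subgroup G)) :=
      solvable_of_card_prime_pow hq (k := 2) (by rw [← Subgroup.index_eq_card, hidx])
    exact solvable_of_normal_of_quotient (P : Subgroup G) hs1 hs2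
  · exfalso
    rw [h1, pow_one] at hk
    rw [hk] at hmod
    have h3 : q % p = 1 % p := hmod
    rw [Nat.mod_eq_of_lt hqp, Nat.mod_eq_of_lt hp.one_lt] at h3
    exact hq.one_lt.ne' h3
  · rw [h2] at hk
    rw [hk] at hmod
    have hle : 1 ≤ q ^ 2 := Nat.one_le_pow _ _ hq.pos
    have h3 : p ∣ q ^ 2 - 1 := (Nat.modEq_iff_dvd' hle).mp hmod.symm
    have e : q ^ 2 - 1 = (q - 1) * (q + 1) := by
      obtain ⟨r, rfl⟩ : ∃ r, q = r + 1 := ⟨q - 1, by have := hq.one_lt; omega⟩
      have : (r + 1) ^ 2 = (r + 1 - 1) * (r + 1 + 1) + 1 := by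
        simp only [Nat.add_sub_cancel]; ring
      rw [this, Nat.add_sub_cancel]
    rw [e] at h3
    have hq1 : p = q + 1 := by
      rcases (Nat.Prime.dvd_mul hp).mp h3 with h4 | h4
      · exfalso
        have hpos : 0 < q - 1 := by have := hq.one_lt; omega
        have := Nat.le_of_dvd hpos h4
        omega
      · have := Nat.le_of_dvd (by omega) h4
        omega
    have hq2 : q = 2 := by
      rcases hq.eq_two_or_odd with h | h
      · exact h
      · exfalso
        rcases hp.eq_two_or_odd with h' | h'
        · have := hq.two_le; omega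
        · omega
    have hp3 : p = 3 := by omega
    apply solvable_of_card_36
    rw [hG, hq2, hp3]; norm_num

theorem solvable_of_card_p2q2 [Finite G] (p q : ℕ) (hp : p.Prime) (hq : q.Prime)
    (hG : Nat.card G = p ^ 2 * q ^ 2) : Group.IsSolvable G := by
  rcases lt_trichotomy p q with h | h | h
  · exact solvable_of_card_p2q2_lt q p hq hp h (by rw [hG, mul_comm])
  · subst h
    exact solvable_of_card_prime_pow hp (k := 4) (by rw [hG]; ring)
  · exact solvable_of_card_p2q2_lt p q hp hq h hG

end Cfsg.Agent.Lib.Helper1
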