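import Mathlib
import Cfsg.Agent.Lib.helper6.P4T.Defs
import Cfsg.Agent.Lib.helper23.P4CSL1
import Cfsg.Agent.Lib.helper23.P4CSS1
import Cfsg.Agent.Lib.Helper24.P4CSL3

set_option autoImplicit false

/-!
# P4T row TS1 (`sl2_ss_data`): the first half of helper23's SL5 `rho2_ss` with the eigenvalue exposed
(adapted from `helper23/P4CSL5.lean`).
-/

namespace Cfsg.Agent.Lib.helper23.P4S

open Matrix

/-- TS1 -/
theorem sl2_ss_data {E : Type} [Field E] [Fintype E] (p : ℕ) [Fact p.Prime] [CharP E p] (n : ℕ) (hn : 1 ≤ n)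
    (hE : Fintype.card E = p ^ (2 * n)) (A : Matrix.SpecialLinearGroup (Fin 2) E) (htr : A.1.trace ^ 2 ≠ 4) :
    ∃ (b : AlgebraicClosure E) (P : Matrix (Fin 2) (Fin 2) (AlgebraicClosure E)), b ≠ 0 ∧ IsUnit P.det ∧
      A.1.map (algebraMap E (AlgebraicClosure E)) = P * Matrix.diagonal ![b, b⁻¹] * P⁻¹ ∧
      0 < orderOf b ∧ ¬ orderOf b ∣ 2 ∧ orderOf A = orderOf b ∧
      (orderOf b ∣ (p ^ n) ^ 2 - 1 ∨ orderOf b ∣ (p ^ n) ^ 2 + 1) := by
  classical
  have hpp : p.Prime := Fact.out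
  obtain ⟨b, P, hb0, hb1, hbt, hP, hA⟩ := sl2_diag (K := AlgebraicClosure E) A.1 A.2 htr
  have hq2 : 2 ≤ p ^ n := by
    calc 2 ≤ p := hpp.two_le
      _ = p ^ 1 := (pow_one p).symm
      _ ≤ p ^ n := Nat.pow_le_pow_right hpp.pos hn
  have hqq : (p ^ n) ^ 2 = p ^ (2 * n) := by rw [← pow_mul, mul_comm]
  -- the trace is fixed by the `q²`-Frobenius
  have ht2 : (algebraMap E (AlgebraicClosure E) A.1.trace) ^ p ^ (2 * n) =
      algebraMap E (AlgebraicClosure E) A.1.trace := by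
    rw [← map_pow, ← hE, FiniteField.pow_card]
  have hb2 := root_frob p b _ hb0 hbt (2 * n) ht2
  have hbpow : ∀ m : ℕ, 1 ≤ m → (b ^ m = b ↔ b ^ (m - 1) = 1) := by
    intro m hm
    obtain ⟨m', rfl⟩ : ∃ m', m = m' + 1 := ⟨m - 1, by omega⟩
    rw [Nat.add_sub_cancel, pow_succ]
    constructor
    · intro h
      exact mul_right_cancel₀ hb0 (by rw [h, one_mul])
    · intro h
      rw [h, one_mul]
  have hbinv : ∀ m : ℕ, (b ^ m = b⁻¹ ↔ b ^ (m + 1) = 1) := by
    intro m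
    rw [pow_succ]
    constructor
    · intro h
      rw [h, inv_mul_cancel₀ hb0]
    · intro h
      exact eq_inv_of_mul_eq_one_left h
  have hr12 : b ^ ((p ^ n) ^ 2 - 1) = 1 ∨ b ^ ((p ^ n) ^ 2 + 1) = 1 := by
    rw [hqq]
    rcases hb2 with h | h
    · exact Or.inl ((hbpow _ (Nat.one_le_pow _ _ hpp.pos)).1 h)
    · exact Or.inr ((hbinv _).1 h)
  have hq1 : 1 ≤ (p ^ n) ^ 2 - 1 := by
    have : 4 ≤ (p ^ n) ^ 2 := by nlinarith
    omega
  have hfin : IsOfFinOrder b := by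
    rcases hr12 with h | h
    · exact isOfFinOrder_iff_pow_eq_one.2 ⟨_, hq1, h⟩
    · exact isOfFinOrder_iff_pow_eq_one.2 ⟨_, Nat.succ_pos _, h⟩
  refine ⟨b, P, hb0, hP, hA, hfin.orderOf_pos, ?_, ?_, ?_⟩
  · intro h
    apply hb1
    rw [← pow_two]
    exact orderOf_dvd_iff_pow_eq_one.1 h
  · -- orderOf A = orderOf b
    rw [orderOf_eq_orderOf_iff]
    intro k
    have h1 : A ^ k = 1 ↔ A.1 ^ k = 1 := by
      constructor
      · intro h
        have := congrArg Subtype.val h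
        simpa using this
      · intro h
        apply Subtype.ext
        simpa using h
    rw [h1, ss_pow A.1 P hP ![b, b⁻¹] hA k]
    constructor
    · intro h
      simpa using h 0
    · intro h j
      fin_cases j
      · simpa using h
      · simp [h]
  · rcases hr12 with h | h
    · exact Or.inl (orderOf_dvd_of_pow_eq_one h)
    · exact Or.inr (orderOf_dvd_of_pow_eq_one h)

end Cfsg.Agent.Lib.helper23.P4S
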