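import Mathlib
import Cfsg.Agent.Lib.helper6.P4T.Defs

set_option autoImplicit false

/-!
# P4T row TW3 (`lam12_arith`): pure arithmetic for `q = 9^t`.
-/

namespace Cfsg.Agent.Lib.helper23.P4S

/-- `R ∣ 4`, `R ∣ M`, `M = 4 w + 2`: `R ∣ 2`. -/
theorem p4ttw3_two (R M w : ℤ) (h4 : R ∣ 4) (hM : R ∣ M) (hw : M = 4 * w + 2) : R ∣ 2 := by
  have h1 : R ∣ 4 * w := Dvd.dvd.mul_right h4 w
  have h3 : R ∣ M - 4 * w := dvd_sub hM h1
  have : M - 4 * w = 2 := by rw [hw]; ring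
  rwa [this] at h3

/-- the arithmetic core, on integers -/
theorem p4ttw3_core (q R : ℤ) (hq8 : 8 ∣ q - 1) (hq3 : 3 ∣ q) (hq20 : 20 ∣ q ^ 2 - 1) (h2 : ¬ R ∣ 2)
    (hr : R ∣ q ^ 2 - 1 ∨ R ∣ q ^ 2 + 1) (L : ℤ) (hL : R ∣ L)
    (hcases : L = 2 * q + 2 ∨ L = 2 * q - 2 ∨ L = 4 * q ∨ L = 2 * q ∨ L = 4 * q + 2 ∨ L = 4 * q - 2) :
    R ∣ 2 * (q + 1) ∨ R ∣ 2 * (q - 1) := by
  obtain ⟨k, hk⟩ := hq8
  obtain ⟨m, hm⟩ := hq3
  obtain ⟨w, hw⟩ := hq20
  have hqk : q = 8 * k + 1 := by linarith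
  -- `R` is coprime to `q` in both cases
  have hcop : IsCoprime R q := by
    rcases hr with hr | hr
    · obtain ⟨c, hc⟩ := hr
      exact ⟨-c, q, by linear_combination hc⟩
    · obtain ⟨c, hc⟩ := hr
      exact ⟨c, -q, by linear_combination -hc⟩
  -- `R ∣ 4` implies, in the `q² + 1` case, `R ∣ 2`
  have h4plus : R ∣ q ^ 2 + 1 → R ∣ 4 → R ∣ 2 := by
    intro hr h4
    exact p4ttw3_two R (q ^ 2 + 1) (16 * k ^ 2 + 4 * k) h4 hr (by rw [hqk]; ring)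
  rcases hcases with rfl | rfl | rfl | rfl | rfl | rfl
  · -- `2q + 2`
    rcases hr with hr | hr
    · left
      have : 2 * (q + 1) = 2 * q + 2 := by ring
      rwa [this]
    · exfalso
      apply h2
      apply h4plus hr
      have h1 : R ∣ 2 * (q ^ 2 + 1) := Dvd.dvd.mul_left hr 2
      have h3 : R ∣ (2 * q + 2) * (q - 1) := Dvd.dvd.mul_right hL _
      have h5 := dvd_sub h1 h3
      have : 2 * (q ^ 2 + 1) - (2 * q + 2) * (q - 1) = 4 := by ring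
      rwa [this] at h5
  · -- `2q - 2`
    rcases hr with hr | hr
    · right
      have : 2 * (q - 1) = 2 * q - 2 := by ring
      rwa [this]
    · exfalso
      apply h2
      apply h4plus hr
      have h1 : R ∣ 2 * (q ^ 2 + 1) := Dvd.dvd.mul_left hr 2
      have h3 : R ∣ (2 * q - 2) * (q + 1) := Dvd.dvd.mul_right hL _
      have h5 := dvd_sub h1 h3
      have : 2 * (q ^ 2 + 1) - (2 * q - 2) * (q + 1) = 4 := by ring
      rwa [this] at h5
  · -- `4q`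
    have h4 : R ∣ 4 := hcop.dvd_of_dvd_mul_right hL
    rcases hr with hr | hr
    · right
      have : 2 * (q - 1) = 4 * (4 * k) := by rw [hqk]; ring
      rw [this]
      exact Dvd.dvd.mul_right h4 _
    · exact absurd (h4plus hr h4) h2
  · -- `2q`
    exact absurd (hcop.dvd_of_dvd_mul_right hL) h2
  · -- `4q + 2`
    exfalso
    apply h2
    rcases hr with hr | hr
    · have h1 : R ∣ (4 * q + 2) * (4 * q - 2) := Dvd.dvd.mul_right hL _
      have h3 : R ∣ 16 * (q ^ 2 - 1) := Dvd.dvd.mul_left hr 16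
      have h5 := dvd_sub h1 h3
      have e : (4 * q + 2) * (4 * q - 2) - 16 * (q ^ 2 - 1) = 12 := by ring
      rw [e] at h5
      have h6 : R ∣ 12 * m := Dvd.dvd.mul_right h5 m
      have h7 := dvd_sub hL h6
      have e2 : 4 * q + 2 - 12 * m = 2 := by rw [hm]; ring
      rwa [e2] at h7
    · have h1 : R ∣ (4 * q + 2) * (4 * q - 2) := Dvd.dvd.mul_right hL _
      have h3 : R ∣ 16 * (q ^ 2 + 1) := Dvd.dvd.mul_left hr 16
      have h5 := dvd_sub h3 h1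
      have e : 16 * (q ^ 2 + 1) - (4 * q + 2) * (4 * q - 2) = 20 := by ring
      rw [e] at h5
      have h6 : R ∣ 20 * w := Dvd.dvd.mul_right h5 w
      have h7 := dvd_sub hr h6
      have e2 : q ^ 2 + 1 - 20 * w = 2 := by linarith
      rwa [e2] at h7
  · -- `4q - 2`
    exfalso
    apply h2
    rcases hr with hr | hr
    · have h1 : R ∣ (4 * q - 2) * (4 * q + 2) := Dvd.dvd.mul_right hL _
      have h3 : R ∣ 16 * (q ^ 2 - 1) := Dvd.dvd.mul_left hr 16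
      have h5 := dvd_sub h1 h3
      have e : (4 * q - 2) * (4 * q + 2) - 16 * (q ^ 2 - 1) = 12 := by ring
      rw [e] at h5
      have h6 : R ∣ 12 * m := Dvd.dvd.mul_right h5 m
      have h7 := dvd_sub h6 hL
      have e2 : 12 * m - (4 * q - 2) = 2 := by rw [hm]; ring
      rwa [e2] at h7
    · have h1 : R ∣ (4 * q - 2) * (4 * q + 2) := Dvd.dvd.mul_right hL _
      have h3 : R ∣ 16 * (q ^ 2 + 1) := Dvd.dvd.mul_left hr 16
      have h5 := dvd_sub h3 h1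
      have e : 16 * (q ^ 2 + 1) - (4 * q - 2) * (4 * q + 2) = 20 := by ring
      rw [e] at h5
      have h6 : R ∣ 20 * w := Dvd.dvd.mul_right h5 w
      have h7 := dvd_sub hr h6
      have e2 : q ^ 2 + 1 - 20 * w = 2 := by linarith
      rwa [e2] at h7

/-- every `lam12 q j` is, up to sign, one of the six values -/
theorem p4ttw3_cases (q : ℕ) (j : Fin 3 × (Fin 2 × Fin 2)) :
    ∃ L : ℤ, (lam12 q j = L ∨ lam12 q j = -L) ∧
      (L = 2 * (q : ℤ) + 2 ∨ L = 2 * (q : ℤ) - 2 ∨ L = 4 * (q : ℤ) ∨ L = 2 * (q : ℤ) ∨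
        L = 4 * (q : ℤ) + 2 ∨ L = 4 * (q : ℤ) - 2) := by
  obtain ⟨j₀, j₁, j₂⟩ := j
  fin_cases j₀ <;> fin_cases j₁ <;> fin_cases j₂
  · exact ⟨4 * q + 2, Or.inl (by simp [lam12]; ring), by tauto⟩
  · exact ⟨2 * q - 2, Or.inr (by simp [lam12]; ring), by tauto⟩
  · exact ⟨2 * q + 2, Or.inl (by simp [lam12]; ring), by tauto⟩
  · exact ⟨4 * q - 2, Or.inr (by simp [lam12]; ring), by tauto⟩
  · exact ⟨4 * q, Or.inl (by simp [lam12]; ring), by tauto⟩
  · exact ⟨2 * q, Or.inr (by simp [lam12]; ring), by tauto⟩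
  · exact ⟨2 * q, Or.inl (by simp [lam12]; ring), by tauto⟩
  · exact ⟨4 * q, Or.inr (by simp [lam12]; ring), by tauto⟩
  · exact ⟨4 * q - 2, Or.inl (by simp [lam12]; ring), by tauto⟩
  · exact ⟨2 * q + 2, Or.inr (by simp [lam12]; ring), by tauto⟩
  · exact ⟨2 * q - 2, Or.inl (by simp [lam12]; ring), by tauto⟩
  · exact ⟨4 * q + 2, Or.inr (by simp [lam12]; ring), by tauto⟩

/-- TW3 -/
theorem lam12_arith (t : ℕ) (ht : 1 ≤ t) (r : ℕ) (h2 : ¬ r ∣ 2)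
    (hr : r ∣ (3 ^ (2 * t)) ^ 2 - 1 ∨ r ∣ (3 ^ (2 * t)) ^ 2 + 1) (j : Fin 3 × (Fin 2 × Fin 2))
    (hj : (r : ℤ) ∣ lam12 (3 ^ (2 * t)) j) : r ∣ 2 * (3 ^ (2 * t) + 1) ∨ r ∣ 2 * (3 ^ (2 * t) - 1) := by
  have hq1 : 1 ≤ 3 ^ (2 * t) := Nat.one_le_pow _ _ (by norm_num)
  have hq1' : 1 ≤ (3 ^ (2 * t)) ^ 2 := Nat.one_le_pow _ _ (by omega)
  set q : ℤ := ((3 ^ (2 * t) : ℕ) : ℤ) with hqdef
  have hq9 : q = 9 ^ t := by
    rw [hqdef]; push_cast; rw [pow_mul]; norm_num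
  have hq8 : (8 : ℤ) ∣ q - 1 := by
    rw [hq9]
    have := sub_dvd_pow_sub_pow (9 : ℤ) 1 t
    simpa using this
  have hq3 : (3 : ℤ) ∣ q := by
    rw [hq9]
    obtain ⟨s, rfl⟩ : ∃ s, t = s + 1 := ⟨t - 1, by omega⟩
    rw [pow_succ]
    exact Dvd.dvd.mul_left (by norm_num) _
  have hq20 : (20 : ℤ) ∣ q ^ 2 - 1 := by
    rw [hq9, ← pow_mul, mul_comm, pow_mul]
    have := sub_dvd_pow_sub_pow ((9 : ℤ) ^ 2) 1 t
    have h80 : (20 : ℤ) ∣ 9 ^ 2 - 1 := by norm_num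
    have := dvd_trans h80 this
    simpa using this
  have h2' : ¬ (r : ℤ) ∣ 2 := by
    intro h
    apply h2
    exact_mod_cast h
  have hr' : (r : ℤ) ∣ q ^ 2 - 1 ∨ (r : ℤ) ∣ q ^ 2 + 1 := by
    rcases hr with hr | hr
    · left
      have := Int.natCast_dvd_natCast.mpr hr
      rw [Nat.cast_sub hq1'] at this
      simpa [hqdef] using this
    · right
      have := Int.natCast_dvd_natCast.mpr hr
      simpa [hqdef] using this
  obtain ⟨L, hL, hcases⟩ := p4ttw3_cases (3 ^ (2 * t)) j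
  have hRL : (r : ℤ) ∣ L := by
    rcases hL with hL | hL
    · rwa [hL] at hj
    · rw [hL] at hj
      exact (dvd_neg.mp hj)
  rcases p4ttw3_core q r hq8 hq3 hq20 h2' hr' L hRL hcases with h | h
  · left
    have : (r : ℤ) ∣ ((2 * (3 ^ (2 * t) + 1) : ℕ) : ℤ) := by
      push_cast
      simpa [hqdef] using h
    exact Int.natCast_dvd_natCast.mp this
  · right
    have : (r : ℤ) ∣ ((2 * (3 ^ (2 * t) - 1) : ℕ) : ℤ) := by
      rw [Nat.cast_mul, Nat.cast_sub hq1]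
      simpa [hqdef] using h
    exact Int.natCast_dvd_natCast.mp this

end Cfsg.Agent.Lib.helper23.P4S
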