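import Mathlib
import Cfsg.Agent.Lib.Helper1.PCentralB

set_option autoImplicit false

namespace Cfsg.Agent.Lib.Helper1.PCentral

open scoped Pointwise

theorem exists_sylow_between {G : Type*} [Group G] [Finite G] (p : ℕ) [hp : Fact p.Prime]
    (H T : Subgroup G) (hH : ¬ p ∣ H.index) (hT : IsPGroup p T) (hTH : T ≤ H) :
    ∃ R : Sylow p G, T ≤ (R : Subgroup G) ∧ (R : Subgroup G) ≤ H := by
  have h1 : IsPGroup p (T.subgroupOf H) := hT.comap_subtype
  obtain ⟨Q', hQ'⟩ := h1.exists_le_sylow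
  have hp1 : IsPGroup p ((Q' : Subgroup H).map H.subtype) := Q'.2.map H.subtype
  have hp2 : ¬ p ∣ ((Q' : Subgroup H).map H.subtype).index := by
    rw [Subgroup.index_map_subtype]
    exact Nat.Prime.not_dvd_mul hp.out Q'.not_dvd_index hH
  refine ⟨hp1.toSylow hp2, ?_, ?_⟩
  · rw [IsPGroup.toSylow_coe]
    intro d hd
    exact ⟨⟨d, hTH hd⟩, hQ' (by rw [Subgroup.mem_subgroupOf]; exact hd), rfl⟩
  · rw [IsPGroup.toSylow_coe]
    rintro _ ⟨c, _, rfl⟩
    exact c.2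

def Big {G : Type*} [Group G] (m : ℕ) (t : G) : Prop :=
  ∃ g : G, (∃ k : ℕ, orderOf g = 2 ^ k) ∧ g ^ m = t

theorem Big.conj {G : Type*} [Group G] {m : ℕ} {t : G} (h : Big m t) (c : G) :
    Big m (c * t * c⁻¹) := by
  obtain ⟨g, ⟨k, hk⟩, rfl⟩ := h
  refine ⟨c * g * c⁻¹, ⟨k, ?_⟩, conj_pow⟩
  rw [← hk]
  exact orderOf_injective (MulAut.conj c).toMonoidHom (MulAut.conj c).injective g

theorem Big.order_pow {G : Type*} [Group G] [Finite G] {m : ℕ} {t : G} (h : Big m t) :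
    ∃ k : ℕ, orderOf t = 2 ^ k := by
  obtain ⟨g, ⟨k, hk⟩, rfl⟩ := h
  have h1 : orderOf (g ^ m) ∣ 2 ^ k := hk ▸ orderOf_pow_dvd m
  obtain ⟨j, _, hj⟩ := (Nat.dvd_prime_pow Nat.prime_two).mp h1
  exact ⟨j, hj⟩

def CentralIn {G : Type*} [Group G] (P : Subgroup G) (t : G) : Prop :=
  t ∈ P ∧ ∀ u ∈ P, u * t = t * u

theorem root_in_center {G : Type*} [Group G] [Finite G] (hG : HH 2 G) (m : ℕ) (t : G)
    (ht : Big m t) (R : Sylow 2 G) (hR : CentralIn (R : Subgroup G) t) :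
    ∃ a : G, CentralIn (R : Subgroup G) a ∧ a ^ m = t := by
  have : Fact (Nat.Prime 2) := ⟨Nat.prime_two⟩
  obtain ⟨g, hgo, rfl⟩ := ht
  obtain ⟨R₀, hgR₀, hR₀C⟩ := exists_sylow_central 2 hG g hgo
  set H : Subgroup G := Subgroup.centralizer ({g ^ m} : Set G) with hH
  have h1 : (R₀ : Subgroup G) ≤ H := by
    intro c hc
    have := hR₀C hc
    rw [Subgroup.mem_centralizer_singleton_iff] at this
    rw [hH, Subgroup.mem_centralizer_singleton_iff]
    exact ((Commute.pow_right (show Commute c g from this) m)).eq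
  have h2 : (R : Subgroup G) ≤ H := by
    intro c hc
    rw [hH, Subgroup.mem_centralizer_singleton_iff]
    exact hR.2 c hc
  obtain ⟨c, hcH, hc⟩ := exists_conj_in 2 R₀ R H h1 h2
  have hconj : ∀ w ∈ (R₀ : Subgroup G), c * w * c⁻¹ ∈ (R : Subgroup G) := by
    intro w hw
    rw [← hc]
    exact Subgroup.smul_mem_pointwise_smul w (MulAut.conj c) (R₀ : Subgroup G) hw
  have hconj' : ∀ w ∈ (R : Subgroup G), c⁻¹ * w * c ∈ (R₀ : Subgroup G) := by
    intro w hw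
    have h1 : c⁻¹ • R = R₀ := by rw [← hc, inv_smul_smul]
    rw [← h1]
    have := Subgroup.smul_mem_pointwise_smul w (MulAut.conj c⁻¹) (R : Subgroup G) hw
    have e : MulAut.conj c⁻¹ • w = c⁻¹ * w * c := by
      rw [MulAut.smul_def, MulAut.conj_apply, inv_inv]
    rw [e] at this
    exact this
  refine ⟨c * g * c⁻¹, ⟨hconj g hgR₀, ?_⟩, ?_⟩
  · intro u hu
    have h3 := hR₀C (hconj' u hu)
    rw [Subgroup.mem_centralizer_singleton_iff] at h3
    calc u * (c * g * c⁻¹) = c * ((c⁻¹ * u * c) * g) * c⁻¹ := by group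
      _ = c * (g * (c⁻¹ * u * c)) * c⁻¹ := by rw [h3]
      _ = c * g * c⁻¹ * u := by group
  · rw [conj_pow]
    rw [hH, Subgroup.mem_centralizer_singleton_iff] at hcH
    calc c * g ^ m * c⁻¹ = (g ^ m * c) * c⁻¹ := by rw [hcH]
      _ = g ^ m := by group

end Cfsg.Agent.Lib.Helper1.PCentral
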