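import Mathlib
import Cfsg.Agent.Lib.Helper1.PCentralC

set_option autoImplicit false

namespace Cfsg.Agent.Lib.Helper1.PCentral

open scoped Pointwise

def Wset {G : Type*} [Group G] (m : ℕ) (P : Subgroup G) : Set G :=
  {t | Big m t ∧ CentralIn P t}

theorem CentralIn.conj {G : Type*} [Group G] {P : Subgroup G} {t : G} (h : CentralIn P t)
    (c : G) : CentralIn (MulAut.conj c • P) (c * t * c⁻¹) := by
  refine ⟨Subgroup.smul_mem_pointwise_smul t (MulAut.conj c) P h.1, ?_⟩
  intro u hu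
  rw [Subgroup.mem_pointwise_smul_iff_inv_smul_mem] at hu
  have e : (MulAut.conj c)⁻¹ • u = c⁻¹ * u * c := by
    rw [← map_inv, MulAut.smul_def, MulAut.conj_apply, inv_inv]
  rw [e] at hu
  have h1 := h.2 _ hu
  calc u * (c * t * c⁻¹) = c * ((c⁻¹ * u * c) * t) * c⁻¹ := by group
    _ = c * (t * (c⁻¹ * u * c)) * c⁻¹ := by rw [h1]
    _ = c * t * c⁻¹ * u := by group

theorem Wset_conj {G : Type*} [Group G] (m : ℕ) (P : Subgroup G) (c : G) :
    Wset m (MulAut.conj c • P) = (fun t => c * t * c⁻¹) '' Wset m P := by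
  ext t'
  constructor
  · rintro ⟨h1, h2⟩
    refine ⟨c⁻¹ * t' * c, ⟨?_, ?_⟩, by group⟩
    · have := h1.conj c⁻¹
      rwa [inv_inv] at this
    · have := h2.conj c⁻¹
      rw [inv_inv, map_inv, inv_smul_smul] at this
      exact this
  · rintro ⟨t, ⟨h1, h2⟩, rfl⟩
    exact ⟨h1.conj c, h2.conj c⟩

theorem ncard_Wset_conj {G : Type*} [Group G] (m : ℕ) (P : Subgroup G) (c : G) :
    (Wset m (MulAut.conj c • P)).ncard = (Wset m P).ncard := by
  rw [Wset_conj]
  apply Set.ncard_image_of_injective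
  intro a b hab
  simpa using hab

theorem ncard_Wset_sylow {G : Type*} [Group G] [Finite G] (m : ℕ) (P R : Sylow 2 G) :
    (Wset m (R : Subgroup G)).ncard = (Wset m (P : Subgroup G)).ncard := by
  haveI : Fact (Nat.Prime 2) := ⟨Nat.prime_two⟩
  obtain ⟨c, hc⟩ := MulAction.exists_smul_eq G P R
  rw [← hc, Sylow.coe_subgroup_smul]
  exact ncard_Wset_conj m _ c

end Cfsg.Agent.Lib.Helper1.PCentral
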