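import Mathlib
import Cfsg.Agent.Lib.Helper1.PCentralD

set_option autoImplicit false

namespace Cfsg.Agent.Lib.Helper1.PCentral

open scoped Pointwise

theorem pow_two_mul_of_mem_sylow {G : Type*} [Group G] (m : ℕ)
    (hm : ∀ x : G, (∃ k : ℕ, orderOf x = 2 ^ k) → x ^ (2 * m) = 1) (R : Sylow 2 G) (x : G)
    (hx : x ∈ (R : Subgroup G)) : x ^ (2 * m) = 1 := by
  apply hm
  obtain ⟨k, hk⟩ := (IsPGroup.iff_orderOf.mp R.2) ⟨x, hx⟩
  rw [Subgroup.orderOf_mk] at hk
  exact ⟨k, hk⟩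

theorem central_of_root {G : Type*} [Group G] [Finite G] (m : ℕ)
    (hm : ∀ x : G, (∃ k : ℕ, orderOf x = 2 ^ k) → x ^ (2 * m) = 1) (R : Sylow 2 G) (a : G)
    (ha : a ∈ (R : Subgroup G))
    (hC : ∀ u ∈ (R : Subgroup G), u * a ^ m = a ^ m * u → u * a = a * u) :
    ∀ u ∈ (R : Subgroup G), u * a ^ m = a ^ m * u := by
  have hS : IsPGroup 2 (R : Subgroup G) := R.2
  have h1 := lemmaX (S := (R : Subgroup G)) hS m
    (fun x => Subtype.ext (by
      have := pow_two_mul_of_mem_sylow m hm R x x.2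
      simpa using this)) ⟨a, ha⟩
    (fun u hu => Subtype.ext (by
      have h2 := congrArg Subtype.val hu
      have := hC u u.2 (by simpa using h2)
      simpa using this))
  intro u hu
  have := congrArg Subtype.val (h1 ⟨u, hu⟩)
  simpa using this

theorem big_central {G : Type*} [Group G] [Finite G] (hG : HH 2 G) (m : ℕ)
    (hm : ∀ x : G, (∃ k : ℕ, orderOf x = 2 ^ k) → x ^ (2 * m) = 1) :
    ∀ (P : Sylow 2 G) (s : G), Big m s → s ∈ (P : Subgroup G) →
      ∀ u ∈ (P : Subgroup G), u * s = s * u := by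
  have : Fact (Nat.Prime 2) := ⟨Nat.prime_two⟩
  by_contra hcon
  push_neg at hcon
  obtain ⟨P₀, s₀, hs₀B, hs₀P, hs₀⟩ := hcon
  let Bad := {q : Sylow 2 G × G // Big m q.2 ∧ q.2 ∈ (q.1 : Subgroup G) ∧
    ¬ (∀ u ∈ (q.1 : Subgroup G), u * q.2 = q.2 * u)}
  have hne : Nonempty Bad := ⟨⟨(P₀, s₀), hs₀B, hs₀P, by
    push_neg
    exact hs₀⟩⟩
  have hfin : Finite Bad := Subtype.finite
  let f : Bad → ℕ := fun q =>
    Nat.card ((q.1.1 : Subgroup G) ⊓ Subgroup.centralizer ({q.1.2} : Set G) : Subgroup G)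
  obtain ⟨⟨⟨P, s⟩, hsB, hsP, hsbad⟩, hmax⟩ := Finite.exists_max f
  simp only at hsB hsP hsbad
  set D₁ : Subgroup G := (P : Subgroup G) ⊓ Subgroup.centralizer ({s} : Set G) with hD₁
  have hsD₁ : s ∈ D₁ := by
    rw [hD₁, Subgroup.mem_inf, Subgroup.mem_centralizer_singleton_iff]
    exact ⟨hsP, rfl⟩
  have hD₁p : IsPGroup 2 D₁ := P.2.to_le inf_le_left
  obtain ⟨R, hD₁R, hRs⟩ := exists_sylow_between 2 (Subgroup.centralizer ({s} : Set G)) D₁
    (hG s hsB.order_pow) hD₁p inf_le_right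
  have hsR : CentralIn (R : Subgroup G) s := by
    refine ⟨hD₁R hsD₁, ?_⟩
    intro u hu
    have := hRs hu
    rwa [Subgroup.mem_centralizer_singleton_iff] at this
  have hsub : Wset m (P : Subgroup G) ⊆ Wset m (R : Subgroup G) := by
    rintro t' ⟨ht'B, ht'P⟩
    refine ⟨ht'B, ?_⟩
    have ht'D₁ : t' ∈ D₁ := by
      rw [hD₁, Subgroup.mem_inf, Subgroup.mem_centralizer_singleton_iff]
      exact ⟨ht'P.1, (ht'P.2 s hsP).symm⟩
    have ht'R : t' ∈ (R : Subgroup G) := hD₁R ht'D₁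
    refine ⟨ht'R, ?_⟩
    by_contra hbad
    have hle := hmax ⟨(R, t'), ht'B, ht'R, hbad⟩
    simp only [f] at hle
    have hD₁le : D₁ ≤ (R : Subgroup G) ⊓ Subgroup.centralizer ({t'} : Set G) := by
      intro d hd
      rw [Subgroup.mem_inf, Subgroup.mem_centralizer_singleton_iff]
      rw [hD₁, Subgroup.mem_inf] at hd
      exact ⟨hD₁R (by rw [hD₁, Subgroup.mem_inf]; exact hd), ht'P.2 d hd.1⟩
    have heq : D₁ = (R : Subgroup G) ⊓ Subgroup.centralizer ({t'} : Set G) :=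
      Subgroup.eq_of_le_of_card_ge hD₁le hle
    obtain ⟨a', ha'C, ha'⟩ := root_in_center hG m t' ht'B P ht'P
    have ha'D₁ : a' ∈ D₁ := by
      rw [hD₁, Subgroup.mem_inf, Subgroup.mem_centralizer_singleton_iff]
      exact ⟨ha'C.1, (ha'C.2 s hsP).symm⟩
    apply hbad
    have := central_of_root m hm R a' (hD₁R ha'D₁) (by
      intro u hu hcomm
      rw [ha'] at hcomm
      have huD : u ∈ D₁ := by
        rw [heq, Subgroup.mem_inf, Subgroup.mem_centralizer_singleton_iff]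
        exact ⟨hu, hcomm⟩
      rw [hD₁, Subgroup.mem_inf] at huD
      exact ha'C.2 u huD.1)
    rw [ha'] at this
    exact this
  have hfinW : (Wset m (R : Subgroup G)).Finite := Set.toFinite _
  have heqW : Wset m (P : Subgroup G) = Wset m (R : Subgroup G) :=
    Set.eq_of_subset_of_ncard_le hsub (ncard_Wset_sylow m P R).le hfinW
  have hsW : s ∈ Wset m (P : Subgroup G) := by
    rw [heqW]
    exact ⟨hsB, hsR⟩
  exact hsbad hsW.2.2

end Cfsg.Agent.Lib.Helper1.PCentral
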