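import Mathlib
import Cfsg.Agent.Lib.Helper1.PCentralE

set_option autoImplicit false

namespace Cfsg.Agent.Lib.Helper1.PCentral

open scoped Pointwise

theorem exists_sylow_common {G : Type*} [Group G] [Finite G] (hG : HH 2 G) (m : ℕ)
    (hm : ∀ x : G, (∃ k : ℕ, orderOf x = 2 ^ k) → x ^ (2 * m) = 1) (t : G) (ht : Big m t)
    (x : G) (hx : ∃ k : ℕ, orderOf x = 2 ^ k) (hxt : x * t = t * x) :
    ∃ R : Sylow 2 G, (R : Subgroup G) ≤ Subgroup.centralizer ({t} : Set G) ∧
      (R : Subgroup G) ≤ Subgroup.centralizer ({x} : Set G) := by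
  have : Fact (Nat.Prime 2) := ⟨Nat.prime_two⟩
  obtain ⟨k, hk⟩ := ht.order_pow
  have hT : IsPGroup 2 (Subgroup.zpowers t) :=
    Cfsg.Agent.Lib.Helper1.TwoClasses.isPGroup_zpowers_of_orderOf t k hk
  have hTH : Subgroup.zpowers t ≤ Subgroup.centralizer ({x} : Set G) := by
    rw [Subgroup.zpowers_le, Subgroup.mem_centralizer_singleton_iff]
    exact hxt.symm
  obtain ⟨R, hTR, hRx⟩ := exists_sylow_between 2 (Subgroup.centralizer ({x} : Set G))
    (Subgroup.zpowers t) (hG x hx) hT hTH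
  refine ⟨R, ?_, hRx⟩
  intro u hu
  rw [Subgroup.mem_centralizer_singleton_iff]
  exact big_central hG m hm R t ht (hTR (Subgroup.mem_zpowers t)) u hu

theorem HH_centralizer {G : Type*} [Group G] [Finite G] (hG : HH 2 G) (m : ℕ)
    (hm : ∀ x : G, (∃ k : ℕ, orderOf x = 2 ^ k) → x ^ (2 * m) = 1) (t : G) (ht : Big m t) :
    HH 2 (Subgroup.centralizer ({t} : Set G)) := by
  have : Fact (Nat.Prime 2) := ⟨Nat.prime_two⟩
  set C : Subgroup G := Subgroup.centralizer ({t} : Set G) with hC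
  intro x hx hdvd
  have h1 : Subgroup.centralizer ({x} : Set C) =
      (Subgroup.centralizer ({(x : G)} : Set G)).subgroupOf C := by
    ext g
    rw [Subgroup.mem_subgroupOf, Subgroup.mem_centralizer_singleton_iff,
      Subgroup.mem_centralizer_singleton_iff, Subtype.ext_iff]
    rfl
  rw [h1] at hdvd
  have hx' : ∃ k : ℕ, orderOf (x : G) = 2 ^ k := by
    obtain ⟨k, hk⟩ := hx
    exact ⟨k, by rw [Subgroup.orderOf_coe]; exact hk⟩
  have hxt : (x : G) * t = t * (x : G) := by
    have h2 : (x : G) ∈ Subgroup.centralizer ({t} : Set G) := x.2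
    rwa [Subgroup.mem_centralizer_singleton_iff] at h2
  obtain ⟨R, hRt, hRx⟩ := exists_sylow_common hG m hm t ht (x : G) hx' hxt
  have e1 : (Subgroup.centralizer ({(x : G)} : Set G)).relIndex C ∣ (R : Subgroup G).relIndex C :=
    Subgroup.relIndex_dvd_of_le_left C hRx
  have e2 : (R : Subgroup G).relIndex C ∣ (R : Subgroup G).index :=
    Subgroup.relIndex_dvd_index_of_le hRt
  exact R.not_dvd_index ((hdvd.trans e1).trans e2)

end Cfsg.Agent.Lib.Helper1.PCentral
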