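import Mathlib
import Cfsg.Agent.Lib.Helper1.PCentralF

set_option autoImplicit false

universe u

namespace Cfsg.Agent.Lib.Helper1.PCentral

open scoped Pointwise

theorem exists_exponent_data {G : Type u} [Group G] [Finite G] (P : Sylow 2 G)
    (hP : ¬ IsMulCommutative P) :
    ∃ m : ℕ, (∀ x : G, (∃ k : ℕ, orderOf x = 2 ^ k) → x ^ (2 * m) = 1) ∧
      ∃ g ∈ (P : Subgroup G), g ^ m ≠ 1 := by
  have : Fact (Nat.Prime 2) := ⟨Nat.prime_two⟩
  set E := Monoid.exponent (P : Subgroup G) with hE
  obtain ⟨n, hn⟩ := IsPGroup.iff_card.mp P.2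
  have hEd : E ∣ 2 ^ n := hn ▸ Group.exponent_dvd_nat_card
  obtain ⟨e, _, he⟩ := (Nat.dvd_prime_pow Nat.prime_two).mp hEd
  rcases Nat.eq_zero_or_pos e with h0 | hpos
  · exfalso
    apply hP
    rw [h0, pow_zero] at he
    have h1 : ∀ x : (P : Subgroup G), x = 1 := by
      intro x
      have := Monoid.pow_exponent_eq_one x
      rw [← hE, he, pow_one] at this
      exact this
    exact ⟨⟨fun a b => by rw [h1 a, h1 b]⟩⟩
  · obtain ⟨e', rfl⟩ : ∃ e', e = e' + 1 := ⟨e - 1, by omega⟩
    refine ⟨2 ^ e', ?_, ?_⟩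
    · intro x hx
      obtain ⟨k, hk⟩ := hx
      obtain ⟨Q, hQ⟩ :=
        (Cfsg.Agent.Lib.Helper1.TwoClasses.isPGroup_zpowers_of_orderOf x k hk).exists_le_sylow
      obtain ⟨c, hc⟩ := MulAction.exists_smul_eq G Q P
      have hxP : c * x * c⁻¹ ∈ (P : Subgroup G) := by
        rw [← hc]
        exact Subgroup.smul_mem_pointwise_smul x (MulAut.conj c) (Q : Subgroup G)
          (hQ (Subgroup.mem_zpowers x))
      have h1 := Monoid.pow_exponent_eq_one (⟨c * x * c⁻¹, hxP⟩ : (P : Subgroup G))
      rw [← hE, he] at h1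
      have h2 := congrArg Subtype.val h1
      simp only [SubmonoidClass.mk_pow, Subgroup.coe_one] at h2
      rw [conj_pow] at h2
      have h3 : x ^ 2 ^ (e' + 1) = 1 := by
        calc x ^ 2 ^ (e' + 1) = c⁻¹ * (c * x ^ 2 ^ (e' + 1) * c⁻¹) * c := by group
          _ = 1 := by rw [h2]; group
      rw [← pow_succ']
      exact h3
    · by_contra hcon
      push_neg at hcon
      have h1 : E ∣ 2 ^ e' := by
        rw [hE, Monoid.exponent_dvd_iff_forall_pow_eq_one]
        intro g
        apply Subtype.ext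
        have := hcon g g.2
        simpa using this
      rw [he] at h1
      have := (Nat.pow_dvd_pow_iff_le_right (by norm_num : 1 < 2)).mp h1
      omega

theorem camina_herzog_aux : ∀ n : ℕ, ∀ (G : Type u) [Group G] [Finite G], Nat.card G = n →
    HH 2 G → ∀ P : Sylow 2 G, IsMulCommutative P := by
  intro n
  induction n using Nat.strong_induction_on with
  | _ n ih =>
  intro G _ _ hn hG P
  have : Fact (Nat.Prime 2) := ⟨Nat.prime_two⟩
  by_contra hP
  obtain ⟨m, hm, g, hgP, hgm⟩ := exists_exponent_data P hP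
  set t := g ^ m with ht
  have hgo : ∃ k : ℕ, orderOf g = 2 ^ k := by
    obtain ⟨k, hk⟩ := (IsPGroup.iff_orderOf.mp P.2) ⟨g, hgP⟩
    rw [Subgroup.orderOf_mk] at hk
    exact ⟨k, hk⟩
  have htB : Big m t := ⟨g, hgo, rfl⟩
  have htP : t ∈ (P : Subgroup G) := Subgroup.pow_mem _ hgP m
  have htZ := big_central hG m hm P t htB htP
  set C : Subgroup G := Subgroup.centralizer ({t} : Set G) with hC
  have hPC : (P : Subgroup G) ≤ C := by
    intro u hu
    rw [hC, Subgroup.mem_centralizer_singleton_iff]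
    exact htZ u hu
  by_cases hCtop : C = ⊤
  · have hcen : ∀ u : G, u * t = t * u := by
      intro u
      have : u ∈ C := by rw [hCtop]; exact Subgroup.mem_top u
      rwa [hC, Subgroup.mem_centralizer_singleton_iff] at this
    set N : Subgroup G := Subgroup.zpowers t with hN
    have hNn : N.Normal := by
      refine ⟨fun a ha u => ?_⟩
      have h1 : u * a * u⁻¹ = a := by
        rw [hN, Subgroup.mem_zpowers_iff] at ha
        obtain ⟨k, rfl⟩ := ha
        have : Commute u (t ^ k) := Commute.zpow_right (hcen u) k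
        rw [this.eq]; group
      rw [h1]; exact ha
    have hlt : Nat.card (G ⧸ N) < n := by
      rw [← hn, Subgroup.card_eq_card_quotient_mul_card_subgroup N]
      have h1 : 2 ≤ Nat.card N := by
        rw [hN, Nat.card_zpowers]
        have h2 : orderOf t ≠ 1 := by
          rw [Ne, orderOf_eq_one_iff]; exact hgm
        have h3 : 0 < orderOf t := orderOf_pos t
        omega
      have h4 : 0 < Nat.card (G ⧸ N) := Nat.card_pos
      nlinarith
    have hQ : ∀ S : Sylow 2 (G ⧸ N), IsMulCommutative S :=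
      ih _ hlt (G ⧸ N) rfl (HH_quotient 2 hG N)
    have hNc : ∀ S : Sylow 2 N, IsMulCommutative S := by
      intro S
      refine ⟨⟨fun a b => Subtype.ext ?_⟩⟩
      have := (Subgroup.zpowers_isMulCommutative t).is_comm.comm (a : N) (b : N)
      exact this
    exact hP (sylow_comm_of_normal 2 hG N hNc hQ P)
  · have hlt : Nat.card C < n := by
      rw [← hn]
      apply lt_of_le_of_ne (Subgroup.card_le_card_group C)
      intro h
      exact hCtop (Subgroup.eq_top_of_card_eq C h)
    have hS : ∀ S : Sylow 2 C, IsMulCommutative S :=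
      ih _ hlt C rfl (HH_centralizer hG m hm t htB)
    apply hP
    have h1 := hS (P.subtype hPC)
    refine ⟨⟨fun a b => Subtype.ext ?_⟩⟩
    have ha : (⟨(a : G), hPC a.2⟩ : C) ∈ (P.subtype hPC : Subgroup C) := by
      rw [Sylow.coe_subtype, Subgroup.mem_subgroupOf]; exact a.2
    have hb : (⟨(b : G), hPC b.2⟩ : C) ∈ (P.subtype hPC : Subgroup C) := by
      rw [Sylow.coe_subtype, Subgroup.mem_subgroupOf]; exact b.2
    have h2 := h1.is_comm.comm ⟨_, ha⟩ ⟨_, hb⟩
    have h3 := congrArg Subtype.val (congrArg Subtype.val h2)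
    exact h3

theorem camina_herzog {G : Type u} [Group G] [Finite G] (hG : HH 2 G) (P : Sylow 2 G) :
    IsMulCommutative P :=
  camina_herzog_aux (Nat.card G) G rfl hG P

end Cfsg.Agent.Lib.Helper1.PCentral
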