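import Mathlib
import Cfsg.Agent.Lib.Helper22.PG.Defs

set_option autoImplicit false

namespace Cfsg.Agent.Lib.Helper22.PG

open Subgroup

theorem h1_centralizes_of_arith {G₀ : Type*} [Group G₀] [Finite G₀] (Q' : Subgroup G₀)
    (r p a : ℕ) (hr : r.Prime) (hp : p.Prime) (hQ' : Nat.card Q' = p ^ a)
    (harith : ∀ b : ℕ, b < a → ¬ r ∣ p ^ a - p ^ b)
    (x' : normalizer (Q' : Set G₀)) (hx' : orderOf x' = r) :
    ∀ q ∈ Q', (x' : G₀) * q = q * (x' : G₀) := by
  have : Fact p.Prime := ⟨hp⟩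
  have : Fact r.Prime := ⟨hr⟩
  set S : Subgroup (normalizer (Q' : Set G₀)) := Subgroup.zpowers x' with hS
  have hSp : IsPGroup r S := by
    apply IsPGroup.of_card (n := 1)
    rw [pow_one, hS, Nat.card_zpowers, hx']
  have hmod := hSp.card_modEq_card_fixedPoints (↥Q')
  set C : Subgroup ↥Q' := FixedPoints.subgroup S ↥Q' with hC
  have hcardC : Nat.card (MulAction.fixedPoints S ↥Q') = Nat.card C := rfl
  rw [hcardC, hQ'] at hmod
  have hdvd : Nat.card C ∣ p ^ a := by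
    rw [← hQ']
    exact Subgroup.card_subgroup_dvd_card C
  obtain ⟨b, hb, hCb⟩ := (Nat.dvd_prime_pow hp).mp hdvd
  rw [hCb] at hmod
  have hba : b = a := by
    by_contra hne
    have hlt : b < a := lt_of_le_of_ne hb hne
    apply harith b hlt
    exact (Nat.modEq_iff_dvd' (Nat.pow_le_pow_right hp.pos hb)).mp hmod.symm
  have htop : C = ⊤ := by
    rw [← Subgroup.card_eq_iff_eq_top, hCb, hba, hQ']
  intro q hq
  have hmem : (⟨q, hq⟩ : ↥Q') ∈ C := by
    rw [htop]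
    exact Subgroup.mem_top _
  rw [hC, FixedPoints.mem_subgroup] at hmem
  have h1 := hmem ⟨x', Subgroup.mem_zpowers x'⟩
  have h2 : ((⟨x', Subgroup.mem_zpowers x'⟩ : S) • (⟨q, hq⟩ : ↥Q') : ↥Q') =
      ⟨(x' : G₀) * q * (x' : G₀)⁻¹, (x'.2 q).mp hq⟩ := rfl
  rw [h2] at h1
  have h3 : (x' : G₀) * q * (x' : G₀)⁻¹ = q := congrArg Subtype.val h1
  calc (x' : G₀) * q = ((x' : G₀) * q * (x' : G₀)⁻¹) * (x' : G₀) := by group
    _ = q * (x' : G₀) := by rw [h3]

theorem exists_commuting_of_normal {G₀ : Type*} [Group G₀] [Finite G₀] (K : Subgroup G₀) [K.Normal]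
    (r p : ℕ) (hr : r.Prime) (hp : p.Prime) (hrG : r ∣ Nat.card G₀) (hrK : ¬ r ∣ Nat.card K)
    (hpK : p ∣ Nat.card K)
    (harith : ∀ a b : ℕ, p ^ a ∣ Nat.card K → b < a → ¬ r ∣ p ^ a - p ^ b) :
    ∃ x k : G₀, orderOf x = r ∧ orderOf k = p ∧ k ∈ K ∧ x * k = k * x := by
  have : Fact p.Prime := ⟨hp⟩
  have : Fact r.Prime := ⟨hr⟩
  let Q : Sylow p K := default
  set Q' : Subgroup G₀ := (Q : Subgroup K).map K.subtype with hQ'
  have hfrat : normalizer (Q' : Set G₀) ⊔ K = ⊤ := Sylow.normalizer_sup_eq_top Q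
  have hrN : r ∣ Nat.card (normalizer (Q' : Set G₀)) := by
    have h1 : K.index = K.relIndex (normalizer (Q' : Set G₀)) := by
      rw [← Subgroup.relIndex_sup_right, hfrat, Subgroup.relIndex_top_right]
    have h2 : r ∣ Nat.card K * K.index := by
      rw [Subgroup.card_mul_index]
      exact hrG
    have h3 : r ∣ K.index := by
      rcases (Nat.Prime.dvd_mul hr).mp h2 with h | h
      · exact absurd h hrK
      · exact h
    rw [h1] at h3
    exact dvd_trans h3 (Subgroup.relIndex_dvd_card _ _)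
  obtain ⟨x', hx'⟩ := exists_prime_orderOf_dvd_card' r hrN
  obtain ⟨a, ha⟩ := IsPGroup.iff_card.mp Q.2
  have hcardQ' : Nat.card Q' = p ^ a := by
    rw [hQ', Subgroup.card_map_of_injective K.subtype_injective, ha]
  have hpaK : p ^ a ∣ Nat.card K := by
    rw [← ha]
    exact Subgroup.card_subgroup_dvd_card _
  have hcent := h1_centralizes_of_arith Q' r p a hr hp hcardQ' (fun b hb => harith a b hpaK hb)
    x' hx'
  have hpQ : p ∣ Nat.card (Q : Subgroup K) := Q.dvd_card_of_dvd_card hpK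
  obtain ⟨k', hk'⟩ := exists_prime_orderOf_dvd_card' p hpQ
  refine ⟨(x' : G₀), ((k' : K) : G₀), ?_, ?_, (k' : K).2, ?_⟩
  · rw [Subgroup.orderOf_coe, hx']
  · rw [Subgroup.orderOf_coe, Subgroup.orderOf_coe, hk']
  · apply hcent
    rw [hQ']
    exact Subgroup.mem_map_of_mem K.subtype k'.2

end Cfsg.Agent.Lib.Helper22.PG
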