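import Mathlib
import Cfsg.Agent.Lib.Helper22.PG.Defs

set_option autoImplicit false

namespace Cfsg.Agent.Lib.Helper22.PG

open Subgroup

theorem nc_relIndex_dvd {H : Type*} [Group H] [Finite H] (P : Subgroup H) (hP : Nat.card P = 11) :
    (centralizer (P : Set H)).relIndex (normalizer (P : Set H)) ∣ 10 := by
  have hcyc : IsCyclic P := isCyclic_of_prime_card hP
  have key := Subgroup.card_dvd_of_injective _
    (QuotientGroup.kerLift_injective P.normalizerMonoidHom)
  rw [normalizerMonoidHom_ker, ← index, ← relIndex] at key
  rw [hcyc.card_mulAut, hP] at key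
  have h10 : Nat.totient 11 = 10 := by rw [Nat.totient_prime (by norm_num)]
  rwa [h10] at key

end Cfsg.Agent.Lib.Helper22.PG
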