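import Mathlib
import Cfsg.Agent.Lib.Helper22.PG.Defs

set_option autoImplicit false

namespace Cfsg.Agent.Lib.Helper22.PG

open Subgroup

theorem h1_sylow_le_normal {H : Type*} [Group H] [Finite H] (N : Subgroup H) [N.Normal]
    (hN : ¬ 11 ∣ N.index) (P : Sylow 11 H) : (P : Subgroup H) ≤ N := by
  have h1 : IsPGroup 11 ((P : Subgroup H).map (QuotientGroup.mk' N)) := P.2.map _
  obtain ⟨k, hk⟩ := IsPGroup.iff_card.mp h1
  have h2 : Nat.card ((P : Subgroup H).map (QuotientGroup.mk' N)) ∣ N.index := by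
    rw [Subgroup.index_eq_card]
    exact Subgroup.card_subgroup_dvd_card _
  have hk0 : k = 0 := by
    by_contra hk0
    apply hN
    exact dvd_trans (dvd_pow_self 11 hk0) (hk ▸ h2)
  rw [hk0, pow_zero] at hk
  have h3 : (P : Subgroup H).map (QuotientGroup.mk' N) = ⊥ := Subgroup.card_eq_one.mp hk
  rw [Subgroup.map_eq_bot_iff, QuotientGroup.ker_mk'] at h3
  exact h3

theorem card_sylow_of_normal {H : Type*} [Group H] [Finite H] (N : Subgroup H) [N.Normal]
    (hN : ¬ 11 ∣ N.index) : Nat.card (Sylow 11 N) = Nat.card (Sylow 11 H) := by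
  have hle := h1_sylow_le_normal N hN
  symm
  apply Nat.card_congr
  refine Equiv.ofBijective (fun P => P.subtype (hle P)) ⟨?_, ?_⟩
  · intro P P' h
    exact Sylow.subtype_injective h
  · intro Q
    obtain ⟨P, hP⟩ := IsPGroup.exists_le_sylow (Q.2.map N.subtype)
    refine ⟨P, ?_⟩
    symm
    apply Sylow.ext
    symm
    apply Q.3 (P.subtype (hle P)).2
    intro q hq
    show q ∈ (P : Subgroup H).subgroupOf N
    rw [Subgroup.mem_subgroupOf]
    apply hP
    exact Subgroup.mem_map_of_mem N.subtype hq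

end Cfsg.Agent.Lib.Helper22.PG
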