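import Cfsg.Agent.Lib.Helper1.SLK.Defs

/-!
# Project SLK, rows M3 and MAIN (cores): assembly from the statements of the cited rows
-/

set_option autoImplicit false

namespace Cfsg.Agent.Lib.Helper1.SLK

open Polynomial
open Cfsg.Agent.Lib.Helper29.GLK

universe u

theorem slkm3_core {F : Type u} [Field F] [Fintype F] [DecidableEq F] (n : ℕ)
    (hM2 : Nat.card (ConjClasses (Matrix.SpecialLinearGroup (Fin n) F)) ≤
      ∑ T ∈ (tupFin F n).filter (fun T => tdet T = 1), tg (Fintype.card F) T)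
    (hE8 : (Fintype.card F - 1) *
        ∑ T ∈ (tupFin F n).filter (fun T => tdet T = 1), tg (Fintype.card F) T ≤
      ∑ T ∈ tupFin F n, tg (Fintype.card F) T ^ 2)
    (hR3 : ∑ T ∈ tupFin F n, tg (Fintype.card F) T ^ 2 ≤
      (tupFin F n).card +
        ∑ d ∈ (Nat.divisors (Nat.gcd n (Fintype.card F - 1))).filter (fun d => 1 < d),
          (d ^ 2 - 1) * (tupFin F (n / d)).card) :
    (Fintype.card F - 1) * Nat.card (ConjClasses (Matrix.SpecialLinearGroup (Fin n) F)) ≤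
      (tupFin F n).card +
        ∑ d ∈ (Nat.divisors (Nat.gcd n (Fintype.card F - 1))).filter (fun d => 1 < d),
          (d ^ 2 - 1) * (tupFin F (n / d)).card :=
  (Nat.mul_le_mul_left _ hM2).trans (hE8.trans hR3)

theorem slkmain_core {F : Type u} [Field F] [Fintype F] (n : ℕ) (hn : 2 ≤ n)
    (hL4 : Fintype.card F ^ (n - 1) <
      Nat.card (ConjClasses (Matrix.SpecialLinearGroup (Fin n) F)))
    (hM3 : (Fintype.card F - 1) * Nat.card (ConjClasses (Matrix.SpecialLinearGroup (Fin n) F)) ≤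
      (tupFin F n).card +
        ∑ d ∈ (Nat.divisors (Nat.gcd n (Fintype.card F - 1))).filter (fun d => 1 < d),
          (d ^ 2 - 1) * (tupFin F (n / d)).card)
    (hN1 : ∀ m : ℕ, (tupFin F m).card ≤ cnt (Fintype.card F) m 1 m)
    (hN8 : ∀ (n q k : ℕ) (K : ℕ → ℕ), 2 ≤ n → 2 ≤ q → (∀ m, K m ≤ cnt q m 1 m) →
      (q - 1) * k ≤ K n +
        ∑ d ∈ (Nat.divisors (Nat.gcd n (q - 1))).filter (fun d => 1 < d),
          (d ^ 2 - 1) * K (n / d) →
      2 * k ≤ 5 * q ^ (n - 1) ∧ (3 ≤ n → k ≤ q ^ (n - 1) + 3 * q ^ (n - 2))) :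
    Fintype.card F ^ (n - 1) < Nat.card (ConjClasses (Matrix.SpecialLinearGroup (Fin n) F)) ∧ 2 * Nat.card (ConjClasses (Matrix.SpecialLinearGroup (Fin n) F)) ≤ 5 * Fintype.card F ^ (n - 1) ∧
      (3 ≤ n → Nat.card (ConjClasses (Matrix.SpecialLinearGroup (Fin n) F)) ≤ Fintype.card F ^ (n - 1) + 3 * Fintype.card F ^ (n - 2)) :=
  ⟨hL4, hN8 n (Fintype.card F) _ (fun m => (tupFin F m).card) hn Fintype.one_lt_card hN1 hM3⟩

end Cfsg.Agent.Lib.Helper1.SLK
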