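import Cfsg.Agent.Lib.Helper1.SLK.Defs
import Cfsg.Agent.Lib.Helper19.GLKL

/-!
# Project SLK, rows R1, N1, L1, L2
-/

set_option autoImplicit false

namespace Cfsg.Agent.Lib.Helper1.SLK

open Polynomial
open Cfsg.Agent.Lib.Helper29.GLK

universe u

/-- R1 -/
theorem tE_dvd {F : Type u} [Field F] {n : ℕ} (T : Fin n → F[X]) (hT : T ∈ tupSet F n 1 n) :
    tE T ∣ n := by
  obtain ⟨_, h2⟩ := hT
  have h3 : tE T ∣ ∑ i : Fin n, (1 + (i : ℕ)) * (T i).natDegree := by
    refine Finset.dvd_sum (fun i _ => ?_)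
    by_cases h : (T i).natDegree = 0
    · rw [h, mul_zero]; exact dvd_zero _
    · have h1 : tE T ∣ (i : ℕ) + 1 := by
        unfold tE
        exact Finset.gcd_dvd (f := fun i : Fin n => (i : ℕ) + 1)
          (Finset.mem_filter.mpr ⟨Finset.mem_univ i, h⟩)
      rw [add_comm] at h1
      exact Dvd.dvd.mul_right h1 _
  exact h3.trans (dvd_of_eq h2)

/-- N1 -/
theorem card_tupFin_le {F : Type u} [Field F] [Fintype F] (m : ℕ) :
    (tupFin F m).card ≤ cnt (Fintype.card F) m 1 m := by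
  have h := (tupSet_card_le F m 1 m le_rfl).2
  unfold tupFin
  rwa [Set.ncard_eq_toFinset_card _ (tupSet_card_le F m 1 m le_rfl).1] at h

/-- L1 -/
theorem exists_sl_charpoly {F : Type u} [Field F] (n : ℕ) (f : F[X]) (hf : f.Monic)
    (hd : f.natDegree = n) (h0 : f.coeff 0 = (-1) ^ n) :
    ∃ x : Matrix.SpecialLinearGroup (Fin n) F, (x : Matrix (Fin n) (Fin n) F).charpoly = f := by
  have h0' : f.coeff 0 ≠ 0 := by
    rw [h0]; exact pow_ne_zero _ (neg_ne_zero.mpr one_ne_zero)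
  obtain ⟨g, hg⟩ := glkL_exists_gl n f hf hd h0'
  have hdet : (g : Matrix (Fin n) (Fin n) F).det = 1 := by
    rw [Matrix.det_eq_sign_charpoly_coeff, hg, h0, Fintype.card_fin, ← mul_pow]
    norm_num
  exact ⟨⟨(g : Matrix (Fin n) (Fin n) F), hdet⟩, hg⟩

/-- L2 -/
theorem sl_charpoly_eq_of_isConj {F : Type u} [Field F] {n : ℕ}
    (x y : Matrix.SpecialLinearGroup (Fin n) F) (h : IsConj x y) :
    (x : Matrix (Fin n) (Fin n) F).charpoly = (y : Matrix (Fin n) (Fin n) F).charpoly := by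
  obtain ⟨c, hc⟩ := isConj_iff.mp h
  rw [← hc, Matrix.SpecialLinearGroup.coe_mul, Matrix.SpecialLinearGroup.coe_mul,
    Matrix.mul_assoc, Matrix.charpoly_mul_comm, Matrix.mul_assoc,
    ← Matrix.SpecialLinearGroup.coe_mul, inv_mul_cancel, Matrix.SpecialLinearGroup.coe_one,
    Matrix.mul_one]

end Cfsg.Agent.Lib.Helper1.SLK
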