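import Cfsg.Agent.Lib.Helper1.SLK.Defs

/-!
# Project SLK, rows E1–E5: the torus action `tsc` on tuples
-/

set_option autoImplicit false

namespace Cfsg.Agent.Lib.Helper1.SLK

open Polynomial
open Cfsg.Agent.Lib.Helper29.GLK

universe u

/-- E1 -/
theorem natDegree_tsc {F : Type u} [Field F] {n : ℕ} (c : Fin n → Fˣ) (T : Fin n → F[X])
    (i : Fin n) : (tsc c T i).natDegree = (T i).natDegree := by
  unfold tsc
  split_ifs with h
  · rfl
  · exact natDegree_add_C

theorem slke_tsc_of_eq {F : Type u} [Field F] {n : ℕ} (c : Fin n → Fˣ) (T : Fin n → F[X])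
    (i : Fin n) (h : (T i).natDegree = 0) : tsc c T i = T i := by
  unfold tsc; rw [if_pos h]

theorem slke_tsc_of_ne {F : Type u} [Field F] {n : ℕ} (c : Fin n → Fˣ) (T : Fin n → F[X])
    (i : Fin n) (h : (T i).natDegree ≠ 0) :
    tsc c T i = T i + C (((c i : F) - 1) * (T i).coeff 0) := by
  unfold tsc; rw [if_neg h]

theorem slke_coeff_zero_tsc {F : Type u} [Field F] {n : ℕ} (c : Fin n → Fˣ) (T : Fin n → F[X])
    (i : Fin n) (h : (T i).natDegree ≠ 0) :
    (tsc c T i).coeff 0 = (c i : F) * (T i).coeff 0 := by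
  rw [slke_tsc_of_ne c T i h, coeff_add, coeff_C_zero]
  ring

/-- E2 -/
theorem tsc_mem {F : Type u} [Field F] {n : ℕ} (c : Fin n → Fˣ) (T : Fin n → F[X])
    (hT : T ∈ tupSet F n 1 n) : tsc c T ∈ tupSet F n 1 n := by
  obtain ⟨h1, h2⟩ := hT
  refine ⟨fun i => ?_, ?_⟩
  · by_cases h : (T i).natDegree = 0
    · rw [slke_tsc_of_eq c T i h]; exact h1 i
    · refine ⟨?_, ?_⟩
      · rw [slke_tsc_of_ne c T i h]
        apply (h1 i).1.add_of_left
        refine lt_of_le_of_lt degree_C_le ?_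
        rw [degree_eq_natDegree (h1 i).1.ne_zero]
        exact_mod_cast Nat.pos_of_ne_zero h
      · rw [slke_coeff_zero_tsc c T i h]
        exact mul_ne_zero (c i).ne_zero (h1 i).2
  · simp only [natDegree_tsc]
    exact h2

/-- E3 -/
theorem tsc_inv {F : Type u} [Field F] {n : ℕ} (c : Fin n → Fˣ) (T : Fin n → F[X]) :
    tsc c⁻¹ (tsc c T) = T := by
  funext i
  by_cases h : (T i).natDegree = 0
  · have h' : (tsc c T i).natDegree = 0 := by rw [natDegree_tsc]; exact h
    rw [slke_tsc_of_eq c⁻¹ _ i h', slke_tsc_of_eq c T i h]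
  · have h' : (tsc c T i).natDegree ≠ 0 := by rw [natDegree_tsc]; exact h
    rw [slke_tsc_of_ne c⁻¹ _ i h', slke_coeff_zero_tsc c T i h, slke_tsc_of_ne c T i h,
      add_assoc, ← C_add]
    have : ((c i : F) - 1) * (T i).coeff 0 +
        (((c⁻¹ i : Fˣ) : F) - 1) * ((c i : F) * (T i).coeff 0) = 0 := by
      have hc : ((c⁻¹ i : Fˣ) : F) * (c i : F) = 1 := by
        rw [Pi.inv_apply, ← Units.val_mul, inv_mul_cancel, Units.val_one]
      linear_combination (T i).coeff 0 * hc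
    rw [this, C_0, add_zero]

/-- E4 -/
theorem tdet_tsc {F : Type u} [Field F] {n : ℕ} (c : Fin n → Fˣ) (T : Fin n → F[X]) :
    tdet (tsc c T) = tdet T * ((tchi T c : Fˣ) : F) := by
  classical
  unfold tdet
  have h1 : ((tchi T c : Fˣ) : F) =
      ∏ i : Fin n, (if (T i).natDegree ≠ 0 then ((c i : F)) ^ ((i : ℕ) + 1) else 1) := by
    show ((∏ i ∈ Finset.univ.filter (fun i : Fin n => (T i).natDegree ≠ 0),
      c i ^ ((i : ℕ) + 1) : Fˣ) : F) = _
    rw [Units.coe_prod, Finset.prod_filter]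
    refine Finset.prod_congr rfl (fun i _ => ?_)
    split_ifs <;> simp
  rw [h1, ← Finset.prod_mul_distrib]
  refine Finset.prod_congr rfl (fun i _ => ?_)
  rw [natDegree_tsc]
  by_cases h : (T i).natDegree = 0
  · rw [slke_tsc_of_eq c T i h]
    simp [h]
  · rw [slke_coeff_zero_tsc c T i h, if_pos h]
    ring

/-- E5 -/
theorem tE_tsc {F : Type u} [Field F] {n : ℕ} (c : Fin n → Fˣ) (T : Fin n → F[X]) :
    tE (tsc c T) = tE T ∧ tchi (tsc c T) = tchi T := by
  constructor
  · unfold tE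
    simp only [natDegree_tsc]
  · refine MonoidHom.ext fun c' => ?_
    show (∏ i ∈ Finset.univ.filter (fun i : Fin n => (tsc c T i).natDegree ≠ 0),
      c' i ^ ((i : ℕ) + 1) : Fˣ) = (∏ i ∈ Finset.univ.filter
        (fun i : Fin n => (T i).natDegree ≠ 0), c' i ^ ((i : ℕ) + 1) : Fˣ)
    simp only [natDegree_tsc]

end Cfsg.Agent.Lib.Helper1.SLK
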