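import Cfsg.Agent.Lib.Helper1.SLKM2core
import Cfsg.Agent.Lib.Helper1.SLKM3core
import Cfsg.Agent.Lib.Helper1.SLKR1
import Cfsg.Agent.Lib.Helper10.SLKA3
import Cfsg.Agent.Lib.Helper10.SLKD5
import Cfsg.Agent.Lib.helper4.SLKD3
import Cfsg.Agent.Lib.helper4.SLKD4
import Cfsg.Agent.Lib.Helper22.SLKA4core
import Cfsg.Agent.Lib.Helper22.SLKA5
import Cfsg.Agent.Lib.Helper26.SLKA6core
import Cfsg.Agent.Lib.helper2.SLKA7core
import Cfsg.Agent.Lib.Helper13.SLKA8core
import Cfsg.Agent.Lib.Helper12.SLKL4core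
import Cfsg.Agent.Lib.helper7.SLKL3
import Cfsg.Agent.Lib.helper7.SLKM1
import Cfsg.Agent.Lib.Helper29.SLKE8
import Cfsg.Agent.Lib.Helper26.SLKR3
import Cfsg.Agent.Lib.Helper18.SLKN48

/-!
# Project SLK: rows M2, M3, MAIN (verbatim), assembled from the landed rows and cores
-/

set_option autoImplicit false

namespace Cfsg.Agent.Lib.Helper1.SLK

open Polynomial
open Cfsg.Agent.Lib.Helper29.GLK

universe u

/-- A4 under an own name (from helper22's core and the landed A3 D3 D4) -/
theorem slkmain_det_decomp {F : Type u} [Field F] [DecidableEq F] {n : ℕ}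
    (x : Matrix.GeneralLinearGroup (Fin n) F) {ι : Type u} [Fintype ι] (p : ι → F[X]) (e : ι → ℕ)
    (hp : ∀ j, Irreducible (p j))
    (Φ : gMod x ≃ₗ[F[X]] DirectSum ι fun j => F[X] ⧸ Ideal.span {p j ^ e j}) :
    (x : Matrix (Fin n) (Fin n) F).det =
      ∏ j, ((-1) ^ (p j).natDegree * (normalize (p j)).coeff 0) ^ e j :=
  slka4_core x (fun g a hg Φ => det_conj_dmul x g a hg Φ)
    (fun p a hp e => norm_quot_pow p a hp e) (fun p hp => norm_quot_X p hp) p e hp Φ

/-- A6 under an own name -/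
theorem slkmain_det_eq_tdet {F : Type u} [Field F] [DecidableEq F] {n : ℕ}
    (x : Matrix.GeneralLinearGroup (Fin n) F) (G : ℕ → F[X]) (h : IsInv x G) :
    (x : Matrix (Fin n) (Fin n) F).det = tdet (fun i : Fin n => G i) :=
  slka6_core x (fun p e hp Φ => slkmain_det_decomp x p e hp Φ)
    (fun p e G hp he hG => tdet_regroup p e G hp he hG) G h

/-- A7 under an own name -/
theorem slkmain_exists_commute_det_pow {F : Type u} [Field F] [Fintype F] [DecidableEq F] {n : ℕ}
    (x : Matrix.GeneralLinearGroup (Fin n) F) (G : ℕ → F[X]) (h : IsInv x G)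
    (i : Fin n) (hi : (G i).natDegree ≠ 0) (c : Fˣ) :
    ∃ h : Matrix.GeneralLinearGroup (Fin n) F,
      Commute h x ∧ Matrix.GeneralLinearGroup.det h = c ^ ((i : ℕ) + 1) :=
  slka7_core x (fun g a hg Φ => det_conj_dmul x g a hg Φ)
    (fun p a hp e => norm_quot_pow p a hp e) (fun p hp c => exists_norm_eq p hp c) G h i hi c

/-- A8 under an own name -/
theorem slkmain_slFib_ncard_le {F : Type u} [Field F] [Fintype F] [DecidableEq F] {n : ℕ}
    (x : Matrix.SpecialLinearGroup (Fin n) F) (G : ℕ → F[X])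
    (h : IsInv (Matrix.SpecialLinearGroup.toGL x) G) :
    (slFib x).ncard ≤ tg (Fintype.card F) (fun i : Fin n => G i) :=
  slka8_core x G (fun i hi c => slkmain_exists_commute_det_pow _ G h i hi c)

/-- L4 under an own name -/
theorem slkmain_lower {F : Type u} [Field F] [Fintype F] (n : ℕ) (hn : 2 ≤ n) :
    Fintype.card F ^ (n - 1) <
      Nat.card (ConjClasses (Matrix.SpecialLinearGroup (Fin n) F)) :=
  slkl4_core n hn (exists_unipotent n hn)

/-- M2 -/
theorem card_le_sum {F : Type u} [Field F] [Fintype F] [DecidableEq F] (n : ℕ) :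
    Nat.card (ConjClasses (Matrix.SpecialLinearGroup (Fin n) F)) ≤
      ∑ T ∈ (tupFin F n).filter (fun T => tdet T = 1), tg (Fintype.card F) T :=
  slkm2_core n (card_eq_sum_fibers _) (fun x G h => slkmain_det_eq_tdet x G h)
    (fun x G h => slkmain_slFib_ncard_le x G h)

/-- M3 -/
theorem upper_main {F : Type u} [Field F] [Fintype F] (n : ℕ) :
    (Fintype.card F - 1) * Nat.card (ConjClasses (Matrix.SpecialLinearGroup (Fin n) F)) ≤
      (tupFin F n).card +
        ∑ d ∈ (Nat.divisors (Nat.gcd n (Fintype.card F - 1))).filter (fun d => 1 < d),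
          (d ^ 2 - 1) * (tupFin F (n / d)).card := by
  classical
  exact slkm3_core n (card_le_sum n) (equidist n) (sq_sum_le n)

/-- MAIN -/
theorem final {F : Type*} [Field F] [Fintype F] (n : ℕ) (hn : 2 ≤ n) :
    Fintype.card F ^ (n - 1) < Nat.card (ConjClasses (Matrix.SpecialLinearGroup (Fin n) F)) ∧ 2 * Nat.card (ConjClasses (Matrix.SpecialLinearGroup (Fin n) F)) ≤ 5 * Fintype.card F ^ (n - 1) ∧
      (3 ≤ n → Nat.card (ConjClasses (Matrix.SpecialLinearGroup (Fin n) F)) ≤ Fintype.card F ^ (n - 1) + 3 * Fintype.card F ^ (n - 2)) :=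
  slkmain_core n hn (slkmain_lower n hn) (upper_main n) (fun m => card_tupFin_le m)
    (fun n q k K hn hq hK H => num_all n q k K hn hq hK H)

end Cfsg.Agent.Lib.Helper1.SLK
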