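import Cfsg.Agent.Lib.Helper1.PLK.Defs
import Cfsg.Agent.Lib.Helper1.SLKMAIN

/-!
# Project PLK, row C1 (core): the classes fixed by a central `z = ζ 1` are counted by the
twist-invariant tuples — from the statement of U12
-/

set_option autoImplicit false

namespace Cfsg.Agent.Lib.Helper1.PLK

open Polynomial
open Cfsg.Agent.Lib.Helper29.GLK
open Cfsg.Agent.Lib.Helper1.SLK

universe u

/-- a scalar matrix in `GL` commutes with everything -/
theorem plkc1_scalar_comm {F : Type u} [Field F] {n : ℕ}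
    (s g : Matrix.GeneralLinearGroup (Fin n) F) (ζ : F)
    (hs : (s : Matrix (Fin n) (Fin n) F) = ζ • (1 : Matrix (Fin n) (Fin n) F)) :
    s * g = g * s := by
  apply Units.ext
  rw [Units.val_mul, Units.val_mul, hs, Matrix.smul_mul, Matrix.one_mul, Matrix.mul_smul,
    Matrix.mul_one]

theorem plkc1_core {F : Type u} [Field F] [Fintype F] [DecidableEq F] (n : ℕ)
    (z : Matrix.SpecialLinearGroup (Fin n) F) (ζ : Fˣ)
    (hζ : (z : Matrix (Fin n) (Fin n) F) = (ζ : F) • (1 : Matrix (Fin n) (Fin n) F))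
    (hU12 : ∀ (x y : Matrix.GeneralLinearGroup (Fin n) F),
      (y : Matrix (Fin n) (Fin n) F) = (ζ : F) • (x : Matrix (Fin n) (Fin n) F) →
      IsConj y x → ∀ (G : ℕ → F[X]), IsInv x G → ∀ i k : ℕ, ¬ orderOf ζ ∣ k → (G i).coeff k = 0) :
    (czFix z).ncard ≤
      ∑ T ∈ (tupTw F n (orderOf ζ)).filter (fun T => tdet T = 1), tg (Fintype.card F) T := by
  classical
  set ι : Matrix.SpecialLinearGroup (Fin n) F →* Matrix.GeneralLinearGroup (Fin n) F :=
    Matrix.SpecialLinearGroup.toGL with hι
  have : Fintype (ConjClasses (Matrix.GeneralLinearGroup (Fin n) F)) := Fintype.ofFinite _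
  have : Fintype (ConjClasses (Matrix.SpecialLinearGroup (Fin n) F)) := Fintype.ofFinite _
  -- representatives
  let X : ConjClasses (Matrix.GeneralLinearGroup (Fin n) F) → Matrix.SpecialLinearGroup (Fin n) F :=
    fun C => if h : ∃ c, ConjClasses.map ι c = C then (Classical.choose h).out else 1
  have hX : ∀ C, (∃ c, ConjClasses.map ι c = C) → ConjClasses.mk (ι (X C)) = C := by
    intro C h
    have h1 : X C = (Classical.choose h).out := dif_pos h
    have h2 := Classical.choose_spec h
    rw [h1]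
    have h3 : ConjClasses.map ι (ConjClasses.mk (Classical.choose h).out) = C := by
      rw [show ConjClasses.mk (Classical.choose h).out = Classical.choose h from
        Quotient.out_eq _]
      exact h2
    exact h3
  have hex : ∀ C, ∃ G, IsInv (ι (X C)) G := fun C => exists_isInv _
  choose Γ hΓ using hex
  have hmem := fun C => isInv_mem _ _ (hΓ C)
  let T : ConjClasses (Matrix.GeneralLinearGroup (Fin n) F) → (Fin n → F[X]) :=
    fun C i => Γ C i
  -- the fixed classes as a finset, and their images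
  set A : Finset (ConjClasses (Matrix.SpecialLinearGroup (Fin n) F)) :=
    Finset.univ.filter (fun c => c ∈ czFix z) with hA
  have hAcard : (czFix z).ncard = A.card := by
    rw [hA, ← Set.ncard_coe_finset]
    congr 1
    ext c
    simp
  set Cs : Finset (ConjClasses (Matrix.GeneralLinearGroup (Fin n) F)) :=
    A.image (fun c => ConjClasses.map ι c) with hCs
  have hCmem : ∀ C ∈ Cs, ∃ c ∈ czFix z, ConjClasses.map ι c = C := by
    intro C hC
    rw [hCs, Finset.mem_image] at hC
    obtain ⟨c, hc, rfl⟩ := hC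
    rw [hA, Finset.mem_filter] at hc
    exact ⟨c, hc.2, rfl⟩
  rw [hAcard, Finset.card_eq_sum_card_fiberwise (f := fun c => ConjClasses.map ι c) (t := Cs)
    (fun c hc => Finset.mem_image_of_mem _ hc)]
  -- each fibre is bounded
  have hfib : ∀ C ∈ Cs, (A.filter (fun c => ConjClasses.map ι c = C)).card ≤
      tg (Fintype.card F) (T C) := by
    intro C hC
    obtain ⟨c, _, hc⟩ := hCmem C hC
    have h1 := hX C ⟨c, hc⟩
    have h2 := slkmain_slFib_ncard_le (X C) (Γ C) (hΓ C)
    have h3 : slFib (X C) = {c : ConjClasses (Matrix.SpecialLinearGroup (Fin n) F) |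
        ConjClasses.map ι c = C} := by
      unfold slFib
      rw [← hι, h1]
    rw [h3] at h2
    refine le_trans ?_ h2
    rw [← Set.ncard_coe_finset]
    apply Set.ncard_le_ncard _ (Set.toFinite _)
    intro c' hc'
    rw [Finset.mem_coe, Finset.mem_filter] at hc'
    exact hc'.2
  -- `T` is injective on `Cs`
  have hinj : Set.InjOn T Cs := by
    intro C hC C' hC' hTT
    obtain ⟨c, _, hc⟩ := hCmem C hC
    obtain ⟨c', _, hc'⟩ := hCmem C' hC'
    have hG : Γ C = Γ C' := by
      funext i
      by_cases hi : i < n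
      · exact congrFun hTT ⟨i, hi⟩
      · rw [(hmem C).2 i (not_lt.mp hi), (hmem C').2 i (not_lt.mp hi)]
    have hconj : IsConj (ι (X C)) (ι (X C')) := isConj_of_isInv _ _ _ (hΓ C) (hG ▸ hΓ C')
    rw [← hX C ⟨c, hc⟩, ← hX C' ⟨c', hc'⟩]
    exact ConjClasses.mk_eq_mk_iff_isConj.mpr hconj
  -- `T` lands in the filter
  have hTmem : ∀ C ∈ Cs, T C ∈ (tupTw F n (orderOf ζ)).filter (fun T => tdet T = 1) := by
    intro C hC
    obtain ⟨c, hcfix, hc⟩ := hCmem C hC
    rw [Finset.mem_filter, mem_tupTw]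
    refine ⟨⟨(hmem C).1, ?_⟩, ?_⟩
    · -- twist invariance
      intro i k hk
      obtain ⟨x0, hx0, hconj0⟩ := hcfix
      have hXC := hX C ⟨c, hc⟩
      -- `ι x0 ~ ι (X C)`
      have h1 : IsConj (ι x0) (ι (X C)) := by
        apply ConjClasses.mk_eq_mk_iff_isConj.mp
        rw [hXC, ← hc, ← hx0]
        rfl
      obtain ⟨g, hg⟩ := isConj_iff.mp h1
      have hzι : ((ι z : Matrix.GeneralLinearGroup (Fin n) F) : Matrix (Fin n) (Fin n) F) =
          (ζ : F) • (1 : Matrix (Fin n) (Fin n) F) := hζ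
      -- `ι (z * X C) = g * ι (z * x0) * g⁻¹`
      have h2 : ι (z * X C) = g * ι (z * x0) * g⁻¹ := by
        rw [map_mul, map_mul, ← hg]
        have hcomm := plkc1_scalar_comm (ι z) g (ζ : F) hzι
        calc ι z * (g * ι x0 * g⁻¹) = (ι z * g) * ι x0 * g⁻¹ := by group
          _ = (g * ι z) * ι x0 * g⁻¹ := by rw [hcomm]
          _ = g * (ι z * ι x0) * g⁻¹ := by group
      have h3 : IsConj (ι (z * x0)) (ι (z * X C)) := isConj_iff.mpr ⟨g, h2.symm⟩
      have h4 : IsConj (ι (z * x0)) (ι x0) := ι.map_isConj hconj0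
      have h5 : IsConj (ι (z * X C)) (ι (X C)) := (h3.symm.trans h4).trans h1
      have hy : ((ι (z * X C) : Matrix.GeneralLinearGroup (Fin n) F) :
          Matrix (Fin n) (Fin n) F) =
          (ζ : F) • ((ι (X C) : Matrix.GeneralLinearGroup (Fin n) F) :
            Matrix (Fin n) (Fin n) F) := by
        show ((z * X C : Matrix.SpecialLinearGroup (Fin n) F) : Matrix (Fin n) (Fin n) F) =
          (ζ : F) • ((X C : Matrix.SpecialLinearGroup (Fin n) F) : Matrix (Fin n) (Fin n) F)
        rw [Matrix.SpecialLinearGroup.coe_mul, hζ, Matrix.smul_mul, Matrix.one_mul]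
      exact hU12 (ι (X C)) (ι (z * X C)) hy h5 (Γ C) (hΓ C) i k hk
    · have h1 := slkmain_det_eq_tdet (ι (X C)) (Γ C) (hΓ C)
      rw [← h1]
      show ((X C : Matrix.SpecialLinearGroup (Fin n) F) : Matrix (Fin n) (Fin n) F).det = 1
      exact (X C).2
  calc ∑ C ∈ Cs, (A.filter (fun c => ConjClasses.map ι c = C)).card
      ≤ ∑ C ∈ Cs, tg (Fintype.card F) (T C) := Finset.sum_le_sum hfib
    _ = ∑ T' ∈ Cs.image T, tg (Fintype.card F) T' := (Finset.sum_image hinj).symm
    _ ≤ ∑ T' ∈ (tupTw F n (orderOf ζ)).filter (fun T => tdet T = 1),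
          tg (Fintype.card F) T' := by
        apply Finset.sum_le_sum_of_subset
        intro T' hT'
        rw [Finset.mem_image] at hT'
        obtain ⟨C, hC, rfl⟩ := hT'
        exact hTmem C hC

end Cfsg.Agent.Lib.Helper1.PLK
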