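import Cfsg.Agent.Lib.Helper1.PLKMAIN0
import Cfsg.Agent.Lib.Helper21.PLKNP4

/-!
# Project PLK: row MAIN (verbatim) — `q^(n-1) ≤ d k(PSL_n(q)) ≤ q^(n-1) + 5 q^(n-2)`
-/

set_option autoImplicit false

namespace Cfsg.Agent.Lib.Helper1.PLK

open Polynomial
open Cfsg.Agent.Lib.Helper29.GLK
open Cfsg.Agent.Lib.Helper1.SLK

/-- MAIN -/
theorem final_psl {F : Type*} [Field F] [Fintype F] (n : ℕ) (hn : 2 ≤ n) :
    Fintype.card F ^ (n - 1) ≤ Nat.gcd n (Fintype.card F - 1) * Nat.card (ConjClasses (Matrix.ProjectiveSpecialLinearGroup (Fin n) F)) ∧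
      Nat.gcd n (Fintype.card F - 1) * Nat.card (ConjClasses (Matrix.ProjectiveSpecialLinearGroup (Fin n) F)) ≤ Fintype.card F ^ (n - 1) + 5 * Fintype.card F ^ (n - 2) :=
  plkmain_final_of_np4 n hn
    (fun n q K hn hq hK Z z0 hz0 m f hcard hm0 hm hf =>
      psl_num n q K hn hq hK Z z0 hz0 m f hcard hm0 hm hf)

end Cfsg.Agent.Lib.Helper1.PLK
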