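import Cfsg.Agent.Lib.Helper1.PLK.Defs
import Cfsg.Agent.Lib.Helper1.SLKMAIN

/-!
# Project PLK, row MAIN (core): assembly from the statements of Z1c Z1d Z2 Z3 C2 NP4
-/

set_option autoImplicit false

namespace Cfsg.Agent.Lib.Helper1.PLK

open Polynomial
open Cfsg.Agent.Lib.Helper29.GLK
open Cfsg.Agent.Lib.Helper1.SLK

universe u

theorem plkmain_core {F : Type u} [Field F] [Fintype F] (n : ℕ) (hn : 2 ≤ n)
    (hZ1c : Nat.card (Subgroup.center (Matrix.SpecialLinearGroup (Fin n) F)) *
        Nat.card (ConjClasses (Matrix.SpecialLinearGroup (Fin n) F ⧸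
          Subgroup.center (Matrix.SpecialLinearGroup (Fin n) F))) =
      ∑ᶠ z : Subgroup.center (Matrix.SpecialLinearGroup (Fin n) F),
        (czFix (z : Matrix.SpecialLinearGroup (Fin n) F)).ncard)
    (hZ1d : czFix (1 : Matrix.SpecialLinearGroup (Fin n) F) = Set.univ)
    (hZ2 : Nat.card (Subgroup.center (Matrix.SpecialLinearGroup (Fin n) F)) =
      Nat.gcd n (Fintype.card F - 1))
    (hZ3 : ∀ z : Matrix.SpecialLinearGroup (Fin n) F,
      z ∈ Subgroup.center (Matrix.SpecialLinearGroup (Fin n) F) →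
      ∃ ζ : Fˣ, ζ ^ n = 1 ∧
        (z : Matrix (Fin n) (Fin n) F) = (ζ : F) • (1 : Matrix (Fin n) (Fin n) F))
    (hC2 : ∀ (z : Matrix.SpecialLinearGroup (Fin n) F),
      z ∈ Subgroup.center (Matrix.SpecialLinearGroup (Fin n) F) → ∀ ζ : Fˣ, ζ ^ n = 1 →
      (z : Matrix (Fin n) (Fin n) F) = (ζ : F) • (1 : Matrix (Fin n) (Fin n) F) →
      (czFix z).ncard ≤ ubd F (n / orderOf ζ))
    (hNP4 : ∀ (n q : ℕ) (K : ℕ → ℕ), 2 ≤ n → 2 ≤ q → (∀ m, K m ≤ cnt q m 1 m) →
      ∀ (Z : Finset (Subgroup.center (Matrix.SpecialLinearGroup (Fin n) F)))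
        (z0 : Subgroup.center (Matrix.SpecialLinearGroup (Fin n) F)), z0 ∈ Z →
      ∀ (m f : Subgroup.center (Matrix.SpecialLinearGroup (Fin n) F) → ℕ),
        Z.card = Nat.gcd n (q - 1) → m z0 = 1 →
        (∀ z ∈ Z, z ≠ z0 → 2 ≤ m z ∧ m z ∣ n) →
        (∀ z ∈ Z, f z ≤ ubdN q K (n / m z)) →
        ∑ z ∈ Z, f z ≤ q ^ (n - 1) + 5 * q ^ (n - 2)) :
    Fintype.card F ^ (n - 1) ≤ Nat.gcd n (Fintype.card F - 1) * Nat.card (ConjClasses (Matrix.ProjectiveSpecialLinearGroup (Fin n) F)) ∧
      Nat.gcd n (Fintype.card F - 1) * Nat.card (ConjClasses (Matrix.ProjectiveSpecialLinearGroup (Fin n) F)) ≤ Fintype.card F ^ (n - 1) + 5 * Fintype.card F ^ (n - 2) := by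
  classical
  have hn1 : 1 ≤ n := by omega
  have : Fintype (Subgroup.center (Matrix.SpecialLinearGroup (Fin n) F)) := Fintype.ofFinite _
  have hPSL : Matrix.ProjectiveSpecialLinearGroup (Fin n) F =
      (Matrix.SpecialLinearGroup (Fin n) F ⧸
        Subgroup.center (Matrix.SpecialLinearGroup (Fin n) F)) := rfl
  rw [← hZ2]
  have hsum : Nat.card (Subgroup.center (Matrix.SpecialLinearGroup (Fin n) F)) *
      Nat.card (ConjClasses (Matrix.ProjectiveSpecialLinearGroup (Fin n) F)) =
      ∑ z : Subgroup.center (Matrix.SpecialLinearGroup (Fin n) F),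
        (czFix (z : Matrix.SpecialLinearGroup (Fin n) F)).ncard := by
    rw [← finsum_eq_sum_of_fintype]
    exact hZ1c
  rw [hsum]
  constructor
  · -- lower bound: the term `z = 1`
    have h1 : (czFix ((1 : Subgroup.center (Matrix.SpecialLinearGroup (Fin n) F)) :
        Matrix.SpecialLinearGroup (Fin n) F)).ncard =
        Nat.card (ConjClasses (Matrix.SpecialLinearGroup (Fin n) F)) := by
      rw [Subgroup.coe_one, hZ1d, Set.ncard_univ]
    have h2 := (final (F := F) n hn).1
    have h3 : (czFix ((1 : Subgroup.center (Matrix.SpecialLinearGroup (Fin n) F)) :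
        Matrix.SpecialLinearGroup (Fin n) F)).ncard ≤
        ∑ z : Subgroup.center (Matrix.SpecialLinearGroup (Fin n) F),
          (czFix (z : Matrix.SpecialLinearGroup (Fin n) F)).ncard :=
      Finset.single_le_sum (f := fun z : Subgroup.center (Matrix.SpecialLinearGroup (Fin n) F) =>
        (czFix (z : Matrix.SpecialLinearGroup (Fin n) F)).ncard) (fun _ _ => Nat.zero_le _)
        (Finset.mem_univ _)
    rw [h1] at h3
    exact le_trans h2.le h3
  · -- upper bound
    choose Zeta hZeta using fun z : Subgroup.center (Matrix.SpecialLinearGroup (Fin n) F) =>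
      hZ3 z.1 z.2
    have hcardZ : (Finset.univ : Finset (Subgroup.center
        (Matrix.SpecialLinearGroup (Fin n) F))).card = Nat.gcd n (Fintype.card F - 1) := by
      rw [Finset.card_univ, ← Nat.card_eq_fintype_card, hZ2]
    have hone : Zeta 1 = 1 := by
      have h := (hZeta 1).2
      rw [Subgroup.coe_one, Matrix.SpecialLinearGroup.coe_one] at h
      have h00 := congrFun (congrFun h ⟨0, by omega⟩) ⟨0, by omega⟩
      rw [Matrix.one_apply_eq, Matrix.smul_apply, Matrix.one_apply_eq, smul_eq_mul, mul_one] at h00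
      exact Units.ext h00.symm
    refine hNP4 n (Fintype.card F) (fun m => (tupFin F m).card) hn Fintype.one_lt_card
      (fun m => card_tupFin_le m) Finset.univ 1 (Finset.mem_univ _)
      (fun z => orderOf (Zeta z)) (fun z => (czFix (z : Matrix.SpecialLinearGroup (Fin n) F)).ncard)
      hcardZ ?_ ?_ ?_
    · show orderOf (Zeta 1) = 1
      rw [hone, orderOf_one]
    · intro z _ hz1
      refine ⟨?_, orderOf_dvd_of_pow_eq_one (hZeta z).1⟩
      have hne : Zeta z ≠ 1 := by
        intro h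
        apply hz1
        apply Subtype.ext
        apply Subtype.ext
        rw [(hZeta z).2, h, Units.val_one, one_smul, Subgroup.coe_one,
          Matrix.SpecialLinearGroup.coe_one]
      have hpos : 0 < orderOf (Zeta z) := orderOf_pos (Zeta z)
      have hne1 : orderOf (Zeta z) ≠ 1 := fun h => hne (orderOf_eq_one_iff.mp h)
      omega
    · intro z _
      exact hC2 z.1 z.2 (Zeta z) (hZeta z).1 (hZeta z).2

end Cfsg.Agent.Lib.Helper1.PLK
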