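import Cfsg.Agent.Lib.Helper1.PLK.Defs

/-!
# Project PLK, row U2 (second copy by helper1): `nu (ζ x) a = nu x (a ∘ ζ X)`
-/

set_option autoImplicit false

namespace Cfsg.Agent.Lib.Helper1.PLK

open Polynomial
open Cfsg.Agent.Lib.Helper29.GLK
open Cfsg.Agent.Lib.Helper1.SLK

universe u

/-- `nu x a` is the nullity of `a(x)` on `Fin n → F` -/
theorem plku2_h1_nu_eq {F : Type u} [Field F] {n : ℕ} (x : Matrix.GeneralLinearGroup (Fin n) F)
    (a : F[X]) :
    nu x a = Module.finrank F (LinearMap.ker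
      (aeval (Matrix.toLin' (x : Matrix (Fin n) (Fin n) F)) a)) := by
  unfold nu
  set φ := Matrix.toLin' (x : Matrix (Fin n) (Fin n) F) with hφ
  have hker : LinearMap.ker (sm a (gMod x)) =
      (LinearMap.ker (aeval φ a)).map (Module.AEval'.of φ).toLinearMap := by
    ext w
    obtain ⟨v, rfl⟩ := (Module.AEval'.of φ).surjective w
    rw [LinearMap.mem_ker, Submodule.mem_map]
    have h1 : sm a (gMod x) (Module.AEval'.of φ v) = Module.AEval'.of φ ((aeval φ a) v) := by
      rw [sm_apply]
      exact (Module.AEval.of_aeval_smul (R := F) (M := Fin n → F) φ a v).symm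
    constructor
    · intro hw
      refine ⟨v, ?_, rfl⟩
      rw [LinearMap.mem_ker]
      rw [h1] at hw
      exact (Module.AEval'.of φ).injective (by rw [hw, map_zero])
    · rintro ⟨v', hv', hvv⟩
      have : v' = v := (Module.AEval'.of φ).injective hvv
      subst this
      rw [h1, LinearMap.mem_ker.mp hv', map_zero]
  rw [hker]
  exact LinearEquiv.finrank_map_eq (Module.AEval'.of φ) _

/-- U2 under an own name -/
theorem plku2_h1_nu_twist {F : Type u} [Field F] {n : ℕ}
    (x y : Matrix.GeneralLinearGroup (Fin n) F) (ζ : Fˣ)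
    (hy : (y : Matrix (Fin n) (Fin n) F) = (ζ : F) • (x : Matrix (Fin n) (Fin n) F)) (a : F[X]) :
    nu y a = nu x (a.comp (C (ζ : F) * X)) := by
  rw [plku2_h1_nu_eq, plku2_h1_nu_eq, aeval_comp]
  have h : Matrix.toLin' (y : Matrix (Fin n) (Fin n) F) =
      aeval (Matrix.toLin' (x : Matrix (Fin n) (Fin n) F)) (C (ζ : F) * X) := by
    rw [hy, map_mul, aeval_C, aeval_X, map_smul, Algebra.algebraMap_eq_smul_one, smul_mul_assoc,
      one_mul]
  rw [h]

end Cfsg.Agent.Lib.Helper1.PLK
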