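import Cfsg.Agent.Lib.Helper1.SLK.Defs
import Cfsg.Agent.Lib.Helper24.GLKM1

/-!
# Project SLK, row D2: the norm on `F[X]/(f g)` is the product of the norms on `F[X]/(f)`, `F[X]/(g)`
-/

set_option autoImplicit false

namespace Cfsg.Agent.Lib.Helper1.SLK

open Polynomial
open Cfsg.Agent.Lib.Helper29.GLK

universe u

/-- determinants of endomorphisms intertwined by a linear equivalence agree -/
theorem slkd2_det_eq_of_comm {F : Type u} [Field F] {M N : Type*} [AddCommGroup M] [Module F M]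
    [AddCommGroup N] [Module F N] (E : M ≃ₗ[F] N) (φ : M →ₗ[F] M) (φ' : N →ₗ[F] N)
    (h : ∀ m, φ' (E m) = E (φ m)) : LinearMap.det φ' = LinearMap.det φ := by
  have : φ' = (E : M →ₗ[F] N) ∘ₗ φ ∘ₗ (E.symm : N →ₗ[F] M) := by
    refine LinearMap.ext fun y => ?_
    obtain ⟨m, rfl⟩ := E.surjective y
    simp [h]
  rw [this, LinearMap.det_conj]

/-- the `F[X]`-linear map `F[X]/(f) → F[X]/(f g)`, `h ↦ g h` -/
noncomputable def slkd2_j {F : Type u} [Field F] (f g : F[X]) :
    (F[X] ⧸ Ideal.span {f}) →ₗ[F[X]] (F[X] ⧸ Ideal.span {f * g}) :=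
  Submodule.liftQ (Ideal.span {f})
    ((Submodule.mkQ (Ideal.span {f * g})).comp (LinearMap.lsmul F[X] F[X] g)) (by
      intro x hx
      rw [Ideal.mem_span_singleton] at hx
      obtain ⟨y, rfl⟩ := hx
      rw [LinearMap.mem_ker, LinearMap.comp_apply, Submodule.mkQ_apply,
        Submodule.Quotient.mk_eq_zero, LinearMap.lsmul_apply, smul_eq_mul,
        Ideal.mem_span_singleton]
      exact ⟨y, by ring⟩)

theorem slkd2_j_mk {F : Type u} [Field F] (f g h : F[X]) :
    slkd2_j f g (Ideal.Quotient.mk (Ideal.span {f}) h) =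
      Ideal.Quotient.mk (Ideal.span {f * g}) (g * h) := rfl

theorem slkd2_j_injective {F : Type u} [Field F] (f g : F[X]) (hg : g ≠ 0) :
    Function.Injective (slkd2_j f g) := by
  rw [← LinearMap.ker_eq_bot, LinearMap.ker_eq_bot']
  intro y hy
  obtain ⟨h, rfl⟩ := Ideal.Quotient.mk_surjective y
  rw [slkd2_j_mk, Ideal.Quotient.eq_zero_iff_mem, Ideal.mem_span_singleton] at hy
  rw [Ideal.Quotient.eq_zero_iff_mem, Ideal.mem_span_singleton]
  obtain ⟨c, hc⟩ := hy
  refine ⟨c, ?_⟩
  have : g * h = g * (f * c) := by rw [hc]; ring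
  exact mul_left_cancel₀ hg this

/-- the projection `F[X]/(f g) → F[X]/(g)` -/
noncomputable def slkd2_pi {F : Type u} [Field F] (f g : F[X]) :
    (F[X] ⧸ Ideal.span {f * g}) →ₗ[F[X]] (F[X] ⧸ Ideal.span {g}) :=
  Submodule.mapQ (Ideal.span {f * g}) (Ideal.span {g}) LinearMap.id (by
    intro x hx
    rw [Ideal.mem_span_singleton] at hx
    obtain ⟨y, rfl⟩ := hx
    rw [Submodule.mem_comap, LinearMap.id_apply, Ideal.mem_span_singleton]
    exact ⟨f * y, by ring⟩)

theorem slkd2_pi_mk {F : Type u} [Field F] (f g h : F[X]) :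
    slkd2_pi f g (Ideal.Quotient.mk (Ideal.span {f * g}) h) =
      Ideal.Quotient.mk (Ideal.span {g}) h := rfl

theorem slkd2_pi_surjective {F : Type u} [Field F] (f g : F[X]) :
    Function.Surjective (slkd2_pi f g) := by
  intro y
  obtain ⟨h, rfl⟩ := Ideal.Quotient.mk_surjective y
  exact ⟨Ideal.Quotient.mk _ h, slkd2_pi_mk f g h⟩

theorem slkd2_ker_pi {F : Type u} [Field F] (f g : F[X]) :
    LinearMap.ker (slkd2_pi f g) = LinearMap.range (slkd2_j f g) := by
  ext y
  obtain ⟨h, rfl⟩ := Ideal.Quotient.mk_surjective y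
  rw [LinearMap.mem_ker, slkd2_pi_mk, Ideal.Quotient.eq_zero_iff_mem, Ideal.mem_span_singleton,
    LinearMap.mem_range]
  constructor
  · rintro ⟨c, rfl⟩
    exact ⟨Ideal.Quotient.mk _ c, slkd2_j_mk f g c⟩
  · rintro ⟨z, hz⟩
    obtain ⟨c, rfl⟩ := Ideal.Quotient.mk_surjective z
    rw [slkd2_j_mk, Ideal.Quotient.eq, Ideal.mem_span_singleton] at hz
    obtain ⟨d, hd⟩ := hz
    refine ⟨c - f * d, ?_⟩
    linear_combination (-1 : F[X]) * hd

/-- D2 -/
theorem norm_quot_mul {F : Type u} [Field F] (f g a : F[X]) (hf : f ≠ 0) (hg : g ≠ 0) :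
    Algebra.norm F (Ideal.Quotient.mk (Ideal.span {f * g}) a) =
      Algebra.norm F (Ideal.Quotient.mk (Ideal.span {f}) a) *
        Algebra.norm F (Ideal.Quotient.mk (Ideal.span {g}) a) := by
  have hfin1 : Module.Finite F (F[X] ⧸ Ideal.span {f}) := glkM1_finite f hf
  have hfin2 : Module.Finite F (F[X] ⧸ Ideal.span {g}) := glkM1_finite g hg
  have hfin3 : Module.Finite F (F[X] ⧸ Ideal.span {f * g}) := glkM1_finite _ (mul_ne_zero hf hg)
  rw [Algebra.norm_apply, Algebra.norm_apply, Algebra.norm_apply]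
  set V := F[X] ⧸ Ideal.span {f * g}
  set e : V →ₗ[F] V := Algebra.lmul F V (Ideal.Quotient.mk (Ideal.span {f * g}) a) with he
  let jF : (F[X] ⧸ Ideal.span {f}) →ₗ[F] V := (slkd2_j f g).restrictScalars F
  let piF : V →ₗ[F] (F[X] ⧸ Ideal.span {g}) := (slkd2_pi f g).restrictScalars F
  have hjinj : Function.Injective jF := slkd2_j_injective f g hg
  have hpisurj : Function.Surjective piF := slkd2_pi_surjective f g
  set W : Submodule F V := LinearMap.range jF with hW
  -- `e` commutes with `j` and `pi`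
  have hej : ∀ y, e (jF y) = jF (Algebra.lmul F _ (Ideal.Quotient.mk (Ideal.span {f}) a) y) := by
    intro y
    obtain ⟨h, rfl⟩ := Ideal.Quotient.mk_surjective y
    show Ideal.Quotient.mk (Ideal.span {f * g}) a * slkd2_j f g (Ideal.Quotient.mk _ h) =
      slkd2_j f g (Ideal.Quotient.mk _ a * Ideal.Quotient.mk _ h)
    rw [← map_mul, slkd2_j_mk, slkd2_j_mk, ← map_mul]
    congr 1; ring
  have hepi : ∀ v, piF (e v) = Algebra.lmul F _ (Ideal.Quotient.mk (Ideal.span {g}) a) (piF v) := by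
    intro v
    obtain ⟨h, rfl⟩ := Ideal.Quotient.mk_surjective v
    show slkd2_pi f g (Ideal.Quotient.mk (Ideal.span {f * g}) a * Ideal.Quotient.mk _ h) =
      Ideal.Quotient.mk _ a * slkd2_pi f g (Ideal.Quotient.mk _ h)
    rw [← map_mul, slkd2_pi_mk, slkd2_pi_mk, ← map_mul]
  have heW : W ≤ W.comap e := by
    rintro _ ⟨y, rfl⟩
    rw [Submodule.mem_comap, hej]
    exact LinearMap.mem_range_self _ _
  rw [LinearMap.det_eq_det_mul_det W e heW]
  congr 1
  · -- the restriction
    let E : (F[X] ⧸ Ideal.span {f}) ≃ₗ[F] W := LinearEquiv.ofInjective jF hjinj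
    refine slkd2_det_eq_of_comm E _ _ ?_
    intro y
    apply Subtype.ext
    rw [LinearMap.coe_restrict_apply]
    show e (jF y) = jF _
    exact hej y
  · -- the quotient
    have hker : W = LinearMap.ker piF := by
      rw [hW]
      ext v
      have := congrArg (fun S => v ∈ S) (slkd2_ker_pi f g)
      simp only [LinearMap.mem_ker, LinearMap.mem_range] at this ⊢
      exact (Iff.of_eq this).symm
    let E' : (V ⧸ W) ≃ₗ[F] (F[X] ⧸ Ideal.span {g}) :=
      (Submodule.quotEquivOfEq W (LinearMap.ker piF) hker).trans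
        (LinearMap.quotKerEquivOfSurjective piF hpisurj)
    have hE' : ∀ v : V, E' (Submodule.Quotient.mk v) = piF v := fun v => rfl
    symm
    refine slkd2_det_eq_of_comm E' _ _ ?_
    intro y
    obtain ⟨v, rfl⟩ := Submodule.Quotient.mk_surjective W y
    rw [Submodule.mapQ_apply, hE', hE', hepi]

end Cfsg.Agent.Lib.Helper1.SLK
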