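import Cfsg.Agent.Lib.Helper1.PLKC1core
import Cfsg.Agent.Lib.Helper1.PLKMAINcore
import Cfsg.Agent.Lib.Helper1.PLKU2h1
import Cfsg.Agent.Lib.helper2.PLKU6core
import Cfsg.Agent.Lib.Helper16.PLKU3
import Cfsg.Agent.Lib.Helper16.PLKU4c
import Cfsg.Agent.Lib.helper4.PLKU1
import Cfsg.Agent.Lib.helper4.PLKZ1d
import Cfsg.Agent.Lib.helper7.PLKU7
import Cfsg.Agent.Lib.helper7.PLKU9a
import Cfsg.Agent.Lib.helper7.PLKU11
import Cfsg.Agent.Lib.Helper11.PLKU8core
import Cfsg.Agent.Lib.Helper11.PLKU9core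
import Cfsg.Agent.Lib.Helper21.PLKU10
import Cfsg.Agent.Lib.Helper24.PLKU12core
import Cfsg.Agent.Lib.Helper24.PLKT5
import Cfsg.Agent.Lib.Helper22.PLKC2core
import Cfsg.Agent.Lib.Helper25.PLKU2b
import Cfsg.Agent.Lib.Helper26.PLKZ1c
import Cfsg.Agent.Lib.Helper20.PLKZ2
import Cfsg.Agent.Lib.Helper29.PLKZ3h29

/-!
# Project PLK: the chain U6 → U8 → U9 → U12 → C1 → C2 under own names (from the landed cores and
rows), the verbatim row C1, and MAIN modulo the numeric row NP4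
-/

set_option autoImplicit false

namespace Cfsg.Agent.Lib.Helper1.PLK

open Polynomial
open Cfsg.Agent.Lib.Helper29.GLK
open Cfsg.Agent.Lib.Helper1.SLK

universe u

theorem plkmain_nu_decomp {F : Type u} [Field F] {n : ℕ} (x : Matrix.GeneralLinearGroup (Fin n) F)
    {ι : Type u} [Fintype ι] (p : ι → F[X]) (e : ι → ℕ) (hp : ∀ j, Irreducible (p j))
    (Φ : gMod x ≃ₗ[F[X]] DirectSum ι fun j => F[X] ⧸ Ideal.span {p j ^ e j})
    (P : F[X]) (hP : Irreducible P) (k : ℕ) :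
    nu x (P ^ k) =
      P.natDegree * ∑ j, (open Classical in if Associated (p j) P then min (e j) k else 0) :=
  plku6_core x (fun M _ _ _ f => finrank_ker_lmap M f)
    (fun p hp e k => finrank_ker_quot_pow p hp e k) p e hp Φ P hP k

theorem plkmain_count_add_nu {F : Type u} [Field F] [DecidableEq F] {n : ℕ}
    (x : Matrix.GeneralLinearGroup (Fin n) F) (G : ℕ → F[X]) (h : IsInv x G)
    (P : F[X]) (hP : Irreducible P) (hPm : P.Monic) (i : ℕ) :
    P.natDegree * Multiset.count P (UniqueFactorizationMonoid.normalizedFactors (G i)) +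
        nu x (P ^ (i + 2)) + nu x (P ^ i) = 2 * nu x (P ^ (i + 1)) :=
  plku8_core (fun x _ _ p e hp Φ P hP k => plkmain_nu_decomp x p e hp Φ P hP k)
    (fun s e k => min_identity s e k) x G h P hP hPm i

theorem plkmain_count_twist {F : Type u} [Field F] [DecidableEq F] {n : ℕ}
    (x y : Matrix.GeneralLinearGroup (Fin n) F) (ζ : Fˣ)
    (hy : (y : Matrix (Fin n) (Fin n) F) = (ζ : F) • (x : Matrix (Fin n) (Fin n) F))
    (hc : IsConj y x) (G : ℕ → F[X]) (h : IsInv x G)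
    (P : F[X]) (hP : Irreducible P) (hPm : P.Monic) (i : ℕ) :
    Multiset.count P (UniqueFactorizationMonoid.normalizedFactors (G i)) =
      Multiset.count (tw ζ P) (UniqueFactorizationMonoid.normalizedFactors (G i)) :=
  plku9_core (fun x y h a => nu_conj x y h a) (fun x y ζ hy a => plku2_h1_nu_twist x y ζ hy a)
    (fun x u hu a => nu_C_mul x u hu a)
    (fun x G h P hP hPm i => plkmain_count_add_nu x G h P hP hPm i)
    (fun ζ P hP hPm => tw_props ζ P hP hPm) x y ζ hy hc G h P hP hPm i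

theorem plkmain_coeff_of_isConj_twist {F : Type u} [Field F] [DecidableEq F] {n : ℕ}
    (x y : Matrix.GeneralLinearGroup (Fin n) F) (ζ : Fˣ)
    (hy : (y : Matrix (Fin n) (Fin n) F) = (ζ : F) • (x : Matrix (Fin n) (Fin n) F))
    (hc : IsConj y x) (G : ℕ → F[X]) (h : IsInv x G) (i k : ℕ) (hk : ¬ orderOf ζ ∣ k) :
    (G i).coeff k = 0 :=
  plku12_core x ζ G h (fun P hP hPm i => plkmain_count_twist x y ζ hy hc G h P hP hPm i)
    (fun g hg hcount => comp_eq_of_count ζ g hg hcount)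
    (fun g h0 hcomp k hk => coeff_eq_zero_of_comp ζ g h0 hcomp k hk) i k hk

/-- C1 -/
theorem fix_ncard_le {F : Type u} [Field F] [Fintype F] [DecidableEq F] (n : ℕ)
    (z : Matrix.SpecialLinearGroup (Fin n) F)
    (hz : z ∈ Subgroup.center (Matrix.SpecialLinearGroup (Fin n) F)) (ζ : Fˣ)
    (hζ : (z : Matrix (Fin n) (Fin n) F) = (ζ : F) • (1 : Matrix (Fin n) (Fin n) F)) :
    (czFix z).ncard ≤
      ∑ T ∈ (tupTw F n (orderOf ζ)).filter (fun T => tdet T = 1), tg (Fintype.card F) T :=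
  plkc1_core n z ζ hζ
    (fun x y hy hc G h i k hk => plkmain_coeff_of_isConj_twist x y ζ hy hc G h i k hk)

theorem plkmain_fix_ncard_le_ubd {F : Type u} [Field F] [Fintype F] (n : ℕ) (hn : 1 ≤ n)
    (z : Matrix.SpecialLinearGroup (Fin n) F)
    (hz : z ∈ Subgroup.center (Matrix.SpecialLinearGroup (Fin n) F)) (ζ : Fˣ) (hζn : ζ ^ n = 1)
    (hζ : (z : Matrix (Fin n) (Fin n) F) = (ζ : F) • (1 : Matrix (Fin n) (Fin n) F)) :
    (czFix z).ncard ≤ ubd F (n / orderOf ζ) :=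
  plkc2_core n hn (fun z hz ζ hζ => fix_ncard_le n z hz ζ hζ)
    (fun m hm hmn => sum_tupTw_le n m hm hmn) z hz ζ hζn hζ

/-- MAIN modulo the numeric row NP4 -/
theorem plkmain_final_of_np4 {F : Type u} [Field F] [Fintype F] (n : ℕ) (hn : 2 ≤ n)
    (hNP4 : ∀ (n q : ℕ) (K : ℕ → ℕ), 2 ≤ n → 2 ≤ q → (∀ m, K m ≤ cnt q m 1 m) →
      ∀ (Z : Finset (Subgroup.center (Matrix.SpecialLinearGroup (Fin n) F)))
        (z0 : Subgroup.center (Matrix.SpecialLinearGroup (Fin n) F)), z0 ∈ Z →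
      ∀ (m f : Subgroup.center (Matrix.SpecialLinearGroup (Fin n) F) → ℕ),
        Z.card = Nat.gcd n (q - 1) → m z0 = 1 →
        (∀ z ∈ Z, z ≠ z0 → 2 ≤ m z ∧ m z ∣ n) →
        (∀ z ∈ Z, f z ≤ ubdN q K (n / m z)) →
        ∑ z ∈ Z, f z ≤ q ^ (n - 1) + 5 * q ^ (n - 2)) :
    Fintype.card F ^ (n - 1) ≤ Nat.gcd n (Fintype.card F - 1) * Nat.card (ConjClasses (Matrix.ProjectiveSpecialLinearGroup (Fin n) F)) ∧
      Nat.gcd n (Fintype.card F - 1) * Nat.card (ConjClasses (Matrix.ProjectiveSpecialLinearGroup (Fin n) F)) ≤ Fintype.card F ^ (n - 1) + 5 * Fintype.card F ^ (n - 2) :=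
  plkmain_core n hn (center_burnside _) (czFix_one _) (card_center_sl n (by omega))
    (fun z hz => plkz3_h29_center_scalar n (by omega) z hz)
    (fun z hz ζ hζn hζ => plkmain_fix_ncard_le_ubd n (by omega) z hz ζ hζn hζ) hNP4

end Cfsg.Agent.Lib.Helper1.PLK
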