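import Mathlib

/-!
# Unique lifts of `p`-elements through central extensions with `p'`-kernel (helper1)

GENERIC TOOL for the multiplier families in characteristic `p` (S2114 `²F₄(q)`, S2110 `³D₄(q)`, S2108 `²E₆(q)`): if `σ : Γ →* G` is a surjective homomorphism of
finite groups with CENTRAL kernel of order PRIME TO `p`, then every `p`-element `x` of `G` has a UNIQUE `p`-element `plift σ p x` of `Γ` over it; the lift is
equivariant under conjugation by ANY element of `Γ` (`plift_conj`) and multiplicative on every `p`-subgroup of `G` (`plift_mul`).  Hence every relation between `p`-elements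
which holds inside a `p`-subgroup (root group laws, commutator relations between non-opposite root subgroups), and every relation of the form `n x n⁻¹ = x'` with `n` a
product of `p`-elements (Weyl relations), LIFTS FOR FREE to the canonical lifts: no torus trick, no small-field cases.
`pliftHom σ p … P hP : ↥P →* Γ` is the packaged section over a `p`-subgroup `P` of `G`.
-/

set_option autoImplicit false

namespace Cfsg.Agent.Lib.Helper1.PLift

/-- `x` is a `p`-element -/
def IsPElt (p : ℕ) {M : Type*} [Monoid M] (x : M) : Prop := ∃ k : ℕ, x ^ (p ^ k) = 1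

section basic

variable {Γ G : Type*} [Group Γ] [Group G] (p : ℕ)

theorem isPElt_one : IsPElt p (1 : G) := ⟨0, by simp⟩

theorem IsPElt.pow_le {x : G} {k l : ℕ} (h : x ^ (p ^ k) = 1) (hkl : k ≤ l) : x ^ (p ^ l) = 1 := by
  obtain ⟨d, rfl⟩ := Nat.exists_eq_add_of_le hkl
  rw [pow_add, pow_mul, h, one_pow]

theorem IsPElt.map {p : ℕ} (σ : Γ →* G) {x : Γ} (h : IsPElt p x) : IsPElt p (σ x) := by
  obtain ⟨k, hk⟩ := h
  exact ⟨k, by rw [← map_pow, hk, map_one]⟩

theorem IsPElt.conj {p : ℕ} {x : G} (h : IsPElt p x) (g : G) : IsPElt p (g * x * g⁻¹) := by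
  obtain ⟨k, hk⟩ := h
  exact ⟨k, by rw [conj_pow, hk, mul_one, mul_inv_cancel]⟩

theorem IsPElt.inv {p : ℕ} {x : G} (h : IsPElt p x) : IsPElt p x⁻¹ := by
  obtain ⟨k, hk⟩ := h
  exact ⟨k, by rw [inv_pow, hk, inv_one]⟩

theorem IsPElt.pow {p : ℕ} {x : G} (h : IsPElt p x) (n : ℕ) : IsPElt p (x ^ n) := by
  obtain ⟨k, hk⟩ := h
  exact ⟨k, by rw [← pow_mul, mul_comm, pow_mul, hk, one_pow]⟩

theorem isPElt_of_mem {p : ℕ} {P : Subgroup G} (hP : IsPGroup p P) {x : G} (hx : x ∈ P) : IsPElt p x := by
  obtain ⟨k, hk⟩ := hP ⟨x, hx⟩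
  refine ⟨k, ?_⟩
  have := congrArg Subtype.val hk
  simpa using this

/-- a `p`-element of a finite group whose order is prime to `p` is trivial -/
theorem eq_one_of_isPElt_of_coprime {p : ℕ} {a : G} {n : ℕ} (hp : IsPElt p a) (hn : a ^ n = 1) (hc : n.Coprime p) : a = 1 := by
  obtain ⟨k, hk⟩ := hp
  have h1 : orderOf a ∣ p ^ k := orderOf_dvd_of_pow_eq_one hk
  have h2 : orderOf a ∣ n := orderOf_dvd_of_pow_eq_one hn
  have h3 : orderOf a = 1 := Nat.eq_one_of_dvd_coprimes (Nat.Coprime.pow_right k hc) h2 h1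
  exact orderOf_eq_one_iff.mp h3

end basic

section lift

variable {Γ G : Type*} [Group Γ] [Group G] (σ : Γ →* G) (p : ℕ)

/-- uniqueness of the `p`-element lift (kernel central of order prime to `p`) -/
theorem lift_unique [Finite Γ] (hc : σ.ker ≤ Subgroup.center Γ) (hn : (Nat.card σ.ker).Coprime p)
    {y y' : Γ} (hy : IsPElt p y) (hy' : IsPElt p y') (h : σ y = σ y') : y = y' := by
  obtain ⟨k, hk⟩ := hy
  obtain ⟨l, hl⟩ := hy'
  set a : Γ := y⁻¹ * y' with ha
  have hak : a ∈ σ.ker := by
    rw [MonoidHom.mem_ker, ha, map_mul, map_inv, h, inv_mul_cancel]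
  have hac : a ∈ Subgroup.center Γ := hc hak
  have hcomm : Commute y a := by
    unfold Commute SemiconjBy
    exact ((Subgroup.mem_center_iff.mp hac) y)
  have hy'a : y' = y * a := by rw [ha, mul_inv_cancel_left]
  have hm1 : y ^ (p ^ (max k l)) = 1 := IsPElt.pow_le p hk (le_max_left k l)
  have hm2 : y' ^ (p ^ (max k l)) = 1 := IsPElt.pow_le p hl (le_max_right k l)
  have hap : a ^ (p ^ (max k l)) = 1 := by
    rw [hy'a, hcomm.mul_pow, hm1, one_mul] at hm2
    exact hm2
  have han : a ^ (Nat.card σ.ker) = 1 := by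
    have h1 : (⟨a, hak⟩ : σ.ker) ^ (Nat.card σ.ker) = 1 := pow_card_eq_one'
    have := congrArg Subtype.val h1
    simpa using this
  have ha1 : a = 1 := eq_one_of_isPElt_of_coprime ⟨_, hap⟩ han hn
  rw [hy'a, ha1, mul_one]

/-- over a `p`-subgroup `P` of `G` there is a Sylow `p`-subgroup of `Γ` whose image contains `P` -/
theorem exists_sylow_over [Finite Γ] [Fact p.Prime] (hs : Function.Surjective σ) (P : Subgroup G) (hP : IsPGroup p P) :
    ∃ Q : Sylow p Γ, ∀ x ∈ P, ∃ y ∈ Q, σ y = x := by
  have : Finite G := Finite.of_surjective σ hs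
  obtain ⟨S, hS⟩ := hP.exists_le_sylow
  obtain ⟨Q, hQ⟩ := Sylow.mapSurjective_surjective hs p S
  refine ⟨Q, fun x hx => ?_⟩
  have hx' : x ∈ (Q.mapSurjective hs : Subgroup G) := by rw [hQ]; exact hS hx
  rw [Sylow.coe_mapSurjective, Subgroup.mem_map] at hx'
  obtain ⟨y, hy, rfl⟩ := hx'
  exact ⟨y, hy, rfl⟩

/-- existence of a `p`-element lift of a `p`-element -/
theorem exists_lift [Finite Γ] [Fact p.Prime] (hs : Function.Surjective σ) {x : G} (hx : IsPElt p x) :
    ∃ y : Γ, σ y = x ∧ IsPElt p y := by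
  have hP : IsPGroup p (Subgroup.zpowers x) := by
    obtain ⟨k, hk⟩ := hx
    rw [IsPGroup.iff_orderOf]
    rintro ⟨g, hg⟩
    obtain ⟨n, rfl⟩ := Subgroup.mem_zpowers_iff.mp hg
    have h1 : (x ^ n) ^ (p ^ k) = 1 := by rw [← zpow_natCast, ← zpow_mul, mul_comm, zpow_mul, zpow_natCast, hk, one_zpow]
    have h2 : orderOf (⟨x ^ n, hg⟩ : Subgroup.zpowers x) ∣ p ^ k := by
      apply orderOf_dvd_of_pow_eq_one
      exact Subtype.ext (by simpa using h1)
    obtain ⟨j, -, hj⟩ := (Nat.dvd_prime_pow Fact.out).mp h2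
    exact ⟨j, hj⟩
  obtain ⟨Q, hQ⟩ := exists_sylow_over σ p hs _ hP
  obtain ⟨y, hy, hyx⟩ := hQ x (Subgroup.mem_zpowers x)
  exact ⟨y, hyx, isPElt_of_mem Q.2 hy⟩

open Classical in
/-- the canonical `p`-element lift of a `p`-element (`1` if there is none) -/
noncomputable def plift (x : G) : Γ := if h : ∃ y : Γ, σ y = x ∧ IsPElt p y then h.choose else 1

theorem plift_spec [Finite Γ] [Fact p.Prime] (hs : Function.Surjective σ) {x : G} (hx : IsPElt p x) :
    σ (plift σ p x) = x ∧ IsPElt p (plift σ p x) := by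
  have h := exists_lift σ p hs hx
  unfold plift
  rw [dif_pos h]
  exact h.choose_spec

variable [Finite Γ] [Fact p.Prime] (hs : Function.Surjective σ) (hc : σ.ker ≤ Subgroup.center Γ)
  (hn : (Nat.card σ.ker).Coprime p)

include hs in
theorem plift_map {x : G} (hx : IsPElt p x) : σ (plift σ p x) = x := (plift_spec σ p hs hx).1

include hs in
theorem plift_isPElt {x : G} (hx : IsPElt p x) : IsPElt p (plift σ p x) := (plift_spec σ p hs hx).2

include hs hc hn in
/-- the canonical lift is the only `p`-element over `x` -/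
theorem plift_unique {x : G} {y : Γ} (hy : IsPElt p y) (h : σ y = x) : plift σ p x = y := by
  have hx : IsPElt p x := h ▸ hy.map σ
  exact lift_unique σ p hc hn (plift_isPElt σ p hs hx) hy ((plift_map σ p hs hx).trans h.symm)

include hs hc hn in
theorem plift_of_isPElt {y : Γ} (hy : IsPElt p y) : plift σ p (σ y) = y := plift_unique σ p hs hc hn hy rfl

include hs hc hn in
theorem plift_one : plift σ p (1 : G) = 1 := plift_unique σ p hs hc hn (isPElt_one p) (map_one σ)

include hs hc hn in
/-- equivariance under conjugation by ANY element of `Γ` -/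
theorem plift_conj (g : Γ) {x : G} (hx : IsPElt p x) :
    plift σ p (σ g * x * (σ g)⁻¹) = g * plift σ p x * g⁻¹ := by
  apply plift_unique σ p hs hc hn ((plift_isPElt σ p hs hx).conj g)
  rw [map_mul, map_mul, map_inv, plift_map σ p hs hx]

include hs hc hn in
theorem plift_inv {x : G} (hx : IsPElt p x) : plift σ p x⁻¹ = (plift σ p x)⁻¹ := by
  apply plift_unique σ p hs hc hn (plift_isPElt σ p hs hx).inv
  rw [map_inv, plift_map σ p hs hx]

include hs hc hn in
theorem plift_pow {x : G} (hx : IsPElt p x) (n : ℕ) : plift σ p (x ^ n) = (plift σ p x) ^ n := by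
  apply plift_unique σ p hs hc hn ((plift_isPElt σ p hs hx).pow n)
  rw [map_pow, plift_map σ p hs hx]

include hs hc hn in
/-- over a `p`-subgroup `P` of `G` all canonical lifts lie in ONE Sylow `p`-subgroup of `Γ` -/
theorem exists_sylow_plift (P : Subgroup G) (hP : IsPGroup p P) :
    ∃ Q : Sylow p Γ, ∀ x ∈ P, plift σ p x ∈ Q := by
  obtain ⟨Q, hQ⟩ := exists_sylow_over σ p hs P hP
  refine ⟨Q, fun x hx => ?_⟩
  obtain ⟨y, hy, hyx⟩ := hQ x hx
  rw [plift_unique σ p hs hc hn (isPElt_of_mem Q.2 hy) hyx]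
  exact hy

include hs hc hn in
/-- multiplicativity on `p`-subgroups -/
theorem plift_mul (P : Subgroup G) (hP : IsPGroup p P) {x y : G} (hx : x ∈ P) (hy : y ∈ P) :
    plift σ p (x * y) = plift σ p x * plift σ p y := by
  obtain ⟨Q, hQ⟩ := exists_sylow_plift σ p hs hc hn P hP
  apply plift_unique σ p hs hc hn (isPElt_of_mem Q.2 (Q.mul_mem (hQ x hx) (hQ y hy)))
  rw [map_mul, plift_map σ p hs (isPElt_of_mem hP hx), plift_map σ p hs (isPElt_of_mem hP hy)]

include hs hc hn in
/-- two `p`-elements generating a `p`-group: the lift of the product -/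
theorem plift_mul' {x y : G} (h : IsPGroup p (Subgroup.closure ({x, y} : Set G))) :
    plift σ p (x * y) = plift σ p x * plift σ p y :=
  plift_mul σ p hs hc hn _ h (Subgroup.subset_closure (by simp)) (Subgroup.subset_closure (by simp))

include hs hc hn in
/-- commuting `p`-elements of `G` have commuting canonical lifts -/
theorem plift_commute {x y : G} (hx : IsPElt p x) (hy : IsPElt p y) (h : Commute x y) :
    Commute (plift σ p x) (plift σ p y) := by
  have h1 := plift_conj σ p hs hc hn (plift σ p x) hy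
  rw [plift_map σ p hs hx] at h1
  have h2 : x * y * x⁻¹ = y := by rw [h.eq, mul_inv_cancel_right]
  rw [h2] at h1
  unfold Commute SemiconjBy
  calc plift σ p x * plift σ p y = (plift σ p x * plift σ p y * (plift σ p x)⁻¹) * plift σ p x := by group
    _ = plift σ p y * plift σ p x := by rw [← h1]

/-- the packaged section over a `p`-subgroup `P` of `G` -/
noncomputable def pliftHom (P : Subgroup G) (hP : IsPGroup p P) : ↥P →* Γ where
  toFun x := plift σ p x.1
  map_one' := plift_one σ p hs hc hn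
  map_mul' x y := plift_mul σ p hs hc hn P hP x.2 y.2

theorem pliftHom_apply (P : Subgroup G) (hP : IsPGroup p P) (x : ↥P) :
    pliftHom σ p hs hc hn P hP x = plift σ p x.1 := rfl

include hs in
theorem map_pliftHom (P : Subgroup G) (hP : IsPGroup p P) (x : ↥P) :
    σ (pliftHom σ p hs hc hn P hP x) = x.1 :=
  plift_map σ p hs (isPElt_of_mem hP x.2)

end lift

end Cfsg.Agent.Lib.Helper1.PLift
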