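import Mathlib

set_option autoImplicit false
open scoped ComplexConjugate

namespace Cfsg.Agent.Lib.helper7.PM2

theorem pm2gen_expand {ι : Type*} (s : Finset ι) (c r : ι → ℝ) (N T : ℝ) :
    ∑ z ∈ s, c z * (N * r z - T) ^ 2 =
      N ^ 2 * ∑ z ∈ s, c z * (r z) ^ 2 - 2 * N * T * ∑ z ∈ s, c z * r z + T ^ 2 * ∑ z ∈ s, c z := by
  rw [Finset.mul_sum, Finset.mul_sum, Finset.mul_sum, ← Finset.sum_sub_distrib,
    ← Finset.sum_add_distrib]
  refine Finset.sum_congr rfl fun z _ => ?_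
  ring

theorem pm2gen_unit_sq (s : Finset ℂ) (c : ℂ → ℕ) (hs : ∀ z ∈ s, ‖z‖ = 1) :
    2 * ‖∑ z ∈ s, (c z : ℂ) * z‖ ^ 2 ≤
      (∑ z ∈ s, (c z : ℝ)) * ‖∑ z ∈ s, (c z : ℂ) * z ^ 2‖ + (∑ z ∈ s, (c z : ℝ)) ^ 2 := by
  set S1 := ∑ z ∈ s, (c z : ℂ) * z with hS1
  set S2 := ∑ z ∈ s, (c z : ℂ) * z ^ 2 with hS2
  set n := ∑ z ∈ s, (c z : ℝ) with hn
  have hn0 : 0 ≤ n := Finset.sum_nonneg (fun z _ => Nat.cast_nonneg _)
  by_cases h0 : S1 = 0
  · rw [h0, norm_zero]
    have : 0 ≤ n * ‖S2‖ := mul_nonneg hn0 (norm_nonneg _)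
    nlinarith [sq_nonneg n]
  have hpos : 0 < ‖S1‖ := norm_pos_iff.mpr h0
  set u : ℂ := conj S1 / (‖S1‖ : ℂ) with hu
  have hnc : ((‖S1‖ : ℝ) : ℂ) ≠ 0 := by
    exact_mod_cast hpos.ne'
  have hun : ‖u‖ = 1 := by
    rw [hu, norm_div, RCLike.norm_conj, Complex.norm_real, Real.norm_eq_abs, abs_of_pos hpos,
      div_self hpos.ne']
  have huS : u * S1 = ((‖S1‖ : ℝ) : ℂ) := by
    rw [hu, div_mul_eq_mul_div, Complex.conj_mul']
    rw [sq, mul_div_assoc, div_self hnc, mul_one]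
  set r : ℂ → ℝ := fun z => (u * z).re with hr
  have h1 : ∑ z ∈ s, (c z : ℝ) * r z = ‖S1‖ := by
    have : (u * S1).re = ‖S1‖ := by rw [huS, Complex.ofReal_re]
    rw [← this, hS1, Finset.mul_sum, Complex.re_sum]
    refine Finset.sum_congr rfl fun z _ => ?_
    rw [hr]
    have : u * ((c z : ℂ) * z) = ((c z : ℝ) : ℂ) * (u * z) := by
      push_cast
      ring
    rw [this, Complex.re_ofReal_mul]
  have h2 : ∀ z ∈ s, ((u * z) ^ 2).re = 2 * (r z) ^ 2 - 1 := by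
    intro z hz
    have hw : ‖u * z‖ = 1 := by rw [norm_mul, hun, hs z hz, one_mul]
    have hsq : (u * z).re ^ 2 + (u * z).im ^ 2 = 1 := by
      have := Complex.sq_norm (u * z)
      rw [hw, Complex.normSq_apply] at this
      nlinarith
    rw [hr]
    have : ((u * z) ^ 2).re = (u * z).re ^ 2 - (u * z).im ^ 2 := by
      rw [sq, Complex.mul_re]
      ring
    rw [this]
    linarith
  have h3 : (u ^ 2 * S2).re = 2 * ∑ z ∈ s, (c z : ℝ) * (r z) ^ 2 - n := by
    rw [hS2, Finset.mul_sum, Complex.re_sum, hn, Finset.mul_sum, ← Finset.sum_sub_distrib]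
    refine Finset.sum_congr rfl fun z hz => ?_
    have : u ^ 2 * ((c z : ℂ) * z ^ 2) = ((c z : ℝ) : ℂ) * ((u * z) ^ 2) := by
      push_cast
      ring
    rw [this, Complex.re_ofReal_mul, h2 z hz]
    ring
  have h4 : (u ^ 2 * S2).re ≤ ‖S2‖ := by
    have := Complex.re_le_norm (u ^ 2 * S2)
    rw [norm_mul, norm_pow, hun, one_pow, one_mul] at this
    exact this
  have h5 : ‖S1‖ ^ 2 ≤ n * ∑ z ∈ s, (c z : ℝ) * (r z) ^ 2 := by
    have hsum : 0 ≤ ∑ z ∈ s, (c z : ℝ) * (n * r z - ‖S1‖) ^ 2 :=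
      Finset.sum_nonneg fun z _ => mul_nonneg (Nat.cast_nonneg _) (sq_nonneg _)
    have hexp := pm2gen_expand s (fun z => (c z : ℝ)) r n ‖S1‖
    rw [hexp, h1, ← hn] at hsum
    have hnpos : 0 < n := by
      rcases hn0.lt_or_eq with h | h
      · exact h
      · exfalso
        have hz : ∀ z ∈ s, (c z : ℝ) = 0 := by
          have := (Finset.sum_eq_zero_iff_of_nonneg (fun z _ => (Nat.cast_nonneg (c z) : (0 : ℝ) ≤ _))).mp h.symm
          exact this
        apply h0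
        rw [hS1]
        refine Finset.sum_eq_zero fun z hzs => ?_
        have := hz z hzs
        have hc0 : c z = 0 := by exact_mod_cast this
        rw [hc0, Nat.cast_zero, zero_mul]
    have : 0 ≤ n * (n * ∑ z ∈ s, (c z : ℝ) * (r z) ^ 2 - ‖S1‖ ^ 2) := by nlinarith
    have := nonneg_of_mul_nonneg_right this hnpos
    linarith
  nlinarith

theorem pm2gen_iter (a : ℕ → ℂ) (K : ℝ) (hK : 0 < K)
    (h : ∀ i, a i ^ 2 = (K : ℂ) * a (i + 1)) (n : ℕ) (hn : 0 < n) (hper : a n = a 0) :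
    a 0 = 0 ∨ ‖a 0‖ = K := by
  by_cases h0 : a 0 = 0
  · exact Or.inl h0
  right
  set q : ℕ → ℝ := fun i => ‖a i‖ / K with hq
  have hstep : ∀ i, q (i + 1) = q i ^ 2 := by
    intro i
    have h1 : ‖a i‖ ^ 2 = K * ‖a (i + 1)‖ := by
      have := congrArg norm (h i)
      rw [norm_pow, norm_mul, Complex.norm_real, Real.norm_eq_abs, abs_of_pos hK] at this
      exact this
    rw [hq]
    field_simp
    nlinarith
  have hpow : ∀ i, q i = q 0 ^ (2 ^ i) := by
    intro i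
    induction i with
    | zero => rw [pow_zero, pow_one]
    | succ i ih => rw [hstep, ih, ← pow_mul, pow_succ]
  have hq0 : 0 < q 0 := by
    rw [hq]
    exact div_pos (norm_pos_iff.mpr h0) hK
  have hqn : q n = q 0 := by
    rw [hq]
    simp only
    rw [hper]
  rw [hpow n] at hqn
  have h2n : 2 ^ n = (2 ^ n - 1) + 1 := by
    have : 1 ≤ 2 ^ n := Nat.one_le_two_pow
    omega
  have hone : q 0 ^ (2 ^ n - 1) = 1 := by
    rw [h2n, pow_succ] at hqn
    have : q 0 ^ (2 ^ n - 1) * q 0 = 1 * q 0 := by rw [hqn, one_mul]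
    exact mul_right_cancel₀ hq0.ne' this
  have hexp : 2 ^ n - 1 ≠ 0 := by
    have : 2 ≤ 2 ^ n := by
      calc 2 = 2 ^ 1 := (pow_one 2).symm
        _ ≤ 2 ^ n := Nat.pow_le_pow_right (by norm_num) hn
    omega
  have hq1 : q 0 = 1 := (pow_eq_one_iff_of_nonneg hq0.le hexp).mp hone
  rw [hq] at hq1
  simp only at hq1
  rw [div_eq_one_iff_eq hK.ne'] at hq1
  exact hq1

theorem pm2gen_order_four_arith (a b : ℤ) (p : ℕ) (hp : 5 < p)
    (hre : a * a - b * b + 1 = ((p : ℤ) - 3) * a) (him : 2 * a * b = ((p : ℤ) - 3) * b) : False := by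
  have hp' : (5 : ℤ) < (p : ℤ) := by exact_mod_cast hp
  have hb : b = 0 ∨ 2 * a = (p : ℤ) - 3 := by
    by_cases hb0 : b = 0
    · exact Or.inl hb0
    · right
      have : (2 * a - ((p : ℤ) - 3)) * b = 0 := by linarith
      rcases mul_eq_zero.mp this with h | h
      · linarith
      · exact absurd h hb0
  rcases hb with hb | hb
  · rw [hb] at hre
    have h1 : a * ((p : ℤ) - 3 - a) = 1 := by linarith
    have h2 : a = 1 ∨ a = -1 := Int.eq_one_or_neg_one_of_mul_eq_one h1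
    rcases h2 with h2 | h2
    · rw [h2] at h1
      linarith
    · rw [h2] at h1
      linarith
  · have h1 : a * a + b * b = 1 := by nlinarith
    have ha : a * a ≤ 1 := by nlinarith [mul_self_nonneg b]
    have ha' : -1 ≤ a ∧ a ≤ 1 := by
      constructor <;> nlinarith
    have : a = -1 ∨ a = 0 ∨ a = 1 := by omega
    rcases this with h | h | h <;> rw [h] at hb <;> linarith

end Cfsg.Agent.Lib.helper7.PM2
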