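import Mathlib
import Cfsg.Prelude.Def_Characters
import Cfsg.Agent.Lib.helper2.CharNat
import Cfsg.Agent.Lib.helper2.PParts
import Cfsg.Agent.Lib.Helper24.GaloisNorm
import Cfsg.Agent.Lib.Helper1.PM2GEN

set_option autoImplicit false
set_option linter.unusedVariables false
set_option linter.unusedSectionVars false
set_option linter.unusedSimpArgs false
open scoped ComplexConjugate

namespace Cfsg.Agent.Lib.helper7.PM2

structure VTH (G : Type*) [Group G] (p : ℕ) (ζ : G → ℂ) (o : ℕ) : Prop where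
  char : Cfsg.IsCharacter G ζ
  deg : ζ 1 = (p : ℂ) - 2
  cen : ∀ g : G, ‖ζ g‖ = (p : ℝ) - 2 → g ∈ Subgroup.center G
  noinv : ∀ z ∈ Subgroup.center G, z ^ 2 = 1 → z = 1
  oodd : Odd o
  rel : ∀ z : G, ¬ p ∣ orderOf z → ∀ e : ℕ, Nat.Coprime e (orderOf z) →
    e ≡ 2 [MOD Nat.gcd (orderOf z) o] → ζ z ^ 2 - ζ (z ^ 2) = ((p : ℂ) - 3) * ζ (z ^ e)

section

variable {G : Type*} [Group G] [Finite G] {p : ℕ} [Fact p.Prime] {ζ : G → ℂ} {o : ℕ}

theorem pm2vt_invol (hp : 5 < p) (H : VTH G p ζ o) (h : G) (hh : orderOf h = 2) : ζ h = -1 := by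
  have hpr : ¬ p ∣ orderOf h := by
    rw [hh]
    intro hd
    have := Nat.le_of_dvd (by norm_num) hd
    omega
  have hgcd : Nat.gcd (orderOf h) o = 1 := by
    rw [hh]
    exact Nat.coprime_two_left.mpr H.oodd
  have h1 := H.rel h hpr 1 (Nat.coprime_one_left _) (by rw [hgcd]; exact Nat.modEq_one)
  have h2 : h ^ 2 = 1 := by rw [← hh]; exact pow_orderOf_eq_one h
  rw [h2, H.deg, pow_one] at h1
  have h3 : (ζ h + 1) * (ζ h - ((p : ℂ) - 2)) = 0 := by
    linear_combination h1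
  rcases mul_eq_zero.mp h3 with h4 | h4
  · exact eq_neg_of_add_eq_zero_left h4
  · exfalso
    have h5 : ζ h = (((p : ℝ) - 2 : ℝ) : ℂ) := by
      push_cast
      exact sub_eq_zero.mp h4
    have hp2 : (0 : ℝ) ≤ (p : ℝ) - 2 := by
      have : (5 : ℝ) < (p : ℝ) := by exact_mod_cast hp
      linarith
    have h6 : ‖ζ h‖ = (p : ℝ) - 2 := by
      rw [h5, Complex.norm_real, Real.norm_eq_abs, abs_of_nonneg hp2]
    have h7 := H.noinv h (H.cen h h6) h2
    rw [h7, orderOf_one] at hh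
    omega

theorem pm2vt_pow_two_period (y : G) (hy2 : ¬ 2 ∣ orderOf y) :
    ∃ n : ℕ, 0 < n ∧ ∀ t : ℕ, y ^ (2 ^ (n * t)) = y := by
  have hcop : Nat.Coprime 2 (orderOf y) := (Nat.Prime.coprime_iff_not_dvd Nat.prime_two).mpr hy2
  refine ⟨Nat.totient (orderOf y), Nat.totient_pos.mpr (orderOf_pos y), ?_⟩
  intro t
  have h1 : 2 ^ Nat.totient (orderOf y) ≡ 1 [MOD orderOf y] := Nat.ModEq.pow_totient hcop
  have h2 : 2 ^ (Nat.totient (orderOf y) * t) ≡ 1 [MOD orderOf y] := by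
    rw [pow_mul]
    have := h1.pow t
    rwa [one_pow] at this
  have h3 : y ^ (2 ^ (Nat.totient (orderOf y) * t)) = y ^ 1 := pow_eq_pow_iff_modEq.mpr h2
  rwa [pow_one] at h3

theorem pm2vt_odd (hp : 5 < p) (H : VTH G p ζ o) (y : G) (hy2 : ¬ 2 ∣ orderOf y)
    (hyp : ¬ p ∣ orderOf y) : ζ y = 0 ∨ y ∈ Subgroup.center G := by
  obtain ⟨n, hn, hper⟩ := pm2vt_pow_two_period y hy2
  have hp2 : (0 : ℝ) < (p : ℝ) - 2 := by
    have : (5 : ℝ) < (p : ℝ) := by exact_mod_cast hp
    linarith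
  have hstep : ∀ i : ℕ, ζ (y ^ (2 ^ i)) ^ 2 = (((p : ℝ) - 2 : ℝ) : ℂ) * ζ (y ^ (2 ^ (i + 1))) := by
    intro i
    have hd : orderOf (y ^ (2 ^ i)) ∣ orderOf y := orderOf_pow_dvd _
    have h2 : ¬ 2 ∣ orderOf (y ^ (2 ^ i)) := fun h => hy2 (h.trans hd)
    have hpp : ¬ p ∣ orderOf (y ^ (2 ^ i)) := fun h => hyp (h.trans hd)
    have hcop2 : Nat.Coprime 2 (orderOf (y ^ (2 ^ i))) :=
      (Nat.Prime.coprime_iff_not_dvd Nat.prime_two).mpr h2
    have h1 := H.rel _ hpp 2 hcop2 (Nat.ModEq.refl _)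
    rw [← pow_mul, ← pow_succ] at h1
    push_cast
    linear_combination h1
  have h := pm2gen_iter (fun i => ζ (y ^ (2 ^ i))) ((p : ℝ) - 2) hp2 hstep n hn (by
    show ζ (y ^ (2 ^ n)) = ζ (y ^ (2 ^ 0))
    have := hper 1
    rw [mul_one] at this
    rw [this, pow_zero, pow_one])
  simp only [pow_zero, pow_one] at h
  rcases h with h | h
  · exact Or.inl h
  · exact Or.inr (H.cen y h)

theorem pm2vt_pow_mem_center (y : G) (hy2 : ¬ 2 ∣ orderOf y) (j : ℕ)
    (h : y ^ (2 ^ j) ∈ Subgroup.center G) : y ∈ Subgroup.center G := by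
  obtain ⟨n, hn, hper⟩ := pm2vt_pow_two_period y hy2
  have h1 := hper j
  have hle : j ≤ n * j := Nat.le_mul_of_pos_left j hn
  have h2 : y ^ (2 ^ (n * j)) = (y ^ (2 ^ j)) ^ (2 ^ (n * j - j)) := by
    rw [← pow_mul, ← pow_add, Nat.add_sub_cancel' hle]
  rw [← h1, h2]
  exact Subgroup.pow_mem _ h _

theorem pm2vt_mixed (hp : 5 < p) (H : VTH G p ζ o) (u y : G) (hu : orderOf u = 2)
    (hy2 : ¬ 2 ∣ orderOf y) (hyp : ¬ p ∣ orderOf y) (hc : Commute u y)
    (hyZ : y ∉ Subgroup.center G) : ζ (u * y) = 0 := by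
  have hpp := (Fact.out : p.Prime)
  obtain ⟨n, hn, hper⟩ := pm2vt_pow_two_period y hy2
  have hp3 : (0 : ℝ) < (p : ℝ) - 3 := by
    have : (5 : ℝ) < (p : ℝ) := by exact_mod_cast hp
    linarith
  have hu2 : u ^ 2 = 1 := by rw [← hu]; exact pow_orderOf_eq_one u
  have hzero : ∀ j : ℕ, ζ (y ^ (2 ^ j)) = 0 := by
    intro j
    have hd : orderOf (y ^ (2 ^ j)) ∣ orderOf y := orderOf_pow_dvd _
    rcases pm2vt_odd hp H (y ^ (2 ^ j)) (fun h => hy2 (h.trans hd)) (fun h => hyp (h.trans hd))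
      with h | h
    · exact h
    · exact absurd (pm2vt_pow_mem_center y hy2 j h) hyZ
  have hstep : ∀ i : ℕ, ζ (u * y ^ (2 ^ i)) ^ 2 =
      (((p : ℝ) - 3 : ℝ) : ℂ) * ζ (u * y ^ (2 ^ (i + 1))) := by
    intro i
    set y' := y ^ (2 ^ i) with hy'
    have hd : orderOf y' ∣ orderOf y := orderOf_pow_dvd _
    have h2 : ¬ 2 ∣ orderOf y' := fun h => hy2 (h.trans hd)
    have hpy' : ¬ p ∣ orderOf y' := fun h => hyp (h.trans hd)
    have hc' : Commute u y' := hc.pow_right _
    have hcop : Nat.Coprime (orderOf u) (orderOf y') := by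
      rw [hu]
      exact (Nat.Prime.coprime_iff_not_dvd Nat.prime_two).mpr h2
    have hord : orderOf (u * y') = 2 * orderOf y' := by
      rw [hc'.orderOf_mul_eq_mul_orderOf_of_coprime hcop, hu]
    have hreg : ¬ p ∣ orderOf (u * y') := by
      rw [hord]
      intro hdv
      rcases (Nat.Prime.dvd_mul hpp).mp hdv with h | h
      · have := Nat.le_of_dvd (by norm_num) h
        omega
      · exact hpy' h
    have hn₁odd : Odd (orderOf y') := by
      rw [← Nat.not_even_iff_odd, even_iff_two_dvd]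
      exact h2
    have hcope : Nat.Coprime (orderOf y' + 2) (2 * orderOf y') := by
      apply Nat.Coprime.mul_right
      · exact Nat.coprime_two_right.mpr (hn₁odd.add_even even_two)
      · have h22 : Nat.Coprime 2 (orderOf y') := (Nat.Prime.coprime_iff_not_dvd Nat.prime_two).mpr h2
        simpa using h22
    have hkd : Nat.gcd (2 * orderOf y') o ∣ orderOf y' := by
      have hk2 : Nat.Coprime (Nat.gcd (2 * orderOf y') o) 2 :=
        Nat.Coprime.coprime_dvd_left (Nat.gcd_dvd_right _ _) (Nat.coprime_two_right.mpr H.oodd)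
      have hk3 : Nat.gcd (2 * orderOf y') o ∣ orderOf y' * 2 := by
        rw [mul_comm]
        exact Nat.gcd_dvd_left _ _
      exact hk2.dvd_of_dvd_mul_right hk3
    have hmode : orderOf y' + 2 ≡ 2 [MOD Nat.gcd (2 * orderOf y') o] :=
      (Nat.add_modEq_left).of_dvd hkd
    have h1 := H.rel _ hreg (orderOf y' + 2) (by rw [hord]; exact hcope) (by rw [hord]; exact hmode)
    have hsq : (u * y') ^ 2 = y ^ (2 ^ (i + 1)) := by
      rw [hc'.mul_pow, hu2, one_mul, hy', ← pow_mul, ← pow_succ]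
    have hk : (u * y') ^ (orderOf y' + 2) = u * y ^ (2 ^ (i + 1)) := by
      obtain ⟨m, hm⟩ := hn₁odd.add_even even_two
      have hupow : u ^ (orderOf y' + 2) = u := by
        rw [hm, pow_succ, pow_mul, hu2, one_pow, one_mul]
      rw [hc'.mul_pow, hupow, pow_add, pow_orderOf_eq_one, one_mul, hy', ← pow_mul, ← pow_succ]
    rw [hsq, hk, hzero (i + 1), sub_zero] at h1
    push_cast
    exact h1
  have h := pm2gen_iter (fun i => ζ (u * y ^ (2 ^ i))) ((p : ℝ) - 3) hp3 hstep n hn (by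
    show ζ (u * y ^ (2 ^ n)) = ζ (u * y ^ (2 ^ 0))
    have := hper 1
    rw [mul_one] at this
    rw [this, pow_zero, pow_one])
  simp only [pow_zero, pow_one] at h
  rcases h with h | h
  · exact h
  · exfalso
    obtain ⟨s, c, hs, hk⟩ := Cfsg.Agent.Lib.Helper24.gn_char_pow_expansion H.char (u * y)
    have hsn : ∀ z ∈ s, ‖z‖ = 1 := fun z hz =>
      Complex.norm_eq_one_of_pow_eq_one (hs z hz) Nat.card_pos.ne'
    have hineq := pm2gen_unit_sq s c hsn
    have h0 := hk 0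
    have h1 := hk 1
    have h2 := hk 2
    simp only [pow_zero, mul_one, pow_one] at h0 h1
    have hsq : (u * y) ^ 2 = y ^ (2 ^ 1) := by
      rw [hc.mul_pow, hu2, one_mul, pow_one]
    rw [hsq, hzero 1] at h2
    rw [← h1, ← h2, norm_zero, mul_zero, zero_add, h] at hineq
    have hn' : (∑ z ∈ s, (c z : ℝ)) = (p : ℝ) - 2 := by
      have h3 : ((∑ z ∈ s, (c z : ℝ) : ℝ) : ℂ) = (((p : ℝ) - 2 : ℝ) : ℂ) := by
        push_cast
        rw [← h0, H.deg]
      exact_mod_cast h3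
    rw [hn'] at hineq
    have hp6 : (6 : ℝ) ≤ (p : ℝ) := by
      have : 6 ≤ p := hp
      exact_mod_cast this
    nlinarith

theorem pm2vt_gauss (H : VTH G p ζ o) (v : G) (hv : orderOf v = 4) :
    ∃ a b : ℤ, ζ v = (a : ℂ) + (b : ℂ) * Complex.I := by
  classical
  set C := Subgroup.zpowers v with hC
  have hres := Cfsg.Agent.Lib.helper2.isCharacter_restrict H.char C
  let gC : C := ⟨v, Subgroup.mem_zpowers v⟩
  obtain ⟨s, c, hs, hk⟩ := Cfsg.Agent.Lib.Helper24.gn_char_pow_expansion hres gC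
  have h1 := hk 1
  rw [pow_one] at h1
  have h2 : ζ v = ∑ z ∈ s, (c z : ℂ) * z ^ 1 := h1
  rw [h2]
  have hcard : Nat.card C = 4 := by rw [hC, Nat.card_zpowers, hv]
  refine Finset.sum_induction _ (fun x : ℂ => ∃ a b : ℤ, x = (a : ℂ) + (b : ℂ) * Complex.I) ?_ ?_ ?_
  · rintro x y ⟨a, b, rfl⟩ ⟨a', b', rfl⟩
    exact ⟨a + a', b + b', by push_cast; ring⟩
  · exact ⟨0, 0, by simp⟩
  · intro z hz
    have hz4 : z ^ 4 = 1 := by
      have := hs z hz
      rwa [hcard] at this
    have hfac : (z - 1) * (z + 1) * (z - Complex.I) * (z + Complex.I) = 0 := by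
      have hI : Complex.I ^ 2 = -1 := Complex.I_sq
      have : (z - 1) * (z + 1) * (z - Complex.I) * (z + Complex.I) = z ^ 4 - 1 := by
        linear_combination (-(z ^ 2) + 1) * hI
      rw [this, hz4, sub_self]
    rw [pow_one]
    rcases mul_eq_zero.mp hfac with h | h
    · rcases mul_eq_zero.mp h with h | h
      · rcases mul_eq_zero.mp h with h | h
        · refine ⟨(c z : ℤ), 0, ?_⟩
          rw [sub_eq_zero.mp h]
          push_cast
          ring
        · refine ⟨-(c z : ℤ), 0, ?_⟩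
          rw [eq_neg_of_add_eq_zero_left h]
          push_cast
          ring
      · refine ⟨0, (c z : ℤ), ?_⟩
        rw [sub_eq_zero.mp h]
        push_cast
        ring
    · refine ⟨0, -(c z : ℤ), ?_⟩
      rw [eq_neg_of_add_eq_zero_left h]
      push_cast
      ring

theorem pm2vt_no_four (hp : 5 < p) (H : VTH G p ζ o) (v : G) : orderOf v ≠ 4 := by
  intro hv
  have hpr : ¬ p ∣ orderOf v := by
    rw [hv]
    intro hd
    have := Nat.le_of_dvd (by norm_num) hd
    omega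
  have hgcd : Nat.gcd (orderOf v) o = 1 := by
    rw [hv]
    have h2o : Nat.Coprime 2 o := Nat.coprime_two_left.mpr H.oodd
    have : Nat.Coprime (2 ^ 2) o := h2o.pow_left 2
    exact this
  have h1 := H.rel v hpr 1 (Nat.coprime_one_left _) (by rw [hgcd]; exact Nat.modEq_one)
  rw [pow_one] at h1
  have hv2 : orderOf (v ^ 2) = 2 := by
    rw [orderOf_pow_of_dvd (by norm_num) (by rw [hv]; norm_num), hv]
  rw [pm2vt_invol hp H (v ^ 2) hv2] at h1
  obtain ⟨a, b, hab⟩ := pm2vt_gauss H v hv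
  rw [hab] at h1
  have hre := congrArg Complex.re h1
  have him := congrArg Complex.im h1
  simp only [sq, Complex.sub_re, Complex.mul_re, Complex.add_re, Complex.intCast_re,
    Complex.I_re, Complex.I_im, Complex.intCast_im, Complex.add_im, Complex.mul_im,
    Complex.neg_re, Complex.one_re, Complex.natCast_re, Complex.natCast_im, Complex.sub_im,
    Complex.neg_im, Complex.one_im, mul_zero, mul_one, sub_zero, zero_mul, add_zero, zero_add,
    Complex.re_ofNat, Complex.im_ofNat, zero_sub, sub_neg_eq_add] at hre him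
  have hre' : a * a - b * b + 1 = ((p : ℤ) - 3) * a := by
    have : ((a * a - b * b + 1 : ℤ) : ℝ) = ((((p : ℤ) - 3) * a : ℤ) : ℝ) := by
      push_cast
      linarith
    exact_mod_cast this
  have him' : 2 * a * b = ((p : ℤ) - 3) * b := by
    have : ((2 * a * b : ℤ) : ℝ) = ((((p : ℤ) - 3) * b : ℤ) : ℝ) := by
      push_cast
      linarith
    exact_mod_cast this
  exact pm2gen_order_four_arith a b p hp hre' him'

theorem pm2vt_two_elt (hp : 5 < p) (H : VTH G p ζ o) (u : G) (hu : ∃ j : ℕ, orderOf u = 2 ^ j) :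
    u = 1 ∨ orderOf u = 2 := by
  obtain ⟨j, hj⟩ := hu
  rcases Nat.lt_or_ge j 2 with h | h
  · interval_cases j
    · left
      rw [pow_zero] at hj
      exact orderOf_eq_one_iff.mp hj
    · right
      rw [hj, pow_one]
  · exfalso
    apply pm2vt_no_four hp H (u ^ (2 ^ (j - 2)))
    have hdvd : 2 ^ (j - 2) ∣ orderOf u := by
      rw [hj]
      exact pow_dvd_pow 2 (Nat.sub_le j 2)
    rw [orderOf_pow_of_dvd (by positivity) hdvd, hj]
    have : 2 ^ j = 2 ^ (j - 2) * 4 := by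
      have hj2 : j = (j - 2) + 2 := by omega
      conv_lhs => rw [hj2, pow_add]
      norm_num
    rw [this, Nat.mul_div_cancel_left _ (by positivity)]

theorem pm2vt_table (hp : 5 < p) (H : VTH G p ζ o) (g : G) (hg : ¬ p ∣ orderOf g)
    (h0 : ζ g ≠ 0) :
    g ∈ Subgroup.center G ∨
      ∃ h z : G, orderOf h = 2 ∧ z ∈ Subgroup.center G ∧ g = h * z := by
  obtain ⟨r, u, hru, hcomm, hr2, hu, hrz, huz⟩ :=
    Cfsg.Agent.Lib.helper2.pp_exists 2 Nat.prime_two g
  have hrp : ¬ p ∣ orderOf r := fun h => hg (h.trans (orderOf_dvd_of_mem_zpowers hrz))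
  rcases pm2vt_two_elt hp H u hu with hu1 | hu2
  · rw [hu1, mul_one] at hru
    rw [← hru] at h0 ⊢
    rcases pm2vt_odd hp H r hr2 hrp with h | h
    · exact absurd h h0
    · exact Or.inl h
  · by_cases hrZ : r ∈ Subgroup.center G
    · right
      exact ⟨u, r, hu2, hrZ, by rw [← hru, hcomm.eq]⟩
    · exfalso
      apply h0
      rw [← hru, hcomm.eq]
      exact pm2vt_mixed hp H u r hu2 hr2 hrp hcomm.symm hrZ

end

end Cfsg.Agent.Lib.helper7.PM2
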