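import Mathlib
import Cfsg.Prelude.Def_Characters
import Cfsg.Agent.Lib.helper7.PM2.Defs
import Cfsg.Agent.Lib.Helper1.PM2VTcore

set_option autoImplicit false
set_option linter.unusedVariables false
set_option linter.unusedSectionVars false
set_option linter.style.haveILetI false

namespace Cfsg.Agent.Lib.helper7.PM2

open scoped ComplexConjugate

universe u

section setting

variable {G : Type u} [Group G] [Fintype G] {p : ℕ} {ζ : G → ℂ} {x : G} {ω : ℂ}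

theorem pm2vt_noinv (S : Setting p ζ x ω) (z : G) (hz : z ∈ Subgroup.center G) (h2 : z ^ 2 = 1) :
    z = 1 := by
  have h1 : orderOf z ∣ 2 := orderOf_dvd_of_pow_eq_one h2
  have h3 : orderOf z ∣ Nat.card (Subgroup.center G) := by
    have : orderOf (⟨z, hz⟩ : Subgroup.center G) ∣ Nat.card (Subgroup.center G) :=
      orderOf_dvd_natCard _
    rwa [← Subgroup.orderOf_coe] at this
  have hcop : Nat.Coprime 2 (Nat.card (Subgroup.center G)) := Nat.coprime_two_left.mpr S.oddZ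
  have h4 : orderOf z ∣ Nat.gcd 2 (Nat.card (Subgroup.center G)) := Nat.dvd_gcd h1 h3
  rw [hcop] at h4
  exact orderOf_eq_one_iff.mp (Nat.dvd_one.mp h4)

theorem pm2vt_vth (S : Setting p ζ x ω)
    (hcen : ∀ g : G, ‖ζ g‖ = (p : ℝ) - 2 → g ∈ Subgroup.center G)
    (hrel : ∀ z : G, ¬ p ∣ orderOf z → ∀ e : ℕ, Nat.Coprime e (orderOf z) →
      e ≡ 2 [MOD Nat.gcd (orderOf z) (Nat.card (Subgroup.center G))] →
      ζ z ^ 2 - ζ (z ^ 2) = ((p : ℂ) - 3) * ζ (z ^ e)) :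
    VTH G p ζ (Nat.card (Subgroup.center G)) where
  char := by
    obtain ⟨n, ρ, _, h⟩ := S.irr
    exact ⟨n, ρ, h⟩
  deg := S.deg
  cen := hcen
  noinv := pm2vt_noinv S
  oodd := S.oddZ
  rel := hrel

theorem pm2vt_even_core [Fact p.Prime] {o : ℕ} (hp : 5 < p) (H : VTH G p ζ o) (z : G)
    (hz : ¬ p ∣ orderOf z) (heven : 2 ∣ orderOf z) (hz2 : z ^ 2 ∉ Subgroup.center G) : ζ z = 0 := by
  obtain ⟨r, u, hru, hcomm, hr2, hu, hrz, huz⟩ :=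
    Cfsg.Agent.Lib.helper2.pp_exists 2 Nat.prime_two z
  have hrp : ¬ p ∣ orderOf r := fun h => hz (h.trans (orderOf_dvd_of_mem_zpowers hrz))
  rcases pm2vt_two_elt hp H u hu with hu1 | hu2
  · exfalso
    rw [hu1, mul_one] at hru
    rw [← hru] at heven
    exact hr2 heven
  · have hrZ : r ∉ Subgroup.center G := by
      intro hr
      apply hz2
      have hu2' : u ^ 2 = 1 := by rw [← hu2]; exact pow_orderOf_eq_one u
      rw [← hru, hcomm.mul_pow, hu2', mul_one]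
      exact Subgroup.pow_mem _ hr 2
    rw [← hru, hcomm.eq]
    exact pm2vt_mixed hp H u r hu2 hr2 hrp hcomm.symm hrZ

theorem pm2vtinv_core (S : Setting p ζ x ω)
    (hcen : ∀ g : G, ‖ζ g‖ = (p : ℝ) - 2 → g ∈ Subgroup.center G)
    (hrel : ∀ z : G, ¬ p ∣ orderOf z → ∀ e : ℕ, Nat.Coprime e (orderOf z) →
      e ≡ 2 [MOD Nat.gcd (orderOf z) (Nat.card (Subgroup.center G))] →
      ζ z ^ 2 - ζ (z ^ 2) = ((p : ℂ) - 3) * ζ (z ^ e))
    (u : G) (hu : orderOf u = 2) : ζ u = -1 := by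
  haveI : Fact p.Prime := ⟨S.hp⟩
  exact pm2vt_invol S.hp5 (pm2vt_vth S hcen hrel) u hu

theorem pm2vtodd_core (S : Setting p ζ x ω)
    (hcen : ∀ g : G, ‖ζ g‖ = (p : ℝ) - 2 → g ∈ Subgroup.center G)
    (hrel : ∀ z : G, ¬ p ∣ orderOf z → ∀ e : ℕ, Nat.Coprime e (orderOf z) →
      e ≡ 2 [MOD Nat.gcd (orderOf z) (Nat.card (Subgroup.center G))] →
      ζ z ^ 2 - ζ (z ^ 2) = ((p : ℂ) - 3) * ζ (z ^ e))
    (z : G) (hz : ¬ p ∣ orderOf z) (hodd : Odd (orderOf z))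
    (hnc : z ∉ Subgroup.center G) : ζ z = 0 := by
  haveI : Fact p.Prime := ⟨S.hp⟩
  have h2 : ¬ 2 ∣ orderOf z := by
    rw [← even_iff_two_dvd, Nat.not_even_iff_odd]
    exact hodd
  rcases pm2vt_odd S.hp5 (pm2vt_vth S hcen hrel) z h2 hz with h | h
  · exact h
  · exact absurd h hnc

theorem pm2vt4_core (S : Setting p ζ x ω)
    (hcen : ∀ g : G, ‖ζ g‖ = (p : ℝ) - 2 → g ∈ Subgroup.center G)
    (hrel : ∀ z : G, ¬ p ∣ orderOf z → ∀ e : ℕ, Nat.Coprime e (orderOf z) →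
      e ≡ 2 [MOD Nat.gcd (orderOf z) (Nat.card (Subgroup.center G))] →
      ζ z ^ 2 - ζ (z ^ 2) = ((p : ℂ) - 3) * ζ (z ^ e))
    (z : G) : orderOf z ≠ 4 := by
  haveI : Fact p.Prime := ⟨S.hp⟩
  exact pm2vt_no_four S.hp5 (pm2vt_vth S hcen hrel) z

theorem pm2vteven_core (S : Setting p ζ x ω)
    (hcen : ∀ g : G, ‖ζ g‖ = (p : ℝ) - 2 → g ∈ Subgroup.center G)
    (hrel : ∀ z : G, ¬ p ∣ orderOf z → ∀ e : ℕ, Nat.Coprime e (orderOf z) →
      e ≡ 2 [MOD Nat.gcd (orderOf z) (Nat.card (Subgroup.center G))] →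
      ζ z ^ 2 - ζ (z ^ 2) = ((p : ℂ) - 3) * ζ (z ^ e))
    (z : G) (hz : ¬ p ∣ orderOf z) (n₁ : ℕ) (hodd : Odd n₁)
    (hord : orderOf z = 2 * n₁) (hz2 : z ^ 2 ∉ Subgroup.center G) : ζ z = 0 := by
  haveI : Fact p.Prime := ⟨S.hp⟩
  exact pm2vt_even_core S.hp5 (pm2vt_vth S hcen hrel) z hz (by rw [hord]; exact dvd_mul_right 2 n₁) hz2

theorem pm2exc_core (S : Setting p ζ x ω)
    (hcen : ∀ g : G, ‖ζ g‖ = (p : ℝ) - 2 → g ∈ Subgroup.center G)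
    (hrel : ∀ z : G, ¬ p ∣ orderOf z → ∀ e : ℕ, Nat.Coprime e (orderOf z) →
      e ≡ 2 [MOD Nat.gcd (orderOf z) (Nat.card (Subgroup.center G))] →
      ζ z ^ 2 - ζ (z ^ 2) = ((p : ℂ) - 3) * ζ (z ^ e))
    (z : G) (hz : ¬ p ∣ orderOf z) (n₁ : ℕ) (hodd : Odd n₁)
    (hord : orderOf z = 2 * n₁) (hz2 : z ^ 2 ∉ Subgroup.center G) : ‖ζ z‖ ≠ (p : ℝ) - 3 := by
  rw [pm2vteven_core S hcen hrel z hz n₁ hodd hord hz2, norm_zero]
  have : (5 : ℝ) < (p : ℝ) := by exact_mod_cast S.hp5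
  intro h
  linarith

theorem pm2vt_table_core (S : Setting p ζ x ω)
    (hcen : ∀ g : G, ‖ζ g‖ = (p : ℝ) - 2 → g ∈ Subgroup.center G)
    (hrel : ∀ z : G, ¬ p ∣ orderOf z → ∀ e : ℕ, Nat.Coprime e (orderOf z) →
      e ≡ 2 [MOD Nat.gcd (orderOf z) (Nat.card (Subgroup.center G))] →
      ζ z ^ 2 - ζ (z ^ 2) = ((p : ℂ) - 3) * ζ (z ^ e))
    (z : G) (hz : ¬ p ∣ orderOf z) :
    z ∈ Subgroup.center G ∨ (∃ u c : G, orderOf u = 2 ∧ c ∈ Subgroup.center G ∧ z = u * c) ∨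
      ζ z = 0 := by
  haveI : Fact p.Prime := ⟨S.hp⟩
  by_cases h0 : ζ z = 0
  · exact Or.inr (Or.inr h0)
  · rcases pm2vt_table S.hp5 (pm2vt_vth S hcen hrel) z hz h0 with h | h
    · exact Or.inl h
    · exact Or.inr (Or.inl h)

theorem pm2vt_invol_mul_core (S : Setting p ζ x ω)
    (hcen : ∀ g : G, ‖ζ g‖ = (p : ℝ) - 2 → g ∈ Subgroup.center G)
    (hrel : ∀ z : G, ¬ p ∣ orderOf z → ∀ e : ℕ, Nat.Coprime e (orderOf z) →
      e ≡ 2 [MOD Nat.gcd (orderOf z) (Nat.card (Subgroup.center G))] →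
      ζ z ^ 2 - ζ (z ^ 2) = ((p : ℂ) - 3) * ζ (z ^ e))
    (hnu : ∀ {c : G}, c ∈ Subgroup.center G → ∀ g : G, ζ (g * c) = nu ζ c * ζ g)
    (u c : G) (hu : orderOf u = 2) (hc : c ∈ Subgroup.center G) : ζ (u * c) = - nu ζ c := by
  rw [hnu hc u, pm2vtinv_core S hcen hrel u hu]
  ring

end setting

end Cfsg.Agent.Lib.helper7.PM2
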