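import Mathlib
import Cfsg.Prelude.Def_Characters
import Cfsg.Agent.Lib.helper7.PM2.Defs
import Cfsg.Agent.Lib.Helper1.PM2VTw

set_option autoImplicit false
set_option linter.unusedVariables false
set_option linter.unusedSectionVars false

namespace Cfsg.Agent.Lib.helper7.PM2

open scoped ComplexConjugate

universe u

section setting

variable {G : Type u} [Group G] [Fintype G] {p : ℕ} {ζ : G → ℂ} {x : G} {ω : ℂ}

theorem pm2regsum_center_pow (c : G) (hc : c ∈ Subgroup.center G) :
    c ^ Nat.card (Subgroup.center G) = 1 := by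
  have h : (⟨c, hc⟩ : Subgroup.center G) ^ Nat.card (Subgroup.center G) = 1 := pow_card_eq_one'
  have h2 := congrArg Subtype.val h
  rw [Subgroup.coe_pow] at h2
  exact h2

theorem pm2regsum_invol_pow (S : Setting p ζ x ω) (u : G) (hu : orderOf u = 2) :
    u ^ Nat.card (Subgroup.center G) = u := by
  obtain ⟨m, hm⟩ := S.oddZ
  have hu2 : u ^ 2 = 1 := by rw [← hu]; exact pow_orderOf_eq_one u
  rw [hm, pow_succ, pow_mul, hu2, one_pow, one_mul]

theorem pm2regsum_core (S : Setting p ζ x ω)
    (hpZ : ¬ p ∣ Nat.card (Subgroup.center G))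
    (htab : ∀ z : G, ¬ p ∣ orderOf z → z ∈ Subgroup.center G ∨
      (∃ u c : G, orderOf u = 2 ∧ c ∈ Subgroup.center G ∧ z = u * c) ∨ ζ z = 0)
    (F : G → ℂ) (hF : ∀ g, ζ g = 0 → F g = 0) :
    ∑ g ∈ reg p G, F g =
      ∑ c ∈ cen G, F c + ∑ u ∈ invol G, ∑ c ∈ cen G, F (u * c) := by
  classical
  set o := Nat.card (Subgroup.center G) with ho
  set T : Finset G := (invol G ×ˢ cen G).image (fun q : G × G => q.1 * q.2) with hT
  have hinj : Set.InjOn (fun q : G × G => q.1 * q.2) ((invol G ×ˢ cen G : Finset (G × G)) : Set (G × G)) := by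
    rintro ⟨u, c⟩ hq ⟨u', c'⟩ hq' heq
    simp only [Finset.coe_product, Set.mem_prod, Finset.mem_coe] at hq hq'
    have hu := (mem_invol u).mp hq.1
    have hu' := (mem_invol u').mp hq'.1
    have hc := (mem_cen c).mp hq.2
    have hc' := (mem_cen c').mp hq'.2
    simp only at heq
    have hcomm : Commute u c := Subgroup.mem_center_iff.mp hc u
    have hcomm' : Commute u' c' := Subgroup.mem_center_iff.mp hc' u'
    have h1 : (u * c) ^ o = u := by
      rw [hcomm.mul_pow, pm2regsum_center_pow c hc, mul_one, pm2regsum_invol_pow S u hu]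
    have h2 : (u' * c') ^ o = u' := by
      rw [hcomm'.mul_pow, pm2regsum_center_pow c' hc', mul_one, pm2regsum_invol_pow S u' hu']
    have huu : u = u' := by rw [← h1, ← h2, heq]
    subst huu
    have hcc : c = c' := mul_left_cancel heq
    rw [hcc]
  have hcenreg : cen G ⊆ reg p G := by
    intro c hc
    rw [mem_cen] at hc
    rw [mem_reg]
    intro hd
    apply hpZ
    have : orderOf c ∣ o := orderOf_dvd_of_pow_eq_one (pm2regsum_center_pow c hc)
    exact hd.trans this
  have hTreg : T ⊆ reg p G := by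
    intro g hg
    rw [hT, Finset.mem_image] at hg
    obtain ⟨⟨u, c⟩, hq, rfl⟩ := hg
    rw [Finset.mem_product] at hq
    have hu := (mem_invol u).mp hq.1
    have hc := (mem_cen c).mp hq.2
    rw [mem_reg]
    intro hd
    have hcomm : Commute u c := Subgroup.mem_center_iff.mp hc u
    have hu2 : u ^ 2 = 1 := by rw [← hu]; exact pow_orderOf_eq_one u
    have hpow : (u * c) ^ (2 * o) = 1 := by
      rw [hcomm.mul_pow, pow_mul, hu2, one_pow, one_mul, mul_comm, pow_mul,
        pm2regsum_center_pow c hc, one_pow]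
    have h2o : p ∣ 2 * o := hd.trans (orderOf_dvd_of_pow_eq_one hpow)
    rcases (Nat.Prime.dvd_mul S.hp).mp h2o with h | h
    · have := Nat.le_of_dvd (by norm_num) h
      have := S.hp5
      omega
    · exact hpZ h
  have hdisj : Disjoint (cen G) T := by
    rw [Finset.disjoint_left]
    intro g hgc hgT
    rw [mem_cen] at hgc
    rw [hT, Finset.mem_image] at hgT
    obtain ⟨⟨u, c⟩, hq, rfl⟩ := hgT
    rw [Finset.mem_product] at hq
    have hu := (mem_invol u).mp hq.1
    have hc := (mem_cen c).mp hq.2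
    have hucen : u ∈ Subgroup.center G := by
      have : u = (u * c) * c⁻¹ := by group
      rw [this]
      exact Subgroup.mul_mem _ hgc (Subgroup.inv_mem _ hc)
    have hu2 : u ^ 2 = 1 := by rw [← hu]; exact pow_orderOf_eq_one u
    have := pm2vt_noinv S u hucen hu2
    rw [this, orderOf_one] at hu
    omega
  have hsub : cen G ∪ T ⊆ reg p G := Finset.union_subset hcenreg hTreg
  have hzero : ∀ g ∈ reg p G, g ∉ cen G ∪ T → F g = 0 := by
    intro g hg hgn
    rw [mem_reg] at hg
    rw [Finset.mem_union, not_or] at hgn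
    rcases htab g hg with h | h | h
    · exact absurd ((mem_cen g).mpr h) hgn.1
    · obtain ⟨u, c, hu, hc, rfl⟩ := h
      exfalso
      apply hgn.2
      rw [hT, Finset.mem_image]
      exact ⟨(u, c), Finset.mem_product.mpr ⟨(mem_invol u).mpr hu, (mem_cen c).mpr hc⟩, rfl⟩
    · exact hF g h
  rw [← Finset.sum_subset hsub hzero, Finset.sum_union hdisj, hT, Finset.sum_image hinj,
    Finset.sum_product]

end setting

end Cfsg.Agent.Lib.helper7.PM2
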