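import Mathlib
import Cfsg.Prelude.Def_Characters
import Cfsg.Agent.Lib.helper7.PM2.Defs

set_option autoImplicit false
set_option linter.unusedVariables false
set_option linter.unusedSectionVars false

namespace Cfsg.Agent.Lib.helper7.PM2

open scoped ComplexConjugate

universe u

section setting

variable {G : Type u} [Group G] [Fintype G] {p : ℕ} {ζ : G → ℂ} {x : G} {ω : ℂ}

theorem pm2tr_order_dvd (S : Setting p ζ x ω) (z : G) (hz : ¬ p ∣ orderOf z) :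
    orderOf z ∣ Nat.card G / p := by
  have hpn : p ∣ Nat.card G := by
    rw [← S.ordx]
    exact orderOf_dvd_natCard x
  have h1 : orderOf z ∣ p * (Nat.card G / p) := by
    rw [Nat.mul_div_cancel' hpn]
    exact orderOf_dvd_natCard z
  have hcop : Nat.Coprime (orderOf z) p :=
    ((Nat.Prime.coprime_iff_not_dvd S.hp).mpr hz).symm
  exact hcop.dvd_of_dvd_mul_left h1

theorem pm2tr_core (S : Setting p ζ x ω)
    (hcrt : ∀ (n M d κ e : ℕ), 0 < n → M ∣ n → d ∣ n → Nat.Coprime κ d → Nat.Coprime e d →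
      e ≡ κ [MOD Nat.gcd d M] → ∃ u : ℕ, Nat.Coprime u n ∧ u ≡ 1 [MOD M] ∧ κ * u ≡ e [MOD d])
    (hgi : ∀ u : ℕ, Nat.Coprime u (Nat.card G) → u ≡ 1 [MOD p] →
      u ≡ 1 [MOD Nat.card (Subgroup.center G)] → ∀ g : G, ζ (g ^ u) = ζ g)
    (hdvd : 2 * p * Nat.card (Subgroup.center G) ∣ Nat.card G)
    (κ : ℕ) (hκ : Nat.Coprime κ (Nat.card G / p))
    (hκ2 : κ ≡ 2 [MOD Nat.card (Subgroup.center G)]) (z : G) (hz : ¬ p ∣ orderOf z) (e : ℕ)
    (he : Nat.Coprime e (orderOf z))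
    (he2 : e ≡ 2 [MOD Nat.gcd (orderOf z) (Nat.card (Subgroup.center G))]) :
    ζ (z ^ κ) = ζ (z ^ e) := by
  set o := Nat.card (Subgroup.center G) with ho
  set d := orderOf z with hd
  have hM : p * o ∣ Nat.card G := by
    have : p * o ∣ 2 * p * o := ⟨2, by ring⟩
    exact this.trans hdvd
  have hdn : d ∣ Nat.card G := orderOf_dvd_natCard z
  have hdnp : d ∣ Nat.card G / p := pm2tr_order_dvd S z hz
  have hκd : Nat.Coprime κ d := Nat.Coprime.coprime_dvd_right hdnp hκ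
  have hcop : Nat.Coprime p d := (Nat.Prime.coprime_iff_not_dvd S.hp).mpr hz
  have hgcd : Nat.gcd d (p * o) = Nat.gcd d o := Nat.Coprime.gcd_mul_left_cancel_right o hcop
  have hcong : e ≡ κ [MOD Nat.gcd d (p * o)] := by
    rw [hgcd]
    exact he2.trans (hκ2.of_dvd (Nat.gcd_dvd_right d o)).symm
  obtain ⟨u, hu, hu1, hu2⟩ := hcrt (Nat.card G) (p * o) d κ e Nat.card_pos hM hdn hκd he hcong
  have hup : u ≡ 1 [MOD p] := hu1.of_dvd (dvd_mul_right p o)
  have huo : u ≡ 1 [MOD o] := hu1.of_dvd (dvd_mul_left o p)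
  have hpow : z ^ e = (z ^ κ) ^ u := by
    rw [← pow_mul]
    exact pow_eq_pow_iff_modEq.mpr hu2.symm
  rw [hpow, hgi u hu hup huo]

theorem pm2rel_core (S : Setting p ζ x ω)
    (hkap : ∀ (n p o : ℕ), 0 < n → p.Prime → p ∣ n → o ∣ n / p → Odd o →
      ∃ κ : ℕ, Nat.Coprime κ (n / p) ∧ κ ≡ 2 [MOD o])
    (halt : ∀ κ : ℕ, Nat.Coprime κ (Nat.card G / p) → κ ≡ 2 [MOD Nat.card (Subgroup.center G)] →
      ∀ z : G, ¬ p ∣ orderOf z → ζ z ^ 2 - ζ (z ^ 2) = ((p : ℂ) - 3) * ζ (z ^ κ))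
    (htr : ∀ κ : ℕ, Nat.Coprime κ (Nat.card G / p) → κ ≡ 2 [MOD Nat.card (Subgroup.center G)] →
      ∀ z : G, ¬ p ∣ orderOf z → ∀ e : ℕ, Nat.Coprime e (orderOf z) →
      e ≡ 2 [MOD Nat.gcd (orderOf z) (Nat.card (Subgroup.center G))] → ζ (z ^ κ) = ζ (z ^ e))
    (hdvd : 2 * p * Nat.card (Subgroup.center G) ∣ Nat.card G)
    (z : G) (hz : ¬ p ∣ orderOf z) (e : ℕ) (he : Nat.Coprime e (orderOf z))
    (he2 : e ≡ 2 [MOD Nat.gcd (orderOf z) (Nat.card (Subgroup.center G))]) :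
    ζ z ^ 2 - ζ (z ^ 2) = ((p : ℂ) - 3) * ζ (z ^ e) := by
  have hpn : p ∣ Nat.card G := by
    rw [← S.ordx]
    exact orderOf_dvd_natCard x
  have hon : Nat.card (Subgroup.center G) ∣ Nat.card G / p := by
    obtain ⟨t, ht⟩ := hdvd
    have hp0 : 0 < p := S.hp.pos
    have : Nat.card G / p = 2 * Nat.card (Subgroup.center G) * t := by
      rw [ht]
      have : 2 * p * Nat.card (Subgroup.center G) * t = p * (2 * Nat.card (Subgroup.center G) * t) := by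
        ring
      rw [this, Nat.mul_div_cancel_left _ hp0]
    rw [this]
    exact ⟨2 * t, by ring⟩
  obtain ⟨κ, hκ, hκ2⟩ := hkap (Nat.card G) p (Nat.card (Subgroup.center G)) Nat.card_pos S.hp hpn hon
    S.oddZ
  rw [halt κ hκ hκ2 z hz, htr κ hκ hκ2 z hz e he he2]

end setting

end Cfsg.Agent.Lib.helper7.PM2
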