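import Mathlib
import Cfsg.Prelude.Def_Characters
import Cfsg.Agent.Lib.helper7.PM2.Defs
import Cfsg.Agent.Lib.Helper21.PM2CRT
import Cfsg.Agent.Lib.helper23.PM2BAS3
import Cfsg.Agent.Lib.Helper22.PM2AGR
import Cfsg.Agent.Lib.Helper29.PM2DEC3
import Cfsg.Agent.Lib.Helper1.PM2RELcore

set_option autoImplicit false
set_option linter.unusedVariables false
set_option linter.unusedSectionVars false

namespace Cfsg.Agent.Lib.helper7.PM2

open scoped ComplexConjugate

universe u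

section setting

variable {G : Type u} [Group G] [Fintype G] {p : ℕ} {ζ : G → ℂ} {x : G} {ω : ℂ}

theorem transfer (S : Setting p ζ x ω) (κ : ℕ) (hκ : Nat.Coprime κ (Nat.card G / p))
    (hκ2 : κ ≡ 2 [MOD Nat.card (Subgroup.center G)]) (z : G) (hz : ¬ p ∣ orderOf z) (e : ℕ)
    (he : Nat.Coprime e (orderOf z))
    (he2 : e ≡ 2 [MOD Nat.gcd (orderOf z) (Nat.card (Subgroup.center G))]) :
    ζ (z ^ κ) = ζ (z ^ e) := by
  exact pm2tr_core S exists_unit_transfer (gal_inv S) (card_dvd S) κ hκ hκ2 z hz e he he2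

theorem rel (S : Setting p ζ x ω) (z : G) (hz : ¬ p ∣ orderOf z) (e : ℕ)
    (he : Nat.Coprime e (orderOf z))
    (he2 : e ≡ 2 [MOD Nat.gcd (orderOf z) (Nat.card (Subgroup.center G))]) :
    ζ z ^ 2 - ζ (z ^ 2) = ((p : ℂ) - 3) * ζ (z ^ e) := by
  exact pm2rel_core S exists_kappa (alt_rel S) (transfer S) (card_dvd S) z hz e he he2

end setting

end Cfsg.Agent.Lib.helper7.PM2
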