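import Mathlib
import Cfsg.Prelude.Def_Characters
import Cfsg.Agent.Lib.helper7.PM2.Defs
import Cfsg.Agent.Lib.helper23.PM2BAS3
import Cfsg.Agent.Lib.Helper19.PM2BAS
import Cfsg.Agent.Lib.Helper1.PM2REL
import Cfsg.Agent.Lib.Helper1.PM2VTw
import Cfsg.Agent.Lib.Helper1.PM2REGSUMcore

set_option autoImplicit false
set_option linter.unusedVariables false
set_option linter.unusedSectionVars false

namespace Cfsg.Agent.Lib.helper7.PM2

open scoped ComplexConjugate

universe u

section setting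

variable {G : Type u} [Group G] [Fintype G] {p : ℕ} {ζ : G → ℂ} {x : G} {ω : ℂ}

theorem val_invol (S : Setting p ζ x ω) (u : G) (hu : orderOf u = 2) : ζ u = -1 := by
  exact pm2vtinv_core S (central_of_norm S) (rel S) u hu

theorem val_odd (S : Setting p ζ x ω) (z : G) (hz : ¬ p ∣ orderOf z) (hodd : Odd (orderOf z))
    (hnc : z ∉ Subgroup.center G) : ζ z = 0 := by
  exact pm2vtodd_core S (central_of_norm S) (rel S) z hz hodd hnc

theorem no_order_four (S : Setting p ζ x ω) (z : G) : orderOf z ≠ 4 := by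
  exact pm2vt4_core S (central_of_norm S) (rel S) z

theorem exc (S : Setting p ζ x ω) (z : G) (hz : ¬ p ∣ orderOf z) (n₁ : ℕ) (hodd : Odd n₁)
    (hord : orderOf z = 2 * n₁) (hz2 : z ^ 2 ∉ Subgroup.center G) : ‖ζ z‖ ≠ (p : ℝ) - 3 := by
  exact pm2exc_core S (central_of_norm S) (rel S) z hz n₁ hodd hord hz2

theorem val_even (S : Setting p ζ x ω) (z : G) (hz : ¬ p ∣ orderOf z) (n₁ : ℕ) (hodd : Odd n₁)
    (hord : orderOf z = 2 * n₁) (hz2 : z ^ 2 ∉ Subgroup.center G) : ζ z = 0 := by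
  exact pm2vteven_core S (central_of_norm S) (rel S) z hz n₁ hodd hord hz2

theorem val_table (S : Setting p ζ x ω) (z : G) (hz : ¬ p ∣ orderOf z) :
    z ∈ Subgroup.center G ∨ (∃ u c : G, orderOf u = 2 ∧ c ∈ Subgroup.center G ∧ z = u * c) ∨ ζ z = 0 := by
  exact pm2vt_table_core S (central_of_norm S) (rel S) z hz

theorem val_invol_mul (S : Setting p ζ x ω) (u c : G) (hu : orderOf u = 2)
    (hc : c ∈ Subgroup.center G) : ζ (u * c) = - nu ζ c := by
  exact pm2vt_invol_mul_core S (central_of_norm S) (rel S) (fun hc g => nu_mul_right S hc g) u c hu hc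

theorem reg_sum (S : Setting p ζ x ω) (F : G → ℂ) (hF : ∀ g, ζ g = 0 → F g = 0) :
    ∑ g ∈ reg p G, F g =
      ∑ c ∈ cen G, F c + ∑ u ∈ invol G, ∑ c ∈ cen G, F (u * c) := by
  exact pm2regsum_core S (p_not_dvd_center S) (val_table S) F hF

end setting

end Cfsg.Agent.Lib.helper7.PM2
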