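import Mathlib
import Cfsg.Agent.Lib.Helper16.PS4.Defs

set_option autoImplicit false

namespace Cfsg.Agent.Lib.Helper1.PS4

open Matrix Cfsg.Agent.Lib.Helper16.PS4

section

variable (F : Type*) [Field F]

def Jm : SL2 F := ⟨!![0, -1; 1, 0], by simp [Matrix.det_fin_two]⟩

variable {F}

theorem card_odd_of_two_ne_zero [Fintype F] (h2 : (2 : F) ≠ 0) : Fintype.card F % 2 = 1 := by
  apply FiniteField.odd_card_of_char_ne_two
  intro h
  apply h2
  have := ringChar.Nat.cast_ringChar (R := F)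
  rw [h] at this
  exact_mod_cast this

theorem sum_two_sq [Fintype F] (h2 : (2 : F) ≠ 0) (r : F) : ∃ u w : F, u ^ 2 + w ^ 2 = r := by
  classical
  have hodd := card_odd_of_two_ne_zero h2
  obtain ⟨u, w, h⟩ := FiniteField.exists_root_sum_quadratic (R := F)
    (f := Polynomial.X ^ 2) (g := Polynomial.X ^ 2 - Polynomial.C r) (Polynomial.degree_X_pow 2)
    (Polynomial.degree_X_pow_sub_C (by decide) _) hodd
  refine ⟨u, w, ?_⟩
  simp only [Polynomial.eval_pow, Polynomial.eval_X, Polynomial.eval_sub, Polynomial.eval_C] at h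
  linear_combination h

theorem entries_of_sq (a : SL2 F) (ha : a * a = -1) :
    (a : Matrix (Fin 2) (Fin 2) F) 1 1 = -(a : Matrix (Fin 2) (Fin 2) F) 0 0 ∧
    (a : Matrix (Fin 2) (Fin 2) F) 0 0 * (a : Matrix (Fin 2) (Fin 2) F) 0 0 +
      (a : Matrix (Fin 2) (Fin 2) F) 0 1 * (a : Matrix (Fin 2) (Fin 2) F) 1 0 = -1 := by
  have hm : (a : Matrix (Fin 2) (Fin 2) F) * (a : Matrix (Fin 2) (Fin 2) F) = -1 := by
    have := congrArg (fun z : SL2 F => (z : Matrix (Fin 2) (Fin 2) F)) ha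
    simpa using this
  have hdet : (a : Matrix (Fin 2) (Fin 2) F).det = 1 := a.2
  rw [Matrix.det_fin_two] at hdet
  have e00 := congrFun (congrFun hm 0) 0
  have e11 := congrFun (congrFun hm 1) 1
  simp [Matrix.mul_apply, Fin.sum_univ_two] at e00 e11
  have hsum : ((a : Matrix (Fin 2) (Fin 2) F) 0 0 + (a : Matrix (Fin 2) (Fin 2) F) 1 1) ^ 2 = 0 := by
    linear_combination e00 + e11 + 2 * hdet
  have hs := pow_eq_zero_iff (two_ne_zero) |>.mp hsum
  refine ⟨by linear_combination hs, e00⟩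

theorem exists_conj_J [Fintype F] (h2 : (2 : F) ≠ 0) (a : SL2 F) (ha : a * a = -1) :
    ∃ P : SL2 F, a * P = P * Jm F := by
  obtain ⟨hs, hpq⟩ := entries_of_sq a ha
  have hdet : (a : Matrix (Fin 2) (Fin 2) F).det = 1 := a.2
  rw [Matrix.det_fin_two] at hdet
  set p := (a : Matrix (Fin 2) (Fin 2) F) 0 0 with hp
  set q := (a : Matrix (Fin 2) (Fin 2) F) 0 1 with hq
  set r := (a : Matrix (Fin 2) (Fin 2) F) 1 0 with hr
  set s := (a : Matrix (Fin 2) (Fin 2) F) 1 1 with hs'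
  have hxy : ∃ x y : F, x * (r * x + s * y) - y * (p * x + q * y) = 1 := by
    by_cases hr0 : r = 0
    · have hp2 : p * p = -1 := by
        rw [hr0, mul_zero, add_zero] at hpq
        exact hpq
      have hp0 : p ≠ 0 := by
        intro h
        rw [h, mul_zero] at hp2
        exact one_ne_zero (neg_eq_zero.mp hp2.symm)
      refine ⟨(1 + q) / (-2 * p), 1, ?_⟩
      rw [hr0, hs]
      field_simp
      ring
    · obtain ⟨u, w, huw⟩ := sum_two_sq h2 r
      have hx : r * ((u + p * w) / r) = u + p * w := mul_div_cancel₀ _ hr0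
      refine ⟨(u + p * w) / r, w, ?_⟩
      apply mul_left_cancel₀ hr0
      rw [hs]
      linear_combination (r * ((u + p * w) / r) + u + p * w - 2 * p * w) * hx + huw - w ^ 2 * hpq
  obtain ⟨x, y, hxy⟩ := hxy
  refine ⟨⟨!![x, p * x + q * y; y, r * x + s * y], by rw [Matrix.det_fin_two_of]; linear_combination hxy⟩, ?_⟩
  apply Subtype.ext
  change (a : Matrix (Fin 2) (Fin 2) F) * !![x, p * x + q * y; y, r * x + s * y] =
    !![x, p * x + q * y; y, r * x + s * y] * ((Jm F : SL2 F) : Matrix (Fin 2) (Fin 2) F)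
  have hA : (a : Matrix (Fin 2) (Fin 2) F) = !![p, q; r, s] := by
    ext i j
    fin_cases i <;> fin_cases j <;> rfl
  rw [hA]
  simp only [Jm]
  ext i j
  fin_cases i <;> fin_cases j <;> simp [Matrix.mul_apply, Fin.sum_univ_two]
  · rw [hs]
    linear_combination x * hpq
  · rw [hs]
    linear_combination y * hpq

theorem conj_sl2_of_sq' [Fintype F] (h2 : (2 : F) ≠ 0) (a a' : SL2 F) (ha : a * a = -1)
    (ha' : a' * a' = -1) : ∃ g : SL2 F, g * a * g⁻¹ = a' := by
  obtain ⟨P, hP⟩ := exists_conj_J h2 a ha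
  obtain ⟨P', hP'⟩ := exists_conj_J h2 a' ha'
  refine ⟨P' * P⁻¹, ?_⟩
  have h1 : a = P * Jm F * P⁻¹ := by
    rw [← hP, mul_inv_cancel_right]
  have h2' : a' = P' * Jm F * P'⁻¹ := by
    rw [← hP', mul_inv_cancel_right]
  rw [h2']
  conv_lhs => rw [h1]
  group

end

section
variable (F : Type*) [Field F]

theorem conj_sl2_of_sq [Fintype F] (h2 : (2 : F) ≠ 0) (a a' : SL2 F) (ha : a * a = -1)
    (ha' : a' * a' = -1) : ∃ g : SL2 F, g * a * g⁻¹ = a' :=
  conj_sl2_of_sq' h2 a a' ha ha'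

end

end Cfsg.Agent.Lib.Helper1.PS4
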