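import Mathlib
import Cfsg.Agent.Lib.Helper16.PS4.Defs
import Cfsg.Agent.Lib.Helper21.PS4QG
import Cfsg.Agent.Lib.Helper1.PS4FS
import Cfsg.Agent.S0261

set_option autoImplicit false

namespace Cfsg.Agent.Lib.Helper1.PS4

open Matrix Cfsg.Agent.Lib.Helper16.PS4 Cfsg.Agent.Lib.Helper21.PS4

section

variable {F : Type*} [Field F]

theorem sl2_eq_neg_one_of_sq (h2 : (2 : F) ≠ 0) (u : SL2 F) (hu : u * u = 1) (hu1 : u ≠ 1) :
    u = -1 := by
  have hm : (u : Matrix (Fin 2) (Fin 2) F) * (u : Matrix (Fin 2) (Fin 2) F) = 1 := by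
    have := congrArg (fun z : SL2 F => (z : Matrix (Fin 2) (Fin 2) F)) hu
    simpa using this
  have hdet : (u : Matrix (Fin 2) (Fin 2) F).det = 1 := u.2
  rw [Matrix.det_fin_two] at hdet
  have e00 := congrFun (congrFun hm 0) 0
  have e01 := congrFun (congrFun hm 0) 1
  have e10 := congrFun (congrFun hm 1) 0
  have e11 := congrFun (congrFun hm 1) 1
  simp [Matrix.mul_apply, Fin.sum_univ_two] at e00 e01 e10 e11
  set p := (u : Matrix (Fin 2) (Fin 2) F) 0 0 with hp
  set q := (u : Matrix (Fin 2) (Fin 2) F) 0 1 with hq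
  set r := (u : Matrix (Fin 2) (Fin 2) F) 1 0 with hr
  set s := (u : Matrix (Fin 2) (Fin 2) F) 1 1 with hs
  have hps : p * (p + s) = 2 := by linear_combination e00 + hdet
  have hps0 : p + s ≠ 0 := by
    intro h
    rw [h, mul_zero] at hps
    exact h2 hps.symm
  have hq0 : q = 0 := by
    have : q * (p + s) = 0 := by linear_combination e01
    rcases mul_eq_zero.mp this with h | h
    · exact h
    · exact absurd h hps0
  have hr0 : r = 0 := by
    have : r * (p + s) = 0 := by linear_combination e10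
    rcases mul_eq_zero.mp this with h | h
    · exact h
    · exact absurd h hps0
  have hpp : p * p = 1 := by rw [hq0, zero_mul, add_zero] at e00; exact e00
  have hpseq : p * s = 1 := by rw [hq0, zero_mul, sub_zero] at hdet; exact hdet
  have hp0 : p ≠ 0 := by
    intro h
    rw [h, zero_mul] at hpp
    exact zero_ne_one hpp
  have hsp : s = p := by
    have : p * s = p * p := by rw [hpseq, hpp]
    exact (mul_left_cancel₀ hp0 this)
  have hp1 : p = 1 ∨ p = -1 := mul_self_eq_one_iff.mp hpp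
  rcases hp1 with h1 | h1
  · exfalso
    apply hu1
    apply Subtype.ext
    ext i j
    fin_cases i <;> fin_cases j <;> simp
    · rw [← hp, h1]
    · rw [← hq, hq0]
    · rw [← hr, hr0]
    · rw [← hs, hsp, h1]
  · apply Subtype.ext
    ext i j
    fin_cases i <;> fin_cases j <;> simp
    · rw [← hp, h1]
    · rw [← hq, hq0]
    · rw [← hr, hr0]
    · rw [← hs, hsp, h1]

theorem neg_one_ne_one' (h2 : (2 : F) ≠ 0) : (-1 : SL2 F) ≠ 1 := by
  intro h
  have := congrArg (fun z : SL2 F => (z : Matrix (Fin 2) (Fin 2) F) 0 0) h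
  simp at this
  apply h2
  have h3 : (1 : F) + 1 = 0 := by
    nth_rewrite 1 [← this]
    ring
  linear_combination h3

theorem comm_J_form (h : SL2 F) (hJ : h * Jm F = Jm F * h) :
    (h : Matrix (Fin 2) (Fin 2) F) 1 1 = (h : Matrix (Fin 2) (Fin 2) F) 0 0 ∧
      (h : Matrix (Fin 2) (Fin 2) F) 0 1 = -(h : Matrix (Fin 2) (Fin 2) F) 1 0 := by
  have hm : (h : Matrix (Fin 2) (Fin 2) F) * (Jm F : Matrix (Fin 2) (Fin 2) F) =
      (Jm F : Matrix (Fin 2) (Fin 2) F) * (h : Matrix (Fin 2) (Fin 2) F) := by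
    have := congrArg (fun z : SL2 F => (z : Matrix (Fin 2) (Fin 2) F)) hJ
    simpa using this
  have e00 := congrFun (congrFun hm 0) 0
  have e10 := congrFun (congrFun hm 1) 0
  simp [Jm, Matrix.mul_apply, Fin.sum_univ_two] at e00 e10
  exact ⟨e10, e00⟩

theorem scalar_of_comm (h2 : (2 : F) ≠ 0) (h c : SL2 F) (hJ : h * Jm F = Jm F * h)
    (hc : h * c = c * h) (hcJ : c * Jm F ≠ Jm F * c) : h = 1 ∨ h = -1 := by
  obtain ⟨h11, h01⟩ := comm_J_form h hJ
  have hm : (h : Matrix (Fin 2) (Fin 2) F) * (c : Matrix (Fin 2) (Fin 2) F) =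
      (c : Matrix (Fin 2) (Fin 2) F) * (h : Matrix (Fin 2) (Fin 2) F) := by
    have := congrArg (fun z : SL2 F => (z : Matrix (Fin 2) (Fin 2) F)) hc
    simpa using this
  have e00 := congrFun (congrFun hm 0) 0
  have e01 := congrFun (congrFun hm 0) 1
  have e10 := congrFun (congrFun hm 1) 0
  simp [Matrix.mul_apply, Fin.sum_univ_two] at e00 e01 e10
  set x := (h : Matrix (Fin 2) (Fin 2) F) 0 0 with hx
  set y := (h : Matrix (Fin 2) (Fin 2) F) 1 0 with hy
  rw [h11] at e01 e10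
  rw [h01] at e00 e01
  have hy0 : y = 0 := by
    by_contra hne
    apply hcJ
    apply Subtype.ext
    change (c : Matrix (Fin 2) (Fin 2) F) * (Jm F : Matrix (Fin 2) (Fin 2) F) =
      (Jm F : Matrix (Fin 2) (Fin 2) F) * (c : Matrix (Fin 2) (Fin 2) F)
    ext i j
    fin_cases i <;> fin_cases j <;> simp [Jm, Matrix.mul_apply, Fin.sum_univ_two]
    all_goals
      apply mul_left_cancel₀ hne
      first
        | linear_combination e00
        | linear_combination (-1 : F) * e00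
        | linear_combination e01
        | linear_combination (-1 : F) * e01
        | linear_combination e10
        | linear_combination (-1 : F) * e10
  have hdet : (h : Matrix (Fin 2) (Fin 2) F).det = 1 := h.2
  rw [Matrix.det_fin_two, h11, h01, hy0] at hdet
  have hxx : x * x = 1 := by linear_combination hdet
  rcases mul_self_eq_one_iff.mp hxx with h1 | h1
  · left
    apply Subtype.ext
    ext i j
    fin_cases i <;> fin_cases j <;> simp
    · rw [← hx, h1]
    · rw [h01, hy0, neg_zero]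
    · rw [← hy, hy0]
    · rw [h11, h1]
  · right
    apply Subtype.ext
    ext i j
    fin_cases i <;> fin_cases j <;> simp
    · rw [← hx, h1]
    · rw [h01, hy0, neg_zero]
    · rw [← hy, hy0]
    · rw [h11, h1]

end

section conjaut

variable {G : Type*} [Group G]

def conjAut (H : Subgroup G) (n : G) (hn : n ∈ Subgroup.normalizer (H : Set G)) : MulAut H where
  toFun x := ⟨n * x * n⁻¹, (Subgroup.mem_normalizer_iff.mp hn x).mp x.2⟩
  invFun x := ⟨n⁻¹ * x * n, (Subgroup.mem_normalizer_iff''.mp hn x).mp x.2⟩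
  left_inv x := by
    apply Subtype.ext
    simp only
    group
  right_inv x := by
    apply Subtype.ext
    simp only
    group
  map_mul' x y := by
    apply Subtype.ext
    simp only [Subgroup.coe_mul]
    group

theorem conjAut_apply (H : Subgroup G) (n : G) (hn : n ∈ Subgroup.normalizer (H : Set G)) (x : H) :
    ((conjAut H n hn x : H) : G) = n * x * n⁻¹ := rfl

theorem conjAut_pow (H : Subgroup G) (n : G) (hn : n ∈ Subgroup.normalizer (H : Set G)) (j : ℕ)
    (x : H) : (((conjAut H n hn) ^ j) x : G) = n ^ j * x * (n ^ j)⁻¹ := by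
  induction j generalizing x with
  | zero => simp
  | succ j ih =>
    rw [pow_succ, MulAut.mul_apply, ih, conjAut_apply, pow_succ]
    group

end conjaut

section main

variable {F : Type*} [Field F]

theorem sixteen_dvd (q : ℕ) (hq : q % 8 = 1 ∨ q % 8 = 7) : 2 ^ 4 ∣ q * (q ^ 2 - 1) := by
  apply Dvd.dvd.mul_left
  rcases hq with h | h
  · obtain ⟨j, hj⟩ : ∃ j, q = 8 * j + 1 := ⟨q / 8, by omega⟩
    have h1 : q ^ 2 = 16 * (4 * j ^ 2 + j) + 1 := by rw [hj]; ring
    exact ⟨4 * j ^ 2 + j, by omega⟩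
  · obtain ⟨j, hj⟩ : ∃ j, q = 8 * j + 7 := ⟨q / 8, by omega⟩
    have h1 : q ^ 2 = 16 * (4 * j ^ 2 + 7 * j + 3) + 1 := by rw [hj]; ring
    exact ⟨4 * j ^ 2 + 7 * j + 3, by omega⟩

theorem Q_norm' [Fintype F] (hq : Fintype.card F % 8 = 1 ∨ Fintype.card F % 8 = 7)
    (Q : Sylow 2 (SL2 F)) (g : SL2 F) (hg : ∀ x ∈ Q, g * x * g⁻¹ ∈ Q) : g ∈ Q := by
  classical
  have hodd : Odd (Fintype.card F) := by
    rw [Nat.odd_iff]
    omega
  have h2 : (2 : F) ≠ 0 := Cfsg.Agent.S0261.two_ne_zero_of_odd (Nat.odd_iff.mp hodd)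
  obtain ⟨k, hk1, ⟨e⟩⟩ := Cfsg.Agent.S0261.result hodd Q
  have hk2 : 2 ≤ k := by
    have h16 : 2 ^ 4 ∣ Nat.card (SL2 F) := by
      rw [Cfsg.Agent.Lib.helper14.card_sl2]
      exact sixteen_dvd _ hq
    have h16Q : 2 ^ 4 ∣ Nat.card (Q : Subgroup (SL2 F)) := Q.pow_dvd_card_of_pow_dvd_card h16
    have : NeZero (2 ^ k) := ⟨by positivity⟩
    rw [Nat.card_congr e.toEquiv, Nat.card_eq_fintype_card, QuaternionGroup.card] at h16Q
    by_contra hlt
    have hk : k = 1 := by omega
    subst hk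
    norm_num at h16Q
  have hN : g ∈ Subgroup.normalizer ((Q : Subgroup (SL2 F)) : Set (SL2 F)) :=
    Subgroup.mem_normalizer_fintype hg
  have hord : orderOf g ≠ 0 := (orderOf_pos g).ne'
  obtain ⟨e', m, hm, hom⟩ := Nat.exists_eq_two_pow_mul_odd hord
  set g1 := g ^ (2 ^ e') with hg1
  have hg1m : g1 ^ m = 1 := by
    rw [hg1, ← pow_mul, ← hom, pow_orderOf_eq_one]
  have hN1 : g1 ∈ Subgroup.normalizer ((Q : Subgroup (SL2 F)) : Set (SL2 F)) :=
    Subgroup.pow_mem _ hN _
  have hαm : (conjAut (Q : Subgroup (SL2 F)) g1 hN1) ^ m = 1 := by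
    apply MulEquiv.ext
    intro x
    apply Subtype.ext
    rw [conjAut_pow, hg1m]
    simp
  have hβ : (MulAut.congr e (conjAut (Q : Subgroup (SL2 F)) g1 hN1)) ^ m = 1 := by
    rw [← map_pow, hαm, map_one]
  have hβ1 := qg_aut_odd hk2 _ m hm hβ
  have hα1 : conjAut (Q : Subgroup (SL2 F)) g1 hN1 = 1 := by
    apply (MulAut.congr e).injective
    rw [hβ1, map_one]
  have hcent : ∀ x : (Q : Subgroup (SL2 F)), g1 * (x : SL2 F) * g1⁻¹ = x := by
    intro x
    have := congrArg (fun α : MulAut (Q : Subgroup (SL2 F)) => ((α x : (Q : Subgroup (SL2 F))) : SL2 F)) hα1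
    simpa [conjAut_apply] using this
  have : NeZero (2 ^ k) := ⟨by positivity⟩
  set ae : (Q : Subgroup (SL2 F)) := e.symm (QuaternionGroup.xa 0) with hae
  set be : (Q : Subgroup (SL2 F)) := e.symm (QuaternionGroup.xa 1) with hbe
  have hz1 : ae * ae ≠ 1 := by
    intro h
    have h' := congrArg e h
    rw [map_mul, hae, MulEquiv.apply_symm_apply, map_one, qg_xa_sq, QuaternionGroup.one_def] at h'
    exact qg_natCast_ne_zero (QuaternionGroup.a.inj h')
  have hz2 : (ae * ae) * (ae * ae) = 1 := by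
    apply e.injective
    rw [map_mul, map_mul, hae, MulEquiv.apply_symm_apply, map_one, qg_xa_sq,
      QuaternionGroup.a_mul_a, QuaternionGroup.one_def]
    congr 1
    have : ((2 * 2 ^ k : ℕ) : ZMod (2 * 2 ^ k)) = 0 := ZMod.natCast_self _
    rw [← this]
    push_cast
    ring
  have hAA : (ae : SL2 F) * (ae : SL2 F) = -1 := by
    apply sl2_eq_neg_one_of_sq h2
    · have := congrArg (fun z : (Q : Subgroup (SL2 F)) => (z : SL2 F)) hz2
      simpa using this
    · intro h
      apply hz1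
      apply Subtype.ext
      simpa using h
  have hAB : (ae : SL2 F) * (be : SL2 F) ≠ (be : SL2 F) * (ae : SL2 F) := by
    intro h
    have h' : ae * be = be * ae := Subtype.ext (by simpa using h)
    have h'' := congrArg e h'
    rw [map_mul, map_mul, hae, hbe, MulEquiv.apply_symm_apply, MulEquiv.apply_symm_apply,
      QuaternionGroup.xa_mul_xa, QuaternionGroup.xa_mul_xa] at h''
    have h3 := QuaternionGroup.a.inj h''
    have h4 : ((2 : ℕ) : ZMod (2 * 2 ^ k)) = 0 := by
      push_cast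
      linear_combination h3
    rw [ZMod.natCast_eq_zero_iff] at h4
    have h5 : 2 * 2 ^ k ≤ 2 := Nat.le_of_dvd (by norm_num) h4
    have h6 : 2 ^ 2 ≤ 2 ^ k := Nat.pow_le_pow_right (by norm_num) hk2
    omega
  obtain ⟨P, hP⟩ := exists_conj_J h2 (ae : SL2 F) hAA
  have hJ : Jm F = P⁻¹ * (ae : SL2 F) * P := by
    rw [mul_assoc, hP, inv_mul_cancel_left]
  have hga : g1 * (ae : SL2 F) = (ae : SL2 F) * g1 := by
    have := hcent ae
    exact mul_inv_eq_iff_eq_mul.mp this
  have hgb : g1 * (be : SL2 F) = (be : SL2 F) * g1 := by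
    have := hcent be
    exact mul_inv_eq_iff_eq_mul.mp this
  have h1 : (P⁻¹ * g1 * P) * Jm F = Jm F * (P⁻¹ * g1 * P) := by
    rw [hJ]
    have e1 : P⁻¹ * g1 * P * (P⁻¹ * (ae : SL2 F) * P) = P⁻¹ * (g1 * (ae : SL2 F)) * P := by group
    have e2 : P⁻¹ * (ae : SL2 F) * P * (P⁻¹ * g1 * P) = P⁻¹ * ((ae : SL2 F) * g1) * P := by group
    rw [e1, e2, hga]
  have h3 : (P⁻¹ * g1 * P) * (P⁻¹ * (be : SL2 F) * P) = (P⁻¹ * (be : SL2 F) * P) * (P⁻¹ * g1 * P) := by
    have e1 : P⁻¹ * g1 * P * (P⁻¹ * (be : SL2 F) * P) = P⁻¹ * (g1 * (be : SL2 F)) * P := by group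
    have e2 : P⁻¹ * (be : SL2 F) * P * (P⁻¹ * g1 * P) = P⁻¹ * ((be : SL2 F) * g1) * P := by group
    rw [e1, e2, hgb]
  have h4 : (P⁻¹ * (be : SL2 F) * P) * Jm F ≠ Jm F * (P⁻¹ * (be : SL2 F) * P) := by
    intro h
    apply hAB
    rw [hJ] at h
    have e1 : P⁻¹ * (be : SL2 F) * P * (P⁻¹ * (ae : SL2 F) * P) = P⁻¹ * ((be : SL2 F) * (ae : SL2 F)) * P := by
      group
    have e2 : P⁻¹ * (ae : SL2 F) * P * (P⁻¹ * (be : SL2 F) * P) = P⁻¹ * ((ae : SL2 F) * (be : SL2 F)) * P := by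
      group
    rw [e1, e2] at h
    have h' := mul_left_cancel (mul_right_cancel h)
    exact h'.symm
  have hg11 : g1 = 1 := by
    rcases scalar_of_comm h2 _ _ h1 h3 h4 with h | h
    · have : g1 = P * (P⁻¹ * g1 * P) * P⁻¹ := by group
      rw [this, h]
      group
    · exfalso
      have hg1' : g1 = P * (P⁻¹ * g1 * P) * P⁻¹ := by group
      rw [h] at hg1'
      have hneg : g1 = -1 := by
        rw [hg1']
        simp
      rw [hneg, Odd.neg_one_pow hm] at hg1m
      exact neg_one_ne_one' h2 hg1m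
  have hzp : IsPGroup 2 (Subgroup.zpowers g) := by
    intro x
    obtain ⟨i, hi⟩ := Subgroup.mem_zpowers_iff.mp x.2
    refine ⟨e', ?_⟩
    apply Subtype.ext
    rw [Subgroup.coe_pow, ← hi, Subgroup.coe_one, ← zpow_natCast, ← _root_.zpow_mul, mul_comm,
      _root_.zpow_mul, zpow_natCast, ← hg1, hg11, _root_.one_zpow]
  have hle : Subgroup.zpowers g ≤ Subgroup.normalizer ((Q : Subgroup (SL2 F)) : Set (SL2 F)) := by
    rw [Subgroup.zpowers_le]
    exact hN
  have hsup := Q.2.to_sup_of_normal_left' hzp hle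
  have heq := Q.is_maximal' hsup le_sup_left
  have hmem : g ∈ (Q : Subgroup (SL2 F)) ⊔ Subgroup.zpowers g :=
    (le_sup_right : Subgroup.zpowers g ≤ _) (Subgroup.mem_zpowers g)
  rw [heq] at hmem
  exact hmem

end main

section
variable (F : Type*) [Field F]

theorem Q_norm [Fintype F] (hq : Fintype.card F % 8 = 1 ∨ Fintype.card F % 8 = 7)
    (Q : Sylow 2 (SL2 F)) (g : SL2 F) (hg : ∀ x ∈ Q, g * x * g⁻¹ ∈ Q) : g ∈ Q :=
  Q_norm' hq Q g hg

end

end Cfsg.Agent.Lib.Helper1.PS4
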