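import Mathlib
import Cfsg.Agent.Lib.Helper1.PiClasses

set_option autoImplicit false

namespace Cfsg.Agent.Lib.Helper1.PiTwo

open Cfsg.Agent.Lib.Helper1.PiClasses

theorem lemmaM' {H : Type*} [Group H] [Finite H] (σ : Finset ℕ) (r : ℕ) (hr : r.Prime) :
    kk (insert r σ) H ≤ r ^ (Nat.card H).factorization r * kk σ H := by
  classical
  haveI : Fintype H := Fintype.ofFinite H
  have hpos : 0 < Nat.card H := Nat.card_pos
  apply Nat.le_of_mul_le_mul_right _ hpos
  rw [kk_mul_card, mul_assoc, kk_mul_card]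
  refine (decomp σ r hr).trans ?_
  have hswap : (∑ y : H, if E {r} y then
        (∑ z : H, if (z ∈ Subgroup.centralizer ({y} : Set H) ∧ E σ z) then
          Nat.card (Subgroup.centralizer ({y} : Set H) ⊓ Subgroup.centralizer ({z} : Set H) :
            Subgroup H) else 0) else 0) =
      ∑ z : H, if E σ z then
        (∑ y : H, if (y ∈ Subgroup.centralizer ({z} : Set H) ∧ E {r} y) then
          Nat.card (Subgroup.centralizer ({z} : Set H) ⊓ Subgroup.centralizer ({y} : Set H) :
            Subgroup H) else 0) else 0 := by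
    have h1 : ∀ y : H, (if E {r} y then
        (∑ z : H, if (z ∈ Subgroup.centralizer ({y} : Set H) ∧ E σ z) then
          Nat.card (Subgroup.centralizer ({y} : Set H) ⊓ Subgroup.centralizer ({z} : Set H) :
            Subgroup H) else 0) else 0) =
        ∑ z : H, if E {r} y then (if (z ∈ Subgroup.centralizer ({y} : Set H) ∧ E σ z) then
          Nat.card (Subgroup.centralizer ({y} : Set H) ⊓ Subgroup.centralizer ({z} : Set H) :
            Subgroup H) else 0) else 0 := by
      intro y
      by_cases hy : E {r} y <;> simp [hy]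
    have h2 : ∀ z : H, (if E σ z then
        (∑ y : H, if (y ∈ Subgroup.centralizer ({z} : Set H) ∧ E {r} y) then
          Nat.card (Subgroup.centralizer ({z} : Set H) ⊓ Subgroup.centralizer ({y} : Set H) :
            Subgroup H) else 0) else 0) =
        ∑ y : H, if E σ z then (if (y ∈ Subgroup.centralizer ({z} : Set H) ∧ E {r} y) then
          Nat.card (Subgroup.centralizer ({z} : Set H) ⊓ Subgroup.centralizer ({y} : Set H) :
            Subgroup H) else 0) else 0 := by
      intro z
      by_cases hz : E σ z <;> simp [hz]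
    simp only [h1, h2]
    rw [Finset.sum_comm]
    apply Finset.sum_congr rfl
    intro z _
    apply Finset.sum_congr rfl
    intro y _
    have h3 : z ∈ Subgroup.centralizer ({y} : Set H) ↔ y ∈ Subgroup.centralizer ({z} : Set H) := by
      rw [Subgroup.mem_centralizer_singleton_iff, Subgroup.mem_centralizer_singleton_iff]
      exact eq_comm
    by_cases hy : E {r} y <;> by_cases hz : E σ z <;>
      by_cases hc : y ∈ Subgroup.centralizer ({z} : Set H) <;>
      simp [hy, hz, hc, h3, inf_comm]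
  rw [hswap, Finset.mul_sum]
  apply Finset.sum_le_sum
  intro z _
  by_cases hz : E σ z
  · rw [if_pos hz, if_pos hz]
    haveI : Fintype (Subgroup.centralizer ({z} : Set H)) := Fintype.ofFinite _
    rw [← inner_sum (Subgroup.centralizer ({z} : Set H)) {r}, ← kk_mul_card]
    have h1 := kk_single_le r hr (Subgroup.centralizer ({z} : Set H))
    have h2 : r ^ (Nat.card (Subgroup.centralizer ({z} : Set H))).factorization r ≤
        r ^ (Nat.card H).factorization r := by
      apply Nat.pow_le_pow_right hr.pos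
      exact (Nat.factorization_le_iff_dvd Nat.card_pos.ne' hpos.ne').mpr
        (Subgroup.card_subgroup_dvd_card _) r
    exact Nat.mul_le_mul_right _ (h1.trans h2)
  · rw [if_neg hz, if_neg hz, mul_zero]

theorem kk_le_pow_mul.{u} (σ : Finset ℕ) (r : ℕ) (hr : r.Prime) (hrσ : r ∈ σ)
    (H : Type u) [Group H] [Finite H] :
    kk σ H ≤ r ^ (Nat.card H).factorization r * kk (σ.erase r) H := by
  have h1 := lemmaM' (H := H) (σ.erase r) r hr
  rwa [Finset.insert_erase hrσ] at h1

section Classes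

variable {G : Type*} [Group G]

abbrev ClE (σ : Finset ℕ) (G : Type*) [Group G] : Type _ :=
  {c : ConjClasses G // ∀ x ∈ c.carrier, E σ x}

theorem mem_carrier_mk_iff' (x y : G) :
    y ∈ (ConjClasses.mk x).carrier ↔ ∃ g : G, g * x * g⁻¹ = y := by
  rw [ConjClasses.mem_carrier_iff_mk_eq, ConjClasses.mk_eq_mk_iff_isConj, isConj_comm, isConj_iff]

def mkE (σ : Finset ℕ) (x : G) (hx : E σ x) : ClE σ G :=
  ⟨ConjClasses.mk x, by
    intro y hy
    obtain ⟨g, rfl⟩ := (mem_carrier_mk_iff' x y).mp hy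
    exact E_conj σ g x hx⟩

theorem mkE_eq_iff (σ : Finset ℕ) (x y : G) (hx : E σ x) (hy : E σ y) :
    mkE σ x hx = mkE σ y hy ↔ ∃ g : G, g * x * g⁻¹ = y := by
  constructor
  · intro h
    have h1 : ConjClasses.mk x = ConjClasses.mk y := congrArg Subtype.val h
    rw [ConjClasses.mk_eq_mk_iff_isConj, isConj_iff] at h1
    exact h1
  · rintro ⟨g, hg⟩
    apply Subtype.ext
    show ConjClasses.mk x = ConjClasses.mk y
    rw [ConjClasses.mk_eq_mk_iff_isConj, isConj_iff]
    exact ⟨g, hg⟩

theorem exists_repE (σ : Finset ℕ) (c : ClE σ G) : ∃ (x : G) (hx : E σ x), mkE σ x hx = c := by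
  obtain ⟨c, hc⟩ := c
  obtain ⟨y, rfl⟩ := ConjClasses.exists_rep c
  exact ⟨y, hc y ConjClasses.mem_carrier_mk, rfl⟩

theorem kk_le_kk_subgroup [Finite G] (σ : Finset ℕ) (K : Subgroup G)
    (hK : ∀ x : G, E σ x → x ∈ K) : kk σ G ≤ kk σ ↥K := by
  have hrep : ∀ c : ClE σ ↥K, ∃ (x : ↥K) (hx : E σ x), mkE σ x hx = c := exists_repE σ
  choose rep hrepE hrep' using hrep
  let f : ClE σ ↥K → ClE σ G := fun c => mkE σ ((rep c : ↥K) : G) ((E_coe σ K _).mp (hrepE c))
  apply Nat.card_le_card_of_surjective f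
  intro c
  obtain ⟨y, hy, rfl⟩ := exists_repE σ c
  have hyK : y ∈ K := hK y hy
  have hy' : E σ (⟨y, hyK⟩ : ↥K) := (E_coe σ K _).mpr hy
  refine ⟨mkE σ ⟨y, hyK⟩ hy', ?_⟩
  show mkE σ ((rep (mkE σ ⟨y, hyK⟩ hy') : ↥K) : G) _ = mkE σ y hy
  have h1 := hrep' (mkE σ ⟨y, hyK⟩ hy')
  rw [mkE_eq_iff] at h1
  obtain ⟨g, hg⟩ := h1
  rw [mkE_eq_iff]
  refine ⟨(g : G), ?_⟩
  have := congrArg Subtype.val hg
  simpa using this

end Classes

end Cfsg.Agent.Lib.Helper1.PiTwo
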