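import Mathlib
import Cfsg.Agent.S3897
import Cfsg.Agent.Lib.Helper1.PiTwoA

set_option autoImplicit false

namespace Cfsg.Agent.Lib.Helper1.PiTwo

open Cfsg.Agent.Lib.Helper1.PiClasses Cfsg.Agent.S3897

section Orbit

variable {G : Type*} [Group G]

theorem orbit_raw [Finite G] {p : ℕ} [Fact p.Prime] (P : Sylow p G)
    (hne : ¬ Subgroup.normalizer ((P : Subgroup G) : Set G) ≤
      Subgroup.centralizer ((P : Subgroup G) : Set G)) :
    letI := conjAct (P : Subgroup G)
    ∃ c d : ℕ, c + d = Nat.card ↥(Subgroup.normalizer ((P : Subgroup G) : Set G)) ∧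
      c * ((Subgroup.centralizer ((P : Subgroup G) : Set G)).subgroupOf
        (Subgroup.normalizer ((P : Subgroup G) : Set G))).index =
        Nat.card ↥(Subgroup.normalizer ((P : Subgroup G) : Set G)) ∧
      p * (Nat.card (Quotient (MulAction.orbitRel ↥(Subgroup.normalizer ((P : Subgroup G) : Set G))
        ↥(P : Subgroup G))) * Nat.card ↥(Subgroup.normalizer ((P : Subgroup G) : Set G))) ≤
        c * (p * Nat.card ↥(P : Subgroup G)) + d * Nat.card ↥(P : Subgroup G) := by
  classical
  letI := conjAct (P : Subgroup G)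
  have hpp : p.Prime := Fact.out
  haveI : Fintype ↥(Subgroup.normalizer ((P : Subgroup G) : Set G)) := Fintype.ofFinite _
  haveI : Fintype ↥(P : Subgroup G) := Fintype.ofFinite _
  haveI : Fintype (Quotient (MulAction.orbitRel ↥(Subgroup.normalizer ((P : Subgroup G) : Set G))
      ↥(P : Subgroup G))) := Fintype.ofFinite _
  have hB := MulAction.sum_card_fixedBy_eq_card_orbits_mul_card_group
    ↥(Subgroup.normalizer ((P : Subgroup G) : Set G)) ↥(P : Subgroup G)
  have hfix_le : ∀ n : ↥(Subgroup.normalizer ((P : Subgroup G) : Set G)),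
      Fintype.card (MulAction.fixedBy ↥(P : Subgroup G) n) ≤ Nat.card ↥(P : Subgroup G) := by
    intro n
    rw [Nat.card_eq_fintype_card]
    exact Fintype.card_subtype_le _
  have hfix_lt : ∀ n : ↥(Subgroup.normalizer ((P : Subgroup G) : Set G)),
      (n : G) ∉ Subgroup.centralizer ((P : Subgroup G) : Set G) →
      p * Fintype.card (MulAction.fixedBy ↥(P : Subgroup G) n) ≤ Nat.card ↥(P : Subgroup G) := by
    intro n hn
    let H : Subgroup ↥(P : Subgroup G) :=
      (Subgroup.centralizer ({(n : G)} : Set G)).subgroupOf (P : Subgroup G)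
    have hHset : (H : Set ↥(P : Subgroup G)) = MulAction.fixedBy ↥(P : Subgroup G) n := by
      ext x
      rw [MulAction.mem_fixedBy]
      constructor
      · intro hx
        have h1 : (x : G) ∈ Subgroup.centralizer ({(n : G)} : Set G) := hx
        rw [Subgroup.mem_centralizer_singleton_iff] at h1
        apply Subtype.ext
        rw [conjAct_smul]
        rw [← h1, mul_inv_cancel_right]
      · intro hx
        show (x : G) ∈ Subgroup.centralizer ({(n : G)} : Set G)
        rw [Subgroup.mem_centralizer_singleton_iff]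
        have h1 := congrArg Subtype.val hx
        rw [conjAct_smul] at h1
        exact (mul_inv_eq_iff_eq_mul.mp h1).symm
    have hHtop : H ≠ ⊤ := by
      intro hH
      apply hn
      rw [Subgroup.mem_centralizer_iff]
      intro x hx
      have h1 : (⟨x, hx⟩ : ↥(P : Subgroup G)) ∈ H := by rw [hH]; trivial
      have h2 : x ∈ Subgroup.centralizer ({(n : G)} : Set G) := h1
      rw [Subgroup.mem_centralizer_singleton_iff] at h2
      exact h2
    have h3 := p_mul_card_le P.2 H hHtop
    have h4 : Fintype.card (MulAction.fixedBy ↥(P : Subgroup G) n) = Nat.card H := by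
      rw [← Nat.card_eq_fintype_card]
      exact (Nat.card_congr (Equiv.setCongr hHset)).symm
    rw [h4]
    exact h3
  let C' : Subgroup ↥(Subgroup.normalizer ((P : Subgroup G) : Set G)) :=
    (Subgroup.centralizer ((P : Subgroup G) : Set G)).subgroupOf
      (Subgroup.normalizer ((P : Subgroup G) : Set G))
  have hC'top : C' ≠ ⊤ := by
    intro h
    apply hne
    intro n hn
    have h1 : (⟨n, hn⟩ : ↥(Subgroup.normalizer ((P : Subgroup G) : Set G))) ∈ C' := by
      rw [h]; trivial
    exact h1
  have hidx : 2 ≤ C'.index := by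
    have h0 : C'.index ≠ 0 := Subgroup.index_ne_zero_of_finite
    have h1 : C'.index ≠ 1 := fun h => hC'top (Subgroup.index_eq_one.mp h)
    omega
  have hcardN : Nat.card C' * C'.index =
      Fintype.card ↥(Subgroup.normalizer ((P : Subgroup G) : Set G)) := by
    rw [Subgroup.card_mul_index, Nat.card_eq_fintype_card]
  set Cn : Finset ↥(Subgroup.normalizer ((P : Subgroup G) : Set G)) :=
    Finset.univ.filter (fun n => (n : G) ∈ Subgroup.centralizer ((P : Subgroup G) : Set G)) with hCn
  set Dn : Finset ↥(Subgroup.normalizer ((P : Subgroup G) : Set G)) :=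
    Finset.univ.filter (fun n => ¬ (n : G) ∈ Subgroup.centralizer ((P : Subgroup G) : Set G)) with hDn
  have hCcard : Nat.card C' = Cn.card := by
    rw [Nat.card_eq_fintype_card, Fintype.card_subtype]
    rfl
  have hsplit : Cn.card + Dn.card =
      Fintype.card ↥(Subgroup.normalizer ((P : Subgroup G) : Set G)) := by
    rw [hCn, hDn, Finset.card_filter_add_card_filter_not]
    rfl
  have hsum1 : ∑ n ∈ Cn, p * Fintype.card (MulAction.fixedBy ↥(P : Subgroup G) n) ≤
      Cn.card * (p * Nat.card ↥(P : Subgroup G)) := by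
    have := Finset.sum_le_card_nsmul Cn
      (fun n => p * Fintype.card (MulAction.fixedBy ↥(P : Subgroup G) n))
      (p * Nat.card ↥(P : Subgroup G)) (fun n _ => Nat.mul_le_mul_left p (hfix_le n))
    simpa using this
  have hsum2 : ∑ n ∈ Dn, p * Fintype.card (MulAction.fixedBy ↥(P : Subgroup G) n) ≤
      Dn.card * Nat.card ↥(P : Subgroup G) := by
    have := Finset.sum_le_card_nsmul Dn
      (fun n => p * Fintype.card (MulAction.fixedBy ↥(P : Subgroup G) n))
      (Nat.card ↥(P : Subgroup G)) (fun n hn => hfix_lt n (Finset.mem_filter.mp hn).2)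
    simpa using this
  have htot : p * ∑ n : ↥(Subgroup.normalizer ((P : Subgroup G) : Set G)),
      Fintype.card (MulAction.fixedBy ↥(P : Subgroup G) n) =
      ∑ n ∈ Cn, p * Fintype.card (MulAction.fixedBy ↥(P : Subgroup G) n) +
      ∑ n ∈ Dn, p * Fintype.card (MulAction.fixedBy ↥(P : Subgroup G) n) := by
    rw [Finset.mul_sum, hCn, hDn, Finset.sum_filter_add_sum_filter_not]
  rw [hB] at htot
  rw [Nat.card_eq_fintype_card (α := Quotient (MulAction.orbitRel
    ↥(Subgroup.normalizer ((P : Subgroup G) : Set G)) ↥(P : Subgroup G)))]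
  have hmain : p * (Fintype.card (Quotient (MulAction.orbitRel
      ↥(Subgroup.normalizer ((P : Subgroup G) : Set G)) ↥(P : Subgroup G))) *
      Fintype.card ↥(Subgroup.normalizer ((P : Subgroup G) : Set G))) ≤
      Cn.card * (p * Nat.card ↥(P : Subgroup G)) + Dn.card * Nat.card ↥(P : Subgroup G) := by
    rw [htot]
    exact Nat.add_le_add hsum1 hsum2
  refine ⟨Cn.card, Dn.card, ?_, ?_, ?_⟩
  · rw [hsplit, Nat.card_eq_fintype_card]
  · rw [← hCcard, Nat.card_eq_fintype_card (α := ↥(Subgroup.normalizer ((P : Subgroup G) : Set G)))]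
    exact hcardN
  · rw [Nat.card_eq_fintype_card (α := ↥(Subgroup.normalizer ((P : Subgroup G) : Set G)))]
    exact hmain

theorem index_ne_prime [Finite G] {p : ℕ} [Fact p.Prime] (P : Sylow p G) :
    ((Subgroup.centralizer ((P : Subgroup G) : Set G)).subgroupOf
        (Subgroup.normalizer ((P : Subgroup G) : Set G))).index ≠ p := by
  intro hidx
  have hpp : p.Prime := Fact.out
  set ψ := (P : Subgroup G).normalizerMonoidHom with hψ
  have hker : ψ.ker = (Subgroup.centralizer ((P : Subgroup G) : Set G)).subgroupOf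
      (Subgroup.normalizer ((P : Subgroup G) : Set G)) := Subgroup.normalizerMonoidHom_ker _
  have hcard : Nat.card ψ.range = p := by
    rw [← Subgroup.index_ker, hker]
    exact hidx
  haveI : IsCyclic ψ.range := isCyclic_of_prime_card hcard
  let f : ↥(P : Subgroup G) →* ψ.range :=
    ψ.rangeRestrict.comp (Subgroup.inclusion Subgroup.le_normalizer)
  have hf : f.ker ≤ Subgroup.center ↥(P : Subgroup G) := by
    intro x hx
    rw [MonoidHom.mem_ker] at hx
    have h1 : ψ (Subgroup.inclusion Subgroup.le_normalizer x) = 1 := by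
      have := congrArg Subtype.val hx
      simpa [f] using this
    rw [Subgroup.mem_center_iff]
    intro y
    have h2 := DFunLike.congr_fun h1 y
    have h3 : (x : G) * (y : G) * (x : G)⁻¹ = (y : G) := by
      have := congrArg Subtype.val h2
      exact this
    apply Subtype.ext
    show (y : G) * (x : G) = (x : G) * (y : G)
    calc (y : G) * (x : G) = ((x : G) * (y : G) * (x : G)⁻¹) * (x : G) := by rw [h3]
      _ = (x : G) * (y : G) := by group
  have hcomm : ∀ a b : ↥(P : Subgroup G), a * b = b * a :=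
    (f.isMulCommutative_of_isCyclic_of_ker_le_center hf).is_comm.comm
  have hPC : (P : Subgroup G) ≤ Subgroup.centralizer ((P : Subgroup G) : Set G) := by
    intro x hx
    rw [Subgroup.mem_centralizer_iff]
    intro y hy
    exact congrArg Subtype.val (hcomm ⟨y, hy⟩ ⟨x, hx⟩)
  have hle : (P : Subgroup G).subgroupOf (Subgroup.normalizer ((P : Subgroup G) : Set G)) ≤
      (Subgroup.centralizer ((P : Subgroup G) : Set G)).subgroupOf
        (Subgroup.normalizer ((P : Subgroup G) : Set G)) := by
    intro x hx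
    exact hPC hx
  have h1 := Subgroup.index_dvd_of_le hle
  rw [hidx] at h1
  have h2 : ((P : Subgroup G).subgroupOf (Subgroup.normalizer ((P : Subgroup G) : Set G))).index ∣
      (P : Subgroup G).index := by
    have h3 := Subgroup.relIndex_mul_index (Subgroup.le_normalizer (H := (P : Subgroup G)))
    exact Dvd.intro _ h3
  exact P.not_dvd_index (h1.trans h2)

theorem arith_odd (p o a c d z idx : ℕ) (hp3 : 3 ≤ p) (hidx3 : 3 ≤ idx) (h5 : 5 ≤ p ∨ 5 ≤ idx)
    (hapos : 0 < a) (hsplit : c + d = a) (hci : c * idx = a)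
    (hmain : p * (o * a) ≤ c * (p * z) + d * z) : 2 * o ≤ z := by
  have hc : 0 < c := by
    rcases Nat.eq_zero_or_pos c with h | h
    · rw [h, zero_mul] at hci
      omega
    · exact h
  have hd : d = c * (idx - 1) := by
    have h1 : c * idx = c * (idx - 1) + c := by
      obtain ⟨i, rfl⟩ : ∃ i, idx = i + 1 := ⟨idx - 1, by omega⟩
      simp
      ring
    omega
  have h1 : p * o * idx ≤ z * (p + idx - 1) := by
    apply Nat.le_of_mul_le_mul_left _ hc
    have e1 : c * (p * o * idx) = p * (o * a) := by rw [← hci]; ring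
    have e2 : c * (z * (p + idx - 1)) = c * (p * z) + d * z := by
      rw [hd]
      obtain ⟨i, rfl⟩ : ∃ i, idx = i + 1 := ⟨idx - 1, by omega⟩
      have : p + (i + 1) - 1 = p + i := by omega
      rw [this]
      simp
      ring
    rw [e1, e2]
    exact hmain
  have h2 : 2 * (p + idx - 1) ≤ p * idx := by
    obtain ⟨i, rfl⟩ : ∃ i, idx = i + 3 := ⟨idx - 3, by omega⟩
    obtain ⟨q, rfl⟩ : ∃ q, p = q + 3 := ⟨p - 3, by omega⟩
    have h3 : 2 ≤ q ∨ 2 ≤ i := by omega
    have e : (q + 3) * (i + 3) = q * i + 3 * q + 3 * i + 9 := by ring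
    have e2 : q + 3 + (i + 3) - 1 = q + i + 5 := by omega
    rw [e, e2]
    have := Nat.zero_le (q * i)
    omega
  have h3 : 2 * o * (p * idx) ≤ z * (p * idx) := by
    calc 2 * o * (p * idx) = 2 * (p * o * idx) := by ring
      _ ≤ 2 * (z * (p + idx - 1)) := Nat.mul_le_mul_left 2 h1
      _ = z * (2 * (p + idx - 1)) := by ring
      _ ≤ z * (p * idx) := Nat.mul_le_mul_left z h2
  exact Nat.le_of_mul_le_mul_right h3 (by positivity)

theorem orbit_bound_odd [Finite G] (hodd : Odd (Nat.card G)) {p : ℕ} [Fact p.Prime] (P : Sylow p G)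
    (hne : ¬ Subgroup.normalizer ((P : Subgroup G) : Set G) ≤
      Subgroup.centralizer ((P : Subgroup G) : Set G)) :
    letI := conjAct (P : Subgroup G)
    2 * Nat.card (Quotient (MulAction.orbitRel ↥(Subgroup.normalizer ((P : Subgroup G) : Set G))
        ↥(P : Subgroup G))) ≤ Nat.card ↥(P : Subgroup G) := by
  letI := conjAct (P : Subgroup G)
  have hpp : p.Prime := Fact.out
  obtain ⟨c, d, hsplit, hci, hmain⟩ := orbit_raw P hne
  set C' := (Subgroup.centralizer ((P : Subgroup G) : Set G)).subgroupOf
        (Subgroup.normalizer ((P : Subgroup G) : Set G)) with hC'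
  have hidxdvd : C'.index ∣ Nat.card G :=
    (Subgroup.index_dvd_card C').trans (Subgroup.card_subgroup_dvd_card _)
  have hidxodd : Odd C'.index := hodd.of_dvd_nat hidxdvd
  have hidx1 : C'.index ≠ 1 := by
    intro h
    apply hne
    have h1 : C' = ⊤ := Subgroup.index_eq_one.mp h
    intro n hn
    have h2 : (⟨n, hn⟩ : ↥(Subgroup.normalizer ((P : Subgroup G) : Set G))) ∈ C' := by
      rw [h1]; trivial
    exact h2
  have hPne : (P : Subgroup G) ≠ ⊥ := by
    intro h
    apply hne
    rw [h]
    intro n _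
    rw [Subgroup.mem_centralizer_iff]
    intro y hy
    have hy1 : y = 1 := hy
    rw [hy1]
    simp
  have hpdvd : p ∣ Nat.card G := by
    obtain ⟨k, hk⟩ := IsPGroup.iff_card.mp P.2
    have hk0 : k ≠ 0 := by
      rintro rfl
      rw [pow_zero] at hk
      exact hPne ((Subgroup.card_eq_one).mp hk)
    have h1 : p ∣ Nat.card ↥(P : Subgroup G) := by
      rw [hk]
      exact dvd_pow_self p hk0
    exact h1.trans (Subgroup.card_subgroup_dvd_card _)
  have hpodd : Odd p := hodd.of_dvd_nat hpdvd
  have hp3 : 3 ≤ p := by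
    have h2 := hpp.two_le
    rcases hpodd with ⟨m, hm⟩
    omega
  have hidx3 : 3 ≤ C'.index := by
    rcases hidxodd with ⟨m, hm⟩
    have h0 : C'.index ≠ 0 := Subgroup.index_ne_zero_of_finite
    omega
  have hne_p : C'.index ≠ p := index_ne_prime P
  have h5 : 5 ≤ p ∨ 5 ≤ C'.index := by
    by_cases hp : p = 3
    · right
      rcases hidxodd with ⟨m, hm⟩
      omega
    · left
      have h4 : p ≠ 4 := by
        rintro rfl
        rcases hpodd with ⟨m, hm⟩
        omega
      omega
  exact arith_odd p _ _ c d _ C'.index hp3 hidx3 h5 Nat.card_pos hsplit hci hmain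

end Orbit

end Cfsg.Agent.Lib.Helper1.PiTwo
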