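import Mathlib
import Cfsg.Agent.S3897
import Cfsg.Agent.S3899
import Cfsg.Agent.Lib.Helper1.PiTwoB

set_option autoImplicit false

namespace Cfsg.Agent.Lib.Helper1.PiTwo

open Cfsg.Agent.Lib.Helper1.PiClasses Cfsg.Agent.S3897

theorem exists_complement_odd {K : Type*} [Group K] [Finite K] (hodd : Odd (Nat.card K))
    (r : ℕ) (hr : r.Prime) (h : r ^ (Nat.card K).factorization r < 2 * kk {r} K) :
    ∃ N : Subgroup K, N.Normal ∧ ¬ r ∣ Nat.card N ∧
      N.index = r ^ (Nat.card K).factorization r ∧ ∀ a b : K, a * b * a⁻¹ * b⁻¹ ∈ N := by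
  haveI : Fact r.Prime := ⟨hr⟩
  rw [kk_single_eq r hr K] at h
  obtain ⟨P⟩ : Nonempty (Sylow r K) := inferInstance
  have hP : Subgroup.normalizer ((P : Subgroup K) : Set K) ≤
      Subgroup.centralizer ((P : Subgroup K) : Set K) := by
    by_contra hne
    have h1 := orbit_bound_odd hodd P hne
    have h2 := card_classes_le P
    rw [Sylow.card_eq_multiplicity P] at h1
    have h3 := Nat.mul_le_mul_left 2 h2
    omega
  have hc : Subgroup.IsComplement' (MonoidHom.transferSylow P hP).ker (P : Subgroup K) :=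
    MonoidHom.ker_transferSylow_isComplement' P hP
  have hab : ∀ a b : ↥(P : Subgroup K), a * b = b * a :=
    fun a b => Subtype.ext (hP (Subgroup.le_normalizer b.2) a a.2)
  refine ⟨(MonoidHom.transferSylow P hP).ker, inferInstance, ?_, ?_, ?_⟩
  · rw [← hc.index_eq_card]
    exact P.not_dvd_index
  · rw [hc.symm.index_eq_card, Sylow.card_eq_multiplicity]
  · intro a b
    set N := (MonoidHom.transferSylow P hP).ker with hN
    have key : ∀ a : K, ∃ q ∈ (P : Subgroup K),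
        (QuotientGroup.mk' N) a = (QuotientGroup.mk' N) q := by
      intro a
      obtain ⟨⟨⟨n, hn⟩, ⟨q, hq⟩⟩, hx, -⟩ := hc.existsUnique a
      refine ⟨q, hq, ?_⟩
      have hx' : n * q = a := hx
      rw [← hx', map_mul]
      have h3 : (QuotientGroup.mk' N) n = 1 := (QuotientGroup.eq_one_iff n).mpr hn
      rw [h3, one_mul]
    obtain ⟨qa, hqa, ha⟩ := key a
    obtain ⟨qb, hqb, hb⟩ := key b
    have hcomm : qa * qb = qb * qa := congrArg Subtype.val (hab ⟨qa, hqa⟩ ⟨qb, hqb⟩)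
    have h5 : (QuotientGroup.mk' N) (a * b * a⁻¹ * b⁻¹) = 1 := by
      rw [map_mul, map_mul, map_mul, map_inv, map_inv, ha, hb, ← map_inv, ← map_inv,
        ← map_mul, ← map_mul, ← map_mul]
      have h6 : qa * qb * qa⁻¹ * qb⁻¹ = 1 := by
        rw [hcomm]
        group
      rw [h6, map_one]
    exact (QuotientGroup.eq_one_iff _).mp h5

theorem odd_main {K : Type*} [Group K] [Finite K] (hodd : Odd (Nat.card K)) (σ : Finset ℕ)
    (hσ : ∀ r ∈ σ, r.Prime) (hk : part σ (Nat.card K) < 2 * kk σ K) :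
    ∃ M : Subgroup K, M.Normal ∧ (∀ r : ℕ, r.Prime → r ∣ Nat.card ↥M → r ∉ σ) ∧
      (∀ r : ℕ, r.Prime → r ∣ M.index → r ∈ σ) ∧ ∀ a b : K, a * b * a⁻¹ * b⁻¹ ∈ M := by
  have hex : ∀ r ∈ σ, ∃ N : Subgroup K, N.Normal ∧ ¬ r ∣ Nat.card N ∧
      N.index = r ^ (Nat.card K).factorization r ∧ ∀ a b : K, a * b * a⁻¹ * b⁻¹ ∈ N := by
    intro r hr
    apply exists_complement_odd hodd r (hσ r hr)
    have h1 := kk_le_mul σ hσ r hr K
    have h2 := part_erase σ r hr (Nat.card K)
    have hM := part_pos (σ.erase r) (fun q hq => hσ q (Finset.mem_of_mem_erase hq)) (Nat.card K)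
    rw [h2] at hk
    have h3 : r ^ (Nat.card K).factorization r * part (σ.erase r) (Nat.card K) <
        2 * (part (σ.erase r) (Nat.card K) * kk {r} K) :=
      lt_of_lt_of_le hk (Nat.mul_le_mul_left 2 h1)
    apply Nat.lt_of_mul_lt_mul_right (a := part (σ.erase r) (Nat.card K))
    calc r ^ (Nat.card K).factorization r * part (σ.erase r) (Nat.card K)
        < 2 * (part (σ.erase r) (Nat.card K) * kk {r} K) := h3
      _ = 2 * kk {r} K * part (σ.erase r) (Nat.card K) := by ring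
  choose! N hN using hex
  obtain ⟨hMn, hMi⟩ := Cfsg.Agent.S3899.inf_normal_index σ N (fun r hr => (hN r hr).1)
  set M := σ.inf N with hMdef
  have hMle : ∀ r ∈ σ, M ≤ N r := fun r hr => Finset.inf_le hr
  refine ⟨M, hMn, ?_, ?_, ?_⟩
  · intro r _ hd hr
    exact (hN r hr).2.1 (hd.trans (Subgroup.card_dvd_of_le (hMle r hr)))
  · intro r hr hd
    have h3 : r ∣ ∏ q ∈ σ, (N q).index := hd.trans hMi
    obtain ⟨q, hq, hrq⟩ := (Prime.dvd_finset_prod_iff hr.prime _).mp h3
    rw [(hN q hq).2.2.1] at hrq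
    have h4 : r ∣ q := hr.dvd_of_dvd_pow hrq
    rw [(Nat.prime_dvd_prime_iff_eq hr (hσ q hq)).mp h4]
    exact hq
  · intro a b
    rw [hMdef, Finset.inf_eq_iInf]
    simp only [Subgroup.mem_iInf]
    intro r hr
    exact (hN r hr).2.2.2 a b

end Cfsg.Agent.Lib.Helper1.PiTwo
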