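import Mathlib
import Cfsg.Agent.Lib.Helper1.TwoClassesB
import Cfsg.Agent.Lib.Helper18.PPrimeCore

set_option autoImplicit false

namespace Cfsg.Agent.Lib.Helper1.TwoClasses

open Cfsg
open scoped Pointwise

section Central

variable {G : Type*} [Group G]

theorem T2_mul_of_commute (x n : G) (hx : T2 x) (hn : T2 n) (hc : Commute x n) : T2 (x * n) := by
  obtain ⟨k, hk⟩ := hx
  obtain ⟨l, hl⟩ := hn
  apply T2_of_pow (x * n) (k + l)
  have h1 : x ^ 2 ^ (k + l) = 1 := by
    apply orderOf_dvd_iff_pow_eq_one.mp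
    rw [hk]
    exact pow_dvd_pow 2 (Nat.le_add_right k l)
  have h2 : n ^ 2 ^ (k + l) = 1 := by
    apply orderOf_dvd_iff_pow_eq_one.mp
    rw [hl]
    exact pow_dvd_pow 2 (Nat.le_add_left l k)
  rw [hc.mul_pow, h1, h2, one_mul]

theorem T2_of_mem_pGroup (N : Subgroup G) (hN2 : IsPGroup 2 N) {n : G} (hn : n ∈ N) : T2 n := by
  obtain ⟨k, hk⟩ := hN2 ⟨n, hn⟩
  apply T2_of_pow n k
  have := congrArg Subtype.val hk
  simpa using this

theorem card_cl2_le_mul_central [Finite G] (N : Subgroup G) [N.Normal]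
    (hNc : N ≤ Subgroup.center G) (hN2 : IsPGroup 2 N) :
    Nat.card (Cl2 G) ≤ Nat.card (Cl2 (G ⧸ N)) * Nat.card N := by
  have hNT : ∀ n ∈ N, T2 n := fun n hn => T2_of_mem_pGroup N hN2 hn
  have hlift : ∀ c : Cl2 (G ⧸ N), ∃ x : G, ∃ hx : T2 x,
      mk2 (QuotientGroup.mk' N x) (T2_map _ x hx) = c := by
    intro c
    obtain ⟨xb, hxb, rfl⟩ := exists_rep2 c
    obtain ⟨x, rfl⟩ := QuotientGroup.mk_surjective xb
    obtain ⟨k, hk⟩ := hxb
    have h1 : x ^ 2 ^ k ∈ N := by
      rw [← QuotientGroup.eq_one_iff, QuotientGroup.mk_pow, ← hk, pow_orderOf_eq_one]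
    obtain ⟨l, hl⟩ := hNT _ h1
    have hx : T2 x := by
      apply T2_of_pow x (k + l)
      rw [pow_add, pow_mul, ← hl, pow_orderOf_eq_one]
    exact ⟨x, hx, rfl⟩
  choose lift hliftT hlift' using hlift
  have hcomm : ∀ (x : G) (n : ↥N), Commute x (n : G) := by
    intro x n
    have h1 := hNc n.2
    rw [Subgroup.mem_center_iff] at h1
    exact h1 x
  let F : Cl2 (G ⧸ N) × ↥N → Cl2 G := fun q =>
    mk2 (lift q.1 * (q.2 : G)) (T2_mul_of_commute _ _ (hliftT q.1) (hNT _ q.2.2) (hcomm _ _))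
  have hF : Function.Surjective F := by
    intro c
    obtain ⟨x', hx', rfl⟩ := exists_rep2 c
    set cb : Cl2 (G ⧸ N) := mk2 (QuotientGroup.mk' N x') (T2_map _ x' hx') with hcb
    have h1 := hlift' cb
    rw [hcb, mk2_eq_iff] at h1
    obtain ⟨gb, hgb⟩ := h1
    obtain ⟨g, rfl⟩ := QuotientGroup.mk_surjective gb
    rw [← hcb] at hgb
    have h2 : (g * lift cb * g⁻¹)⁻¹ * x' ∈ N := by
      rw [← QuotientGroup.eq]
      exact hgb
    refine ⟨(cb, ⟨(g * lift cb * g⁻¹)⁻¹ * x', h2⟩), ?_⟩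
    show mk2 (lift cb * ((g * lift cb * g⁻¹)⁻¹ * x')) _ = mk2 x' hx'
    rw [mk2_eq_iff]
    refine ⟨g, ?_⟩
    have hn := hNc h2
    rw [Subgroup.mem_center_iff] at hn
    set n := (g * lift cb * g⁻¹)⁻¹ * x' with hndef
    calc g * (lift cb * n) * g⁻¹ = g * lift cb * (n * g⁻¹) := by group
      _ = g * lift cb * (g⁻¹ * n) := by rw [hn g⁻¹]
      _ = x' := by rw [hndef]; group
  have h3 := Nat.card_le_card_of_surjective F hF
  rwa [Nat.card_prod] at h3

theorem card_sylow_eq_mul [Finite G] (N : Subgroup G) [N.Normal] (P : Sylow 2 G)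
    (P' : Sylow 2 (G ⧸ N)) :
    Nat.card ↥(P : Subgroup G) =
      2 ^ (Nat.card N).factorization 2 * Nat.card ↥(P' : Subgroup (G ⧸ N)) := by
  haveI : Fact (Nat.Prime 2) := ⟨Nat.prime_two⟩
  rw [Sylow.card_eq_multiplicity, Sylow.card_eq_multiplicity,
    Subgroup.card_eq_card_quotient_mul_card_subgroup N,
    Nat.factorization_mul Nat.card_pos.ne' Nat.card_pos.ne', Finsupp.add_apply, pow_add, mul_comm]

theorem npc_of_central_quotient [Finite G] (N : Subgroup G) [N.Normal]
    (hNc : N ≤ Subgroup.center G) (hN2 : IsPGroup 2 N) (h : HasNormalPComplement 2 (G ⧸ N)) :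
    HasNormalPComplement 2 G := by
  haveI : Fact (Nat.Prime 2) := ⟨Nat.prime_two⟩
  obtain ⟨Kb, hKbn, hKbc, k, hKbk⟩ := TNPC.npc_iff.mp h
  haveI := hKbn
  obtain ⟨a, ha⟩ := IsPGroup.iff_card.mp hN2
  set K := Kb.comap (QuotientGroup.mk' N) with hK
  haveI hKn : K.Normal := Subgroup.Normal.comap hKbn _
  have hNK : N ≤ K := by
    intro x hx
    rw [hK, Subgroup.mem_comap]
    have h1 : QuotientGroup.mk' N x = 1 := (QuotientGroup.eq_one_iff x).mpr hx
    rw [h1]
    exact one_mem _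
  have hKcard : Nat.card K = Nat.card N * Nat.card Kb := by
    have e1 := Subgroup.card_mul_index K
    rw [hK, Subgroup.index_comap_of_surjective _ (QuotientGroup.mk'_surjective N)] at e1
    have e2 := Subgroup.card_mul_index Kb
    have e3 := Subgroup.card_eq_card_quotient_mul_card_subgroup N
    have hpos : 0 < Kb.index := Nat.pos_of_ne_zero Subgroup.index_ne_zero_of_finite
    apply Nat.eq_of_mul_eq_mul_right hpos
    rw [e1, e3, ← e2]
    ring
  have hrel : N.relIndex K = Nat.card Kb := by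
    have h1 := Cfsg.Agent.Lib.Helper18.card_mul_relIndex_of_le_h18 hNK
    rw [hKcard] at h1
    exact Nat.eq_of_mul_eq_mul_left Nat.card_pos h1
  have hcop : (Nat.card N).Coprime (N.relIndex K) := by
    rw [hrel, ha]
    exact Nat.Coprime.pow_left a hKbc.symm
  have hnorm : K ≤ Subgroup.normalizer (N : Set G) := by
    rw [Subgroup.normalizer_eq_top]
    exact le_top
  obtain ⟨L, hLK, hNL, hsup, hLcard⟩ :=
    Cfsg.Agent.Lib.Helper1.exists_complement_of_coprime_relIndex N K hNK hnorm hcop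
  rw [hrel] at hLcard
  have hLpow : ∀ l ∈ L, l ^ Nat.card Kb = 1 := by
    intro l hl
    have h1 : (⟨l, hl⟩ : ↥L) ^ Nat.card ↥L = 1 := pow_card_eq_one'
    rw [hLcard] at h1
    have := congrArg Subtype.val h1
    simpa using this
  have hLn : L.Normal := by
    constructor
    intro l hl g
    have h1 : g * l * g⁻¹ ∈ K := hKn.conj_mem l (hLK hl) g
    have h2 : g * l * g⁻¹ ∈ ((N ⊔ L : Subgroup G) : Set G) := by
      rw [hsup]
      exact h1
    rw [Subgroup.normal_mul] at h2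
    obtain ⟨n, hn, l', hl', hnl⟩ := Set.mem_mul.mp h2
    have hm1 : (g * l * g⁻¹) ^ Nat.card Kb = 1 := by
      rw [conj_pow, hLpow l hl]
      group
    have hnc : Commute n l' := by
      have h3 := hNc hn
      rw [Subgroup.mem_center_iff] at h3
      exact (h3 l').symm
    have hn1 : n ^ Nat.card Kb = 1 := by
      have h3 : (n * l') ^ Nat.card Kb = 1 := by
        have h4 : n * l' = g * l * g⁻¹ := hnl
        rw [h4]
        exact hm1
      rw [hnc.mul_pow, hLpow l' hl', mul_one] at h3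
      exact h3
    have hn2 : n ^ 2 ^ a = 1 := by
      have h3 : (⟨n, hn⟩ : ↥N) ^ Nat.card ↥N = 1 := pow_card_eq_one'
      rw [ha] at h3
      have := congrArg Subtype.val h3
      simpa using this
    have hn3 : n = 1 := by
      have h3 : orderOf n ∣ Nat.gcd (Nat.card Kb) (2 ^ a) :=
        Nat.dvd_gcd (orderOf_dvd_of_pow_eq_one hn1) (orderOf_dvd_of_pow_eq_one hn2)
      have h4 : Nat.gcd (Nat.card Kb) (2 ^ a) = 1 := Nat.Coprime.pow_right a hKbc
      rw [h4] at h3
      exact orderOf_eq_one_iff.mp (Nat.dvd_one.mp h3)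
    have h5 : g * l * g⁻¹ = l' := by
      have h4 : n * l' = g * l * g⁻¹ := hnl
      rw [← h4, hn3, one_mul]
    rw [h5]
    exact hl'
  rw [TNPC.npc_iff]
  refine ⟨L, hLn, ?_, k + a, ?_⟩
  · rw [hLcard]
    exact hKbc
  · have e1 := Subgroup.card_mul_index L
    have e2 := Subgroup.card_mul_index Kb
    have e3 := Subgroup.card_eq_card_quotient_mul_card_subgroup N
    have hpos : 0 < Nat.card Kb := Nat.card_pos
    apply Nat.eq_of_mul_eq_mul_left hpos
    rw [← hLcard, e1, e3, ← e2, hKbk, ha, hLcard]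
    ring

end Central

end Cfsg.Agent.Lib.Helper1.TwoClasses
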