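import Mathlib
import Cfsg.Agent.Lib.Helper1.TwoClassesC
import Cfsg.Agent.Lib.Helper18.ZStarFus
import Cfsg.Agent.Lib.Helper9.ZCorBS

set_option autoImplicit false

namespace Cfsg.Agent.Lib.Helper1.TwoClasses

open Cfsg
open scoped Pointwise
open Cfsg.Agent.Lib.Helper18 Cfsg.Agent.Lib.Helper18.ZStar

section Odd

variable {G : Type*} [Group G]

theorem conj_of_mk_eq_odd [Finite G] (N : Subgroup G) [hNn : N.Normal]
    (hN : (Nat.card N).Coprime 2) (x y : G) (hx : T2 x) (hy : T2 y)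
    (h : (QuotientGroup.mk x : G ⧸ N) = QuotientGroup.mk y) : ∃ g : G, g * x * g⁻¹ = y := by
  haveI : Fact (Nat.Prime 2) := ⟨Nat.prime_two⟩
  have h0 : x⁻¹ * y ∈ N := QuotientGroup.eq.mp h
  have hxy : x * y⁻¹ ∈ N := by
    have h1 : x * (x⁻¹ * y)⁻¹ * x⁻¹ ∈ N := hNn.conj_mem _ (inv_mem h0) x
    have h2 : x * (x⁻¹ * y)⁻¹ * x⁻¹ = x * y⁻¹ := by group
    rwa [h2] at h1
  obtain ⟨S, hS⟩ := (isPGroup_zpowers y hy).exists_le_sylow
  have hyS : y ∈ (S : Subgroup G) := hS (Subgroup.mem_zpowers y)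
  have hTle : Subgroup.zpowers x ≤ N ⊔ (S : Subgroup G) := by
    rw [Subgroup.zpowers_le]
    have h1 : x = (x * y⁻¹) * y := by group
    rw [h1]
    exact Subgroup.mul_mem_sup hxy hyS
  obtain ⟨a, ha, hat⟩ := zs_conj_into_sylow S N (Subgroup.zpowers x) (isPGroup_zpowers x hx) hTle
  refine ⟨a, ?_⟩
  apply zs_sylow_eq_of_mul_inv_mem S N hN (hat x (Subgroup.mem_zpowers x)) hyS
  have h1 : x * a⁻¹ * x⁻¹ ∈ N := hNn.conj_mem _ (inv_mem ha) x
  have h2 : a * x * a⁻¹ * y⁻¹ = a * (x * a⁻¹ * x⁻¹) * (x * y⁻¹) := by group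
  rw [h2]
  exact mul_mem (mul_mem ha h1) hxy

theorem card_cl2_le_quotient_odd [Finite G] (N : Subgroup G) [hNn : N.Normal]
    (hN : (Nat.card N).Coprime 2) : Nat.card (Cl2 G) ≤ Nat.card (Cl2 (G ⧸ N)) := by
  have hrep : ∀ c : Cl2 G, ∃ (x : G) (hx : T2 x), mk2 x hx = c := exists_rep2
  choose rep hrepT hrep' using hrep
  let ψ : Cl2 G → Cl2 (G ⧸ N) := fun c =>
    mk2 (QuotientGroup.mk' N (rep c)) (T2_map _ _ (hrepT c))
  apply Nat.card_le_card_of_injective ψ
  intro c c' hcc
  have h1 : mk2 (QuotientGroup.mk' N (rep c)) (T2_map _ _ (hrepT c)) =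
      mk2 (QuotientGroup.mk' N (rep c')) (T2_map _ _ (hrepT c')) := hcc
  rw [mk2_eq_iff] at h1
  obtain ⟨gb, hgb⟩ := h1
  obtain ⟨g, rfl⟩ := QuotientGroup.mk_surjective gb
  have h2 : (QuotientGroup.mk (g * rep c * g⁻¹) : G ⧸ N) = QuotientGroup.mk (rep c') := hgb
  obtain ⟨a, ha⟩ := conj_of_mk_eq_odd N hN (g * rep c * g⁻¹) (rep c')
    (T2_conj g _ (hrepT c)) (hrepT c') h2
  rw [← hrep' c, ← hrep' c', mk2_eq_iff]
  refine ⟨a * g, ?_⟩
  rw [← ha]
  group

end Odd

section Main

theorem card_quotient_lt {G : Type*} [Group G] [Finite G] (N : Subgroup G) [N.Normal] (hN : N ≠ ⊥) :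
    Nat.card (G ⧸ N) < Nat.card G := by
  have h1 := Subgroup.card_eq_card_quotient_mul_card_subgroup N
  have h2 : 1 < Nat.card N := by
    rw [Subgroup.one_lt_card_iff_ne_bot]
    exact hN
  have h3 : 0 < Nat.card (G ⧸ N) := Nat.card_pos
  rw [h1]
  nlinarith

theorem main_aux.{u} : ∀ (n : ℕ) (G : Type u) [Group G] [Finite G], Nat.card G = n →
    ¬ HasNormalPComplement 2 G → ∀ P : Sylow 2 G,
      2 * Nat.card (Cl2 G) ≤ Nat.card ↥(P : Subgroup G) := by
  intro n
  induction n using Nat.strong_induction_on with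
  | _ n ih =>
  intro G _ _ hn hnpc P
  haveI : Fact (Nat.Prime 2) := ⟨Nat.prime_two⟩
  haveI hOn : (pPrimeCore 2 G).Normal := pPrimeCore_normal_h18 2 G
  have hOc : (Nat.card (pPrimeCore 2 G)).Coprime 2 := pPrimeCore_card_coprime_h18 2
  by_cases hO : pPrimeCore 2 G = ⊥
  · by_cases hex : ∃ y ∈ (P : Subgroup G), y ≠ 1 ∧
        ∀ g : G, g * y * g⁻¹ ∈ (P : Subgroup G) → g * y * g⁻¹ = y
    · obtain ⟨y, hyP, hy1, hiso⟩ := hex
      have hQS : Subgroup.zpowers y ≤ (P : Subgroup G) := by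
        rw [Subgroup.zpowers_le]
        exact hyP
      have hisoQ : ∀ u ∈ Subgroup.zpowers y, ∀ g : G,
          g * u * g⁻¹ ∈ (P : Subgroup G) → g * u * g⁻¹ = u := by
        intro u hu
        have h1 : u ∈ Submonoid.powers y := (isOfFinOrder_of_finite y).mem_powers_iff_mem_zpowers.mpr hu
        obtain ⟨j, rfl⟩ := (Submonoid.mem_powers_iff u y).mp h1
        exact isolated_pow P y hyP hiso j
      have hyc : y ∈ Subgroup.center G := by
        rw [Subgroup.mem_center_iff]
        intro g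
        have h1 := zs_iso_subgroup Cfsg.Agent.Lib.Helper9.zc_bsHyp n G hn P (Subgroup.zpowers y) hQS hisoQ y
          (Subgroup.mem_zpowers y) g
        rw [hO, Subgroup.mem_bot] at h1
        have h2 : y * g = (y * g * y⁻¹ * g⁻¹) * (g * y) := by group
        rw [h2, h1, one_mul]
      haveI hNn : (Subgroup.zpowers y).Normal := zs_zpowers_normal hyc
      have hNc : Subgroup.zpowers y ≤ Subgroup.center G := by
        rw [Subgroup.zpowers_le]
        exact hyc
      have hN2 : IsPGroup 2 (Subgroup.zpowers y) := P.2.to_le hQS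
      have hNne : Subgroup.zpowers y ≠ ⊥ := by
        intro hh
        have h1 : y ∈ Subgroup.zpowers y := Subgroup.mem_zpowers y
        rw [hh, Subgroup.mem_bot] at h1
        exact hy1 h1
      have hlt : Nat.card (G ⧸ Subgroup.zpowers y) < n := by
        rw [← hn]
        exact card_quotient_lt _ hNne
      have hnpc' : ¬ HasNormalPComplement 2 (G ⧸ Subgroup.zpowers y) := fun hh =>
        hnpc (npc_of_central_quotient _ hNc hN2 hh)
      let P' : Sylow 2 (G ⧸ Subgroup.zpowers y) := default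
      have h1 := ih _ hlt (G ⧸ Subgroup.zpowers y) rfl hnpc' P'
      have h2 := card_cl2_le_mul_central (Subgroup.zpowers y) hNc hN2
      have h3 := card_sylow_eq_mul (Subgroup.zpowers y) P P'
      obtain ⟨a, ha⟩ := IsPGroup.iff_card.mp hN2
      have h4 : 2 ^ (Nat.card (Subgroup.zpowers y)).factorization 2 = Nat.card (Subgroup.zpowers y) := by
        rw [ha, Nat.Prime.factorization_pow Nat.prime_two, Finsupp.single_eq_same]
      rw [h4] at h3
      rw [h3]
      calc 2 * Nat.card (Cl2 G) ≤ 2 * (Nat.card (Cl2 (G ⧸ Subgroup.zpowers y)) *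
            Nat.card (Subgroup.zpowers y)) := Nat.mul_le_mul_left 2 h2
        _ = (2 * Nat.card (Cl2 (G ⧸ Subgroup.zpowers y))) * Nat.card (Subgroup.zpowers y) := by ring
        _ ≤ Nat.card ↥(P' : Subgroup (G ⧸ Subgroup.zpowers y)) * Nat.card (Subgroup.zpowers y) :=
          Nat.mul_le_mul_right _ h1
        _ = _ := by ring
    · have hno : ∀ y ∈ (P : Subgroup G), y ≠ 1 →
          ∃ g : G, g * y * g⁻¹ ∈ (P : Subgroup G) ∧ g * y * g⁻¹ ≠ y := by
        intro y hyP hy1
        by_contra hcon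
        apply hex
        refine ⟨y, hyP, hy1, ?_⟩
        intro g hg
        by_contra hne
        exact hcon ⟨g, hg, hne⟩
      have h1 := two_mul_le_of_no_isolated P hno
      obtain ⟨k, hk⟩ := IsPGroup.iff_card.mp P.2
      rcases Nat.eq_zero_or_pos k with hk0 | hkpos
      · exfalso
        apply hnpc
        rw [TNPC.npc_iff]
        refine ⟨⊤, inferInstance, ?_, 0, ?_⟩
        · rw [Subgroup.card_top]
          have h2 := P.not_dvd_index
          have h3 := Subgroup.card_mul_index (P : Subgroup G)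
          rw [hk, hk0, pow_zero, one_mul] at h3
          rw [← h3]
          exact (Nat.coprime_comm.mp ((Nat.Prime.coprime_iff_not_dvd Nat.prime_two).mpr h2))
        · rw [Subgroup.index_top, pow_zero]
      · have h2 : Nat.card ↥(P : Subgroup G) = 2 * 2 ^ (k - 1) := by
          rw [hk, ← pow_succ']
          congr 1
          omega
        omega
  · have hlt : Nat.card (G ⧸ pPrimeCore 2 G) < n := by
      rw [← hn]
      exact card_quotient_lt _ hO
    have hnpc' : ¬ HasNormalPComplement 2 (G ⧸ pPrimeCore 2 G) := fun hh =>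
      hnpc (TNPC.npc_of_quotient _ hOc hh)
    let P' : Sylow 2 (G ⧸ pPrimeCore 2 G) := default
    have h1 := ih _ hlt (G ⧸ pPrimeCore 2 G) rfl hnpc' P'
    have h2 := card_cl2_le_quotient_odd (pPrimeCore 2 G) hOc
    have h3 := card_sylow_eq_mul (pPrimeCore 2 G) P P'
    have h4 : (Nat.card (pPrimeCore 2 G)).factorization 2 = 0 := by
      apply Nat.factorization_eq_zero_of_not_dvd
      exact (Nat.Prime.coprime_iff_not_dvd Nat.prime_two).mp (Nat.coprime_comm.mp hOc)
    rw [h4, pow_zero, one_mul] at h3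
    rw [h3]
    exact (Nat.mul_le_mul_left 2 h2).trans h1

theorem main {G : Type*} [Group G] [Finite G] (P : Sylow 2 G)
    (h : Nat.card ↥(P : Subgroup G) < 2 * Nat.card (Cl2 G)) : HasNormalPComplement 2 G := by
  by_contra hnpc
  have h1 := main_aux _ G rfl hnpc P
  omega

end Main

end Cfsg.Agent.Lib.Helper1.TwoClasses
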