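import Mathlib
import Cfsg.Prelude.Def_OddOrderLocal
import Cfsg.Agent.Lib.Helper1.PiTwoC
import Cfsg.Agent.Lib.Helper1.TwoClassesD

set_option autoImplicit false

namespace Cfsg.Agent.Lib.Helper1.PiTwo

open Cfsg Cfsg.Agent.Lib.Helper1.PiClasses

theorem mem_of_orderOf_dvd_of_coprime {H : Type*} [Group H] [Finite H] (M : Subgroup H) [M.Normal]
    (hcop : (Nat.card M).Coprime M.index) (w : H) (hw : orderOf w ∣ Nat.card M) : w ∈ M := by
  rw [← QuotientGroup.eq_one_iff, ← orderOf_eq_one_iff]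
  have h1 : orderOf (QuotientGroup.mk w : H ⧸ M) ∣ orderOf w :=
    orderOf_map_dvd (QuotientGroup.mk' M) w
  have h2 : orderOf (QuotientGroup.mk w : H ⧸ M) ∣ M.index := by
    rw [Subgroup.index_eq_card]
    exact orderOf_dvd_natCard _
  have h3 : orderOf (QuotientGroup.mk w : H ⧸ M) ∣ Nat.gcd (Nat.card M) M.index :=
    Nat.dvd_gcd (h1.trans hw) h2
  rw [hcop] at h3
  exact Nat.dvd_one.mp h3

theorem main_two {G : Type*} [Group G] [Finite G] (π : Finset ℕ) (hπ : ∀ r ∈ π, r.Prime)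
    (h2 : 2 ∈ π) (hk : part π (Nat.card G) < 2 * kk π G) :
    (∃ N : Subgroup G, N.Normal ∧ (∀ r : ℕ, r.Prime → r ∣ Nat.card ↥N → r ∉ π) ∧
      ∀ r : ℕ, r.Prime → r ∣ N.index → r ∈ π) ∧
    ∃ H : Subgroup G, Cfsg.IsPiHall ((↑π : Set ℕ) \ {2}) H ∧ IsMulCommutative ↥H := by
  haveI : Fact (Nat.Prime 2) := ⟨Nat.prime_two⟩
  set σ := π.erase 2 with hσdef
  have hσ : ∀ r ∈ σ, r.Prime := fun r hr => hπ r (Finset.mem_of_mem_erase hr)
  have h2σ : 2 ∉ σ := Finset.notMem_erase 2 π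
  have hσπ : ∀ r, r ∈ σ → r ∈ π := fun r hr => Finset.mem_of_mem_erase hr
  have hπσ : ∀ r, r ∈ π → r ≠ 2 → r ∈ σ := fun r hr hne => Finset.mem_erase.mpr ⟨hne, hr⟩
  have hpart := part_erase π 2 h2 (Nat.card G)
  have hMpos := part_pos σ hσ (Nat.card G)
  obtain ⟨P⟩ : Nonempty (Sylow 2 G) := inferInstance
  have hnpc : HasNormalPComplement 2 G := by
    apply Cfsg.Agent.Lib.Helper1.TwoClasses.main P
    have h1 := kk_le_mul π hπ 2 h2 G
    have h3 : 2 ^ (Nat.card G).factorization 2 < 2 * kk {2} G := by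
      apply Nat.lt_of_mul_lt_mul_right (a := part σ (Nat.card G))
      calc 2 ^ (Nat.card G).factorization 2 * part σ (Nat.card G) = part π (Nat.card G) := hpart.symm
        _ < 2 * kk π G := hk
        _ ≤ 2 * (part σ (Nat.card G) * kk {2} G) := Nat.mul_le_mul_left 2 h1
        _ = 2 * kk {2} G * part σ (Nat.card G) := by ring
    rw [Sylow.card_eq_multiplicity P]
    have h4 := kk_single_eq 2 Nat.prime_two G
    rw [h4] at h3
    exact h3
  obtain ⟨K, hKn, hKc, k, hKk⟩ := Cfsg.Agent.Lib.Helper1.TNPC.npc_iff.mp hnpc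
  haveI := hKn
  have hKodd : Odd (Nat.card K) := Nat.Coprime.odd_of_right hKc
  have hKmem : ∀ x : G, E σ x → x ∈ K := by
    intro x hx
    rw [← QuotientGroup.eq_one_iff, ← orderOf_eq_one_iff]
    have h1 : orderOf (QuotientGroup.mk x : G ⧸ K) ∣ orderOf x :=
      orderOf_map_dvd (QuotientGroup.mk' K) x
    have h3 : orderOf (QuotientGroup.mk x : G ⧸ K) ∣ 2 ^ k := by
      rw [← hKk, Subgroup.index_eq_card]
      exact orderOf_dvd_natCard _
    obtain ⟨j, _, hj⟩ := (Nat.dvd_prime_pow Nat.prime_two).mp h3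
    rcases Nat.eq_zero_or_pos j with hj0 | hjpos
    · rw [hj, hj0, pow_zero]
    · exfalso
      apply h2σ
      apply hx 2 Nat.prime_two
      refine Dvd.dvd.trans ?_ h1
      rw [hj]
      exact dvd_pow_self 2 hjpos.ne'
  have hkK : part σ (Nat.card K) < 2 * kk σ ↥K := by
    have h1 := kk_le_pow_mul π 2 Nat.prime_two h2 G
    have h3 := kk_le_kk_subgroup σ K hKmem
    have h4 : part σ (Nat.card K) ≤ part σ (Nat.card G) :=
      part_mono σ hσ (Subgroup.card_subgroup_dvd_card K) Nat.card_pos.ne'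
    refine lt_of_le_of_lt h4 ?_
    have hpos : 0 < 2 ^ (Nat.card G).factorization 2 := by positivity
    apply Nat.lt_of_mul_lt_mul_left (a := 2 ^ (Nat.card G).factorization 2)
    calc 2 ^ (Nat.card G).factorization 2 * part σ (Nat.card G) = part π (Nat.card G) := hpart.symm
      _ < 2 * kk π G := hk
      _ ≤ 2 * (2 ^ (Nat.card G).factorization 2 * kk σ G) := Nat.mul_le_mul_left 2 h1
      _ ≤ 2 * (2 ^ (Nat.card G).factorization 2 * kk σ ↥K) :=
        Nat.mul_le_mul_left 2 (Nat.mul_le_mul_left _ h3)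
      _ = 2 ^ (Nat.card G).factorization 2 * (2 * kk σ ↥K) := by ring
  obtain ⟨M', hM'n, hM'1, hM'2, hM'c⟩ := odd_main hKodd σ hσ hkK
  haveI := hM'n
  have hcop : (Nat.card M').Coprime M'.index := by
    by_contra hne
    obtain ⟨q, hq, hq1, hq2⟩ := Nat.Prime.not_coprime_iff_dvd.mp hne
    exact hM'1 q hq hq1 (hM'2 q hq hq2)
  have hnot2K : ∀ n : ℕ, n ∣ Nat.card K → ¬ 2 ∣ n := by
    intro n hn h2n
    have h1 : 2 ∣ Nat.card K := h2n.trans hn
    rcases hKodd with ⟨m, hm⟩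
    omega
  refine ⟨⟨M'.map K.subtype, ?_, ?_, ?_⟩, ?_⟩
  · constructor
    rintro _ ⟨y, hy, rfl⟩ g
    have hK1 : g * (y : G) * g⁻¹ ∈ K := hKn.conj_mem _ y.2 g
    have hw : orderOf (⟨g * (y : G) * g⁻¹, hK1⟩ : ↥K) ∣ Nat.card M' := by
      rw [Subgroup.orderOf_mk]
      have h1 : orderOf (g * (y : G) * g⁻¹) = orderOf (y : G) :=
        orderOf_injective (MulAut.conj g).toMonoidHom (MulAut.conj g).injective _
      rw [h1, Subgroup.orderOf_coe]
      have h3 : orderOf (⟨y, hy⟩ : ↥M') ∣ Nat.card M' := orderOf_dvd_natCard _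
      rwa [Subgroup.orderOf_mk] at h3
    have h4 := mem_of_orderOf_dvd_of_coprime M' hcop _ hw
    exact ⟨_, h4, rfl⟩
  · intro r hr hd hrπ
    rw [Subgroup.card_map_of_injective K.subtype_injective] at hd
    by_cases hr2 : r = 2
    · rw [hr2] at hd
      exact hnot2K _ (Subgroup.card_subgroup_dvd_card M') hd
    · exact hM'1 r hr hd (hπσ r hrπ hr2)
  · intro r hr hd
    rw [Subgroup.index_map_subtype, hKk] at hd
    rcases (Nat.Prime.dvd_mul hr).mp hd with h1 | h1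
    · exact hσπ r (hM'2 r hr h1)
    · have h3 : r ∣ 2 := hr.dvd_of_dvd_pow h1
      rw [(Nat.prime_dvd_prime_iff_eq hr Nat.prime_two).mp h3]
      exact h2
  · obtain ⟨H', hH'⟩ := Subgroup.exists_right_complement'_of_coprime hcop
    refine ⟨H'.map K.subtype, ⟨?_, ?_⟩, ?_⟩
    · intro q hq hd
      rw [Subgroup.card_map_of_injective K.subtype_injective, ← hH'.symm.index_eq_card] at hd
      have h1 := hM'2 q hq hd
      refine ⟨Finset.mem_coe.mpr (hσπ q h1), ?_⟩
      intro h3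
      rw [Set.mem_singleton_iff] at h3
      rw [h3] at h1
      exact h2σ h1
    · rintro q hq ⟨hqπ, hq2⟩ hd
      rw [Set.mem_singleton_iff] at hq2
      rw [Subgroup.index_map_subtype, hKk, hH'.index_eq_card] at hd
      rcases (Nat.Prime.dvd_mul hq).mp hd with h1 | h1
      · exact hM'1 q hq h1 (hπσ q (Finset.mem_coe.mp hqπ) hq2)
      · have h3 : q ∣ 2 := hq.dvd_of_dvd_pow h1
        exact hq2 ((Nat.prime_dvd_prime_iff_eq hq Nat.prime_two).mp h3)
    · refine ⟨⟨fun a b => ?_⟩⟩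
      obtain ⟨a', ha', haa⟩ := a.2
      obtain ⟨b', hb', hbb⟩ := b.2
      have h3 : a' * b' * a'⁻¹ * b'⁻¹ ∈ M' := hM'c a' b'
      have h4 : a' * b' * a'⁻¹ * b'⁻¹ ∈ H' :=
        H'.mul_mem (H'.mul_mem (H'.mul_mem ha' hb') (H'.inv_mem ha')) (H'.inv_mem hb')
      have h5 : a' * b' * a'⁻¹ * b'⁻¹ = 1 := by
        have h6 := hH'.disjoint
        rw [Subgroup.disjoint_def] at h6
        exact h6 h3 h4
      have h7 : a' * b' = b' * a' := by
        calc a' * b' = (a' * b' * a'⁻¹ * b'⁻¹) * (b' * a') := by group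
          _ = b' * a' := by rw [h5, one_mul]
      apply Subtype.ext
      show (a : G) * (b : G) = (b : G) * (a : G)
      rw [← haa, ← hbb]
      have := congrArg (K.subtype) h7
      simpa using this

end Cfsg.Agent.Lib.Helper1.PiTwo
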