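import Mathlib
import Cfsg.Prelude.Def_LocalEven
import Cfsg.Prelude.Def_PLocal
import Cfsg.Agent.S5299
import Cfsg.Agent.Lib.helper15.Qd

set_option autoImplicit false

namespace Cfsg.Agent.Lib.Helper1.QdAction

open Matrix

theorem odd_pow_of_sq {Q : Type*} [Group Q] (z : Q) (hz : z * z = 1) (m : ℕ) (hm : Odd m) :
    z ^ m = z := by
  obtain ⟨k, rfl⟩ := hm
  rw [pow_succ, pow_mul, pow_two, hz, one_pow, one_mul]

theorem frattini_core {H : Type*} [Group H] [Finite H] {Q : Type*} [Group Q]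
    (ρ : H →* Q) (hρ : Function.Surjective ρ) (Z : Subgroup Q)
    (hZc : Z ≤ Subgroup.center Q) (hZ2 : ∀ z ∈ Z, z * z = 1) :
    ∃ T : Subgroup H, IsPGroup 2 T ∧ (∀ z ∈ Z, ∃ t ∈ T, ρ t = z) ∧
      ∀ A : Q, ∃ h ∈ Subgroup.normalizer (T : Set H), ρ h = A := by
  haveI hZn : Z.Normal := by
    refine ⟨fun n hn g => ?_⟩
    have h1 : g * n = n * g := Subgroup.mem_center_iff.mp (hZc hn) g
    rw [h1, mul_inv_cancel_right]
    exact hn
  set D : Subgroup H := Z.comap ρ with hD
  haveI hDn : D.Normal := Subgroup.Normal.comap hZn ρ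
  obtain ⟨T0⟩ : Nonempty (Sylow 2 D) := inferInstance
  set T : Subgroup H := (T0 : Subgroup D).map D.subtype with hT
  have hTp : IsPGroup 2 T := T0.2.map D.subtype
  have key : ∀ d ∈ D, ∃ t ∈ T, ρ t = ρ d := by
    intro d hd
    have hn : orderOf d ≠ 0 := (orderOf_pos d).ne'
    obtain ⟨a, m, hm, hnm⟩ := Nat.exists_eq_two_pow_mul_odd hn
    set x : D := ⟨d, hd⟩ ^ m with hx
    have hx2 : x ^ (2 ^ a) = 1 := by
      apply Subtype.ext
      rw [hx]
      simp only [Subgroup.coe_pow, Subgroup.coe_one]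
      rw [← pow_mul, mul_comm, ← hnm, pow_orderOf_eq_one]
    have hzp : IsPGroup 2 (Subgroup.zpowers x) := by
      rintro ⟨g, hg⟩
      obtain ⟨i, rfl⟩ := Subgroup.mem_zpowers_iff.mp hg
      refine ⟨a, ?_⟩
      apply Subtype.ext
      simp only [Subgroup.coe_pow, Subgroup.coe_one]
      rw [← zpow_natCast, ← _root_.zpow_mul, mul_comm, _root_.zpow_mul, zpow_natCast, hx2, _root_.one_zpow]
    obtain ⟨Q1, hQ1⟩ := hzp.exists_le_sylow
    obtain ⟨g, hg⟩ := MulAction.exists_smul_eq D Q1 T0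
    have hxQ : x ∈ Q1 := hQ1 (Subgroup.mem_zpowers x)
    have hgx : g * x * g⁻¹ ∈ T0 := by
      rw [← hg]
      have := Subgroup.smul_mem_pointwise_smul x (MulAut.conj g) (Q1 : Subgroup D) hxQ
      exact this
    refine ⟨((g * x * g⁻¹ : D) : H), ⟨g * x * g⁻¹, hgx, rfl⟩, ?_⟩
    have hρx : ρ (x : H) = ρ d := by
      rw [hx]
      simp only [Subgroup.coe_pow]
      rw [map_pow]
      exact odd_pow_of_sq _ (hZ2 _ hd) m hm
    have hc : ρ (x : H) ∈ Subgroup.center Q := hZc x.2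
    simp only [Subgroup.coe_mul, Subgroup.coe_inv, map_mul, map_inv]
    rw [Subgroup.mem_center_iff.mp hc (ρ (g : H)), mul_inv_cancel_right, hρx]
  refine ⟨T, hTp, ?_, ?_⟩
  · intro z hz
    obtain ⟨d, rfl⟩ := hρ z
    exact key d hz
  · intro A
    obtain ⟨h, rfl⟩ := hρ A
    have hfr : Subgroup.normalizer ((T0 : Subgroup D).map D.subtype : Set H) ⊔ D = ⊤ :=
      Sylow.normalizer_sup_eq_top T0
    have hh : h ∈ Subgroup.normalizer ((T0 : Subgroup D).map D.subtype : Set H) ⊔ D := by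
      rw [hfr]; trivial
    obtain ⟨n, hn, d, hd, rfl⟩ := Subgroup.mem_sup_of_normal_right.mp hh
    obtain ⟨t, ht, htd⟩ := key d hd
    refine ⟨n * t, Subgroup.mul_mem _ hn (Subgroup.le_normalizer ht), ?_⟩
    rw [map_mul, map_mul, htd]

section Main

open Cfsg.Agent.Lib.helper15.Qd

variable {p : ℕ} [Fact p.Prime]

theorem center_sq (z : SpecialLinearGroup (Fin 2) (ZMod p))
    (hz : z ∈ Subgroup.center (SpecialLinearGroup (Fin 2) (ZMod p))) : z * z = 1 := by
  obtain ⟨r, hr, hrz⟩ := Matrix.SpecialLinearGroup.mem_center_iff.mp hz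
  apply Subtype.ext
  rw [Matrix.SpecialLinearGroup.coe_mul, ← hrz, ← map_mul, Matrix.SpecialLinearGroup.coe_one]
  simp only [Fintype.card_fin] at hr
  rw [← pow_two, hr, map_one]

theorem neg_one_mem_center :
    (-1 : SpecialLinearGroup (Fin 2) (ZMod p)) ∈
      Subgroup.center (SpecialLinearGroup (Fin 2) (ZMod p)) := by
  rw [Matrix.SpecialLinearGroup.mem_center_iff]
  refine ⟨-1, by simp, ?_⟩
  rw [map_neg, map_one, Matrix.SpecialLinearGroup.coe_neg, Matrix.SpecialLinearGroup.coe_one]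

def transl : Multiplicative (Fin 2 → ZMod p) →* ↥(Cfsg.qdOver (ZMod p)) where
  toFun v := mk 1 (Multiplicative.toAdd v)
  map_one' := mk_one_zero
  map_mul' v w := by
    rw [mk_mul, one_mul, one_mulVec', toAdd_mul, add_comm]

theorem transl_apply (v : Multiplicative (Fin 2 → ZMod p)) :
    transl v = mk 1 (Multiplicative.toAdd v) := rfl

theorem eq_one_of_two_p {Y : Type*} [Group Y] (hp2 : p ≠ 2) (y : Y) (a b : ℕ)
    (h2 : y ^ (2 ^ a) = 1) (hp : y ^ (p ^ b) = 1) : y = 1 := by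
  have hpp : p.Prime := Fact.out
  have h1 : orderOf y ∣ 2 ^ a := orderOf_dvd_of_pow_eq_one h2
  have h3 : orderOf y ∣ p ^ b := orderOf_dvd_of_pow_eq_one hp
  have hc : Nat.Coprime (2 ^ a) (p ^ b) :=
    Nat.Coprime.pow _ _ ((Nat.coprime_primes Nat.prime_two hpp).mpr (Ne.symm hp2))
  have h4 : orderOf y = 1 := Nat.Coprime.eq_one_of_dvd (Nat.Coprime.coprime_dvd_left h1 hc) h3
  exact orderOf_eq_one_iff.mp h4

theorem involves_qd_of_action {Y : Type*} [Group Y] [Finite Y] (hp2 : p ≠ 2)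
    {U : Type*} [Group U] (hU : IsPGroup p U) (j : U →* Y) (hj : Function.Injective j)
    {H : Type*} [Group H] [Finite H] (ι : H →* Y)
    (ρ : H →* Matrix.SpecialLinearGroup (Fin 2) (ZMod p)) (hρ : Function.Surjective ρ)
    (φ : H →* MulAut U) (hφ : ∀ h u, j (φ h u) = ι h * j u * (ι h)⁻¹)
    (ψ : U →* Multiplicative (Fin 2 → ZMod p)) (hψ : Function.Surjective ψ)
    (heq : ∀ h u, ψ (φ h u) = Multiplicative.ofAdd
      (((ρ h : Matrix.SpecialLinearGroup (Fin 2) (ZMod p)) : Matrix (Fin 2) (Fin 2) (ZMod p)).mulVec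
        (Multiplicative.toAdd (ψ u)))) :
    Cfsg.Involves ↥(Cfsg.qd p) Y := by
  obtain ⟨T, hT2, hTZ, hTN⟩ := frattini_core ρ hρ
    (Subgroup.center (SpecialLinearGroup (Fin 2) (ZMod p))) le_rfl center_sq
  obtain ⟨t, htT, ht⟩ := hTZ (-1) neg_one_mem_center
  set H2 : Subgroup H := Subgroup.normalizer (T : Set H) with hH2
  let φ2 : H2 →* MulAut U := φ.comp H2.subtype
  let π : U ⋊[φ2] H2 →* Y := SemidirectProduct.lift j (ι.comp H2.subtype) (by
    intro g
    ext u
    simp only [MonoidHom.coe_comp, MulEquiv.coe_toMonoidHom, Function.comp_apply,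
      MulAut.conj_apply]
    exact hφ g u)
  let f1 : U →* ↥(Cfsg.qdOver (ZMod p)) := transl.comp ψ
  let f2 : H2 →* ↥(Cfsg.qdOver (ZMod p)) := emb.comp (ρ.comp H2.subtype)
  let Φ : U ⋊[φ2] H2 →* ↥(Cfsg.qdOver (ZMod p)) := SemidirectProduct.lift f1 f2 (by
    intro g
    apply MonoidHom.ext
    intro u
    simp only [MonoidHom.coe_comp, MulEquiv.coe_toMonoidHom, Function.comp_apply,
      MulAut.conj_apply]
    rw [eq_mul_inv_iff_mul_eq]
    show transl (ψ (φ (g : H) u)) * emb (ρ (g : H)) = emb (ρ (g : H)) * transl (ψ u)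
    rw [heq, transl_apply, transl_apply, emb_apply, mk_mul, mk_mul, one_mul, mul_one,
      one_mulVec', zero_add, add_zero, toAdd_ofAdd])
  have hΦ : ∀ x : U ⋊[φ2] H2, Φ x = mk (ρ (x.right : H)) (Multiplicative.toAdd (ψ x.left)) := by
    intro x
    show transl (ψ x.left) * emb (ρ (x.right : H)) = _
    rw [transl_apply, emb_apply, mk_mul, one_mul, one_mulVec', zero_add]
  have hπ : ∀ x : U ⋊[φ2] H2, π x = j x.left * ι (x.right : H) := fun x => rfl
  have hsurj : Function.Surjective Φ := by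
    intro M
    obtain ⟨u, hu⟩ := hψ (Multiplicative.ofAdd (vec M))
    obtain ⟨h, hh, hhM⟩ := hTN (blk (ZMod p) M)
    refine ⟨⟨u, ⟨h, hh⟩⟩, ?_⟩
    rw [hΦ]
    show mk (ρ h) (Multiplicative.toAdd (ψ u)) = M
    rw [hu, hhM, toAdd_ofAdd, mk_blk_vec]
  have hker : π.ker ≤ Φ.ker := by
    intro x hx
    rw [MonoidHom.mem_ker] at hx ⊢
    rw [hπ] at hx
    obtain ⟨c, hc⟩ : ∃ c : U, c = (x.left)⁻¹ := ⟨_, rfl⟩
    have hιc : ι (x.right : H) = j c := by
      rw [hc, map_inv]
      exact (inv_eq_of_mul_eq_one_right hx).symm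
    have hinner : ∀ v : U, φ (x.right : H) v = c * v * c⁻¹ := by
      intro v
      apply hj
      rw [hφ, hιc, map_mul, map_mul, map_inv]
    have hρ1 : ρ (x.right : H) = 1 := by
      apply mulVec_eq_self_imp
      intro w
      obtain ⟨v, hv⟩ := hψ (Multiplicative.ofAdd w)
      have h1 := heq (x.right : H) v
      rw [hinner, map_mul, map_mul, map_inv, mul_comm, inv_mul_cancel_left, hv, toAdd_ofAdd] at h1
      exact (Multiplicative.ofAdd.injective h1).symm
    have hfix : φ t c = c := by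
      have hxN : (x.right : H) ∈ Subgroup.normalizer (T : Set H) := x.right.2
      have hk : (x.right : H) * t * (x.right : H)⁻¹ * t⁻¹ ∈ T :=
        T.mul_mem ((Subgroup.mem_normalizer_iff.mp hxN t).mp htT) (T.inv_mem htT)
      obtain ⟨a, ha⟩ := hT2 ⟨_, hk⟩
      have ha' : ((x.right : H) * t * (x.right : H)⁻¹ * t⁻¹) ^ (2 ^ a) = 1 := by
        have := congrArg Subtype.val ha
        simpa using this
      have hy : ι ((x.right : H) * t * (x.right : H)⁻¹ * t⁻¹) = j (c * φ t c⁻¹) := by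
        rw [map_mul, map_mul, map_mul, map_inv, map_inv, hιc, map_mul, hφ, map_inv]
        group
      obtain ⟨b, hb⟩ := hU (c * φ t c⁻¹)
      have h1 : j (c * φ t c⁻¹) = 1 := by
        apply eq_one_of_two_p hp2 _ a b
        · rw [← hy, ← map_pow, ha', map_one]
        · rw [← map_pow, hb, map_one]
      have h2 : c * φ t c⁻¹ = 1 := by
        apply hj
        rw [h1, map_one]
      have h3 : φ t c⁻¹ = c⁻¹ := eq_inv_of_mul_eq_one_right h2
      rw [map_inv] at h3
      exact inv_injective h3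
    have h2ne : (2 : ZMod p) ≠ 0 := by
      intro h
      have h' : ((2 : ℕ) : ZMod p) = 0 := by exact_mod_cast h
      rw [ZMod.natCast_eq_zero_iff] at h'
      have hpp : p.Prime := Fact.out
      exact hp2 ((Nat.prime_dvd_prime_iff_eq hpp Nat.prime_two).mp h')
    have hψc : Multiplicative.toAdd (ψ c) = 0 := by
      have h1 := heq t c
      rw [hfix, ht] at h1
      have h3 : Multiplicative.toAdd (ψ c) = - Multiplicative.toAdd (ψ c) := by
        conv_lhs => rw [h1]
        rw [toAdd_ofAdd, Matrix.SpecialLinearGroup.coe_neg, Matrix.SpecialLinearGroup.coe_one,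
          Matrix.neg_mulVec, Matrix.one_mulVec]
      ext i
      have h4 := congrFun h3 i
      rw [Pi.neg_apply] at h4
      have h5 : (2 : ZMod p) * Multiplicative.toAdd (ψ c) i = 0 := by
        linear_combination h4
      rcases mul_eq_zero.mp h5 with h6 | h6
      · exact absurd h6 h2ne
      · rw [h6]; rfl
    rw [hΦ, hρ1]
    have : Multiplicative.toAdd (ψ x.left) = 0 := by
      have h2 : x.left = c⁻¹ := by rw [hc, inv_inv]
      rw [h2, map_inv, toAdd_inv, hψc, neg_zero]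
    rw [this, mk_one_zero]
  have e : ↥(Cfsg.qdOver (ZMod p)) ≃* ↥(Cfsg.qd p) := MulEquiv.refl _
  apply Cfsg.Agent.S5299.involves_of_surj π.range
    ((e.toMonoidHom.comp (QuotientGroup.lift π.ker Φ hker)).comp
      (QuotientGroup.quotientKerEquivRange π).symm.toMonoidHom)
  exact (e.surjective.comp (QuotientGroup.lift_surjective_of_surjective π.ker Φ hsurj hker)).comp
    (QuotientGroup.quotientKerEquivRange π).symm.surjective

end Main

end Cfsg.Agent.Lib.Helper1.QdAction
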