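import Mathlib

set_option autoImplicit false

namespace Cfsg.Agent.Lib.Helper1.R1

theorem arith_r1 (p a dfct g₀ f k : ℕ) (hp : p.Prime) (hg : 0 < g₀) (hf : 0 < f) (hk : 0 < k)
    (h1 : g₀ ^ 2 * p ^ dfct = k * f ^ 2) (h2 : p ^ a ∣ k * f)
    (h3 : g₀.factorization p + dfct ≤ a) : p ^ dfct ∣ k := by
  have hg0 : g₀ ≠ 0 := hg.ne'
  have hf0 : f ≠ 0 := hf.ne'
  have hk0 : k ≠ 0 := hk.ne'
  have hp0 : p ≠ 0 := hp.ne_zero
  have e1 : (g₀ ^ 2 * p ^ dfct).factorization p = (k * f ^ 2).factorization p := by rw [h1]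
  rw [Nat.factorization_mul (pow_ne_zero 2 hg0) (pow_ne_zero dfct hp0),
    Nat.factorization_mul hk0 (pow_ne_zero 2 hf0), Nat.factorization_pow, Nat.factorization_pow,
    Nat.factorization_pow] at e1
  simp only [Finsupp.coe_add, Finsupp.coe_smul, Pi.add_apply, Pi.smul_apply, smul_eq_mul,
    hp.factorization_self, mul_one] at e1
  have e2 : a ≤ (k * f).factorization p :=
    (hp.pow_dvd_iff_le_factorization (mul_ne_zero hk0 hf0)).1 h2
  rw [Nat.factorization_mul hk0 hf0] at e2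
  simp only [Finsupp.coe_add, Pi.add_apply] at e2
  apply (hp.pow_dvd_iff_le_factorization hk0).2
  omega

end Cfsg.Agent.Lib.Helper1.R1
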