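import Mathlib
import Cfsg.Agent.Lib.helper7.R1.Defs

set_option autoImplicit false

namespace Cfsg.Agent.Lib.Helper1.R1

open Cfsg.Agent.Lib.helper7 Cfsg.Agent.Lib.helper7.Br Cfsg.Agent.Lib.helper7.R1
open scoped ComplexConjugate

section algstmts

variable {F A : Type*} [Field F] [Ring A] [Algebra F A]

theorem matUnits_finrank_col [FiniteDimensional F A] {n : ℕ} (u : Fin (n + 1) → Fin (n + 1) → A)
    (hu : IsMatUnits u) :
    Module.finrank F A =
      (n + 1) * Module.finrank F ↥(LinearMap.range (LinearMap.mulRight F (u 0 0))) := by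
  classical
  obtain ⟨hmul, hsum⟩ := hu
  obtain ⟨V, hV⟩ : ∃ V : Submodule F A, V = LinearMap.range (LinearMap.mulRight F (u 0 0)) :=
    ⟨_, rfl⟩
  rw [← hV]
  have hmemV : ∀ x : A, x ∈ V ↔ x * u 0 0 = x := by
    intro x
    rw [hV]
    constructor
    · rintro ⟨y, rfl⟩
      simp only [LinearMap.mulRight_apply]
      rw [mul_assoc, hmul 0 0 0 0, if_pos rfl]
    · intro h
      exact ⟨x, by simp only [LinearMap.mulRight_apply]; exact h⟩
  have hcod : ∀ j : Fin (n + 1), ∀ x : A, (LinearMap.mulRight F (u j 0)) x ∈ V := by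
    intro j x
    rw [hmemV]
    simp only [LinearMap.mulRight_apply]
    rw [mul_assoc, hmul j 0 0 0, if_pos rfl]
  obtain ⟨f, hf⟩ : ∃ f : A →ₗ[F] (Fin (n + 1) → ↥V),
      ∀ x j, ((f x j : ↥V) : A) = x * u j 0 :=
    ⟨LinearMap.pi (fun j => (LinearMap.mulRight F (u j 0)).codRestrict V (hcod j)),
      fun x j => rfl⟩
  obtain ⟨g, hg⟩ : ∃ g : (Fin (n + 1) → ↥V) →ₗ[F] A,
      ∀ v, g v = ∑ j, ((v j : ↥V) : A) * u 0 j := by
    refine ⟨∑ j, (LinearMap.mulRight F (u 0 j)).comp (V.subtype.comp (LinearMap.proj j)), ?_⟩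
    intro v
    simp [LinearMap.sum_apply]
  have h1 : g.comp f = LinearMap.id := by
    apply LinearMap.ext
    intro x
    simp only [LinearMap.comp_apply, LinearMap.id_apply]
    rw [hg]
    have : ∀ j, ((f x j : ↥V) : A) * u 0 j = x * u j j := by
      intro j
      rw [hf, mul_assoc, hmul j 0 0 j, if_pos rfl]
    simp only [this]
    rw [← Finset.mul_sum, hsum, mul_one]
  have h2 : f.comp g = LinearMap.id := by
    apply LinearMap.ext
    intro v
    simp only [LinearMap.comp_apply, LinearMap.id_apply]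
    funext k
    apply Subtype.ext
    rw [hf, hg, Finset.sum_mul]
    have : ∀ j, ((v j : ↥V) : A) * u 0 j * u k 0 =
        if j = k then ((v k : ↥V) : A) else 0 := by
      intro j
      rw [mul_assoc, hmul 0 j k 0]
      by_cases hjk : j = k
      · subst hjk
        rw [if_pos rfl, if_pos rfl]
        exact (hmemV _).1 (v j).2
      · rw [if_neg hjk, if_neg hjk, mul_zero]
    simp only [this]
    rw [Finset.sum_ite_eq' Finset.univ k]
    simp
  have e : A ≃ₗ[F] (Fin (n + 1) → ↥V) := LinearEquiv.ofLinearMap f g h2 h1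
  rw [e.finrank_eq, Module.finrank_pi_fintype]
  simp

end algstmts

end Cfsg.Agent.Lib.Helper1.R1
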