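import Mathlib
import Cfsg.Agent.Lib.helper7.REE.Defs

/-!
# Project REE (helper7), rows G1D `bruhat_uniq`, G1E `cent_H_elt`, G1F `NH_basic`,
G1G `normalizer_H`, G1H `H_TI` (verbatim from `helper7/REE/Skel2.lean.txt`), with
self-contained extras `reeg1_*` proved from the fields of `ReeAx` alone.
-/

set_option autoImplicit false
set_option linter.style.haveILetI false
set_option linter.deprecated false

namespace Cfsg.Agent.Lib.helper7.REE

open Matrix Cfsg.Agent.Lib.helper8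

universe u v

/-- `q ≡ 3 (mod 4)` -/
theorem reeg1_q_mod4 (m : ℕ) : qq m % 4 = 3 := by
  unfold qq
  rw [pow_succ, pow_mul, Nat.mul_mod, Nat.pow_mod]
  norm_num

namespace ReeAx

variable {G : Type u} [Group G] [Finite G] {K : Type v} [Field K] [Fintype K] {m : ℕ}

/-- `q ≥ 27` -/
theorem reeg1_q_ge (R : ReeAx G K m) : 27 ≤ qq m := by
  have := R.hm
  unfold qq
  calc 27 = 3 ^ 3 := by norm_num
    _ ≤ 3 ^ (2 * m + 1) := Nat.pow_le_pow_right (by norm_num) (by omega)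

theorem reeg1_inf (R : ReeAx G K m) : R.U ⊓ R.H = ⊥ := by
  apply Subgroup.inf_eq_bot_of_coprime
  rw [R.U_card, R.H_card]
  apply Nat.Coprime.pow_left
  have h : 1 ≤ qq m := le_trans (by norm_num) R.reeg1_q_ge
  have h2 : qq m = (qq m - 1) + 1 := by omega
  rw [h2]
  simp

theorem reeg1_H_comm (R : ReeAx G K m) (h₁ h₂ : G) (hh₁ : h₁ ∈ R.H) (hh₂ : h₂ ∈ R.H) :
    h₁ * h₂ = h₂ * h₁ := by
  haveI := R.H_cyc
  letI : CommGroup R.H := IsCyclic.commGroup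
  have := mul_comm (⟨h₁, hh₁⟩ : R.H) ⟨h₂, hh₂⟩
  exact congrArg Subtype.val this

theorem reeg1_n0_inv (R : ReeAx G K m) : R.n0⁻¹ = R.n0 := inv_eq_of_mul_eq_one_right R.n0_sq

theorem reeg1_t_inv (R : ReeAx G K m) : R.t⁻¹ = R.t := inv_eq_of_mul_eq_one_right R.t_sq

/-- `t` is the only involution of `H` -/
theorem reeg1_H_invol (R : ReeAx G K m) (h : G) (hh : h ∈ R.H) (h2 : h * h = 1) :
    h = 1 ∨ h = R.t := by
  classical
  haveI := R.H_cyc
  haveI : Fintype R.H := Fintype.ofFinite _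
  by_contra hcon
  rw [not_or] at hcon
  have hle := IsCyclic.card_pow_eq_one_le (α := R.H) (n := 2) (by norm_num)
  have hsub : ({1, ⟨R.t, R.t_mem⟩, ⟨h, hh⟩} : Finset R.H) ⊆
      Finset.univ.filter (fun a : R.H => a ^ 2 = 1) := by
    intro x hx
    simp only [Finset.mem_insert, Finset.mem_singleton] at hx
    simp only [Finset.mem_filter, Finset.mem_univ, true_and]
    rcases hx with rfl | rfl | rfl
    · simp
    · apply Subtype.ext
      simp [pow_two, R.t_sq]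
    · apply Subtype.ext
      simp [pow_two, h2]
  have hcard : ({1, ⟨R.t, R.t_mem⟩, ⟨h, hh⟩} : Finset R.H).card = 3 := by
    rw [Finset.card_insert_of_notMem, Finset.card_insert_of_notMem, Finset.card_singleton]
    · simp only [Finset.mem_singleton, Subtype.ext_iff]
      exact fun e => hcon.2 e.symm
    · simp only [Finset.mem_insert, Finset.mem_singleton, Subtype.ext_iff, not_or]
      exact ⟨fun e => R.t_ne e.symm, fun e => hcon.1 e.symm⟩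
  have := Finset.card_le_card hsub
  omega

/-- an element of `H` outside `{1, t}` -/
theorem reeg1_exists (R : ReeAx G K m) : ∃ h ∈ R.H, h ≠ 1 ∧ h ≠ R.t := by
  haveI := R.H_cyc
  obtain ⟨g, hg⟩ := IsCyclic.exists_generator (α := R.H)
  have hord : orderOf g = Nat.card R.H := orderOf_eq_card_of_forall_mem_zpowers hg
  rw [R.H_card] at hord
  have hq := R.reeg1_q_ge
  refine ⟨g.1, g.2, ?_, ?_⟩
  · intro h1
    have : g = 1 := Subtype.ext h1
    rw [this, orderOf_one] at hord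
    omega
  · intro ht
    have h2 : g ^ 2 = 1 := by
      apply Subtype.ext
      simp [pow_two, ht, R.t_sq]
    have h3 := orderOf_dvd_of_pow_eq_one h2
    rw [hord] at h3
    have := Nat.le_of_dvd (by norm_num) h3
    omega

theorem reeg1_H_pow (R : ReeAx G K m) (h : G) (hh : h ∈ R.H) : h ^ (qq m - 1) = 1 := by
  have := pow_card_eq_one' (G := R.H) (x := ⟨h, hh⟩)
  rw [R.H_card] at this
  have h2 := congrArg Subtype.val this
  simpa using h2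

theorem reeg1_odd_sq (R : ReeAx G K m) (h : G) (hh : h ∈ R.H) : Odd (orderOf (h * h)) := by
  have hq4 := reeg1_q_mod4 m
  have h2 : (h * h) ^ ((qq m - 1) / 2) = 1 := by
    rw [← pow_two, ← pow_mul]
    have : 2 * ((qq m - 1) / 2) = qq m - 1 := by omega
    rw [this, R.reeg1_H_pow h hh]
  have hdvd := orderOf_dvd_of_pow_eq_one h2
  have hoddq : Odd ((qq m - 1) / 2) := by
    rw [Nat.odd_iff]
    omega
  exact Odd.of_dvd_nat hoddq hdvd

/-- own copy of G1C `cent_U_H` -/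
theorem reeg1_cent_U_H (R : ReeAx G K m) (h : G) (hh : h ∈ R.H) (h1 : h ≠ 1) (ht : h ≠ R.t)
    (u : G) (hu : u ∈ R.U) (hc : h * u = u * h) : u = 1 := by
  have hhh : h * h ∈ R.H := R.H.mul_mem hh hh
  have hne : h * h ≠ 1 := fun e => (R.reeg1_H_invol h hh e).elim h1 ht
  have hbot := R.odd_free (h * h) hhh hne (R.reeg1_odd_sq h hh)
  have hmem : u ∈ R.U ⊓ Subgroup.centralizer {h * h} := by
    refine Subgroup.mem_inf.2 ⟨hu, ?_⟩
    rw [Subgroup.mem_centralizer_iff]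
    intro x hx
    rw [Set.mem_singleton_iff] at hx
    subst hx
    rw [mul_assoc, hc, ← mul_assoc, hc, mul_assoc]
  rw [hbot] at hmem
  exact Subgroup.mem_bot.1 hmem

theorem reeg1_UH_uniq (R : ReeAx G K m) (u h u' h' : G) (hu : u ∈ R.U) (hh : h ∈ R.H)
    (hu' : u' ∈ R.U) (hh' : h' ∈ R.H) (he : u * h = u' * h') : u = u' ∧ h = h' := by
  have hx : u'⁻¹ * u ∈ R.U ⊓ R.H := by
    refine ⟨R.U.mul_mem (R.U.inv_mem hu') hu, ?_⟩
    have e1 : u'⁻¹ * u = h' * h⁻¹ := by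
      calc u'⁻¹ * u = u'⁻¹ * (u * h) * h⁻¹ := by group
        _ = u'⁻¹ * (u' * h') * h⁻¹ := by rw [he]
        _ = h' * h⁻¹ := by group
    rw [e1]
    exact R.H.mul_mem hh' (R.H.inv_mem hh)
  rw [R.reeg1_inf, Subgroup.mem_bot] at hx
  have hu_eq : u = u' := by
    calc u = u' * (u'⁻¹ * u) := by group
      _ = u' := by rw [hx, mul_one]
  refine ⟨hu_eq, ?_⟩
  rw [hu_eq] at he
  exact mul_left_cancel he

theorem reeg1_H_le_B (R : ReeAx G K m) : R.H ≤ R.B := by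
  intro h hh
  exact (R.B_iff h).2 ⟨1, R.U.one_mem, h, hh, (one_mul h).symm⟩

theorem reeg1_n0_notin_H (R : ReeAx G K m) : R.n0 ∉ R.H := fun h => R.n0_notin (R.reeg1_H_le_B h)

/-- `n0⁻¹ h n0 = h⁻¹` -/
theorem reeg1_n0_conj (R : ReeAx G K m) (h : G) (hh : h ∈ R.H) : R.n0⁻¹ * h * R.n0 = h⁻¹ := by
  have := R.n0_inv h hh
  rw [R.reeg1_n0_inv] at this ⊢
  exact this

/-- G1D. Uniqueness in the Bruhat decomposition of the big cell (from `uniq`, `n0_inv`). -/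
theorem bruhat_uniq (R : ReeAx G K m) (u₁ h₁ u₂ u₁' h₁' u₂' : G)
    (hu₁ : u₁ ∈ R.U) (hh₁ : h₁ ∈ R.H) (hu₂ : u₂ ∈ R.U)
    (hu₁' : u₁' ∈ R.U) (hh₁' : h₁' ∈ R.H) (hu₂' : u₂' ∈ R.U)
    (he : u₁ * (h₁ * R.n0) * u₂ = u₁' * (h₁' * R.n0) * u₂') :
    u₁ = u₁' ∧ h₁ = h₁' ∧ u₂ = u₂' := by
  have hx' : h₁'⁻¹ * (u₁'⁻¹ * u₁) * h₁' ∈ R.U := by
    have := R.H_norm h₁'⁻¹ (R.H.inv_mem hh₁') (u₁'⁻¹ * u₁) (R.U.mul_mem (R.U.inv_mem hu₁') hu₁)
    rwa [inv_inv] at this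
  have hy : u₂' * u₂⁻¹ ∈ R.U := R.U.mul_mem hu₂' (R.U.inv_mem hu₂)
  have hh'' : h₁⁻¹ * h₁' ∈ R.H := R.H.mul_mem (R.H.inv_mem hh₁) hh₁'
  have e0 : u₁'⁻¹ * u₁ = h₁' * R.n0 * (u₂' * u₂⁻¹) * R.n0⁻¹ * h₁⁻¹ := by
    calc u₁'⁻¹ * u₁ = u₁'⁻¹ * (u₁ * (h₁ * R.n0) * u₂) * u₂⁻¹ * R.n0⁻¹ * h₁⁻¹ := by group
      _ = u₁'⁻¹ * (u₁' * (h₁' * R.n0) * u₂') * u₂⁻¹ * R.n0⁻¹ * h₁⁻¹ := by rw [he]
      _ = h₁' * R.n0 * (u₂' * u₂⁻¹) * R.n0⁻¹ * h₁⁻¹ := by group
  have e1 : R.n0⁻¹ * (h₁'⁻¹ * (u₁'⁻¹ * u₁) * h₁') * R.n0 = (u₂' * u₂⁻¹) * (h₁'⁻¹ * h₁) := by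
    rw [e0]
    calc R.n0⁻¹ * (h₁'⁻¹ * (h₁' * R.n0 * (u₂' * u₂⁻¹) * R.n0⁻¹ * h₁⁻¹) * h₁') * R.n0
        = (u₂' * u₂⁻¹) * (R.n0⁻¹ * (h₁⁻¹ * h₁') * R.n0) := by group
      _ = (u₂' * u₂⁻¹) * (h₁⁻¹ * h₁')⁻¹ := by rw [R.reeg1_n0_conj _ hh'']
      _ = (u₂' * u₂⁻¹) * (h₁'⁻¹ * h₁) := by group
  have hB : R.n0⁻¹ * (h₁'⁻¹ * (u₁'⁻¹ * u₁) * h₁') * R.n0 ∈ R.B := by
    rw [e1]
    exact (R.B_iff _).2 ⟨_, hy, _, R.H.mul_mem (R.H.inv_mem hh₁') hh₁, rfl⟩
  have hx1 := R.uniq _ hx' hB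
  have hu : u₁ = u₁' := by
    have h2 : u₁'⁻¹ * u₁ = 1 := by
      calc u₁'⁻¹ * u₁ = h₁' * (h₁'⁻¹ * (u₁'⁻¹ * u₁) * h₁') * h₁'⁻¹ := by group
        _ = 1 := by rw [hx1]; group
    calc u₁ = u₁' * (u₁'⁻¹ * u₁) := by group
      _ = u₁' := by rw [h2, mul_one]
  rw [hx1] at e1
  have e2 : (u₂' * u₂⁻¹) * (h₁'⁻¹ * h₁) = 1 * 1 := by
    rw [← e1]; group
  obtain ⟨hy1, hh1⟩ := R.reeg1_UH_uniq _ _ _ _ hy (R.H.mul_mem (R.H.inv_mem hh₁') hh₁)
    R.U.one_mem R.H.one_mem e2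
  refine ⟨hu, ?_, ?_⟩
  · calc h₁ = h₁' * (h₁'⁻¹ * h₁) := by group
      _ = h₁' := by rw [hh1, mul_one]
  · calc u₂ = (u₂' * u₂⁻¹)⁻¹ * u₂' := by group
      _ = u₂' := by rw [hy1]; group

/-- the elements of `NH` -/
theorem reeg1_mem_NH (R : ReeAx G K m) (g : G) :
    g ∈ R.NH ↔ g ∈ R.H ∨ ∃ h ∈ R.H, g = h * R.n0 := by
  constructor
  · intro hg
    let S : Subgroup G :=
      { carrier := {g | g ∈ R.H ∨ ∃ h ∈ R.H, g = h * R.n0}
        one_mem' := Or.inl R.H.one_mem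
        mul_mem' := by
          rintro a b (ha | ⟨h₁, hh₁, rfl⟩) (hb | ⟨h₂, hh₂, rfl⟩)
          · exact Or.inl (R.H.mul_mem ha hb)
          · exact Or.inr ⟨a * h₂, R.H.mul_mem ha hh₂, (mul_assoc _ _ _).symm⟩
          · refine Or.inr ⟨h₁ * b⁻¹, R.H.mul_mem hh₁ (R.H.inv_mem hb), ?_⟩
            have := R.n0_inv b hb
            calc h₁ * R.n0 * b = h₁ * (R.n0 * b * R.n0⁻¹) * R.n0 := by group
              _ = h₁ * b⁻¹ * R.n0 := by rw [this]
          · refine Or.inl ?_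
            have := R.n0_inv h₂ hh₂
            have e : h₁ * R.n0 * (h₂ * R.n0) = h₁ * h₂⁻¹ := by
              calc h₁ * R.n0 * (h₂ * R.n0) = h₁ * (R.n0 * h₂ * R.n0⁻¹) * (R.n0 * R.n0) := by group
                _ = h₁ * h₂⁻¹ := by rw [this, R.n0_sq, mul_one]
            rw [e]
            exact R.H.mul_mem hh₁ (R.H.inv_mem hh₂)
        inv_mem' := by
          rintro a (ha | ⟨h₁, hh₁, rfl⟩)
          · exact Or.inl (R.H.inv_mem ha)
          · refine Or.inr ⟨h₁, hh₁, ?_⟩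
            have := R.n0_inv h₁⁻¹ (R.H.inv_mem hh₁)
            rw [inv_inv] at this
            calc (h₁ * R.n0)⁻¹ = R.n0⁻¹ * h₁⁻¹ := by group
              _ = R.n0 * h₁⁻¹ := by rw [R.reeg1_n0_inv]
              _ = (R.n0 * h₁⁻¹ * R.n0⁻¹) * R.n0 := by group
              _ = h₁ * R.n0 := by rw [this] }
    have hle : R.NH ≤ S := by
      apply sup_le
      · intro h hh
        exact Or.inl hh
      · rw [Subgroup.zpowers_le]
        exact Or.inr ⟨1, R.H.one_mem, (one_mul _).symm⟩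
    exact hle hg
  · rintro (hg | ⟨h, hh, rfl⟩)
    · exact (le_sup_left : R.H ≤ R.NH) hg
    · exact R.NH.mul_mem ((le_sup_left : R.H ≤ R.NH) hh)
        ((le_sup_right : Subgroup.zpowers R.n0 ≤ R.NH) (Subgroup.mem_zpowers _))

/-- conjugation by `h' n0` inverts `H` -/
theorem reeg1_conj_inv (R : ReeAx G K m) (h' h : G) (hh' : h' ∈ R.H) (hh : h ∈ R.H) :
    (h' * R.n0) * h * (h' * R.n0)⁻¹ = h⁻¹ := by
  have := R.n0_inv h hh
  calc (h' * R.n0) * h * (h' * R.n0)⁻¹ = h' * (R.n0 * h * R.n0⁻¹) * h'⁻¹ := by group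
    _ = h' * h⁻¹ * h'⁻¹ := by rw [this]
    _ = h⁻¹ := by
      rw [R.reeg1_H_comm h' h⁻¹ hh' (R.H.inv_mem hh)]
      group

/-- G1F. `N = H ∪ H n0`. -/
theorem NH_basic (R : ReeAx G K m) :
    (∀ g, g ∈ R.NH ↔ g ∈ R.H ∨ ∃ h ∈ R.H, g = h * R.n0) ∧
    Nat.card R.NH = 2 * (qq m - 1) ∧ R.n0 ∉ R.H ∧
    (∀ g ∈ R.NH, ∀ h ∈ R.H, g * h * g⁻¹ = h ∨ g * h * g⁻¹ = h⁻¹) := by
  refine ⟨R.reeg1_mem_NH, ?_, R.reeg1_n0_notin_H, ?_⟩
  · have hset : (R.NH : Set G) = (R.H : Set G) ∪ (fun h => h * R.n0) '' (R.H : Set G) := by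
      ext g
      rw [SetLike.mem_coe, R.reeg1_mem_NH, Set.mem_union, Set.mem_image]
      constructor
      · rintro (h | ⟨h, hh, rfl⟩)
        · exact Or.inl h
        · exact Or.inr ⟨h, hh, rfl⟩
      · rintro (h | ⟨h, hh, rfl⟩)
        · exact Or.inl h
        · exact Or.inr ⟨h, hh, rfl⟩
    have hdisj : Disjoint (R.H : Set G) ((fun h => h * R.n0) '' (R.H : Set G)) := by
      rw [Set.disjoint_left]
      rintro x hx ⟨h, hh, rfl⟩
      apply R.reeg1_n0_notin_H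
      have : R.n0 = h⁻¹ * (h * R.n0) := by group
      rw [this]
      exact R.H.mul_mem (R.H.inv_mem hh) hx
    have hinj : Function.Injective (fun h : G => h * R.n0) := mul_left_injective R.n0
    have hcH : (R.H : Set G).ncard = qq m - 1 := by
      rw [← R.H_card]
      exact (Nat.card_coe_set_eq (R.H : Set G)).symm
    have : Nat.card R.NH = (R.NH : Set G).ncard := Nat.card_coe_set_eq (R.NH : Set G)
    rw [this, hset, Set.ncard_union_eq hdisj (Set.toFinite _) (Set.toFinite _),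
      Set.ncard_image_of_injective _ hinj, hcH]
    ring
  · intro g hg h hh
    rcases (R.reeg1_mem_NH g).1 hg with hg | ⟨h', hh', rfl⟩
    · left
      rw [R.reeg1_H_comm g h hg hh]
      group
    · right
      exact R.reeg1_conj_inv h' h hh' hh

/-- G1H. `H ∖ {1, t}` is a TI-set with normaliser `N`. -/
theorem H_TI (R : ReeAx G K m) (g h : G) (hh : h ∈ R.H) (h1 : h ≠ 1) (ht : h ≠ R.t)
    (hg : g * h * g⁻¹ ∈ R.H) : g ∈ R.NH := by
  set h₂ := g * h * g⁻¹ with hh₂def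
  have hgh : g * h = h₂ * g := by rw [hh₂def]; group
  rcases R.bruhat g with hB | ⟨u₁, hu₁, h', hh', u, hu, rfl⟩
  · obtain ⟨u, hu, h', hh', rfl⟩ := (R.B_iff g).1 hB
    -- `u h = (h₂ u h₂⁻¹) h₂`
    have e1 : u * h = (h₂ * u * h₂⁻¹) * h₂ := by
      have e2 : u * h' * h = u * h * h' := by
        rw [mul_assoc, R.reeg1_H_comm h' h hh' hh, ← mul_assoc]
      calc u * h = (u * h' * h) * h'⁻¹ := by rw [e2]; group
        _ = (h₂ * (u * h')) * h'⁻¹ := by rw [hgh]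
        _ = (h₂ * u * h₂⁻¹) * h₂ := by group
    obtain ⟨e3, e4⟩ := R.reeg1_UH_uniq _ _ _ _ hu hh (R.H_norm h₂ hg u hu) hg e1
    have hc : h * u = u * h := by
      rw [← e4] at e3
      calc h * u = (h * u * h⁻¹) * h := by group
        _ = u * h := by rw [← e3]
    have hu1 := R.reeg1_cent_U_H h hh h1 ht u hu hc
    rw [hu1, one_mul]
    exact (le_sup_left : R.H ≤ R.NH) hh'
  · -- the big cell
    have hL : u₁ * (h' * R.n0) * u * h = u₁ * ((h' * h⁻¹) * R.n0) * (h⁻¹ * u * h) := by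
      have e : R.n0 * h * R.n0⁻¹ = h⁻¹ := R.n0_inv h hh
      calc u₁ * (h' * R.n0) * u * h
          = u₁ * (h' * h⁻¹ * (h * R.n0 * h) * R.n0⁻¹ * R.n0) * (h⁻¹ * u * h) := by group
        _ = u₁ * ((h' * h⁻¹) * R.n0) * (h⁻¹ * u * h) := by
          have e5 : h * R.n0 * h = R.n0 := by
            calc h * R.n0 * h = h * (R.n0 * h * R.n0⁻¹) * R.n0 := by group
              _ = R.n0 := by rw [e]; group
          rw [e5]; group
    have hR : h₂ * (u₁ * (h' * R.n0) * u) = (h₂ * u₁ * h₂⁻¹) * ((h₂ * h') * R.n0) * u := by group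
    have he : u₁ * ((h' * h⁻¹) * R.n0) * (h⁻¹ * u * h) =
        (h₂ * u₁ * h₂⁻¹) * ((h₂ * h') * R.n0) * u := by
      rw [← hL, ← hR]; exact hgh
    have hu' : h⁻¹ * u * h ∈ R.U := by
      have := R.H_norm h⁻¹ (R.H.inv_mem hh) u hu
      rwa [inv_inv] at this
    obtain ⟨e1, e2, e3⟩ := R.bruhat_uniq _ _ _ _ _ _ hu₁ (R.H.mul_mem hh' (R.H.inv_mem hh)) hu'
      (R.H_norm h₂ hg u₁ hu₁) (R.H.mul_mem hg hh') hu he
    -- `u = 1`
    have hc : h * u = u * h := by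
      calc h * u = h * (h⁻¹ * u * h) := by rw [e3]
        _ = u * h := by group
    have hu1 := R.reeg1_cent_U_H h hh h1 ht u hu hc
    -- `h₂ = h⁻¹`
    have hh₂ : h₂ = h⁻¹ := by
      have e4 : h' * h⁻¹ = h' * h₂ := by rw [e2, R.reeg1_H_comm h₂ h' hg hh']
      exact (mul_left_cancel e4).symm
    have h21 : h₂ ≠ 1 := by
      intro e
      apply h1
      rw [hh₂] at e
      exact inv_eq_one.1 e
    have h2t : h₂ ≠ R.t := by
      intro e
      apply ht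
      rw [hh₂] at e
      have : h = R.t⁻¹ := by rw [← e, inv_inv]
      rw [this, R.reeg1_t_inv]
    have hc₂ : h₂ * u₁ = u₁ * h₂ := by
      calc h₂ * u₁ = (h₂ * u₁ * h₂⁻¹) * h₂ := by group
        _ = u₁ * h₂ := by rw [← e1]
    have hu₁1 := R.reeg1_cent_U_H h₂ hg h21 h2t u₁ hu₁ hc₂
    rw [hu1, hu₁1, one_mul, mul_one]
    exact (R.reeg1_mem_NH _).2 (Or.inr ⟨h', hh', rfl⟩)

/-- G1G. `N_G(H) ≤ N` (Bruhat + uniqueness + `cent_U_H`; `q - 1 > 2`). -/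
theorem normalizer_H (R : ReeAx G K m) (g : G) (hg : ∀ h ∈ R.H, g * h * g⁻¹ ∈ R.H) :
    g ∈ R.NH := by
  obtain ⟨h, hh, h1, ht⟩ := R.reeg1_exists
  exact R.H_TI g h hh h1 ht (hg h hh)

/-- G1E. `C_G(h) = H` for `h ∈ H ∖ {1, t}`. -/
theorem cent_H_elt (R : ReeAx G K m) (h : G) (hh : h ∈ R.H) (h1 : h ≠ 1) (ht : h ≠ R.t) :
    Subgroup.centralizer {h} = R.H := by
  apply le_antisymm
  · intro g hg
    rw [Subgroup.mem_centralizer_iff] at hg
    have hc : h * g = g * h := hg h (Set.mem_singleton h)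
    have hconj : g * h * g⁻¹ = h := by
      rw [← hc]; group
    have hN : g ∈ R.NH := R.H_TI g h hh h1 ht (by rw [hconj]; exact hh)
    rcases (R.reeg1_mem_NH g).1 hN with hgH | ⟨h', hh', rfl⟩
    · exact hgH
    · exfalso
      have := R.reeg1_conj_inv h' h hh' hh
      rw [hconj] at this
      have h2 : h * h = 1 := by
        calc h * h = h * h⁻¹ := by rw [← this]
          _ = 1 := mul_inv_cancel h
      exact (R.reeg1_H_invol h hh h2).elim h1 ht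
  · intro g hg
    rw [Subgroup.mem_centralizer_iff]
    intro x hx
    rw [Set.mem_singleton_iff] at hx
    subst hx
    exact R.reeg1_H_comm x g hh hg

end ReeAx

end Cfsg.Agent.Lib.helper7.REE
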