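import Mathlib
import Cfsg.Agent.Lib.helper7.REE.Defs
import Cfsg.Agent.Lib.Helper29.REEARA
import Cfsg.Agent.Lib.Helper29.REEARB

/-!
# Project REE (helper7): cores of the rows G6C `classify_order`, G6D `conj_H_E`, G6E `pi_cent`,
G7A `tor_pi`, on the statements of the rows they cite (`classify`, `B_orders`, `E_basic`).
-/

set_option autoImplicit false
set_option linter.style.haveILetI false

namespace Cfsg.Agent.Lib.helper7.REE

open Matrix Cfsg.Agent.Lib.helper8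

universe u v

theorem reeg6_coprime_of_forall (a b : ℕ) (h : ∀ d, d ∣ a → d ∣ b → d = 1) : Nat.Coprime a b :=
  h _ (Nat.gcd_dvd_left _ _) (Nat.gcd_dvd_right _ _)

theorem reeg6_orderOf_conj {G : Type u} [Group G] (x g : G) : orderOf (x * g * x⁻¹) = orderOf g := by
  have := MulEquiv.orderOf_eq (MulAut.conj x) g
  simpa [MulAut.conj_apply] using this

/-- `(q + 1) / 2 = 2 * ((q + 1) / 4)` -/
theorem reeg6_half (m : ℕ) : (qq m + 1) / 2 = 2 * ((qq m + 1) / 4) := by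
  have h := (ar_basic m).1
  omega

theorem reeg6_half_dvd (m : ℕ) : (qq m + 1) / 2 ∣ qq m + 1 := by
  have h := (ar_basic m).1
  exact ⟨2, by omega⟩

/-- a common divisor of `(q + 1) / 2` and `9`, `6` or `q - 1` divides `2` -/
theorem reeg6_gcd_two (m : ℕ) (d : ℕ) (hd : d ∣ (qq m + 1) / 2)
    (h : d ∣ 9 ∨ d ∣ 6 ∨ d ∣ qq m - 1) : d ∣ 2 := by
  obtain ⟨-, -, -, -, -, h6, -, h1, -, -, -, hg, -, -⟩ := ar_coprime m
  rw [reeg6_half] at hd
  rcases h with h | h | h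
  · -- `d` is coprime to `9`
    have hc : Nat.Coprime (2 * ((qq m + 1) / 4)) 9 := by
      apply Nat.Coprime.mul_left (by norm_num)
      have : Nat.Coprime ((qq m + 1) / 4) 3 := Nat.Coprime.coprime_dvd_right (by norm_num) h6
      have h9 : (9 : ℕ) = 3 ^ 2 := by norm_num
      rw [h9]
      exact Nat.Coprime.pow_right 2 this
    have := Nat.eq_one_of_dvd_coprimes hc hd h
    rw [this]
    exact one_dvd _
  · -- `gcd (2 a) 6 = 2` for `a` coprime to `6`
    have h3 : Nat.Coprime ((qq m + 1) / 4) 3 := Nat.Coprime.coprime_dvd_right (by norm_num) h6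
    have h6' : (6 : ℕ) = 2 * 3 := by norm_num
    have hdd : d ∣ Nat.gcd (2 * ((qq m + 1) / 4)) (2 * 3) := Nat.dvd_gcd hd (h6' ▸ h)
    rw [Nat.gcd_mul_left, Nat.Coprime.gcd_eq_one h3, mul_one] at hdd
    exact hdd
  · have hdd : d ∣ Nat.gcd (qq m - 1) ((qq m + 1) / 2) := by
      rw [reeg6_half]
      exact Nat.dvd_gcd h hd
    rwa [hg] at hdd

/-- a common divisor of `N₀` and one of `9`, `6`, `q - 1`, `(q + 1) / 2` is `1` -/
theorem reeg6_nn_one (m : ℕ) (d : ℕ) (hd : d ∣ nn m)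
    (h : d ∣ 9 ∨ d ∣ 6 ∨ d ∣ qq m - 1 ∨ d ∣ (qq m + 1) / 2) : d = 1 := by
  obtain ⟨h6, -, h1, hp1, -⟩ := ar_coprime m
  rcases h with h | h | h | h
  · have h3 : Nat.Coprime (nn m) 3 := Nat.Coprime.coprime_dvd_right (by norm_num) h6
    have h9 : (9 : ℕ) = 3 ^ 2 := by norm_num
    rw [h9] at h
    exact Nat.eq_one_of_dvd_coprimes (Nat.Coprime.pow_right 2 h3) hd h
  · exact Nat.eq_one_of_dvd_coprimes h6 hd h
  · exact Nat.eq_one_of_dvd_coprimes h1 hd h
  · exact Nat.eq_one_of_dvd_coprimes hp1 hd (dvd_trans h (reeg6_half_dvd m))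

namespace ReeAx

variable {G : Type u} [Group G] [Finite G] {K : Type v} [Field K] [Fintype K] {m : ℕ}

/-- core of G6C -/
theorem reeg6c_core (R : ReeAx G K m)
    (hclass : ∀ g : G, (∃ x : G, x * g * x⁻¹ ∈ R.B) ∨ (∃ x : G, x * g * x⁻¹ ∈ R.E) ∨ g ^ nn m = 1)
    (hB : ∀ b ∈ R.B, orderOf b ∣ 9 ∨ orderOf b ∣ qq m - 1 ∨ orderOf b ∣ 6)
    (hE : ∀ e ∈ R.E, e ^ ((qq m + 1) / 2) = 1) (g : G) :
    orderOf g ∣ 9 ∨ orderOf g ∣ 6 ∨ orderOf g ∣ qq m - 1 ∨ orderOf g ∣ (qq m + 1) / 2 ∨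
      orderOf g ∣ nn m := by
  rcases hclass g with ⟨x, hx⟩ | ⟨x, hx⟩ | h
  · have := hB _ hx
    rw [reeg6_orderOf_conj] at this
    tauto
  · have := orderOf_dvd_of_pow_eq_one (hE _ hx)
    rw [reeg6_orderOf_conj] at this
    tauto
  · have := orderOf_dvd_of_pow_eq_one h
    tauto

/-- core of G6D -/
theorem reeg6d_core (R : ReeAx G K m)
    (hclass : ∀ g : G, (∃ x : G, x * g * x⁻¹ ∈ R.B) ∨ (∃ x : G, x * g * x⁻¹ ∈ R.E) ∨ g ^ nn m = 1)
    (hB : ∀ b ∈ R.B, (orderOf b ∣ 9 ∨ orderOf b ∣ qq m - 1 ∨ orderOf b ∣ 6) ∧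
      (2 < orderOf b → orderOf b ∣ qq m - 1 → ∃ v ∈ R.U, ∃ h ∈ R.H, b = v * h * v⁻¹))
    (hE : ∀ e ∈ R.E, e ^ ((qq m + 1) / 2) = 1) (g : G) :
    (2 < orderOf g → orderOf g ∣ qq m - 1 → ∃ x : G, x * g * x⁻¹ ∈ R.H) ∧
    (¬ orderOf g ∣ 2 → orderOf g ∣ (qq m + 1) / 2 → ∃ x : G, x * g * x⁻¹ ∈ R.E) := by
  constructor
  · intro h2 hd
    rcases hclass g with ⟨x, hx⟩ | ⟨x, hx⟩ | h
    · obtain ⟨-, hb2⟩ := hB _ hx
      rw [reeg6_orderOf_conj] at hb2
      obtain ⟨v, hv, h, hh, e⟩ := hb2 h2 hd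
      refine ⟨v⁻¹ * x, ?_⟩
      have : v⁻¹ * x * g * (v⁻¹ * x)⁻¹ = v⁻¹ * (x * g * x⁻¹) * v := by group
      rw [this, e]
      have : v⁻¹ * (v * h * v⁻¹) * v = h := by group
      rw [this]
      exact hh
    · exfalso
      have := orderOf_dvd_of_pow_eq_one (hE _ hx)
      rw [reeg6_orderOf_conj] at this
      have h3 := reeg6_gcd_two m _ this (Or.inr (Or.inr hd))
      have := Nat.le_of_dvd (by norm_num) h3
      omega
    · exfalso
      have := orderOf_dvd_of_pow_eq_one h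
      have h3 := reeg6_nn_one m _ this (Or.inr (Or.inr (Or.inl hd)))
      omega
  · intro h2 hd
    rcases hclass g with ⟨x, hx⟩ | ⟨x, hx⟩ | h
    · exfalso
      obtain ⟨hb1, -⟩ := hB _ hx
      rw [reeg6_orderOf_conj] at hb1
      apply h2
      apply reeg6_gcd_two m _ hd
      tauto
    · exact ⟨x, hx⟩
    · exfalso
      have := orderOf_dvd_of_pow_eq_one h
      have h3 := reeg6_nn_one m _ this (Or.inr (Or.inr (Or.inr hd)))
      apply h2
      rw [h3]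
      exact one_dvd _

/-- core of G6E -/
theorem reeg6e_core (R : ReeAx G K m)
    (hco : ∀ g : G, orderOf g ∣ 9 ∨ orderOf g ∣ 6 ∨ orderOf g ∣ qq m - 1 ∨
      orderOf g ∣ (qq m + 1) / 2 ∨ orderOf g ∣ nn m)
    (x : G) (hx : R.IsPi x) (c : G) (hc : c * x = x * c) : c ^ nn m = 1 := by
  obtain ⟨hx1, hxN⟩ := hx
  have hxd : orderOf x ∣ nn m := orderOf_dvd_of_pow_eq_one hxN
  have hx1' : orderOf x ≠ 1 := fun h => hx1 (orderOf_eq_one_iff.1 h)
  rw [← orderOf_dvd_iff_pow_eq_one]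
  have hc4 : orderOf c ∣ 9 ∨ orderOf c ∣ 6 ∨ orderOf c ∣ qq m - 1 ∨ orderOf c ∣ (qq m + 1) / 2 ∨
      orderOf c ∣ nn m := hco c
  by_contra hcN
  have hc4' : orderOf c ∣ 9 ∨ orderOf c ∣ 6 ∨ orderOf c ∣ qq m - 1 ∨ orderOf c ∣ (qq m + 1) / 2 := by
    tauto
  -- `|c|` and `|x|` are coprime
  have hcop : Nat.Coprime (orderOf c) (orderOf x) := by
    apply Nat.Coprime.symm
    apply reeg6_coprime_of_forall
    intro d hd1 hd2
    exact reeg6_nn_one m d (dvd_trans hd1 hxd) (by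
      rcases hc4' with h | h | h | h
      · exact Or.inl (dvd_trans hd2 h)
      · exact Or.inr (Or.inl (dvd_trans hd2 h))
      · exact Or.inr (Or.inr (Or.inl (dvd_trans hd2 h)))
      · exact Or.inr (Or.inr (Or.inr (dvd_trans hd2 h))))
  have hcomm : Commute c x := hc
  have hord := hcomm.orderOf_mul_eq_mul_orderOf_of_coprime hcop
  rcases hco (c * x) with h | h | h | h | h
  · rw [hord] at h
    exact hx1' (reeg6_nn_one m _ hxd (Or.inl (dvd_trans (dvd_mul_left _ _) h)))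
  · rw [hord] at h
    exact hx1' (reeg6_nn_one m _ hxd (Or.inr (Or.inl (dvd_trans (dvd_mul_left _ _) h))))
  · rw [hord] at h
    exact hx1' (reeg6_nn_one m _ hxd (Or.inr (Or.inr (Or.inl (dvd_trans (dvd_mul_left _ _) h)))))
  · rw [hord] at h
    exact hx1' (reeg6_nn_one m _ hxd (Or.inr (Or.inr (Or.inr (dvd_trans (dvd_mul_left _ _) h)))))
  · rw [hord] at h
    exact hcN (dvd_trans (dvd_mul_right _ _) h)

/-- core of G7A -/
theorem reeg7a_core (R : ReeAx G K m)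
    (hpc : ∀ x : G, R.IsPi x → ∀ c : G, c * x = x * c → c ^ nn m = 1)
    (A : Subgroup G) (hA : R.IsTor A) :
    (∀ c ∈ A, c ^ nn m = 1) ∧ Nat.card A ∣ nn m ∧ 2 ≤ Nat.card A ∧
    (Nat.card A).Coprime (qq m - 1) := by
  obtain ⟨x, hx, rfl⟩ := hA
  have hall : ∀ c ∈ Subgroup.centralizer {x}, c ^ nn m = 1 := by
    intro c hc
    rw [Subgroup.mem_centralizer_iff] at hc
    exact hpc x hx c (hc x (Set.mem_singleton x)).symm
  have hxA : x ∈ Subgroup.centralizer {x} := by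
    rw [Subgroup.mem_centralizer_iff]
    intro y hy
    rw [Set.mem_singleton_iff] at hy
    rw [hy]
  -- `|A|` divides `N₀`
  have hdvd : Nat.card (Subgroup.centralizer {x}) ∣ nn m := by
    have hG : Nat.card (Subgroup.centralizer {x}) ∣ gg m := by
      rw [← R.card]
      exact Subgroup.card_subgroup_dvd_card _
    have hgg : gg m = qq m ^ 3 * (qq m - 1) * (qq m + 1) * nn m := (ar_basic m).2.2.2.2.2.2.2.1
    rw [hgg] at hG
    apply Nat.Coprime.dvd_of_dvd_mul_left _ hG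
    -- coprimality: via Cauchy
    apply reeg6_coprime_of_forall
    intro d hd1 hd2
    by_contra hd
    obtain ⟨p, hp, hpd⟩ := Nat.exists_prime_and_dvd hd
    haveI : Fact p.Prime := ⟨hp⟩
    obtain ⟨c, hc⟩ := exists_prime_orderOf_dvd_card' p (dvd_trans hpd hd1)
    have hcN : (c : G) ^ nn m = 1 := hall c c.2
    have hpN : p ∣ nn m := by
      have := orderOf_dvd_of_pow_eq_one hcN
      rwa [Subgroup.orderOf_coe, hc] at this
    obtain ⟨-, hq, h1, hp1, -⟩ := ar_coprime m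
    have hM : Nat.Coprime (nn m) (qq m ^ 3 * (qq m - 1) * (qq m + 1)) :=
      Nat.Coprime.mul_right (Nat.Coprime.mul_right (Nat.Coprime.pow_right 3 hq) h1) hp1
    have := Nat.eq_one_of_dvd_coprimes hM hpN (dvd_trans hpd hd2)
    exact hp.one_lt.ne' this
  refine ⟨hall, hdvd, ?_, ?_⟩
  · -- `x ≠ 1` in `A`
    have : 1 < Nat.card (Subgroup.centralizer {x}) := by
      rw [Finite.one_lt_card_iff_nontrivial]
      exact ⟨⟨⟨x, hxA⟩, 1, fun h => hx.1 (congrArg Subtype.val h)⟩⟩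
    omega
  · exact Nat.Coprime.coprime_dvd_left hdvd (ar_coprime m).2.2.1

end ReeAx

end Cfsg.Agent.Lib.helper7.REE
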