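import Mathlib
import Cfsg.Agent.Lib.helper7.REE.Defs
import Cfsg.Agent.Lib.Helper1.REEG6core
import Cfsg.Agent.Lib.Helper1.REEG1
import Cfsg.Agent.Lib.Helper9.REEG6Bcore
import Cfsg.Agent.Lib.Helper29.REEG3A
import Cfsg.Agent.Lib.Helper29.REEG4D
import Cfsg.Agent.Lib.Helper29.REEG6A
import Cfsg.Agent.Lib.Helper29.REEG5F
import Cfsg.Agent.Lib.Helper16.REEG2D
import Cfsg.Agent.Lib.Helper13.REEG4J

/-!
# Project REE (helper7), rows G6C `classify_order`, G6D `conj_H_E`, G6E `pi_cent`, G7A `tor_pi`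
(verbatim from `helper7/REE/Skel2.lean.txt`): wrappers of the cores in `Helper1/REEG6core.lean`.
`reeg6_classify` is an own-name copy of the statement of G6B `classify` (from helper9's core), so that
this file does not wait for / clash with the verbatim `classify`.
-/

set_option autoImplicit false

namespace Cfsg.Agent.Lib.helper7.REE

open Matrix Cfsg.Agent.Lib.helper8

universe u v

namespace ReeAx

variable {G : Type u} [Group G] [Finite G] {K : Type v} [Field K] [Fintype K] {m : ℕ}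

/-- own-name copy of G6B `classify` -/
theorem reeg6_classify (R : ReeAx G K m) (g : G) :
    (∃ x : G, x * g * x⁻¹ ∈ R.B) ∨ (∃ x : G, x * g * x⁻¹ ∈ R.E) ∨ g ^ nn m = 1 :=
  R.reeg6b_core (fun g hg => R.three_sing_conj g hg) (fun g hg => R.even_conj g hg)
    (fun p hp y hy => R.conj_H_A1 p hp y hy) (fun h hh h1 ht => R.cent_H_elt h hh h1 ht)
    (fun c hc hc1 => R.cent_A1_elt c hc hc1) g

/-- G6C. The element orders, roughly. -/
theorem classify_order (R : ReeAx G K m) (g : G) :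
    orderOf g ∣ 9 ∨ orderOf g ∣ 6 ∨ orderOf g ∣ qq m - 1 ∨ orderOf g ∣ (qq m + 1) / 2 ∨
      orderOf g ∣ nn m :=
  R.reeg6c_core R.reeg6_classify (fun b hb => (R.B_orders b hb).1)
    (fun e he => R.E_basic.2.2.2.2.1 e he) g

/-- G6D. Elements of order `> 2` dividing `q - 1` are conjugate into `H`; elements of order
dividing `(q + 1) / 2` but not `2` are conjugate into `E ∖ V`. -/
theorem conj_H_E (R : ReeAx G K m) (g : G) :
    (2 < orderOf g → orderOf g ∣ qq m - 1 → ∃ x : G, x * g * x⁻¹ ∈ R.H) ∧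
    (¬ orderOf g ∣ 2 → orderOf g ∣ (qq m + 1) / 2 → ∃ x : G, x * g * x⁻¹ ∈ R.E) :=
  R.reeg6d_core R.reeg6_classify
    (fun b hb => ⟨(R.B_orders b hb).1, (R.B_orders b hb).2.2.2.2.2⟩)
    (fun e he => R.E_basic.2.2.2.2.1 e he) g

/-- G6E. The centraliser of a π-element consists of π-elements. -/
theorem pi_cent (R : ReeAx G K m) (x : G) (hx : R.IsPi x) (c : G) (hc : c * x = x * c) :
    c ^ nn m = 1 :=
  R.reeg6e_core R.classify_order x hx c hc

/-- G7A. A π-torus is a π-group. -/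
theorem tor_pi (R : ReeAx G K m) (A : Subgroup G) (hA : R.IsTor A) :
    (∀ c ∈ A, c ^ nn m = 1) ∧ Nat.card A ∣ nn m ∧ 2 ≤ Nat.card A ∧
    (Nat.card A).Coprime (qq m - 1) :=
  R.reeg7a_core R.pi_cent A hA

end ReeAx

end Cfsg.Agent.Lib.helper7.REE
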