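import Mathlib
import Cfsg.Agent.Lib.helper7.REE.Defs
import Cfsg.Agent.Lib.Helper29.REEARA
import Cfsg.Agent.Lib.Helper29.REEARB
import Cfsg.Agent.Lib.Helper11.REEGENE
import Cfsg.Agent.Lib.Helper1.REEG6core

/-!
# Project REE (helper7): cores of the rows G8B `sylow_cyclic`, G8H `cyclic_into`,
G8I `cyclic_conj`, on the statements of the rows they cite.
-/

set_option autoImplicit false
set_option linter.style.haveILetI false

namespace Cfsg.Agent.Lib.helper7.REE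

open Matrix Cfsg.Agent.Lib.helper8

universe u v

theorem reeg8_mem_map_conj {G : Type u} [Group G] (A : Subgroup G) (g x : G) :
    x ∈ A.map (MulAut.conj g).toMonoidHom ↔ g⁻¹ * x * g ∈ A := by
  rw [Subgroup.mem_map]
  constructor
  · rintro ⟨y, hy, rfl⟩
    have : g⁻¹ * ((MulAut.conj g).toMonoidHom y) * g = y := by
      show g⁻¹ * (g * y * g⁻¹) * g = y
      group
    rw [this]
    exact hy
  · intro h
    refine ⟨g⁻¹ * x * g, h, ?_⟩
    show g * (g⁻¹ * x * g) * g⁻¹ = x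
    group

theorem reeg8_conj_mem_map {G : Type u} [Group G] (A : Subgroup G) (g a : G) (ha : a ∈ A) :
    g * a * g⁻¹ ∈ A.map (MulAut.conj g).toMonoidHom := by
  rw [reeg8_mem_map_conj]
  have : g⁻¹ * (g * a * g⁻¹) * g = a := by group
  rw [this]
  exact ha

theorem reeg8_card_map_conj {G : Type u} [Group G] (A : Subgroup G) (g : G) :
    Nat.card (A.map (MulAut.conj g).toMonoidHom) = Nat.card A :=
  Subgroup.card_map_of_injective (MulAut.conj g).injective

/-- a prime `p > 3` does not divide `q` -/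
theorem reeg8_not_dvd_q (m p : ℕ) (hp : p.Prime) (h3 : 3 < p) : ¬ p ∣ qq m := by
  intro h
  unfold qq at h
  have := hp.dvd_of_dvd_pow h
  have := Nat.le_of_dvd (by norm_num) this
  omega

/-- the arithmetic of G8B -/
theorem reeg8_arith (m p : ℕ) (hp : p.Prime) (h3 : 3 < p) :
    (p ∣ qq m - 1 → ¬ p ∣ qq m ^ 3 * (qq m + 1) * nn m) ∧
    (p ∣ qq m + 1 → ¬ p ∣ qq m ^ 3 * (qq m - 1) * 4 * nn m) ∧
    (p ∣ qq m + rr m + 1 → ¬ p ∣ qq m ^ 3 * (qq m - 1) * (qq m + 1) * (qq m - rr m + 1)) ∧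
    (p ∣ qq m - rr m + 1 → ¬ p ∣ qq m ^ 3 * (qq m - 1) * (qq m + 1) * (qq m + rr m + 1)) ∧
    (p ∣ gg m → p ∣ qq m - 1 ∨ p ∣ qq m + 1 ∨ p ∣ qq m + rr m + 1 ∨ p ∣ qq m - rr m + 1) := by
  have hq := reeg8_not_dvd_q m p hp h3
  have hq3 : ¬ p ∣ qq m ^ 3 := fun h => hq (hp.dvd_of_dvd_pow h)
  obtain ⟨-, -, hn1, hnp1, hpm, -⟩ := ar_coprime m
  have hnn := reeara_nn m
  have hqge : 3 ≤ qq m := (ar_basic m).2.1
  -- `p` does not divide both `q - 1` and `q + 1`
  have h2 : p ∣ qq m - 1 → p ∣ qq m + 1 → False := by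
    intro h1 h2
    have : p ∣ (qq m + 1) - (qq m - 1) := Nat.dvd_sub h2 h1
    have e : (qq m + 1) - (qq m - 1) = 2 := by omega
    rw [e] at this
    have := Nat.le_of_dvd (by norm_num) this
    omega
  have hcop : ∀ a b : ℕ, Nat.Coprime a b → p ∣ a → p ∣ b → False := by
    intro a b hab ha hb
    exact hp.one_lt.ne' (Nat.eq_one_of_dvd_coprimes hab ha hb)
  have hA2 : qq m + rr m + 1 ∣ nn m := ⟨_, hnn⟩
  have hA3 : qq m - rr m + 1 ∣ nn m := ⟨_, by rw [hnn, mul_comm]⟩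
  refine ⟨?_, ?_, ?_, ?_, ?_⟩
  · intro h1 h
    rcases (Nat.Prime.dvd_mul hp).1 h with h | h
    · rcases (Nat.Prime.dvd_mul hp).1 h with h | h
      · exact hq3 h
      · exact h2 h1 h
    · exact hcop _ _ hn1 h h1
  · intro h1 h
    rcases (Nat.Prime.dvd_mul hp).1 h with h | h
    · rcases (Nat.Prime.dvd_mul hp).1 h with h | h
      · rcases (Nat.Prime.dvd_mul hp).1 h with h | h
        · exact hq3 h
        · exact h2 h h1
      · have h4 : (4 : ℕ) = 2 ^ 2 := by norm_num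
        rw [h4] at h
        have := Nat.le_of_dvd (by norm_num) (hp.dvd_of_dvd_pow h)
        omega
    · exact hcop _ _ hnp1 h h1
  · intro h1 h
    have hN : p ∣ nn m := dvd_trans h1 hA2
    rcases (Nat.Prime.dvd_mul hp).1 h with h | h
    · rcases (Nat.Prime.dvd_mul hp).1 h with h | h
      · rcases (Nat.Prime.dvd_mul hp).1 h with h | h
        · exact hq3 h
        · exact hcop _ _ hn1 hN h
      · exact hcop _ _ hnp1 hN h
    · exact hcop _ _ hpm h1 h
  · intro h1 h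
    have hN : p ∣ nn m := dvd_trans h1 hA3
    rcases (Nat.Prime.dvd_mul hp).1 h with h | h
    · rcases (Nat.Prime.dvd_mul hp).1 h with h | h
      · rcases (Nat.Prime.dvd_mul hp).1 h with h | h
        · exact hq3 h
        · exact hcop _ _ hn1 hN h
      · exact hcop _ _ hnp1 hN h
    · exact hcop _ _ hpm h h1
  · intro h
    have hgg : gg m = qq m ^ 3 * (qq m - 1) * (qq m + 1) * nn m := (ar_basic m).2.2.2.2.2.2.2.1
    rw [hgg] at h
    rcases (Nat.Prime.dvd_mul hp).1 h with h | h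
    · rcases (Nat.Prime.dvd_mul hp).1 h with h | h
      · rcases (Nat.Prime.dvd_mul hp).1 h with h | h
        · exact absurd h hq3
        · exact Or.inl h
      · exact Or.inr (Or.inl h)
    · rw [hnn] at h
      rcases (Nat.Prime.dvd_mul hp).1 h with h | h
      · exact Or.inr (Or.inr (Or.inl h))
      · exact Or.inr (Or.inr (Or.inr h))

namespace ReeAx

variable {G : Type u} [Group G] [Finite G] {K : Type v} [Field K] [Fintype K] {m : ℕ}

/-- core of G8B -/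
theorem reeg8b_core (R : ReeAx G K m)
    (hward : ∃ A₂ A₃ : Subgroup G, R.IsTor A₂ ∧ R.IsTor A₃ ∧
      Nat.card A₂ = qq m + rr m + 1 ∧ Nat.card A₃ = qq m - rr m + 1)
    (hcyc : ∀ A, R.IsTor A → IsCyclic A)
    (hA1 : IsCyclic R.A1) (hA1c : 4 * Nat.card R.A1 = qq m + 1)
    {p : ℕ} [Fact p.Prime] (hp : 3 < p) (P : Sylow p G) : IsCyclic (P : Subgroup G) := by
  have hpp : p.Prime := Fact.out
  obtain ⟨h1, h2, h3, h4, h5⟩ := reeg8_arith m p hpp hp
  have hgg : gg m = qq m ^ 3 * (qq m - 1) * (qq m + 1) * nn m := (ar_basic m).2.2.2.2.2.2.2.1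
  have hnn := reeara_nn m
  have hqge : 3 ≤ qq m := (ar_basic m).2.1
  obtain ⟨A₂, A₃, hT₂, hT₃, c₂, c₃⟩ := hward
  by_cases hpg : p ∣ gg m
  · rcases h5 hpg with h | h | h | h
    · -- `C = H`
      apply sylow_cyclic_of_sub R.H R.H_cyc p _ P
      rw [R.card, R.H_card]
      have e : gg m / (qq m - 1) = qq m ^ 3 * (qq m + 1) * nn m := by
        apply Nat.div_eq_of_eq_mul_right (by omega)
        rw [hgg]; ring
      rw [e]
      exact h1 h
    · -- `C = A₁`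
      apply sylow_cyclic_of_sub R.A1 hA1 p _ P
      rw [R.card]
      have hA1pos : 0 < Nat.card R.A1 := Nat.card_pos
      have e : gg m / Nat.card R.A1 = qq m ^ 3 * (qq m - 1) * 4 * nn m := by
        apply Nat.div_eq_of_eq_mul_right hA1pos
        rw [hgg]
        calc qq m ^ 3 * (qq m - 1) * (qq m + 1) * nn m
            = qq m ^ 3 * (qq m - 1) * (4 * Nat.card R.A1) * nn m := by rw [hA1c]
          _ = Nat.card R.A1 * (qq m ^ 3 * (qq m - 1) * 4 * nn m) := by ring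
      rw [e]
      exact h2 h
    · -- `C = A₂`
      apply sylow_cyclic_of_sub A₂ (hcyc A₂ hT₂) p _ P
      rw [R.card, c₂]
      have e : gg m / (qq m + rr m + 1) =
          qq m ^ 3 * (qq m - 1) * (qq m + 1) * (qq m - rr m + 1) := by
        apply Nat.div_eq_of_eq_mul_right (by omega)
        rw [hgg, hnn]; ring
      rw [e]
      exact h3 h
    · -- `C = A₃`
      apply sylow_cyclic_of_sub A₃ (hcyc A₃ hT₃) p _ P
      rw [R.card, c₃]
      have e : gg m / (qq m - rr m + 1) =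
          qq m ^ 3 * (qq m - 1) * (qq m + 1) * (qq m + rr m + 1) := by
        apply Nat.div_eq_of_eq_mul_right (by omega)
        rw [hgg, hnn]; ring
      rw [e]
      exact h4 h
  · apply sylow_cyclic_of_sub R.H R.H_cyc p _ P
    intro h
    apply hpg
    rw [← R.card]
    exact dvd_trans h (Nat.div_dvd_of_dvd (Subgroup.card_subgroup_dvd_card _))

/-- core of G8H -/
theorem reeg8h_core (R : ReeAx G K m)
    (hHE : ∀ g : G, (2 < orderOf g → orderOf g ∣ qq m - 1 → ∃ x : G, x * g * x⁻¹ ∈ R.H) ∧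
      (¬ orderOf g ∣ 2 → orderOf g ∣ (qq m + 1) / 2 → ∃ x : G, x * g * x⁻¹ ∈ R.E))
    (hEodd : ∀ e ∈ R.E, Odd (orderOf e) → e ∈ R.A1)
    (hhall : ∀ A A', R.IsTor A → R.IsTor A' → ¬ (Nat.card A).Coprime (Nat.card A') →
      ∃ g : G, A' = A.map (MulAut.conj g).toMonoidHom)
    (A₂ A₃ : Subgroup G) (h₂ : R.IsTor A₂) (h₃ : R.IsTor A₃)
    (c₂ : Nat.card A₂ = qq m + rr m + 1) (c₃ : Nat.card A₃ = qq m - rr m + 1)
    (a : G) (ha : a ≠ 1) :
    (orderOf a ∣ (qq m - 1) / 2 → ∃ g : G, g * a * g⁻¹ ∈ R.H) ∧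
    (orderOf a ∣ (qq m + 1) / 4 → ∃ g : G, g * a * g⁻¹ ∈ R.A1) ∧
    (orderOf a ∣ qq m - rr m + 1 → ∃ g : G, g * a * g⁻¹ ∈ A₃) ∧
    (orderOf a ∣ qq m + rr m + 1 → ∃ g : G, g * a * g⁻¹ ∈ A₂) := by
  have hpos : 0 < orderOf a := orderOf_pos a
  have hne1 : orderOf a ≠ 1 := fun h => ha (orderOf_eq_one_iff.1 h)
  obtain ⟨-, -, -, -, -, -, -, -, hodd1, h2half, hodd4, h4q, -⟩ := ar_basic m
  have hnn := reeara_nn m
  -- the π-torus argument
  have htor : ∀ A' : Subgroup G, R.IsTor A' → orderOf a ∣ Nat.card A' → Nat.card A' ∣ nn m →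
      ∃ g : G, g * a * g⁻¹ ∈ A' := by
    intro A' hA' hd hN
    have haN : a ^ nn m = 1 := orderOf_dvd_iff_pow_eq_one.1 (dvd_trans hd hN)
    have hT : R.IsTor (Subgroup.centralizer {a}) := ⟨a, ⟨ha, haN⟩, rfl⟩
    have haC : a ∈ Subgroup.centralizer {a} := by
      rw [Subgroup.mem_centralizer_iff]
      intro y hy
      rw [Set.mem_singleton_iff] at hy
      rw [hy]
    have hdC : orderOf a ∣ Nat.card (Subgroup.centralizer {a}) := by
      have := orderOf_dvd_natCard (⟨a, haC⟩ : Subgroup.centralizer {a})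
      rwa [← Subgroup.orderOf_coe] at this
    have hnc : ¬ (Nat.card (Subgroup.centralizer {a})).Coprime (Nat.card A') := by
      intro hc
      exact hne1 (Nat.eq_one_of_dvd_coprimes hc hdC hd)
    obtain ⟨g, hg⟩ := hhall _ _ hT hA' hnc
    refine ⟨g, ?_⟩
    rw [hg]
    exact reeg8_conj_mem_map _ g a haC
  refine ⟨?_, ?_, ?_, ?_⟩
  · intro hd
    have hodd : Odd (orderOf a) := Odd.of_dvd_nat hodd1 hd
    have h3 : 2 < orderOf a := by
      rcases hodd with ⟨k, hk⟩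
      omega
    have hd' : orderOf a ∣ qq m - 1 := by
      rw [← h2half]
      exact dvd_trans hd (dvd_mul_left _ _)
    exact (hHE a).1 h3 hd'
  · intro hd
    have hodd : Odd (orderOf a) := Odd.of_dvd_nat hodd4 hd
    have h2 : ¬ orderOf a ∣ 2 := by
      intro h
      have := Nat.le_of_dvd (by norm_num) h
      rcases hodd with ⟨k, hk⟩
      omega
    have hd' : orderOf a ∣ (qq m + 1) / 2 := by
      rw [reeg6_half]
      exact dvd_trans hd (dvd_mul_left _ _)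
    obtain ⟨x, hx⟩ := (hHE a).2 h2 hd'
    refine ⟨x, hEodd _ hx ?_⟩
    rw [reeg6_orderOf_conj]
    exact hodd
  · intro hd
    exact htor A₃ h₃ (c₃ ▸ hd) (by rw [c₃, hnn]; exact dvd_mul_left _ _)
  · intro hd
    exact htor A₂ h₂ (c₂ ▸ hd) (by rw [c₂, hnn]; exact dvd_mul_right _ _)

/-- core of G8I -/
theorem reeg8i_core (R : ReeAx G K m)
    (hinto : ∀ (A₂ A₃ : Subgroup G), R.IsTor A₂ → R.IsTor A₃ →
      Nat.card A₂ = qq m + rr m + 1 → Nat.card A₃ = qq m - rr m + 1 → ∀ a : G, a ≠ 1 →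
      (orderOf a ∣ (qq m - 1) / 2 → ∃ g : G, g * a * g⁻¹ ∈ R.H) ∧
      (orderOf a ∣ (qq m + 1) / 4 → ∃ g : G, g * a * g⁻¹ ∈ R.A1) ∧
      (orderOf a ∣ qq m - rr m + 1 → ∃ g : G, g * a * g⁻¹ ∈ A₃) ∧
      (orderOf a ∣ qq m + rr m + 1 → ∃ g : G, g * a * g⁻¹ ∈ A₂))
    (hward : ∃ A₂ A₃ : Subgroup G, R.IsTor A₂ ∧ R.IsTor A₃ ∧
      Nat.card A₂ = qq m + rr m + 1 ∧ Nat.card A₃ = qq m - rr m + 1)
    (hcyc : ∀ A, R.IsTor A → IsCyclic A)
    (hA1 : IsCyclic R.A1)
    (hsub : ∀ (A A₁ A₂ : Subgroup G), IsCyclic A → A₁ ≤ A → A₂ ≤ A →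
      Nat.card A₁ = Nat.card A₂ → A₁ = A₂)
    (d : ℕ)
    (hd : d ∣ (qq m - 1) / 2 ∨ d ∣ (qq m + 1) / 4 ∨ d ∣ qq m - rr m + 1 ∨ d ∣ qq m + rr m + 1)
    (A B : Subgroup G) (hA : IsCyclic A) (hB : IsCyclic B)
    (hAd : Nat.card A = d) (hBd : Nat.card B = d) :
    ∃ g : G, B = A.map (MulAut.conj g).toMonoidHom := by
  by_cases hd1 : d = 1
  · refine ⟨1, ?_⟩
    rw [hd1] at hAd hBd
    rw [Subgroup.card_eq_one.1 hAd, Subgroup.card_eq_one.1 hBd, Subgroup.map_bot]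
  obtain ⟨A₂, A₃, hT₂, hT₃, c₂, c₃⟩ := hward
  -- generators
  obtain ⟨a, ha⟩ := IsCyclic.exists_generator (α := A)
  obtain ⟨b, hb⟩ := IsCyclic.exists_generator (α := B)
  have hoa : orderOf (a : G) = d := by
    rw [Subgroup.orderOf_coe, orderOf_eq_card_of_forall_mem_zpowers ha, hAd]
  have hob : orderOf (b : G) = d := by
    rw [Subgroup.orderOf_coe, orderOf_eq_card_of_forall_mem_zpowers hb, hBd]
  have ha1 : (a : G) ≠ 1 := by
    intro h
    rw [h, orderOf_one] at hoa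
    exact hd1 hoa.symm
  have hb1 : (b : G) ≠ 1 := by
    intro h
    rw [h, orderOf_one] at hob
    exact hd1 hob.symm
  -- the key step: both conjugate into a common cyclic `C`
  have key : ∀ C : Subgroup G, IsCyclic C → (∃ g : G, g * (a : G) * g⁻¹ ∈ C) →
      (∃ g : G, g * (b : G) * g⁻¹ ∈ C) → ∃ g : G, B = A.map (MulAut.conj g).toMonoidHom := by
    rintro C hC ⟨g, hg⟩ ⟨g', hg'⟩
    have hAC : A.map (MulAut.conj g).toMonoidHom ≤ C := by
      intro x hx
      rw [reeg8_mem_map_conj] at hx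
      obtain ⟨k, hk⟩ := Subgroup.mem_zpowers_iff.1 (ha ⟨_, hx⟩)
      have hk' : (a : G) ^ k = g⁻¹ * x * g := by
        have := congrArg Subtype.val hk
        simpa using this
      have e : x = (g * (a : G) * g⁻¹) ^ k := by
        rw [conj_zpow, hk']; group
      rw [e]
      exact C.zpow_mem hg k
    have hBC : B.map (MulAut.conj g').toMonoidHom ≤ C := by
      intro x hx
      rw [reeg8_mem_map_conj] at hx
      obtain ⟨k, hk⟩ := Subgroup.mem_zpowers_iff.1 (hb ⟨_, hx⟩)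
      have hk' : (b : G) ^ k = g'⁻¹ * x * g' := by
        have := congrArg Subtype.val hk
        simpa using this
      have e : x = (g' * (b : G) * g'⁻¹) ^ k := by
        rw [conj_zpow, hk']; group
      rw [e]
      exact C.zpow_mem hg' k
    have heq := hsub C _ _ hC hAC hBC (by rw [reeg8_card_map_conj, reeg8_card_map_conj, hAd, hBd])
    refine ⟨g'⁻¹ * g, ?_⟩
    ext x
    rw [reeg8_mem_map_conj]
    have h1 : g' * x * g'⁻¹ ∈ B.map (MulAut.conj g').toMonoidHom ↔ x ∈ B := by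
      rw [reeg8_mem_map_conj]
      have : g'⁻¹ * (g' * x * g'⁻¹) * g' = x := by group
      rw [this]
    rw [← h1, ← heq, reeg8_mem_map_conj]
    have : g⁻¹ * (g' * x * g'⁻¹) * g = (g'⁻¹ * g)⁻¹ * x * (g'⁻¹ * g) := by group
    rw [this]
  obtain ⟨ia1, ia2, ia3, ia4⟩ := hinto A₂ A₃ hT₂ hT₃ c₂ c₃ a ha1
  obtain ⟨ib1, ib2, ib3, ib4⟩ := hinto A₂ A₃ hT₂ hT₃ c₂ c₃ b hb1
  rcases hd with h | h | h | h
  · exact key R.H R.H_cyc (ia1 (hoa ▸ h)) (ib1 (hob ▸ h))
  · exact key R.A1 hA1 (ia2 (hoa ▸ h)) (ib2 (hob ▸ h))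
  · exact key A₃ (hcyc A₃ hT₃) (ia3 (hoa ▸ h)) (ib3 (hob ▸ h))
  · exact key A₂ (hcyc A₂ hT₂) (ia4 (hoa ▸ h)) (ib4 (hob ▸ h))

end ReeAx

end Cfsg.Agent.Lib.helper7.REE
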