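import Mathlib
import Cfsg.Agent.Lib.helper7.REE.Defs
import Cfsg.Agent.Lib.Helper1.REEG6
import Cfsg.Agent.Lib.Helper1.REEG8core
import Cfsg.Agent.Lib.Helper13.REEG4I
import Cfsg.Agent.Lib.Helper13.REEG4J
import Cfsg.Agent.Lib.Helper10.REEG7B
import Cfsg.Agent.Lib.Helper5.REEG7Dcore
import Cfsg.Agent.Lib.helper3.REEG7F
import Cfsg.Agent.Lib.helper15.REEGENH
import Cfsg.Agent.Lib.Helper29.REEARA

/-!
# Project REE (helper7), rows G8B `sylow_cyclic`, G8H `cyclic_into`, G8I `cyclic_conj`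
(verbatim from `helper7/REE/Skel2.lean.txt`): wrappers of the cores in `Helper1/REEG8core.lean`.
`reeg8_tor_hall` is an own-name copy of the statement of G7D `tor_hall` (from helper5's core), so that
this file does not wait for / clash with the verbatim `tor_hall`.
-/

set_option autoImplicit false

namespace Cfsg.Agent.Lib.helper7.REE

open Matrix Cfsg.Agent.Lib.helper8

universe u v

namespace ReeAx

variable {G : Type u} [Group G] [Finite G] {K : Type v} [Field K] [Fintype K] {m : ℕ}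

/-- own-name copy of G7D `tor_hall` -/
theorem reeg8_tor_hall (R : ReeAx G K m) :
    (∀ A, R.IsTor A → ∀ g : G, R.IsTor (A.map (MulAut.conj g).toMonoidHom)) ∧
    (∀ A, R.IsTor A → ∀ g : G, ∀ a ∈ A, a ≠ 1 → g * a * g⁻¹ ∈ A →
      g ∈ Subgroup.normalizer (A : Set G)) ∧
    (∀ A, R.IsTor A → (Nat.card A).Coprime (nn m / Nat.card A)) ∧
    (∀ A A', R.IsTor A → R.IsTor A' → ¬ (Nat.card A).Coprime (Nat.card A') →
      ∃ g : G, A' = A.map (MulAut.conj g).toMonoidHom) ∧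
    (∀ l : ℕ, l.Prime → l ∣ nn m → ∃ A, R.IsTor A ∧ l ∣ Nat.card A) :=
  R.tor_hall_core (ar_basic m).2.2.2.2.2.2.2.1 (fun A hA => R.tor_pi A hA)
    (fun A hA => R.tor_cyclic A hA)

/-- G8B (→ S1156). Sylow `p`-subgroups are cyclic for `p > 3` (`sylow_cyclic_of_sub` with
`C = H`, `A₁`, `A₂`, `A₃`). -/
theorem sylow_cyclic (R : ReeAx G K m) {p : ℕ} [Fact p.Prime] (hp : 3 < p) (P : Sylow p G) :
    IsCyclic (P : Subgroup G) := by
  obtain ⟨A₂, A₃, hT₂, hT₃, c₂, c₃, -⟩ := R.ward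
  exact R.reeg8b_core ⟨A₂, A₃, hT₂, hT₃, c₂, c₃⟩ (fun A hA => (R.tor_cyclic A hA).1)
    R.A1_basic.2.1 R.A1_basic.2.2.1 hp P

/-- G8H. A cyclic subgroup of order `d > 1` dividing one of the four numbers is conjugate
into `H`, `A₁`, `A₃`, `A₂` respectively (`A₂`, `A₃` any π-tori of orders `q ± r + 1`). -/
theorem cyclic_into (R : ReeAx G K m) (A₂ A₃ : Subgroup G) (h₂ : R.IsTor A₂) (h₃ : R.IsTor A₃)
    (c₂ : Nat.card A₂ = qq m + rr m + 1) (c₃ : Nat.card A₃ = qq m - rr m + 1)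
    (a : G) (ha : a ≠ 1) :
    (orderOf a ∣ (qq m - 1) / 2 → ∃ g : G, g * a * g⁻¹ ∈ R.H) ∧
    (orderOf a ∣ (qq m + 1) / 4 → ∃ g : G, g * a * g⁻¹ ∈ R.A1) ∧
    (orderOf a ∣ qq m - rr m + 1 → ∃ g : G, g * a * g⁻¹ ∈ A₃) ∧
    (orderOf a ∣ qq m + rr m + 1 → ∃ g : G, g * a * g⁻¹ ∈ A₂) :=
  R.reeg8h_core R.conj_H_E R.E_basic.2.2.2.2.2.2.2.1 R.reeg8_tor_hall.2.2.2.1 A₂ A₃ h₂ h₃ c₂ c₃ a ha

/-- G8I (→ S2358). Cyclic subgroups of toral order are conjugate. -/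
theorem cyclic_conj (R : ReeAx G K m) (d : ℕ)
    (hd : d ∣ (qq m - 1) / 2 ∨ d ∣ (qq m + 1) / 4 ∨ d ∣ qq m - rr m + 1 ∨ d ∣ qq m + rr m + 1)
    (A B : Subgroup G) (hA : IsCyclic A) (hB : IsCyclic B)
    (hAd : Nat.card A = d) (hBd : Nat.card B = d) :
    ∃ g : G, B = A.map (MulAut.conj g).toMonoidHom := by
  obtain ⟨A₂, A₃, hT₂, hT₃, c₂, c₃, -⟩ := R.ward
  exact R.reeg8i_core R.cyclic_into ⟨A₂, A₃, hT₂, hT₃, c₂, c₃⟩ (fun A hA => (R.tor_cyclic A hA).1)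
    R.A1_basic.2.1 cyclic_sub_eq d hd A B hA hB hAd hBd

end ReeAx

end Cfsg.Agent.Lib.helper7.REE
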