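import Mathlib
import Cfsg.Agent.Lib.helper7.REE.Defs
import Cfsg.Agent.Lib.Helper1.CFitting

/-!
# Project RES (lead), rows FIT0 `fit_type` and FIT `fit_sub` (verbatim from `Lead/RES/Skel.lean.txt`).
-/

set_option autoImplicit false
set_option linter.unusedVariables false
set_option linter.unusedSectionVars false
set_option linter.style.haveILetI false

namespace Cfsg.Agent.Lib.Lead.RES

open Matrix Cfsg.Agent.Lib.helper8 Cfsg.Agent.Lib.helper7.REE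

universe u v

/-- FIT0 -/
theorem fit_type {S : Type u} [Group S] [Finite S] (hS : Group.IsSolvable S) (hne : Nontrivial S) :
    (∃ r : ℕ, r.Prime ∧ r ≠ 2 ∧ ∃ M : Subgroup S, M.Normal ∧ M ≠ ⊥ ∧ IsPGroup r M) ∨
    (∃ Q : Subgroup S, Q.Normal ∧ Q ≠ ⊥ ∧ IsPGroup 2 Q ∧ Subgroup.centralizer (Q : Set S) ≤ Q) := by
  by_cases h : ∃ r : ℕ, r.Prime ∧ r ≠ 2 ∧ Cfsg.pCore r S ≠ ⊥
  · obtain ⟨r, hr, hr2, hne'⟩ := h
    haveI : Fact r.Prime := ⟨hr⟩
    exact Or.inl ⟨r, hr, hr2, Cfsg.pCore r S, Cfsg.Agent.Lib.Helper1.pCore_normal r, hne',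
      Cfsg.Agent.Lib.Helper1.pCore_isPGroup r⟩
  · right
    have h' : ∀ r : ℕ, r.Prime → r ≠ 2 → Cfsg.pCore r S = ⊥ := by
      intro r hr hr2
      by_contra hc
      exact h ⟨r, hr, hr2, hc⟩
    haveI : Fact (2 : ℕ).Prime := ⟨Nat.prime_two⟩
    have hF : Cfsg.fittingSubgroup S = Cfsg.pCore 2 S := by
      rw [Cfsg.Agent.Lib.Helper1.fittingSubgroup_eq_iSup_pCore]
      apply le_antisymm
      · apply iSup_le
        intro q
        by_cases hq : (q : ℕ) = 2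
        · rw [hq]
        · rw [h' q q.2 hq]
          exact bot_le
      · exact le_iSup (fun p : Nat.Primes => Cfsg.pCore (p : ℕ) S) ⟨2, Nat.prime_two⟩
    have hcent : Subgroup.centralizer (Cfsg.pCore 2 S : Set S) ≤ Cfsg.pCore 2 S := by
      have := Cfsg.Agent.Lib.Helper1.centralizer_fittingSubgroup_le (G := S)
      rwa [hF] at this
    refine ⟨Cfsg.pCore 2 S, Cfsg.Agent.Lib.Helper1.pCore_normal 2, ?_,
      Cfsg.Agent.Lib.Helper1.pCore_isPGroup 2, hcent⟩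
    intro hbot
    rw [hbot] at hcent
    have htop : (⊤ : Subgroup S) ≤ ⊥ := by
      refine le_trans ?_ hcent
      intro x _
      rw [Subgroup.mem_centralizer_iff]
      intro y hy
      have : y = 1 := by simpa using hy
      rw [this, one_mul, mul_one]
    obtain ⟨a, b, hab⟩ := hne
    apply hab
    have ha : a ∈ (⊥ : Subgroup S) := htop (Subgroup.mem_top a)
    have hb : b ∈ (⊥ : Subgroup S) := htop (Subgroup.mem_top b)
    rw [Subgroup.mem_bot] at ha hb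
    rw [ha, hb]

/-- FIT -/
theorem fit_sub {G : Type u} [Group G] [Finite G] (S : Subgroup G) (hS : Group.IsSolvable S) (hne : S ≠ ⊥) :
    (∃ r : ℕ, r.Prime ∧ r ≠ 2 ∧ ∃ M : Subgroup G, M ≤ S ∧ M ≠ ⊥ ∧ IsPGroup r M ∧
        ∀ s ∈ S, ∀ x ∈ M, s * x * s⁻¹ ∈ M) ∨
    (∃ Q : Subgroup G, Q ≤ S ∧ Q ≠ ⊥ ∧ IsPGroup 2 Q ∧ (∀ s ∈ S, ∀ x ∈ Q, s * x * s⁻¹ ∈ Q) ∧
        ∀ s ∈ S, (∀ x ∈ Q, s * x = x * s) → s ∈ Q) := by
  have hnt : Nontrivial S := (Subgroup.nontrivial_iff_ne_bot S).2 hne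
  rcases fit_type hS hnt with ⟨r, hr, hr2, M, hMn, hMne, hMp⟩ | ⟨Q, hQn, hQne, hQp, hQc⟩
  · left
    refine ⟨r, hr, hr2, M.map S.subtype, Subgroup.map_subtype_le M, ?_, hMp.map S.subtype, ?_⟩
    · intro h
      apply hMne
      exact (Subgroup.map_eq_bot_iff_of_injective M S.subtype_injective).1 h
    · rintro s hs x ⟨y, hy, rfl⟩
      refine ⟨⟨s, hs⟩ * y * ⟨s, hs⟩⁻¹, hMn.conj_mem y hy ⟨s, hs⟩, ?_⟩
      simp
  · right
    refine ⟨Q.map S.subtype, Subgroup.map_subtype_le Q, ?_, hQp.map S.subtype, ?_, ?_⟩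
    · intro h
      apply hQne
      exact (Subgroup.map_eq_bot_iff_of_injective Q S.subtype_injective).1 h
    · rintro s hs x ⟨y, hy, rfl⟩
      refine ⟨⟨s, hs⟩ * y * ⟨s, hs⟩⁻¹, hQn.conj_mem y hy ⟨s, hs⟩, ?_⟩
      simp
    · intro s hs hcomm
      have hmem : (⟨s, hs⟩ : S) ∈ Subgroup.centralizer (Q : Set S) := by
        rw [Subgroup.mem_centralizer_iff]
        intro y hy
        apply Subtype.ext
        have := hcomm (y : G) ⟨y, hy, rfl⟩
        simpa using this.symm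
      exact ⟨⟨s, hs⟩, hQc hmem, rfl⟩

end Cfsg.Agent.Lib.Lead.RES
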