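import Mathlib
import Cfsg.Agent.Lib.Helper10.RES.Defs
import Cfsg.Agent.Lib.Helper25.RESGA5
import Cfsg.Agent.Lib.Helper11.RESGZ2

set_option autoImplicit false
set_option linter.unusedVariables false

namespace Cfsg.Agent.Lib.Helper10.RES

theorem resgw2_N_mul {G : Type*} [Group G] {y z w : G} (hyz : Commute y z) (hyw : Commute y w)
    (hzw : Commute z w) (j k l j' k' l' : ℕ) :
    (y ^ j * z ^ k * w ^ l) * (y ^ j' * z ^ k' * w ^ l') =
      y ^ (j + j') * z ^ (k + k') * w ^ (l + l') := by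
  have h1 : w ^ l * y ^ j' = y ^ j' * w ^ l := ((hyw.pow_pow j' l).eq).symm
  have h2 : z ^ k * y ^ j' = y ^ j' * z ^ k := ((hyz.pow_pow j' k).eq).symm
  have h3 : w ^ l * z ^ k' = z ^ k' * w ^ l := ((hzw.pow_pow k' l).eq).symm
  calc y ^ j * z ^ k * w ^ l * (y ^ j' * z ^ k' * w ^ l')
      = y ^ j * z ^ k * (w ^ l * y ^ j') * z ^ k' * w ^ l' := by simp only [mul_assoc]
    _ = y ^ j * (z ^ k * y ^ j') * (w ^ l * z ^ k') * w ^ l' := by
        rw [h1]; simp only [mul_assoc]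
    _ = (y ^ j * y ^ j') * (z ^ k * z ^ k') * (w ^ l * w ^ l') := by
        rw [h2, h3]; simp only [mul_assoc]
    _ = _ := by rw [← pow_add, ← pow_add, ← pow_add]

theorem resgw2_N_pow {G : Type*} [Group G] {y z w : G} (hyz : Commute y z) (hyw : Commute y w)
    (hzw : Commute z w) (j k l m : ℕ) :
    (y ^ j * z ^ k * w ^ l) ^ m = y ^ (j * m) * z ^ (k * m) * w ^ (l * m) := by
  induction m with
  | zero => simp
  | succ m ih =>
    rw [pow_succ, ih, resgw2_N_mul hyz hyw hzw]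
    simp only [mul_add_one]

theorem resgw2_N_congr {G : Type*} [Group G] (y z w : G) {a1 a2 b1 b2 c1 c2 : ℕ}
    (ha : a1 = a2) (hb : b1 = b2) (hc : c1 = c2) :
    y ^ a1 * z ^ b1 * w ^ c1 = y ^ a2 * z ^ b2 * w ^ c2 := by
  rw [ha, hb, hc]

variable {Ω : Type*} [Group Ω]

theorem resgw2_core {p n s : ℕ} [Fact p.Prime] {S : Subgroup Ω} {x y z : Ω}
    (hF : F2Set p n s S x y z)
    (hmems : x ∈ S ∧ y ∈ S ∧ z ∈ S ∧ AA y z ≤ S)
    (hAc : ∀ a ∈ AA y z, ∀ b ∈ AA y z, a * b = b * a)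
    (hAn : ∀ g ∈ S, ∀ a ∈ AA y z, g * a * g⁻¹ ∈ AA y z)
    (hrepr : ∀ a ∈ AA y z, ∃ j k : ℕ, a = y ^ j * z ^ k)
    (hzx : x * z ^ p = z ^ p * x) (hζ : z ^ p ^ (n - 3) ≠ 1)
    (hconj : ∀ i : ℕ,
      (x ^ i)⁻¹ * z * x ^ i = z * (y ^ i * (z ^ (s * p ^ (n - 3))) ^ (i.choose 2)) ∧
      (x ^ i)⁻¹ * y * x ^ i = y * (z ^ (s * p ^ (n - 3))) ^ i)
    (hxS : x ∈ S) (ψ : ↥S →* Ω) (hinj : Function.Injective ψ)
    (hA : ∀ g : ↥S, (g : Ω) ∈ AA y z → ψ g ∈ AA y z) (a : ℕ) (t : Ω) (ht : t ∈ AA y z)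
    (hx : ψ ⟨x, hxS⟩ = x ^ a * t) : p ∣ a ^ 2 - 1 := by
  have hp : p.Prime := Fact.out
  obtain ⟨-, hyS, hzS, hAS⟩ := hmems
  have hn4 := hF.hn4
  set w : Ω := z ^ (s * p ^ (n - 3)) with hw
  have hyA : y ∈ AA y z := Subgroup.subset_closure (by simp)
  have hzA : z ∈ AA y z := Subgroup.subset_closure (by simp)
  have hwA : w ∈ AA y z := Subgroup.pow_mem _ hzA _
  have hyz : Commute y z := hF.yz
  have hzw : Commute z w := (Commute.refl z).pow_right _
  have hyw : Commute y w := hyz.pow_right _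
  have e34 : p ^ (n - 3) = p * p ^ (n - 4) := by
    rw [← pow_succ']; congr 1; omega
  have e23 : p ^ (n - 2) = p ^ (n - 3) * p := by
    rw [← pow_succ]; congr 1; omega
  have hwx : Commute x w := by
    have h1 : w = (z ^ p) ^ (s * p ^ (n - 4)) := by
      rw [hw, ← pow_mul]; congr 1
      rw [e34]; ring
    rw [h1]
    exact (show Commute x (z ^ p) from hzx).pow_right _
  have hwp : w ^ p = 1 := by
    rw [hw, ← pow_mul]
    have h1 : s * p ^ (n - 3) * p = p ^ (n - 2) * s := by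
      rw [e23]; ring
    rw [h1, pow_mul, hF.zp, one_pow]
  have hζp : (z ^ p ^ (n - 3)) ^ p = 1 := by
    rw [← pow_mul, ← e23, hF.zp]
  have hζo : orderOf (z ^ p ^ (n - 3)) = p := orderOf_eq_prime hζp hζ
  have hw1 : w ≠ 1 := by
    intro h
    have h1 : w = (z ^ p ^ (n - 3)) ^ s := by rw [hw, mul_comm, pow_mul]
    rw [h1] at h
    have h2 := orderOf_dvd_of_pow_eq_one h
    rw [hζo] at h2
    exact hF.hs h2
  have hwo : orderOf w = p := orderOf_eq_prime hwp hw1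
  have hNmul := @resgw2_N_mul Ω _ y z w hyz hyw hzw
  have hNpow := @resgw2_N_pow Ω _ y z w hyz hyw hzw
  have hxaS : (x ^ a)⁻¹ ∈ S := S.inv_mem (S.pow_mem hxS a)
  set c : MulAut Ω := MulAut.conj ((x ^ a)⁻¹) with hc
  have hcapp : ∀ g : Ω, c g = (x ^ a)⁻¹ * g * x ^ a := by
    intro g
    rw [hc, MulAut.conj_apply, inv_inv]
  have hcy : c y = y ^ 1 * z ^ 0 * w ^ a := by
    rw [hcapp, (hconj a).2]; simp
  have hcz : c z = y ^ a * z ^ 1 * w ^ (a.choose 2) := by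
    rw [hcapp, (hconj a).1, pow_one, ← mul_assoc, (hyz.pow_left a).eq]
  have hcw : c w = y ^ 0 * z ^ 0 * w ^ 1 := by
    rw [hcapp]
    have h1 : Commute (x ^ a) w := hwx.pow_left a
    rw [mul_assoc, ← h1.eq, ← mul_assoc, inv_mul_cancel]
    simp
  have hcN : ∀ j k l : ℕ, c (y ^ j * z ^ k * w ^ l) =
      y ^ (j + a * k) * z ^ k * w ^ (a * j + a.choose 2 * k + l) := by
    intro j k l
    rw [map_mul, map_mul, map_pow, map_pow, map_pow, hcy, hcz, hcw, hNpow, hNpow, hNpow, hNmul,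
      hNmul]
    exact resgw2_N_congr y z w (by ring) (by ring) (by ring)
  have hcA : ∀ b ∈ AA y z, c b ∈ AA y z := by
    intro b hb
    rw [hc, MulAut.conj_apply]
    exact hAn _ hxaS b hb
  set xS : ↥S := ⟨x, hxS⟩ with hxSdef
  set yS : ↥S := ⟨y, hyS⟩ with hySdef
  set zS : ↥S := ⟨z, hzS⟩ with hzSdef
  have hψc : ∀ g : ↥S, (g : Ω) ∈ AA y z → ψ (xS⁻¹ * g * xS) = c (ψ g) := by
    intro g hg
    have hb := hA g hg
    have hb' := hcA _ hb
    rw [map_mul, map_mul, map_inv, hx, hcapp]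
    have h1 : (x ^ a * t)⁻¹ * ψ g * (x ^ a * t) = t⁻¹ * (((x ^ a)⁻¹ * ψ g * x ^ a) * t) := by
      group
    rw [h1, ← hcapp, hAc _ hb' _ ht, inv_mul_cancel_left]
  obtain ⟨j, k, hjk⟩ := hrepr (ψ zS) (hA zS hzA)
  have hjk' : ψ zS = y ^ j * z ^ k * w ^ 0 := by rw [hjk]; simp
  have hr1 : xS⁻¹ * zS * xS = yS * zS := Subtype.ext hF.xz
  have hr2 : xS⁻¹ * yS * xS = yS * zS ^ (s * p ^ (n - 3)) := Subtype.ext hF.xy
  have hψy : ψ yS = y ^ (a * k) * z ^ 0 * w ^ (a * j + a.choose 2 * k) := by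
    have h1 := hψc zS hzA
    rw [hr1, map_mul, hjk', hcN] at h1
    have h2 : y ^ (a * k) * z ^ 0 * w ^ (a * j + a.choose 2 * k) * (y ^ j * z ^ k * w ^ 0) =
        y ^ (j + a * k) * z ^ k * w ^ (a * j + a.choose 2 * k + 0) := by
      rw [hNmul]
      exact resgw2_N_congr y z w (by ring) (by ring) (by ring)
    rw [← h2] at h1
    exact mul_right_cancel h1
  have hpk : ¬ p ∣ k := by
    intro hd
    obtain ⟨k', rfl⟩ := hd
    apply hζ
    have h1 : ψ (zS ^ p ^ (n - 3)) = 1 := by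
      rw [map_pow, hjk', hNpow, zero_mul, pow_zero, mul_one]
      have h2 : y ^ (j * p ^ (n - 3)) = 1 := by
        rw [e34, ← mul_assoc, mul_comm j p, mul_assoc, pow_mul, hF.yp, one_pow]
      have h3 : z ^ (p * k' * p ^ (n - 3)) = 1 := by
        have : p * k' * p ^ (n - 3) = p ^ (n - 2) * k' := by rw [e23]; ring
        rw [this, pow_mul, hF.zp, one_pow]
      rw [h2, h3, one_mul]
    have h4 : zS ^ p ^ (n - 3) = 1 := by
      apply hinj
      rw [h1, map_one]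
    have h5 := congrArg (fun g : ↥S => (g : Ω)) h4
    simpa [hzSdef] using h5
  have hmod : a * (a * k) ≡ k [MOD p] := by
    have h2 : y ^ (j * (s * p ^ (n - 3))) = 1 := by
      have : j * (s * p ^ (n - 3)) = p * (j * s * p ^ (n - 4)) := by rw [e34]; ring
      rw [this, pow_mul, hF.yp, one_pow]
    have h3 : z ^ (k * (s * p ^ (n - 3))) = w ^ k := by
      rw [hw, ← pow_mul, mul_comm]
    have h1 := hψc yS hyA
    rw [hr2, map_mul, map_pow, hψy, hcN, hjk', hNpow] at h1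
    simp only [pow_zero, mul_one, zero_mul, mul_zero, add_zero] at h1
    rw [h2, h3, one_mul, mul_assoc, ← pow_add] at h1
    have h5 := mul_left_cancel h1
    rw [pow_eq_pow_iff_modEq, hwo] at h5
    have h6 : a * j + a.choose 2 * k + k = k + (a * j + a.choose 2 * k) := by ring
    rw [h6] at h5
    exact (Nat.ModEq.add_right_cancel' _ h5).symm
  rcases Nat.eq_zero_or_pos a with ha | ha
  · rw [ha]; simp
  · have hle : k ≤ a * (a * k) := by
      calc k = 1 * k := (one_mul k).symm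
        _ ≤ (a * a) * k := Nat.mul_le_mul_right k (Nat.mul_pos ha ha)
        _ = a * (a * k) := mul_assoc a a k
    have h1 : p ∣ a * (a * k) - k := (Nat.modEq_iff_dvd' hle).mp hmod.symm
    have h2 : a * (a * k) - k = (a ^ 2 - 1) * k := by
      rw [Nat.sub_mul, one_mul]; congr 1; ring
    rw [h2] at h1
    rcases hp.dvd_mul.mp h1 with h | h
    · exact h
    · exact absurd h hpk

section G
variable {p n s : ℕ} [Fact p.Prime] {S : Subgroup Ω} {x y z : Ω}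

theorem F2Set.weight_aux (hF : F2Set p n s S x y z) (hxS : x ∈ S) (ψ : ↥S →* Ω)
    (hinj : Function.Injective ψ) (hψS : ∀ g, ψ g ∈ S)
    (hA : ∀ g : ↥S, (g : Ω) ∈ AA y z → ψ g ∈ AA y z) (a : ℕ) (t : Ω) (ht : t ∈ AA y z)
    (hx : ψ ⟨x, hxS⟩ = x ^ a * t) : p ∣ a ^ 2 - 1 := by
  have hp : p.Prime := Fact.out
  have hzx : x * z ^ p = z ^ p * x := by
    have h1 := resgz2_x_zp hF
    calc x * z ^ p = x * (x⁻¹ * z ^ p * x) := by rw [h1]
      _ = z ^ p * x := by group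
  have hζ : z ^ p ^ (n - 3) ≠ 1 := by
    intro h
    have h1 : x ^ 0 * (y ^ 0 * z ^ p ^ (n - 3)) = 1 := by
      rw [pow_zero, pow_zero, one_mul, one_mul, h]
    obtain ⟨-, -, h2⟩ := hF.normal_form 0 0 (p ^ (n - 3)) h1
    have hn4 := hF.hn4
    have h3 : p ^ (n - 2) = p ^ (n - 3) * p := by
      rw [← pow_succ]; congr 1; omega
    rw [h3] at h2
    have h4 := Nat.le_of_dvd (pow_pos hp.pos _) h2
    have h5 : p ^ (n - 3) * 2 ≤ p ^ (n - 3) * p := Nat.mul_le_mul_left _ hp.two_le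
    have h6 : 0 < p ^ (n - 3) := pow_pos hp.pos _
    omega
  exact resgw2_core hF hF.mems hF.A_comm hF.A_normal hF.repr.2 hzx hζ hF.conj_pow hxS ψ hinj hA
    a t ht hx

end G

end Cfsg.Agent.Lib.Helper10.RES
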