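import Mathlib
import Cfsg.Agent.Lib.helper7.REE.Defs
import Cfsg.Agent.Lib.Helper29.REEARA
import Cfsg.Agent.Lib.Helper29.REEARB
import Cfsg.Agent.Lib.helper4.REEG1A

/-!
# Project RES (lead), row T3 `three_case` (verbatim from `Lead/RES/Skel.lean.txt`).
-/

set_option autoImplicit false
set_option linter.unusedVariables false
set_option linter.unusedSectionVars false
set_option linter.style.haveILetI false

namespace Cfsg.Agent.Lib.Lead.RES

open Matrix Cfsg.Agent.Lib.helper8 Cfsg.Agent.Lib.helper7.REE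

universe u v

/-- in a finite group, `n H n⁻¹ ⊆ H` implies `n ∈ N(H)` -/
theorem rest3_mem_normalizer {G : Type u} [Group G] [Finite G] (H : Subgroup G) (n : G)
    (h : ∀ x ∈ H, n * x * n⁻¹ ∈ H) : n ∈ Subgroup.normalizer (H : Set G) := by
  have hpow : ∀ j : ℕ, ∀ x ∈ H, n ^ j * x * (n ^ j)⁻¹ ∈ H := by
    intro j
    induction j with
    | zero => intro x hx; simpa using hx
    | succ j ih =>
      intro x hx
      have := h _ (ih x hx)
      have e : n ^ (j + 1) * x * (n ^ (j + 1))⁻¹ = n * (n ^ j * x * (n ^ j)⁻¹) * n⁻¹ := by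
        rw [pow_succ']; group
      rw [e]
      exact this
  have hinv : ∀ x ∈ H, n⁻¹ * x * n ∈ H := by
    intro x hx
    have hk : n ^ (orderOf n - 1) = n⁻¹ := by
      have hpos : 0 < orderOf n := orderOf_pos n
      have : n ^ (orderOf n - 1) * n = 1 := by
        rw [← pow_succ, Nat.sub_add_cancel hpos, pow_orderOf_eq_one]
      exact eq_inv_of_mul_eq_one_left this
    have := hpow (orderOf n - 1) x hx
    rwa [hk, inv_inv] at this
  rw [Subgroup.mem_normalizer_iff]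
  intro x
  constructor
  · exact h x
  · intro hx
    have := hinv _ hx
    have e : n⁻¹ * (n * x * n⁻¹) * n = x := by group
    rwa [e] at this

variable {G : Type u} [Group G] [Finite G] {K : Type v} [Field K] [Fintype K] {m : ℕ}

/-- `U` is a Sylow 3-subgroup -/
theorem rest3_sylow (R : ReeAx G K m) : ∃ P : Sylow 3 G, (P : Subgroup G) = R.U := by
  haveI : Fact (3 : ℕ).Prime := ⟨Nat.prime_three⟩
  have hU3 : IsPGroup 3 R.U := by
    apply IsPGroup.of_card (n := 3 * (2 * m + 1))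
    rw [R.U_card]
    unfold qq
    rw [← pow_mul, mul_comm]
  obtain ⟨P, hP⟩ := hU3.exists_le_sylow
  refine ⟨P, ?_⟩
  symm
  apply Subgroup.eq_of_le_of_card_ge hP
  -- `|P|` divides `q³`
  obtain ⟨k, hk⟩ := IsPGroup.iff_card.mp P.2
  have hdvd : Nat.card (P : Subgroup G) ∣ gg m := by
    rw [← R.card]
    exact Subgroup.card_subgroup_dvd_card _
  have hgg : gg m = qq m ^ 3 * ((qq m - 1) * (qq m ^ 3 + 1)) := by
    unfold gg; ring
  have h3q : 3 ∣ qq m := (ar_basic m).2.2.1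
  have hc1 : Nat.Coprime 3 (qq m - 1) := ((ar_coprime m).2.2.2.2.2.2.2.2.2.2.2.2.2).symm
  have hc2 : Nat.Coprime 3 (qq m ^ 3 + 1) := by
    rw [Nat.Prime.coprime_iff_not_dvd Nat.prime_three]
    intro h
    have h3 : 3 ∣ qq m ^ 3 := dvd_pow h3q (by norm_num)
    have := (Nat.dvd_add_right h3).1 h
    omega
  have hc : Nat.Coprime (3 ^ k) ((qq m - 1) * (qq m ^ 3 + 1)) :=
    Nat.Coprime.pow_left k (Nat.Coprime.mul_right hc1 hc2)
  rw [hgg, hk] at hdvd
  have hle := Nat.le_of_dvd (by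
    have := (ar_basic m).2.1
    positivity) (hc.dvd_of_dvd_mul_right hdvd)
  rw [R.U_card]
  show Nat.card (P : Subgroup G) ≤ qq m ^ 3
  rw [hk]
  exact hle

/-- T3 -/
theorem three_case (R : ReeAx G K m) (M : Subgroup G) (hM : IsPGroup 3 M) (hne : M ≠ ⊥) :
    ∃ P : Sylow 3 G, ∀ g : G, (∀ x ∈ M, g * x * g⁻¹ ∈ M) →
      g ∈ Subgroup.normalizer ((P : Subgroup G) : Set G) := by
  haveI : Fact (3 : ℕ).Prime := ⟨Nat.prime_three⟩
  obtain ⟨P₀, hP₀⟩ := rest3_sylow R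
  obtain ⟨P', hP'⟩ := hM.exists_le_sylow
  obtain ⟨x, hx⟩ := MulAction.exists_smul_eq G P₀ P'
  -- membership in `P'`
  have hmem : ∀ y : G, y ∈ (P' : Subgroup G) ↔ x⁻¹ * y * x ∈ R.U := by
    intro y
    rw [← hx, Sylow.coe_subgroup_smul, Subgroup.mem_pointwise_smul_iff_inv_smul_mem, hP₀]
    simp [MulAut.smul_def]
  obtain ⟨hUB, -, -, -, -, hBU, -⟩ := R.B_basic
  refine ⟨P', ?_⟩
  intro g hg
  -- a nontrivial element of `M`
  obtain ⟨y, hyM, hy1⟩ : ∃ y ∈ M, y ≠ (1 : G) := (M.bot_or_exists_ne_one).resolve_left hne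
  have hyU : x⁻¹ * y * x ∈ R.U := (hmem y).1 (hP' hyM)
  have hy1' : x⁻¹ * y * x ≠ 1 := by
    intro h
    apply hy1
    calc y = x * (x⁻¹ * y * x) * x⁻¹ := by group
      _ = 1 := by rw [h]; group
  have hgy : (x⁻¹ * g * x) * (x⁻¹ * y * x) * (x⁻¹ * g * x)⁻¹ ∈ R.B := by
    have e : (x⁻¹ * g * x) * (x⁻¹ * y * x) * (x⁻¹ * g * x)⁻¹ = x⁻¹ * (g * y * g⁻¹) * x := by group
    rw [e]
    exact hUB ((hmem _).1 (hP' (hg y hyM)))
  have hgB : x⁻¹ * g * x ∈ R.B := R.ti _ _ hyU hy1' hgy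
  have hgN : x⁻¹ * g * x ∈ Subgroup.normalizer (R.U : Set G) :=
    rest3_mem_normalizer R.U _ (fun u hu => hBU _ hgB u hu)
  rw [Subgroup.mem_normalizer_iff] at hgN ⊢
  intro h
  rw [hmem, hmem, hgN (x⁻¹ * h * x)]
  have e : (x⁻¹ * g * x) * (x⁻¹ * h * x) * (x⁻¹ * g * x)⁻¹ = x⁻¹ * (g * h * g⁻¹) * x := by group
  rw [e]

end Cfsg.Agent.Lib.Lead.RES
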