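import Mathlib
import Cfsg.Agent.Lib.Helper10.RES.Defs

set_option autoImplicit false
set_option linter.unusedVariables false

namespace Cfsg.Agent.Lib.Helper10.RES

theorem restv_iter {V : Type*} [CommGroup V] (u' : MulAut V) (t t' : V) (c : ℕ)
    (h3 : u' t' = t') (h4 : u' t = t * t' ^ c) (j : ℕ) :
    (u' ^ j) t = t * t' ^ (c * j) ∧ (u' ^ j) t' = t' := by
  induction j with
  | zero => simp
  | succ j ih =>
    obtain ⟨ih1, ih2⟩ := ih
    constructor
    · rw [pow_succ, MulAut.mul_apply, h4, map_mul, map_pow, ih1, ih2, mul_assoc, ← pow_add]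
      congr 2
    · rw [pow_succ, MulAut.mul_apply, h3, ih2]

theorem restv_u {V : Type*} [CommGroup V] (u : MulAut V) (t t' : V) (b : ℕ) (h1 : u t = t)
    (h2 : u t' = t' * t ^ b) (m n : ℕ) :
    u (t ^ m * t' ^ n) = t ^ (m + b * n) * t' ^ n := by
  rw [map_mul, map_pow, map_pow, h1, h2, mul_pow, ← pow_mul, pow_add, mul_comm (t' ^ n),
    mul_assoc]

theorem restv_u' {V : Type*} [CommGroup V] (u' : MulAut V) (t t' : V) (c : ℕ)
    (h3 : u' t' = t') (h4 : u' t = t * t' ^ c) (i m n : ℕ) :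
    (u' ^ i) (t ^ m * t' ^ n) = t ^ m * t' ^ (c * i * m + n) := by
  obtain ⟨e1, e2⟩ := restv_iter u' t t' c h3 h4 i
  rw [map_mul, map_pow, map_pow, e1, e2, mul_pow, ← pow_mul, pow_add, mul_assoc]

theorem restv_aux {V : Type*} [CommGroup V] {p : ℕ} [Fact p.Prime] (hp2 : p ≠ 2)
    (hexp : ∀ a : V, a ^ p = 1)
    (u u' : MulAut V) (t t' : V) (b c : ℕ) (hb : ¬ p ∣ b) (hc : ¬ p ∣ c)
    (h1 : u t = t) (h2 : u t' = t' * t ^ b) (h3 : u' t' = t') (h4 : u' t = t * t' ^ c) :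
    ∃ i j : ℕ, (u' ^ i * u * u' ^ j) t ∈ Subgroup.zpowers t ∧
      (u' ^ i * u * u' ^ j) t' = t ^ b * t' ^ 2 := by
  have hp : p.Prime := Fact.out
  have hcop : Nat.Coprime (b * c) p := by
    rw [Nat.coprime_comm, hp.coprime_iff_not_dvd]
    intro hd
    rcases hp.dvd_mul.mp hd with h | h
    · exact hb h
    · exact hc h
  obtain ⟨i, -, hi⟩ := Nat.exists_mul_mod_eq_one_of_coprime hcop hp.one_lt
  obtain ⟨q, hq⟩ : ∃ q, b * c * i = p * q + 1 :=
    ⟨b * c * i / p, by have := Nat.div_add_mod (b * c * i) p; omega⟩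
  obtain ⟨h, hh⟩ : ∃ h, p = 2 * h + 1 := hp.odd_of_ne_two hp2
  have hpow : ∀ (a : V) (m : ℕ), a ^ (p * m) = 1 := by
    intro a m
    rw [pow_mul, hexp, one_pow]
  refine ⟨i, i * h, ?_, ?_⟩
  · have e0 : t = t ^ 1 * t' ^ 0 := by simp
    have e1 : (u' ^ i * u * u' ^ (i * h)) t =
        t ^ (1 + b * (c * (i * h) * 1 + 0)) *
          t' ^ (c * i * (1 + b * (c * (i * h) * 1 + 0)) + (c * (i * h) * 1 + 0)) := by
      rw [MulAut.mul_apply, MulAut.mul_apply]
      conv_lhs => rw [e0]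
      rw [restv_u' u' t t' c h3 h4, restv_u u t t' b h1 h2, restv_u' u' t t' c h3 h4]
    have e2 : c * i * (1 + b * (c * (i * h) * 1 + 0)) + (c * (i * h) * 1 + 0) =
        p * (c * i + q * (c * (i * h))) := by
      have : c * i * (1 + b * (c * (i * h) * 1 + 0)) + (c * (i * h) * 1 + 0) =
          c * i + (b * c * i) * (c * (i * h)) + c * (i * h) := by ring
      rw [this, hq, hh]
      ring
    rw [e1, e2, hpow, mul_one]
    exact Subgroup.pow_mem _ (Subgroup.mem_zpowers t) _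
  · have e0 : t' = t ^ 0 * t' ^ 1 := by simp
    have e1 : (u' ^ i * u * u' ^ (i * h)) t' =
        t ^ (0 + b * (c * (i * h) * 0 + 1)) *
          t' ^ (c * i * (0 + b * (c * (i * h) * 0 + 1)) + (c * (i * h) * 0 + 1)) := by
      rw [MulAut.mul_apply, MulAut.mul_apply]
      conv_lhs => rw [e0]
      rw [restv_u' u' t t' c h3 h4, restv_u u t t' b h1 h2, restv_u' u' t t' c h3 h4]
    have e2 : c * i * (0 + b * (c * (i * h) * 0 + 1)) + (c * (i * h) * 0 + 1) = p * q + 2 := by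
      have : c * i * (0 + b * (c * (i * h) * 0 + 1)) + (c * (i * h) * 0 + 1) =
          b * c * i + 1 := by ring
      rw [this, hq]
    have e3 : 0 + b * (c * (i * h) * 0 + 1) = b := by ring
    rw [e1, e2, e3, pow_add, hpow, one_mul]

theorem torus_V {V : Type*} [Group V] {p : ℕ} [Fact p.Prime] (hp2 : p ≠ 2)
    (hcomm : ∀ a b : V, a * b = b * a) (hexp : ∀ a : V, a ^ p = 1)
    (u u' : MulAut V) (t t' : V) (b c : ℕ) (hb : ¬ p ∣ b) (hc : ¬ p ∣ c)
    (h1 : u t = t) (h2 : u t' = t' * t ^ b) (h3 : u' t' = t') (h4 : u' t = t * t' ^ c) :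
    ∃ i j : ℕ, (u' ^ i * u * u' ^ j) t ∈ Subgroup.zpowers t ∧
      (u' ^ i * u * u' ^ j) t' = t ^ b * t' ^ 2 := by
  let _ : CommGroup V := { (inferInstance : Group V) with mul_comm := hcomm }
  exact restv_aux hp2 hexp u u' t t' b c hb hc h1 h2 h3 h4

end Cfsg.Agent.Lib.Helper10.RES
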