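import Mathlib
import Cfsg.Agent.Lib.Helper10.RES.Defs
import Cfsg.Agent.Lib.Helper1.RESTV

set_option autoImplicit false
set_option linter.unusedVariables false

namespace Cfsg.Agent.Lib.Helper10.RES

theorem restq_plane {V : Type*} [CommGroup V] [Finite V] {p : ℕ} [Fact p.Prime] (hp2 : p ≠ 2)
    (hcard : Nat.card V = p ^ 2) (hexp : ∀ a : V, a ^ p = 1) (L : Subgroup V)
    (u α : MulAut V) (t : V) (htL : t ∈ L) (hαt : α t ∉ L)
    (hu1 : ∀ l ∈ L, u l = l) (hu2 : ∀ v : V, v⁻¹ * u v ∈ L) (hu3 : ∃ v : V, u v ≠ v) :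
    ∃ i j : ℕ, (∀ l ∈ L, ((α * u * α⁻¹) ^ i * u * (α * u * α⁻¹) ^ j) l ∈ L) ∧
      ∀ v : V, (v ^ 2)⁻¹ * ((α * u * α⁻¹) ^ i * u * (α * u * α⁻¹) ^ j) v ∈ L := by
  have hp : p.Prime := Fact.out
  set t' := α t with ht'
  have ht1 : t ≠ 1 := by
    intro h
    apply hαt
    rw [ht', h, map_one]
    exact L.one_mem
  have hto : orderOf t = p := orderOf_eq_prime (hexp t) ht1
  have hcz : Nat.card (Subgroup.zpowers t) = p := by rw [Nat.card_zpowers, hto]
  have hzL : Subgroup.zpowers t ≤ L := by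
    rw [Subgroup.zpowers_le]
    exact htL
  have hLtop : L ≠ ⊤ := fun h => hαt (h ▸ Subgroup.mem_top _)
  have hcL : Nat.card L = p := by
    have hdvd : Nat.card L ∣ p ^ 2 := hcard ▸ Subgroup.card_subgroup_dvd_card L
    obtain ⟨k, hk, hkk⟩ := (Nat.dvd_prime_pow hp).mp hdvd
    interval_cases k
    · exfalso
      apply ht1
      have h1 : L = ⊥ := Subgroup.eq_bot_of_card_eq L (by rw [hkk, pow_zero])
      rw [h1, Subgroup.mem_bot] at htL
      exact htL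
    · rw [hkk, pow_one]
    · exfalso
      apply hLtop
      exact Subgroup.eq_top_of_card_eq L (by rw [hkk, hcard])
  have hLz : L = Subgroup.zpowers t :=
    (Subgroup.eq_of_le_of_card_ge hzL (by rw [hcL, hcz])).symm
  have hW : Subgroup.closure ({t, t'} : Set V) = ⊤ := by
    have htW : t ∈ Subgroup.closure ({t, t'} : Set V) := Subgroup.subset_closure (by simp)
    have ht'W : t' ∈ Subgroup.closure ({t, t'} : Set V) := Subgroup.subset_closure (by simp)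
    have hLW : L ≤ Subgroup.closure ({t, t'} : Set V) := by
      rw [hLz, Subgroup.zpowers_le]
      exact htW
    have hdvd : Nat.card (Subgroup.closure ({t, t'} : Set V)) ∣ p ^ 2 :=
      hcard ▸ Subgroup.card_subgroup_dvd_card _
    obtain ⟨k, hk, hkk⟩ := (Nat.dvd_prime_pow hp).mp hdvd
    have hpW : p ∣ Nat.card (Subgroup.closure ({t, t'} : Set V)) :=
      hcL ▸ Subgroup.card_dvd_of_le hLW
    interval_cases k
    · exfalso
      rw [hkk, pow_zero] at hpW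
      exact hp.one_lt.ne' (Nat.dvd_one.mp hpW)
    · exfalso
      apply hαt
      have h1 : L = Subgroup.closure ({t, t'} : Set V) :=
        Subgroup.eq_of_le_of_card_ge hLW (by rw [hkk, hcL, pow_one])
      rw [h1]
      exact ht'W
    · exact Subgroup.eq_top_of_card_eq _ (by rw [hkk, hcard])
  have hind : ∀ P : V → Prop, P t → P t' → P 1 → (∀ a b, P a → P b → P (a * b)) →
      (∀ a, P a → P a⁻¹) → ∀ v, P v := by
    intro P h1 h2 h3 h4 h5 v
    have hv : v ∈ Subgroup.closure ({t, t'} : Set V) := hW ▸ Subgroup.mem_top v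
    induction hv using Subgroup.closure_induction with
    | mem x hx =>
      rcases hx with rfl | hx
      · exact h1
      · rw [Set.mem_singleton_iff] at hx
        rw [hx]
        exact h2
    | one => exact h3
    | mul a b _ _ ha hb => exact h4 a b ha hb
    | inv a _ ha => exact h5 a ha
  have hfix : ∀ f : MulAut V, f t = t → f t' = t' → ∀ v, f v = v := by
    intro f h1 h2
    exact hind (fun v => f v = v) h1 h2 (map_one f)
      (fun a b ha hb => by rw [map_mul, ha, hb]) (fun a ha => by rw [map_inv, ha])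
  obtain ⟨b, hb⟩ : ∃ b : ℕ, t ^ b = t'⁻¹ * u t' := by
    have h0 : t'⁻¹ * u t' ∈ Subgroup.zpowers t := hLz ▸ hu2 t'
    exact (Submonoid.mem_powers_iff _ _).mp (mem_powers_iff_mem_zpowers.mpr h0)
  have h2 : u t' = t' * t ^ b := by rw [hb, mul_inv_cancel_left]
  have h1 : u t = t := hu1 t htL
  have hpb : ¬ p ∣ b := by
    rintro ⟨m, rfl⟩
    obtain ⟨v, hv⟩ := hu3
    apply hv
    apply hfix u h1
    rw [h2, pow_mul, hexp, one_pow, mul_one]
  set u' : MulAut V := α * u * α⁻¹ with hu'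
  have h3 : u' t' = t' := by
    rw [hu', MulAut.mul_apply, MulAut.mul_apply, ht', MulAut.inv_apply_self, h1]
  set w := α⁻¹ t with hw
  have hαw : α w = t := by rw [hw, MulAut.apply_inv_self]
  obtain ⟨c, hc⟩ : ∃ c : ℕ, t ^ c = w⁻¹ * u w := by
    have h0 : w⁻¹ * u w ∈ Subgroup.zpowers t := hLz ▸ hu2 w
    exact (Submonoid.mem_powers_iff _ _).mp (mem_powers_iff_mem_zpowers.mpr h0)
  have h4 : u' t = t * t' ^ c := by
    rw [hu', MulAut.mul_apply, MulAut.mul_apply, ← hw]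
    have h0 : u w = w * t ^ c := by rw [hc, mul_inv_cancel_left]
    rw [h0, map_mul, map_pow, hαw]
  have hpc : ¬ p ∣ c := by
    rintro ⟨m, rfl⟩
    have h5 : u' t = t := by rw [h4, pow_mul, hexp, one_pow, mul_one]
    have h6 := hfix u' h5 h3
    obtain ⟨v, hv⟩ := hu3
    apply hv
    have h7 : u' (α v) = α (u v) := by
      rw [hu', MulAut.mul_apply, MulAut.mul_apply, MulAut.inv_apply_self]
    have h8 := h6 (α v)
    rw [h7] at h8
    exact α.injective h8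
  obtain ⟨i, j, hi1, hi2⟩ := restv_aux hp2 hexp u u' t t' b c hpb hpc h1 h2 h3 h4
  refine ⟨i, j, ?_, ?_⟩
  · intro l hl
    rw [hLz] at hl ⊢
    obtain ⟨m, rfl⟩ := Subgroup.mem_zpowers_iff.mp hl
    rw [map_zpow]
    exact Subgroup.zpow_mem _ hi1 m
  · refine hind (fun v => (v ^ 2)⁻¹ * (u' ^ i * u * u' ^ j) v ∈ L) ?_ ?_ ?_ ?_ ?_
    · exact L.mul_mem (L.inv_mem (L.pow_mem htL 2)) (hLz ▸ hi1)
    · show (t' ^ 2)⁻¹ * (u' ^ i * u * u' ^ j) t' ∈ L
      rw [hi2, mul_comm (t ^ b), inv_mul_cancel_left]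
      exact L.pow_mem htL b
    · show (1 ^ 2)⁻¹ * (u' ^ i * u * u' ^ j) 1 ∈ L
      rw [map_one, one_pow, inv_one, one_mul]
      exact L.one_mem
    · intro a b' ha hb'
      have h0 : ((a * b') ^ 2)⁻¹ * (u' ^ i * u * u' ^ j) (a * b') =
          ((a ^ 2)⁻¹ * (u' ^ i * u * u' ^ j) a) * ((b' ^ 2)⁻¹ * (u' ^ i * u * u' ^ j) b') := by
        rw [mul_pow, mul_inv, map_mul, mul_mul_mul_comm]
      show ((a * b') ^ 2)⁻¹ * (u' ^ i * u * u' ^ j) (a * b') ∈ L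
      rw [h0]
      exact L.mul_mem ha hb'
    · intro a ha
      have h0 : ((a⁻¹) ^ 2)⁻¹ * (u' ^ i * u * u' ^ j) a⁻¹ =
          ((a ^ 2)⁻¹ * (u' ^ i * u * u' ^ j) a)⁻¹ := by
        rw [inv_pow, map_inv, mul_inv]
      show ((a⁻¹) ^ 2)⁻¹ * (u' ^ i * u * u' ^ j) a⁻¹ ∈ L
      rw [h0]
      exact L.inv_mem ha

theorem restq_plane' {V : Type*} [Group V] [Finite V] {p : ℕ} [Fact p.Prime] (hp2 : p ≠ 2)
    (hcomm : ∀ a b : V, a * b = b * a)
    (hcard : Nat.card V = p ^ 2) (hexp : ∀ a : V, a ^ p = 1) (L : Subgroup V)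
    (u α : MulAut V) (t : V) (htL : t ∈ L) (hαt : α t ∉ L)
    (hu1 : ∀ l ∈ L, u l = l) (hu2 : ∀ v : V, v⁻¹ * u v ∈ L) (hu3 : ∃ v : V, u v ≠ v) :
    ∃ i j : ℕ, (∀ l ∈ L, ((α * u * α⁻¹) ^ i * u * (α * u * α⁻¹) ^ j) l ∈ L) ∧
      ∀ v : V, (v ^ 2)⁻¹ * ((α * u * α⁻¹) ^ i * u * (α * u * α⁻¹) ^ j) v ∈ L := by
  let _ : CommGroup V := { (inferInstance : Group V) with mul_comm := hcomm }
  exact restq_plane hp2 hcard hexp L u α t htL hαt hu1 hu2 hu3

section T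

variable {E : Type*} [Group E]

theorem restq_map_eq (𝔄 : Subgroup (MulAut E)) (K : Subgroup E)
    (hKinv : ∀ α ∈ 𝔄, ∀ k ∈ K, α k ∈ K) (α : MulAut E) (hα : α ∈ 𝔄) :
    K.map ((α : E ≃* E) : E →* E) = K := by
  ext k
  constructor
  · rintro ⟨k', hk', rfl⟩
    exact hKinv α hα k' hk'
  · intro hk
    exact ⟨α⁻¹ k, hKinv α⁻¹ (𝔄.inv_mem hα) k hk, MulAut.apply_inv_self E α k⟩

noncomputable def restq_Phi (𝔄 : Subgroup (MulAut E)) (K : Subgroup E) [K.Normal]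
    (hK : ∀ α ∈ 𝔄, K.map ((α : E ≃* E) : E →* E) = K) : ↥𝔄 →* MulAut (E ⧸ K) where
  toFun α := QuotientGroup.congr K K α.1 (hK α.1 α.2)
  map_one' := by
    ext x
    induction x using QuotientGroup.induction_on
    rfl
  map_mul' a b := by
    ext x
    induction x using QuotientGroup.induction_on
    rfl

theorem restq_Phi_mk (𝔄 : Subgroup (MulAut E)) (K : Subgroup E) [K.Normal]
    (hK : ∀ α ∈ 𝔄, K.map ((α : E ≃* E) : E →* E) = K) (β : ↥𝔄) (e : E) :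
    restq_Phi 𝔄 K hK β (QuotientGroup.mk e) = QuotientGroup.mk (β.1 e) := rfl

variable [Finite E] {p : ℕ} [Fact p.Prime]

theorem torus_raw (hp2 : p ≠ 2) (𝔄 : Subgroup (MulAut E)) (K T : Subgroup E) [K.Normal]
    (hKT : K ≤ T) (hKinv : ∀ α ∈ 𝔄, ∀ k ∈ K, α k ∈ K)
    (hexp : ∀ e : E, e ^ p ∈ K) (hab : ∀ e f : E, e⁻¹ * f⁻¹ * e * f ∈ K)
    (hidx : K.index = p ^ 2) (hTK : K.relIndex T = p)
    (u : MulAut E) (hu : u ∈ 𝔄) (huc : ChainTriv K T u) (hu3 : ∃ e : E, e⁻¹ * u e ∉ K)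
    (α : MulAut E) (hα : α ∈ 𝔄) (hαT : ∃ t ∈ T, α t ∉ T) :
    ∃ h' ∈ 𝔄, (∀ t ∈ T, h' t ∈ T) ∧ ∀ e : E, (e ^ 2)⁻¹ * h' e ∈ T := by
  have hK := restq_map_eq 𝔄 K hKinv
  have hΦmk := restq_Phi_mk 𝔄 K hK
  set Φ := restq_Phi 𝔄 K hK with hΦ
  set L : Subgroup (E ⧸ K) := T.map (QuotientGroup.mk' K) with hL
  have hLmem : ∀ g : E, (QuotientGroup.mk g : E ⧸ K) ∈ L → g ∈ T := by
    intro g hg
    obtain ⟨τ, hτ, hτg⟩ := hg
    have h1 : τ⁻¹ * g ∈ K := QuotientGroup.eq.mp hτg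
    have h2 : g = τ * (τ⁻¹ * g) := by group
    rw [h2]
    exact T.mul_mem hτ (hKT h1)
  have hmemL : ∀ g ∈ T, (QuotientGroup.mk g : E ⧸ K) ∈ L := fun g hg => ⟨g, hg, rfl⟩
  have hcomm : ∀ a b : E ⧸ K, a * b = b * a := by
    intro a b
    induction a using QuotientGroup.induction_on with
    | H e =>
      induction b using QuotientGroup.induction_on with
      | H f =>
        rw [← QuotientGroup.mk_mul, ← QuotientGroup.mk_mul, QuotientGroup.eq]
        have h1 := hab f e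
        have h2 : (e * f)⁻¹ * (f * e) = f⁻¹ * e⁻¹ * f * e := by group
        rw [h2]
        exact h1
  have hexpV : ∀ a : E ⧸ K, a ^ p = 1 := by
    intro a
    induction a using QuotientGroup.induction_on with
    | H e =>
      rw [← QuotientGroup.mk_pow, QuotientGroup.eq_one_iff]
      exact hexp e
  have hcard : Nat.card (E ⧸ K) = p ^ 2 := by rw [← Subgroup.index_eq_card, hidx]
  obtain ⟨t, htT, hαt⟩ := hαT
  set U : ↥𝔄 := ⟨u, hu⟩ with hU
  set A : ↥𝔄 := ⟨α, hα⟩ with hAdef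
  have hc1 : (Φ A) (QuotientGroup.mk t) ∉ L := by
    rw [hΦmk]
    exact fun h => hαt (hLmem _ h)
  have hc2 : ∀ l ∈ L, (Φ U) l = l := by
    intro l hl
    obtain ⟨τ, hτ, rfl⟩ := hl
    show Φ U (QuotientGroup.mk τ) = QuotientGroup.mk τ
    rw [hΦmk]
    exact (QuotientGroup.eq.mpr (huc.1 τ hτ)).symm
  have hc3 : ∀ v : E ⧸ K, v⁻¹ * (Φ U) v ∈ L := by
    intro v
    induction v using QuotientGroup.induction_on with
    | H e =>
      rw [hΦmk, ← QuotientGroup.mk_inv, ← QuotientGroup.mk_mul]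
      exact hmemL _ (huc.2 e)
  have hc4 : ∃ v : E ⧸ K, (Φ U) v ≠ v := by
    obtain ⟨e, he⟩ := hu3
    refine ⟨QuotientGroup.mk e, ?_⟩
    rw [hΦmk]
    intro h
    exact he (QuotientGroup.eq.mp h.symm)
  obtain ⟨i, j, hi1, hi2⟩ := restq_plane' hp2 hcomm hcard hexpV L (Φ U) (Φ A)
    (QuotientGroup.mk t) (hmemL t htT) hc1 hc2 hc3 hc4
  set H : ↥𝔄 := (A * U * A⁻¹) ^ i * U * (A * U * A⁻¹) ^ j with hH
  have hΦH : Φ H = (Φ A * Φ U * (Φ A)⁻¹) ^ i * Φ U * (Φ A * Φ U * (Φ A)⁻¹) ^ j := by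
    rw [hH, map_mul, map_mul, map_pow, map_pow, map_mul, map_mul, map_inv]
  refine ⟨H.1, H.2, ?_, ?_⟩
  · intro τ hτ
    apply hLmem
    rw [← hΦmk, hΦH]
    exact hi1 _ (hmemL τ hτ)
  · intro e
    apply hLmem
    rw [QuotientGroup.mk_mul, QuotientGroup.mk_inv, QuotientGroup.mk_pow, ← hΦmk, hΦH]
    exact hi2 _

end T

end Cfsg.Agent.Lib.Helper10.RES
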