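import Mathlib
import Cfsg.Agent.Lib.helper7.REE.Defs
import Cfsg.Agent.Lib.Helper24.RESTRA
import Cfsg.Agent.Lib.Helper24.RESTRB
import Cfsg.Agent.Lib.Helper1.REST3
import Cfsg.Agent.Lib.Helper1.REEG8core

/-!
# Project RES (lead), row TR `odd_case`: core on the statement of REE row G8C `hall_subgroups`.
-/

set_option autoImplicit false
set_option linter.unusedVariables false
set_option linter.unusedSectionVars false
set_option linter.style.haveILetI false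

namespace Cfsg.Agent.Lib.Lead.RES

open Matrix Cfsg.Agent.Lib.helper8 Cfsg.Agent.Lib.helper7.REE

universe u v

variable {G : Type u} [Group G] [Finite G] {K : Type v} [Field K] [Fintype K] {m : ℕ}

/-- core of TR: `hhall` is the statement of `hall_subgroups R` -/
theorem restr_core (R : ReeAx G K m)
    (hhall : ∀ kn ∈ ({((qq m - 1) / 2, 2 * (qq m - 1)), ((qq m + 1) / 4, 6 * (qq m + 1)),
        (qq m - rr m + 1, 6 * (qq m - rr m + 1)),
        (qq m + rr m + 1, 6 * (qq m + rr m + 1))} : Set (ℕ × ℕ)),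
      ∃ A : Subgroup G, IsCyclic A ∧ Nat.card A = kn.1 ∧
        Nat.card (Subgroup.normalizer (A : Set G)) = kn.2 ∧
        ∀ A₀ : Subgroup G, A₀ ≤ A → A₀ ≠ ⊥ →
          Subgroup.normalizer (A₀ : Set G) = Subgroup.normalizer (A : Set G))
    (r : ℕ) (hr : r.Prime) (hr3 : 3 < r) (M : Subgroup G)
    (hM : IsPGroup r M) (hne : M ≠ ⊥) :
    ∃ A : Subgroup G, IsCyclic A ∧
      (Nat.card A = (qq m - 1) / 2 ∨ Nat.card A = (qq m + 1) / 4 ∨
        Nat.card A = qq m - rr m + 1 ∨ Nat.card A = qq m + rr m + 1) ∧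
      ∀ g : G, (∀ x ∈ M, g * x * g⁻¹ ∈ M) → g ∈ Subgroup.normalizer (A : Set G) := by
  haveI : Fact r.Prime := ⟨hr⟩
  -- `r ∣ |M| ∣ gg m`
  have hrM : r ∣ Nat.card M := by
    obtain ⟨n, hn⟩ := IsPGroup.iff_card.mp hM
    rcases Nat.eq_zero_or_pos n with h0 | hpos
    · exfalso
      apply hne
      rw [h0, pow_zero] at hn
      exact Subgroup.card_eq_one.1 hn
    · rw [hn]
      exact dvd_pow_self r hpos.ne'
  have hrG : r ∣ gg m := by
    rw [← R.card]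
    exact dvd_trans hrM (Subgroup.card_subgroup_dvd_card M)
  obtain ⟨k, hk4, hrk, hfull⟩ := odd_arith m r hr hr3 hrG
  -- the Hall subgroup of order `k`
  obtain ⟨A₀, hA₀c, hA₀k, hA₀N⟩ : ∃ A₀ : Subgroup G, IsCyclic A₀ ∧ Nat.card A₀ = k ∧
      ∀ A' : Subgroup G, A' ≤ A₀ → A' ≠ ⊥ →
        Subgroup.normalizer (A' : Set G) = Subgroup.normalizer (A₀ : Set G) := by
    rcases hk4 with h | h | h | h
    · obtain ⟨A, h1, h2, -, h4⟩ := hhall ((qq m - 1) / 2, 2 * (qq m - 1)) (by simp)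
      exact ⟨A, h1, by rw [h2, h], h4⟩
    · obtain ⟨A, h1, h2, -, h4⟩ := hhall ((qq m + 1) / 4, 6 * (qq m + 1)) (by simp)
      exact ⟨A, h1, by rw [h2, h], h4⟩
    · obtain ⟨A, h1, h2, -, h4⟩ := hhall (qq m - rr m + 1, 6 * (qq m - rr m + 1)) (by simp)
      exact ⟨A, h1, by rw [h2, h], h4⟩
    · obtain ⟨A, h1, h2, -, h4⟩ := hhall (qq m + rr m + 1, 6 * (qq m + rr m + 1)) (by simp)
      exact ⟨A, h1, by rw [h2, h], h4⟩
  obtain ⟨g₀, hg₀⟩ := conj_into_hall A₀ r hr (fun j hj => by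
    rw [hA₀k]
    exact hfull j (by rwa [R.card] at hj)) M hM
  -- `M₀ = g₀ M g₀⁻¹ ≤ A₀`
  have hM₀le : M.map (MulAut.conj g₀).toMonoidHom ≤ A₀ := by
    rintro z ⟨x, hx, rfl⟩
    exact hg₀ x hx
  have hM₀ne : M.map (MulAut.conj g₀).toMonoidHom ≠ ⊥ := by
    intro h
    apply hne
    exact (Subgroup.map_eq_bot_iff_of_injective M (MulAut.conj g₀).injective).1 h
  have hNeq := hA₀N _ hM₀le hM₀ne
  refine ⟨A₀.map (MulAut.conj g₀⁻¹).toMonoidHom, ?_, ?_, ?_⟩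
  · haveI := hA₀c
    exact isCyclic_of_surjective
      ((A₀.equivMapOfInjective (MulAut.conj g₀⁻¹).toMonoidHom (MulAut.conj g₀⁻¹).injective))
      (A₀.equivMapOfInjective (MulAut.conj g₀⁻¹).toMonoidHom (MulAut.conj g₀⁻¹).injective).surjective
  · rw [reeg8_card_map_conj, hA₀k]
    exact hk4
  · intro g hg
    -- `g₀ g g₀⁻¹` normalises `M₀`
    have h1 : g₀ * g * g₀⁻¹ ∈ Subgroup.normalizer ((M.map (MulAut.conj g₀).toMonoidHom : Subgroup G) : Set G) := by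
      apply rest3_mem_normalizer
      intro z hz
      rw [reeg8_mem_map_conj] at hz ⊢
      have := hg _ hz
      have e : g₀⁻¹ * (g₀ * g * g₀⁻¹ * z * (g₀ * g * g₀⁻¹)⁻¹) * g₀ = g * (g₀⁻¹ * z * g₀) * g⁻¹ := by
        group
      rw [e]
      exact this
    rw [hNeq, Subgroup.mem_normalizer_iff] at h1
    rw [Subgroup.mem_normalizer_iff]
    intro h
    rw [reeg8_mem_map_conj, reeg8_mem_map_conj, inv_inv]
    rw [h1 (g₀ * h * g₀⁻¹)]
    have e : g₀ * g * g₀⁻¹ * (g₀ * h * g₀⁻¹) * (g₀ * g * g₀⁻¹)⁻¹ = g₀ * (g * h * g⁻¹) * g₀⁻¹ := by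
      group
    rw [e]

end Cfsg.Agent.Lib.Lead.RES
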