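import Mathlib
import Cfsg.Agent.Lib.helper7.REE.Defs
import Cfsg.Agent.Lib.Helper1.RESTRcore
import Cfsg.Agent.Lib.Helper29.REEG8C

/-!
# Project RES (lead), row TR `odd_case` (verbatim from `Lead/RES/Skel.lean.txt`).
-/

set_option autoImplicit false
set_option linter.unusedVariables false
set_option linter.unusedSectionVars false

namespace Cfsg.Agent.Lib.Lead.RES

open Matrix Cfsg.Agent.Lib.helper8 Cfsg.Agent.Lib.helper7.REE

universe u v

variable {G : Type u} [Group G] [Finite G] {K : Type v} [Field K] [Fintype K] {m : ℕ}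

/-- TR -/
theorem odd_case (R : ReeAx G K m) (r : ℕ) (hr : r.Prime) (hr3 : 3 < r) (M : Subgroup G)
    (hM : IsPGroup r M) (hne : M ≠ ⊥) :
    ∃ A : Subgroup G, IsCyclic A ∧
      (Nat.card A = (qq m - 1) / 2 ∨ Nat.card A = (qq m + 1) / 4 ∨
        Nat.card A = qq m - rr m + 1 ∨ Nat.card A = qq m + rr m + 1) ∧
      ∀ g : G, (∀ x ∈ M, g * x * g⁻¹ ∈ M) → g ∈ Subgroup.normalizer (A : Set G) :=
  restr_core R R.hall_subgroups r hr hr3 M hM hne

end Cfsg.Agent.Lib.Lead.RES
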