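import Mathlib
import Cfsg.Prelude.Def_Transfer
import Cfsg.Agent.Lib.Helper5.S1906.Defs
import Cfsg.Agent.Lib.Helper19.TransferCentral

set_option autoImplicit false
set_option linter.unusedVariables false
set_option linter.unusedSectionVars false

namespace Cfsg.Agent.Lib.Helper5.S1906

theorem s1906g3_core {G : Type*} [Group G] [Finite G] (hG : ∀ H : Subgroup G, H.index ≠ 2) (P : Sylow 2 G)
    {X0 : Subgroup G} {c z : G} (h : Ctx (P : Subgroup G) X0 c z)
    (hfix : ∀ n : G, n ∈ Subgroup.normalizer ((P : Subgroup G) : Set G) → n * c * n⁻¹ = c ∧ n * z * n⁻¹ = z)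
    (M : Subgroup G)
    (hM : M ≤ (P : Subgroup G)) (hM2 : M.relIndex (P : Subgroup G) = 2) : c ∈ M ∧ z ∈ M := by
  constructor
  · by_contra hc
    obtain ⟨K, -, hK2, -⟩ := Cfsg.Agent.Lib.Helper19.exists_index_two_of_central_involution P M hM hM2 c h.cX
      (fun s hs => h.cC s hs) h.c2 (by
        intro n hn
        have hn' : n⁻¹ ∈ Subgroup.normalizer ((P : Subgroup G) : Set G) := Subgroup.inv_mem _ hn
        have := (hfix n⁻¹ hn').1
        rw [inv_inv] at this
        rw [this]
        exact hc)
    exact hG K hK2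
  · by_contra hz
    obtain ⟨K, -, hK2, -⟩ := Cfsg.Agent.Lib.Helper19.exists_index_two_of_central_involution P M hM hM2 z h.zX
      (fun s hs => h.zC s hs) h.z2 (by
        intro n hn
        have hn' : n⁻¹ ∈ Subgroup.normalizer ((P : Subgroup G) : Set G) := Subgroup.inv_mem _ hn
        have := (hfix n⁻¹ hn').2
        rw [inv_inv] at this
        rw [this]
        exact hz)
    exact hG K hK2

end Cfsg.Agent.Lib.Helper5.S1906
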