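import Mathlib
import Cfsg.Prelude.Def_Transfer
import Cfsg.Agent.Lib.Helper5.S1906.Defs
import Cfsg.Agent.Lib.Helper1.S1906G3core
import Cfsg.Agent.Lib.helper15.S1906G1

set_option autoImplicit false
set_option linter.unusedVariables false
set_option linter.unusedSectionVars false

namespace Cfsg.Agent.Lib.Helper5.S1906

open scoped IsMulCommutative

section Gl

variable {G : Type*} [Group G] [Finite G] (hG : ∀ H : Subgroup G, H.index ≠ 2) (P : Sylow 2 G)
  {X0 : Subgroup G} {c z : G}

include hG in
/-- G3 -/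
theorem mem_of_relIndex_two (h : Ctx (P : Subgroup G) X0 c z) (M : Subgroup G)
    (hM : M ≤ (P : Subgroup G)) (hM2 : M.relIndex (P : Subgroup G) = 2) : c ∈ M ∧ z ∈ M :=
  s1906g3_core hG P h (fun n hn => fix_cz P h n hn) M hM hM2

end Gl

end Cfsg.Agent.Lib.Helper5.S1906
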