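import Mathlib
import Cfsg.Prelude.Def_Transfer
import Cfsg.Agent.Lib.Helper5.S1906.Defs

set_option autoImplicit false
set_option linter.unusedVariables false
set_option linter.unusedSectionVars false
set_option linter.unusedSimpArgs false

namespace Cfsg.Agent.Lib.Helper5.S1906

theorem s1906g7_idx2 {G : Type*} [Group G] (P M : Subgroup G) (a : G) (haP : a ∈ P) (haM : a ∉ M)
    (hmul : ∀ x ∈ P, ∀ y ∈ P, x ∉ M → y ∉ M → x * y ∈ M) : M.relIndex P = 2 := by
  rw [Subgroup.relIndex_eq_two_iff_exists_notMem_and]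
  refine ⟨a, haP, haM, ?_⟩
  intro b hb
  by_cases hbM : b ∈ M
  · exact Or.inr hbM
  · exact Or.inl (hmul b hb a haP hbM haM)

theorem s1906g7_core {G : Type*} [Group G] [Finite G] (P : Sylow 2 G)
    {X0 : Subgroup G} {c z : G} (h : Ctx (P : Subgroup G) X0 c z)
    (hP6 : (∀ x ∈ (P : Subgroup G), ∀ y ∈ (P : Subgroup G), x * y = y * x ∨ x * y = y * x * c) ∧
      (∀ x ∈ (P : Subgroup G), Cen (P : Subgroup G) (x * x)) ∧
      (∀ x ∈ (P : Subgroup G), ∀ y ∈ (P : Subgroup G), (x * y) ^ 2 = x ^ 2 * y ^ 2 ∨ (x * y) ^ 2 = x ^ 2 * y ^ 2 * c) ∧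
      (∀ j : ℕ, 2 ≤ j → ∀ x ∈ (P : Subgroup G), ∀ y ∈ (P : Subgroup G), (x * y) ^ (2 ^ j) = x ^ (2 ^ j) * y ^ (2 ^ j)))
    (hsep : ∀ N : Subgroup G, N ≤ (P : Subgroup G) → (∀ x ∈ (P : Subgroup G), x * x ∈ N) → z ∉ N →
      ∃ M : Subgroup G, M ≤ (P : Subgroup G) ∧ M.relIndex (P : Subgroup G) = 2 ∧ N ≤ M ∧ z ∉ M)
    (hG2 : ∀ ω : G, (ω = c ∨ ω = z ∨ ω = c * z) → ∀ g : G, g * ω * g⁻¹ ∈ (P : Subgroup G) →
      Cen (P : Subgroup G) (g * ω * g⁻¹) → g * ω * g⁻¹ = ω)
    (hG3 : ∀ M : Subgroup G, M ≤ (P : Subgroup G) → M.relIndex (P : Subgroup G) = 2 → c ∈ M ∧ z ∈ M)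
    (hG4 : ∀ M : Subgroup G, M ≤ (P : Subgroup G) → M.relIndex (P : Subgroup G) = 2 →
      ∀ k : ℕ, 1 ≤ k → ∀ u : G, u ∈ (P : Subgroup G) → orderOf u = 2 ^ k →
      (∀ y ∈ (P : Subgroup G), y ∉ M → 2 ^ (k - 1) < orderOf y) → ∃ g : G, g * u * g⁻¹ ∈ M)
    (hsmall : ∀ x ∈ (P : Subgroup G), x ^ 4 = 1) : False := by
  have hcc : c * c = 1 := h.c2
  have hzz : z * z = 1 := h.z2
  have hzc : z * c = c * z := h.cC z h.zX
  have hcc' : ∀ a : G, c * (c * a) = a := fun a => by rw [← mul_assoc, hcc, one_mul]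
  have hzz' : ∀ a : G, z * (z * a) = a := fun a => by rw [← mul_assoc, hzz, one_mul]
  have hzc' : ∀ a : G, z * (c * a) = c * (z * a) := fun a => by rw [← mul_assoc, hzc, mul_assoc]
  have hcinv : c⁻¹ = c := inv_eq_of_mul_eq_one_left hcc
  have hcz1 : c * z ≠ 1 := by
    intro h1
    have : c = z := by
      have h3 : c * z * z = z := by rw [h1, one_mul]
      rwa [mul_assoc, hzz, mul_one] at h3
    exact h.cz this
  have hczc : c * z ≠ c := by
    intro h1
    have : z = 1 := by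
      have h3 : c * (c * z) = c * c := by rw [h1]
      rwa [hcc', hcc] at h3
    exact h.z1 this
  have hsq : ∀ x ∈ (P : Subgroup G), x * x = 1 ∨ x * x = c ∨ x * x = z ∨ x * x = c * z := by
    intro x hx
    apply h.invZ (x * x) (Subgroup.mul_mem _ hx hx) (hP6.2.1 x hx)
    have := hsmall x hx
    rw [← this]
    simp [pow_succ, mul_assoc]
  have hzD : z ∉ (⁅(P : Subgroup G), (P : Subgroup G)⁆ : Subgroup G) := by
    intro hz
    rcases h.invD z hz hzz with h1 | h1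
    · exact h.z1 h1
    · exact h.cz h1.symm
  let M : Subgroup G :=
    { carrier := {x | x ∈ (P : Subgroup G) ∧ (x * x = 1 ∨ x * x = c)}
      one_mem' := ⟨Subgroup.one_mem _, Or.inl (one_mul 1)⟩
      mul_mem' := by
        rintro x y ⟨hx, hx2⟩ ⟨hy, hy2⟩
        refine ⟨Subgroup.mul_mem _ hx hy, ?_⟩
        have h3 := hP6.2.2.1 x hx y hy
        rw [pow_two, pow_two, pow_two] at h3
        rcases h3 with h3 | h3 <;> rcases hx2 with hx2 | hx2 <;> rcases hy2 with hy2 | hy2 <;>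
          rw [h3, hx2, hy2] <;> simp [hcc]
      inv_mem' := by
        rintro x ⟨hx, hx2⟩
        refine ⟨Subgroup.inv_mem _ hx, ?_⟩
        have h3 : x⁻¹ * x⁻¹ = (x * x)⁻¹ := by group
        rw [h3]
        rcases hx2 with hx2 | hx2
        · left; rw [hx2, inv_one]
        · right; rw [hx2, hcinv] }
  have hMmem : ∀ x, x ∈ M ↔ x ∈ (P : Subgroup G) ∧ (x * x = 1 ∨ x * x = c) := fun x => Iff.rfl
  have hMP : M ≤ (P : Subgroup G) := fun x hx => hx.1
  have hMne : ∃ u ∈ (P : Subgroup G), u ∉ M := by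
    by_contra hcon
    push Not at hcon
    obtain ⟨M', hM'P, hM'2, -, hzM'⟩ := hsep ⁅(P : Subgroup G), (P : Subgroup G)⁆
      (Subgroup.commutator_le.mpr (fun a ha b hb => Subgroup.mul_mem _ (Subgroup.mul_mem _ (Subgroup.mul_mem _ ha hb) (Subgroup.inv_mem _ ha)) (Subgroup.inv_mem _ hb))) (by
        intro x hx
        rcases ((hMmem x).mp (hcon x hx)).2 with h1 | h1
        · rw [h1]; exact Subgroup.one_mem _
        · rw [h1]; exact h.cD) hzD
    exact hzM' (hG3 M' hM'P hM'2).2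
  obtain ⟨u, huP, huM⟩ := hMne
  have hnotM : ∀ x ∈ (P : Subgroup G), x ∉ M → (x * x = z ∨ x * x = c * z) := by
    intro x hx hxM
    rcases hsq x hx with h1 | h1 | h1 | h1
    · exact absurd ((hMmem x).mpr ⟨hx, Or.inl h1⟩) hxM
    · exact absurd ((hMmem x).mpr ⟨hx, Or.inr h1⟩) hxM
    · exact Or.inl h1
    · exact Or.inr h1
  have hM2 : M.relIndex (P : Subgroup G) = 2 := by
    apply s1906g7_idx2 (P : Subgroup G) M u huP huM
    intro x hx y hy hxM hyM
    refine (hMmem _).mpr ⟨Subgroup.mul_mem _ hx hy, ?_⟩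
    have h3 := hP6.2.2.1 x hx y hy
    rw [pow_two, pow_two, pow_two] at h3
    rcases h3 with h3 | h3 <;> rcases hnotM x hx hxM with hx2 | hx2 <;> rcases hnotM y hy hyM with hy2 | hy2 <;>
      rw [h3, hx2, hy2] <;> simp [mul_assoc, hcc, hzz, hcc', hzz', hzc']
  have hord4 : ∀ y ∈ (P : Subgroup G), y ∉ M → orderOf y = 2 ^ 2 := by
    intro y hy hyM
    apply orderOf_eq_prime_pow (p := 2) (n := 1)
    · intro h1
      apply hyM
      refine (hMmem y).mpr ⟨hy, Or.inl ?_⟩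
      rw [← pow_two]
      simpa using h1
    · have := hsmall y hy
      simpa using this
  obtain ⟨g, hg⟩ := hG4 M hMP hM2 2 (by norm_num) u huP (hord4 u huP huM) (by
    intro y hy hyM
    rw [hord4 y hy hyM]
    norm_num)
  have hconj : (g * u * g⁻¹) * (g * u * g⁻¹) = g * (u * u) * g⁻¹ := by group
  have hgu := ((hMmem _).mp hg).2
  rw [hconj] at hgu
  have hω := hnotM u huP huM
  have hne1 : g * (u * u) * g⁻¹ ≠ 1 := by
    intro h1
    have h3 : u * u = 1 := by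
      have : g⁻¹ * (g * (u * u) * g⁻¹) * g = u * u := by group
      rw [h1] at this
      rw [← this]
      group
    rcases hω with h4 | h4
    · rw [h4] at h3; exact h.z1 h3
    · rw [h4] at h3; exact hcz1 h3
  have hgc : g * (u * u) * g⁻¹ = c := by
    rcases hgu with h1 | h1
    · exact absurd h1 hne1
    · exact h1
  have h5 := hG2 (u * u) (by
      rcases hω with h4 | h4
      · right; left; exact h4
      · right; right; exact h4) g (by rw [hgc]; exact h.cX) (by rw [hgc]; exact h.cC)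
  rw [hgc] at h5
  rcases hω with h4 | h4
  · rw [h4] at h5; exact h.cz h5
  · rw [h4] at h5; exact hczc h5.symm

end Cfsg.Agent.Lib.Helper5.S1906
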