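import Mathlib
import Cfsg.Prelude.Def_Transfer
import Cfsg.Agent.Lib.Helper5.S1906.Defs
import Cfsg.Agent.Lib.Helper1.S1906G7core

set_option autoImplicit false
set_option linter.unusedVariables false
set_option linter.unusedSectionVars false
set_option linter.unusedSimpArgs false

namespace Cfsg.Agent.Lib.Helper5.S1906

theorem s1906g6_vfour {G : Type*} [Group G] (c z lam a b : G) (hcc : c * c = 1) (hzz : z * z = 1)
    (hzc : z * c = c * z) (hl : lam = c ∨ lam = z)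
    (ha : a = 1 ∨ a = c ∨ a = z ∨ a = c * z) (hb : b = 1 ∨ b = c ∨ b = z ∨ b = c * z)
    (ha1 : a ≠ 1) (ha2 : a ≠ lam) (hb1 : b ≠ 1) (hb2 : b ≠ lam) : a * b = 1 ∨ a * b = lam := by
  have hcc' : ∀ x : G, c * (c * x) = x := fun x => by rw [← mul_assoc, hcc, one_mul]
  have hzz' : ∀ x : G, z * (z * x) = x := fun x => by rw [← mul_assoc, hzz, one_mul]
  have hzc' : ∀ x : G, z * (c * x) = c * (z * x) := fun x => by rw [← mul_assoc, hzc, mul_assoc]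
  rcases hl with hl | hl <;> rcases ha with ha | ha | ha | ha <;> rcases hb with hb | hb | hb | hb <;>
    first
    | exact absurd ha ha1
    | exact absurd hb hb1
    | exact absurd (ha.trans hl.symm) ha2
    | exact absurd (hb.trans hl.symm) hb2
    | (left; rw [ha, hb]; simp [mul_assoc, hcc, hzz, hzc, hcc', hzz', hzc']; done)
    | (right; rw [ha, hb, hl]; simp [mul_assoc, hcc, hzz, hzc, hcc', hzz', hzc'])

theorem s1906g6_cen_pow {G : Type*} [Group G] (P : Subgroup G) (w : G) (hw : Cen P w) (n : ℕ) : Cen P (w ^ n) := by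
  intro x hx
  induction n with
  | zero => simp
  | succ n ih =>
    rw [pow_succ, ← mul_assoc, ih, mul_assoc, hw x hx, ← mul_assoc]

theorem s1906g6_core {G : Type*} [Group G] [Finite G] (P : Sylow 2 G)
    {X0 : Subgroup G} {c z : G} (h : Ctx (P : Subgroup G) X0 c z)
    (hP6 : (∀ x ∈ (P : Subgroup G), ∀ y ∈ (P : Subgroup G), x * y = y * x ∨ x * y = y * x * c) ∧
      (∀ x ∈ (P : Subgroup G), Cen (P : Subgroup G) (x * x)) ∧
      (∀ x ∈ (P : Subgroup G), ∀ y ∈ (P : Subgroup G), (x * y) ^ 2 = x ^ 2 * y ^ 2 ∨ (x * y) ^ 2 = x ^ 2 * y ^ 2 * c) ∧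
      (∀ j : ℕ, 2 ≤ j → ∀ x ∈ (P : Subgroup G), ∀ y ∈ (P : Subgroup G), (x * y) ^ (2 ^ j) = x ^ (2 ^ j) * y ^ (2 ^ j)))
    (hG2 : ∀ ω : G, (ω = c ∨ ω = z ∨ ω = c * z) → ∀ g : G, g * ω * g⁻¹ ∈ (P : Subgroup G) →
      Cen (P : Subgroup G) (g * ω * g⁻¹) → g * ω * g⁻¹ = ω)
    (hG4 : ∀ M : Subgroup G, M ≤ (P : Subgroup G) → M.relIndex (P : Subgroup G) = 2 →
      ∀ k : ℕ, 1 ≤ k → ∀ u : G, u ∈ (P : Subgroup G) → orderOf u = 2 ^ k →
      (∀ y ∈ (P : Subgroup G), y ∉ M → 2 ^ (k - 1) < orderOf y) → ∃ g : G, g * u * g⁻¹ ∈ M)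
    (hbig : ∃ x ∈ (P : Subgroup G), x ^ 4 ≠ 1) : False := by
  have hcc : c * c = 1 := h.c2
  have hzz : z * z = 1 := h.z2
  have hzc : z * c = c * z := h.cC z h.zX
  have hcinv : c⁻¹ = c := inv_eq_of_mul_eq_one_left hcc
  have hzinv : z⁻¹ = z := inv_eq_of_mul_eq_one_left hzz
  have hpow2 : ∀ y ∈ (P : Subgroup G), ∃ a : ℕ, orderOf y = 2 ^ a := by
    intro y hy
    obtain ⟨k, hk⟩ := P.isPGroup' ⟨y, hy⟩
    have h1 : y ^ (2 ^ k) = 1 := by
      have := congrArg Subtype.val hk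
      simpa using this
    obtain ⟨a, -, ha⟩ := (Nat.dvd_prime_pow Nat.prime_two).mp (orderOf_dvd_of_pow_eq_one h1)
    exact ⟨a, ha⟩
  obtain ⟨⟨x₀, hx₀⟩, hmax⟩ := Finite.exists_max (fun y : (P : Subgroup G) => orderOf (y : G))
  obtain ⟨e, he⟩ := hpow2 x₀ hx₀
  have hle : ∀ y ∈ (P : Subgroup G), ∀ a : ℕ, orderOf y = 2 ^ a → a ≤ e := by
    intro y hy a ha
    have h1 := hmax ⟨y, hy⟩
    simp only at h1
    rw [ha, he] at h1
    exact (Nat.pow_le_pow_iff_right (by norm_num)).mp h1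
  have he3 : 3 ≤ e := by
    obtain ⟨x, hx, hx4⟩ := hbig
    obtain ⟨a, ha⟩ := hpow2 x hx
    have h1 := hle x hx a ha
    by_contra hcon
    apply hx4
    have h2 : a ≤ 2 := by omega
    have h3 : orderOf x ∣ 4 := by
      rw [ha]
      exact pow_dvd_pow 2 h2
    exact orderOf_dvd_iff_pow_eq_one.mp h3
  have hexp : ∀ y ∈ (P : Subgroup G), y ^ (2 ^ e) = 1 := by
    intro y hy
    obtain ⟨a, ha⟩ := hpow2 y hy
    apply orderOf_dvd_iff_pow_eq_one.mp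
    rw [ha]
    exact pow_dvd_pow 2 (hle y hy a ha)
  have hψmul : ∀ x ∈ (P : Subgroup G), ∀ y ∈ (P : Subgroup G), (x * y) ^ (2 ^ (e - 1)) = x ^ (2 ^ (e - 1)) * y ^ (2 ^ (e - 1)) :=
    hP6.2.2.2 (e - 1) (by omega)
  have hψcen : ∀ y ∈ (P : Subgroup G), Cen (P : Subgroup G) (y ^ (2 ^ (e - 1))) := by
    intro y hy
    have h1 : y ^ (2 ^ (e - 1)) = (y * y) ^ (2 ^ (e - 2)) := by
      rw [← pow_two, ← pow_mul]
      congr 1
      have : e - 1 = (e - 2) + 1 := by omega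
      rw [this, pow_succ]
      ring
    rw [h1]
    exact s1906g6_cen_pow _ _ (hP6.2.1 y hy) _
  have hψV : ∀ y ∈ (P : Subgroup G), y ^ (2 ^ (e - 1)) = 1 ∨ y ^ (2 ^ (e - 1)) = c ∨ y ^ (2 ^ (e - 1)) = z ∨
      y ^ (2 ^ (e - 1)) = c * z := by
    intro y hy
    apply h.invZ _ (Subgroup.pow_mem _ hy _) (hψcen y hy)
    rw [← pow_two, ← pow_mul]
    have : 2 ^ (e - 1) * 2 = 2 ^ e := by
      have : e = (e - 1) + 1 := by omega
      conv_rhs => rw [this, pow_succ]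
    rw [this]
    exact hexp y hy
  have hω1 : x₀ ^ (2 ^ (e - 1)) ≠ 1 := by
    intro h1
    have h2 := orderOf_dvd_of_pow_eq_one h1
    rw [he] at h2
    have h3 := (Nat.pow_dvd_pow_iff_le_right (by norm_num : 1 < 2)).mp h2
    omega
  obtain ⟨lam, hlam, hωlam⟩ : ∃ lam : G, (lam = c ∨ lam = z) ∧ x₀ ^ (2 ^ (e - 1)) ≠ lam := by
    by_cases hc : x₀ ^ (2 ^ (e - 1)) = c
    · refine ⟨z, Or.inr rfl, ?_⟩
      rw [hc]
      exact h.cz
    · exact ⟨c, Or.inl rfl, hc⟩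
  have hlam2 : lam * lam = 1 := by
    rcases hlam with rfl | rfl
    · exact hcc
    · exact hzz
  have hlaminv : lam⁻¹ = lam := inv_eq_of_mul_eq_one_left hlam2
  have hlamP : lam ∈ (P : Subgroup G) := by
    rcases hlam with rfl | rfl
    · exact h.cX
    · exact h.zX
  have hlamC : Cen (P : Subgroup G) lam := by
    rcases hlam with rfl | rfl
    · exact h.cC
    · exact h.zC
  let M : Subgroup G :=
    { carrier := {x | x ∈ (P : Subgroup G) ∧ (x ^ (2 ^ (e - 1)) = 1 ∨ x ^ (2 ^ (e - 1)) = lam)}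
      one_mem' := ⟨Subgroup.one_mem _, Or.inl (one_pow _)⟩
      mul_mem' := by
        rintro x y ⟨hx, hx2⟩ ⟨hy, hy2⟩
        refine ⟨Subgroup.mul_mem _ hx hy, ?_⟩
        rw [hψmul x hx y hy]
        rcases hx2 with hx2 | hx2 <;> rcases hy2 with hy2 | hy2 <;> rw [hx2, hy2] <;> simp [hlam2]
      inv_mem' := by
        rintro x ⟨hx, hx2⟩
        refine ⟨Subgroup.inv_mem _ hx, ?_⟩
        rw [inv_pow]
        rcases hx2 with hx2 | hx2
        · left; rw [hx2, inv_one]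
        · right; rw [hx2, hlaminv] }
  have hMmem : ∀ x, x ∈ M ↔ x ∈ (P : Subgroup G) ∧ (x ^ (2 ^ (e - 1)) = 1 ∨ x ^ (2 ^ (e - 1)) = lam) := fun x => Iff.rfl
  have hMP : M ≤ (P : Subgroup G) := fun x hx => hx.1
  have hx₀M : x₀ ∉ M := by
    intro hx
    rcases ((hMmem x₀).mp hx).2 with h1 | h1
    · exact hω1 h1
    · exact hωlam h1
  have hM2 : M.relIndex (P : Subgroup G) = 2 := by
    apply s1906g7_idx2 (P : Subgroup G) M x₀ hx₀ hx₀M
    intro x hx y hy hxM hyM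
    refine (hMmem _).mpr ⟨Subgroup.mul_mem _ hx hy, ?_⟩
    rw [hψmul x hx y hy]
    apply s1906g6_vfour c z lam _ _ hcc hzz hzc hlam (hψV x hx) (hψV y hy)
    · intro h1; exact hxM ((hMmem x).mpr ⟨hx, Or.inl h1⟩)
    · intro h1; exact hxM ((hMmem x).mpr ⟨hx, Or.inr h1⟩)
    · intro h1; exact hyM ((hMmem y).mpr ⟨hy, Or.inl h1⟩)
    · intro h1; exact hyM ((hMmem y).mpr ⟨hy, Or.inr h1⟩)
  obtain ⟨g, hg⟩ := hG4 M hMP hM2 e (by omega) x₀ hx₀ he (by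
    intro y hy hyM
    obtain ⟨a, ha⟩ := hpow2 y hy
    have hae := hle y hy a ha
    have h1 : y ^ (2 ^ (e - 1)) ≠ 1 := fun h1 => hyM ((hMmem y).mpr ⟨hy, Or.inl h1⟩)
    have h2 : ¬ a ≤ e - 1 := by
      intro h3
      apply h1
      apply orderOf_dvd_iff_pow_eq_one.mp
      rw [ha]
      exact pow_dvd_pow 2 h3
    rw [ha]
    exact Nat.pow_lt_pow_right (by norm_num) (by omega))
  have hconj : (g * x₀ * g⁻¹) ^ (2 ^ (e - 1)) = g * x₀ ^ (2 ^ (e - 1)) * g⁻¹ := conj_pow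
  have hgu := ((hMmem _).mp hg).2
  rw [hconj] at hgu
  have hωV : x₀ ^ (2 ^ (e - 1)) = c ∨ x₀ ^ (2 ^ (e - 1)) = z ∨ x₀ ^ (2 ^ (e - 1)) = c * z := by
    rcases hψV x₀ hx₀ with h1 | h1 | h1 | h1
    · exact absurd h1 hω1
    · exact Or.inl h1
    · exact Or.inr (Or.inl h1)
    · exact Or.inr (Or.inr h1)
  have hne1 : g * x₀ ^ (2 ^ (e - 1)) * g⁻¹ ≠ 1 := by
    intro h1
    apply hω1
    have : g⁻¹ * (g * x₀ ^ (2 ^ (e - 1)) * g⁻¹) * g = x₀ ^ (2 ^ (e - 1)) := by group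
    rw [← this, h1]
    group
  have hgl : g * x₀ ^ (2 ^ (e - 1)) * g⁻¹ = lam := by
    rcases hgu with h1 | h1
    · exact absurd h1 hne1
    · exact h1
  have h5 := hG2 _ hωV g (by rw [hgl]; exact hlamP) (by rw [hgl]; exact hlamC)
  rw [hgl] at h5
  exact hωlam h5.symm

end Cfsg.Agent.Lib.Helper5.S1906
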