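import Mathlib
import Cfsg.Prelude.Def_Transfer
import Cfsg.Agent.Lib.Helper5.S1906.Defs
import Cfsg.Agent.Lib.Helper1.S1906G6core
import Cfsg.Agent.Lib.helper15.S1906G2
import Cfsg.Agent.Lib.Helper26.S1906G4
import Cfsg.Agent.Lib.Helper26.S1906P6

set_option autoImplicit false
set_option linter.unusedVariables false
set_option linter.unusedSectionVars false

namespace Cfsg.Agent.Lib.Helper5.S1906

open scoped IsMulCommutative

section Gl

variable {G : Type*} [Group G] [Finite G] (hG : ∀ H : Subgroup G, H.index ≠ 2) (P : Sylow 2 G)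
  {X0 : Subgroup G} {c z : G}

include hG in
/-- G6 -/
theorem case_two_big (h : Ctx (P : Subgroup G) X0 c z)
    (h2 : Nat.card (⁅(P : Subgroup G), (P : Subgroup G)⁆ : Subgroup G) = 2)
    (hbig : ∃ x ∈ (P : Subgroup G), x ^ 4 ≠ 1) : False :=
  s1906g6_core P h (class_two h h2)
    (fun ω hω g hg hcen => central_conj P h ω hω g hg hcen)
    (fun M hM hM2 k hk u hu huo hord => t2 hG P M hM hM2 k hk u hu huo hord) hbig

end Gl

end Cfsg.Agent.Lib.Helper5.S1906
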