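import Mathlib
import Cfsg.Prelude.Def_LieExceptional
import Cfsg.Agent.Lib.Helper1.Ord4032.Case288

set_option autoImplicit false
set_option linter.style.haveILetI false
set_option linter.unusedSectionVars false
set_option linter.unusedVariables false

namespace Cfsg.Agent.Lib.helper3.S496

open scoped ComplexConjugate
open Cfsg.Agent.Lib.Helper11 Cfsg.Agent.Lib.helper7 Cfsg.Agent.Lib.Helper25 Cfsg.Agent.Lib.helper2
open Cfsg.Agent.Lib.Helper26 Cfsg.Agent.Lib.helper8 Cfsg.Agent.Lib.helper23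
open Cfsg.Agent.Lib.Helper24 Cfsg.Agent.Lib.Helper1.O4032

theorem exc2_struct {X : Type*} [Fintype X] [DecidableEq X] (S : Finset X) (w d : X → ℤ)
    (x₀ : X) (a ε : ℤ) (hε : ε = 1 ∨ ε = -1) (hS : 2 ≤ S.card) (hx₀ : x₀ ∉ S) (hw₀ : w x₀ = 1)
    (hwa : ∀ x ∈ S, w x = a) (hnorm : ∑ x, w x ^ 2 + 2 * ε * a = 2) (hd₀ : d x₀ = 1)
    (hdeg : ∀ θ ∈ S, ∑ x, w x * d x + ε * d θ = 0) :
    ∃ x₁, x₁ ≠ x₀ ∧ x₁ ∉ S ∧ (w x₁ = 1 ∨ w x₁ = -1) ∧
      ((a = 0 ∧ ∀ θ ∈ S, 1 + w x₁ * d x₁ + ε * d θ = 0) ∨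
       (a = -ε ∧ S.card = 2 ∧ ∀ θ ∈ S, 1 + w x₁ * d x₁ - ε * d θ = 0)) := by
  have hsplit : ∀ f : X → ℤ, ∑ x, f x = f x₀ + ∑ x ∈ S, f x + ∑ x ∈ (insert x₀ S)ᶜ, f x := by
    intro f
    rw [← Finset.sum_add_sum_compl (insert x₀ S) f, Finset.sum_insert hx₀]
  have hSsq : ∑ x ∈ S, w x ^ 2 = S.card * a ^ 2 := by
    rw [Finset.sum_congr rfl (fun x hx => by rw [hwa x hx]), Finset.sum_const]
    simp
  have hcnn : 0 ≤ ∑ x ∈ (insert x₀ S)ᶜ, w x ^ 2 := Finset.sum_nonneg (fun x _ => sq_nonneg _)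
  have hn := hsplit (fun x => w x ^ 2)
  beta_reduce at hn
  rw [hw₀, hSsq] at hn
  have hcard : (2 : ℤ) ≤ S.card := by exact_mod_cast hS
  have ha : a = 0 ∨ a = -ε := by
    have h3 : 2 * a ^ 2 ≤ (S.card : ℤ) * a ^ 2 := by nlinarith [sq_nonneg a]
    rcases hε with h | h <;> rw [h] at hnorm ⊢
    · have h4 : 2 * a ^ 2 + 2 * a ≤ 1 := by linarith
      have h5 : -1 ≤ a := by nlinarith
      have h6 : a ≤ 0 := by nlinarith
      omega
    · have h4 : 2 * a ^ 2 - 2 * a ≤ 1 := by linarith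
      have h5 : a ≤ 1 := by nlinarith
      have h6 : 0 ≤ a := by nlinarith
      have : a = 0 ∨ a = 1 := by omega
      simpa using this
  obtain ⟨θ₀, hθ₀⟩ : S.Nonempty := by
    rw [← Finset.card_pos]; omega
  rcases ha with ha | ha
  · subst ha
    have hnorm2 : ∑ x, w x ^ 2 = 2 := by linarith
    obtain ⟨x₁, hx₁, hc, hz⟩ := exc_support_two w x₀ hw₀ hnorm2
    have hx₁S : x₁ ∉ S := by
      intro h
      have := hwa x₁ h
      rcases hc with hc | hc <;> rw [hc] at this <;> norm_num at this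
    refine ⟨x₁, hx₁, hx₁S, hc, Or.inl ⟨rfl, ?_⟩⟩
    intro θ hθ
    have hsum := exc_sum_two_support w d x₀ x₁ (Ne.symm hx₁) hz
    have := hdeg θ hθ
    rw [hsum, hw₀, hd₀] at this
    linarith
  · have hεε : ε * ε = 1 := by rcases hε with h | h <;> rw [h] <;> norm_num
    have haa : a ^ 2 = 1 := by rw [ha]; nlinarith
    have hnorm2 : ∑ x, w x ^ 2 = 4 := by
      rw [ha] at hnorm
      nlinarith
    rw [hnorm2, haa] at hn
    have hcard3 : S.card = 2 ∨ S.card = 3 := by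
      have : (S.card : ℤ) ≤ 3 := by linarith
      omega
    rcases hcard3 with hc2 | hc3
    · have hrest : ∑ x ∈ (insert x₀ S)ᶜ, w x ^ 2 = 1 := by
        rw [hc2] at hn
        push_cast at hn
        linarith
      have hex : ∃ x₁ ∈ (insert x₀ S)ᶜ, w x₁ ≠ 0 := by
        by_contra hcon
        push Not at hcon
        rw [Finset.sum_eq_zero (fun x hx => by rw [hcon x hx]; norm_num)] at hrest
        norm_num at hrest
      obtain ⟨x₁, hx₁T, hx₁0⟩ := hex
      have hx₁' : x₁ ∉ insert x₀ S := Finset.mem_compl.mp hx₁T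
      have hx₁x₀ : x₁ ≠ x₀ := fun h => hx₁' (h ▸ Finset.mem_insert_self _ _)
      have hx₁S : x₁ ∉ S := fun h => hx₁' (Finset.mem_insert_of_mem h)
      have hsq1 : 1 ≤ w x₁ ^ 2 := by
        have : w x₁ ≤ -1 ∨ 1 ≤ w x₁ := by omega
        rcases this with h | h <;> nlinarith
      have hle : w x₁ ^ 2 ≤ 1 := by
        rw [← hrest]
        exact Finset.single_le_sum (f := fun x => w x ^ 2) (fun x _ => sq_nonneg _) hx₁T
      have hw1 : w x₁ = 1 ∨ w x₁ = -1 := by
        have h1 : w x₁ ≤ 1 := by nlinarith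
        have h2 : -1 ≤ w x₁ := by nlinarith
        omega
      have hzero : ∀ z ∈ (insert x₀ S)ᶜ, z ≠ x₁ → w z = 0 := by
        intro z hzT hzx
        by_contra hne
        have h2 : ∑ x ∈ ({x₁, z} : Finset X), w x ^ 2 ≤ ∑ x ∈ (insert x₀ S)ᶜ, w x ^ 2 := by
          apply Finset.sum_le_sum_of_subset_of_nonneg
          · intro y hy
            simp only [Finset.mem_insert, Finset.mem_singleton] at hy
            rcases hy with rfl | rfl
            · exact hx₁T
            · exact hzT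
          · intro _ _ _
            exact sq_nonneg _
        rw [Finset.sum_pair (Ne.symm hzx), hrest] at h2
        have h3 : 1 ≤ w z ^ 2 := by
          have : w z ≤ -1 ∨ 1 ≤ w z := by omega
          rcases this with h | h <;> nlinarith
        linarith
      have hrestd : ∑ x ∈ (insert x₀ S)ᶜ, w x * d x = w x₁ * d x₁ := by
        rw [Finset.sum_eq_single_of_mem x₁ hx₁T]
        intro z hzT hzx
        rw [hzero z hzT hzx, zero_mul]
      have hdeq : ∀ θ ∈ S, d θ = d θ₀ := by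
        intro θ hθ
        have e1 := hdeg θ hθ
        have e2 := hdeg θ₀ hθ₀
        have : ε * d θ = ε * d θ₀ := by linarith
        rcases hε with h | h <;> rw [h] at this <;> linarith
      have hSd : ∑ x ∈ S, w x * d x = 2 * (a * d θ₀) := by
        rw [Finset.sum_congr rfl (fun x hx => by rw [hwa x hx, hdeq x hx]), Finset.sum_const, hc2]
        simp
      have hd := hsplit (fun x => w x * d x)
      beta_reduce at hd
      rw [hw₀, hd₀, hSd, hrestd] at hd
      refine ⟨x₁, hx₁x₀, hx₁S, hw1, Or.inr ⟨ha, hc2, ?_⟩⟩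
      intro θ hθ
      have := hdeg θ hθ
      rw [hd, hdeq θ hθ, ha] at this
      rw [hdeq θ hθ]
      linarith
    · exfalso
      obtain ⟨ha0, -⟩ := struct_lemma S w d x₀ a ε hε hc3 hx₀ hw₀ hwa hnorm hd₀ hdeg
      rw [ha0] at ha
      rcases hε with h | h <;> rw [h] at ha <;> norm_num at ha

theorem exc_two {G : Type*} [Group G] [Finite G] [IsSimpleGroup G] (hG : ¬ IsMulCommutative G)
    (p : ℕ) [Fact p.Prime] (hp5 : 5 ≤ p) (P : Sylow p G) (hP : Nat.card (P : Subgroup G) = p)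
    (hC : Nat.card (Subgroup.centralizer ((P : Subgroup G) : Set G)) = p)
    (hN : Nat.card (Subgroup.normalizer ((P : Subgroup G) : Set G)) = 2 * p) :
    ∃ x : ℕ, 2 ≤ x ∧ x ∣ Nat.card G ∧ (x + 1) ∣ Nat.card G ∧ (x % p = 1 ∨ (x + 2) % p = 0) := by
  classical
  haveI : Fintype G := Fintype.ofFinite G
  haveI : Fintype (Cfsg.IrrCharacter G) := Fintype.ofFinite _
  haveI : Fintype (P : Subgroup G) := Fintype.ofFinite _
  have hpodd : p % 2 = 1 := by
    rcases (Fact.out : p.Prime).eq_two_or_odd with h | h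
    · omega
    · exact h
  obtain ⟨t, ht⟩ : ∃ t, p = 2 * t + 1 := ⟨p / 2, by omega⟩
  have ht2 : 2 ≤ t := by omega
  have hN' : Nat.card (Subgroup.normalizer ((P : Subgroup G) : Set G)) = p * 2 := by
    rw [hN, mul_comm]
  obtain ⟨ε, S, w, a, θ', hε, hS, hwa, hnorm, hdeg, hcS, hcN, hw1, htS, hθS, hshape⟩ :=
    exc_main2 (P : Subgroup G) (p := p) (e := 2) (t := t) hP hC hN' (by omega) ht2
  obtain ⟨χ₁, hχ₁, hχ₁S, hc, hcases⟩ := exc2_struct S w
    (fun χ => (Cfsg.charDegree (χ : G → ℂ) : ℤ)) (trivIrr G) a ε hε (by omega) htS hw1 hwa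
    (by exact_mod_cast hnorm) (by rw [exc_degree_triv]; rfl) hdeg
  obtain ⟨θ, hθ⟩ : S.Nonempty := by
    rw [← Finset.card_pos]; omega
  have hθtriv : θ ≠ trivIrr G := fun h => htS (h ▸ hθ)
  have hd1 : Cfsg.charDegree (χ₁ : G → ℂ) ≠ 1 := fun h => hχ₁ (exc_linear_trivial hG χ₁ h)
  have hdθ : Cfsg.charDegree (θ : G → ℂ) ≠ 1 := fun h => hθtriv (exc_linear_trivial hG θ h)
  have hdv1 : Cfsg.charDegree (χ₁ : G → ℂ) ∣ Nat.card G := cdc_degree_dvd χ₁
  have hdvθ : Cfsg.charDegree (θ : G → ℂ) ∣ Nat.card G := cdc_degree_dvd θ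
  have hpos1 : 0 < Cfsg.charDegree (χ₁ : G → ℂ) :=
    Nat.pos_of_dvd_of_pos hdv1 Nat.card_pos
  have hposθ : 0 < Cfsg.charDegree (θ : G → ℂ) :=
    Nat.pos_of_dvd_of_pos hdvθ Nat.card_pos
  obtain ⟨m, hm⟩ := hcN χ₁ hχ₁S
  obtain ⟨m', hm'⟩ := hcS θ hθ
  rw [hwa θ hθ] at hm'
  set d₁ := Cfsg.charDegree (χ₁ : G → ℂ) with hd₁def
  set d₀ := Cfsg.charDegree (θ : G → ℂ) with hd₀def
  have hpZ : (p : ℤ) = 2 * t + 1 := by exact_mod_cast ht
  rcases hcases with ⟨ha0, hrel⟩ | ⟨haε, hS2, hrel⟩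
  · have hr := hrel θ hθ
    beta_reduce at hr
    rw [ha0] at hm'
    rcases hc with hc | hc <;> rcases hε with hε | hε <;> rw [hc] at hr hm <;> rw [hε] at hr hm'
    · exfalso; omega
    · refine ⟨d₁, by omega, hdv1, ?_, Or.inl ?_⟩
      · have : d₁ + 1 = d₀ := by omega
        rw [this]; exact hdvθ
      · have h1 : (d₁ : ℤ) = p * (m - 1) + 1 := by rw [hm, hpZ]; ring
        have h2 : (d₁ : ℤ) % p = 1 % p := by
          rw [h1]; simp
        have h3 : (1 : ℤ) % p = 1 := Int.emod_eq_of_lt (by norm_num) (by omega)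
        rw [h3] at h2
        exact_mod_cast h2
    · refine ⟨d₀, by omega, hdvθ, ?_, Or.inr ?_⟩
      · have : d₀ + 1 = d₁ := by omega
        rw [this]; exact hdv1
      · have h1 : ((d₀ + 2 : ℕ) : ℤ) = p * m' := by push_cast; rw [hm']; ring
        have h2 : ((d₀ + 2 : ℕ) : ℤ) % p = 0 := by rw [h1]; simp
        exact_mod_cast h2
    · exfalso; omega
  · have hr := hrel θ hθ
    beta_reduce at hr
    rw [haε] at hm'
    have ht2' : t = 2 := by omega
    subst ht2'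
    have hp5' : p = 5 := by omega
    subst hp5'
    push_cast at hm hm'
    rcases hc with hc | hc <;> rcases hε with hε | hε <;> rw [hc] at hr hm <;> rw [hε] at hr hm'
    · refine ⟨d₁, by omega, hdv1, ?_, Or.inl (by omega)⟩
      have : d₁ + 1 = d₀ := by omega
      rw [this]; exact hdvθ
    · exfalso; omega
    · exfalso; omega
    · refine ⟨d₀, by omega, hdvθ, ?_, Or.inr (by omega)⟩
      have : d₀ + 1 = d₁ := by omega
      rw [this]; exact hdv1

end Cfsg.Agent.Lib.helper3.S496
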