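import Mathlib
import Cfsg.Agent.Lib.Helper13.S5955.Defs2
import Cfsg.Agent.Lib.Helper1.S5955N2
import Cfsg.Agent.Lib.Helper21.S5955N8
import Cfsg.Agent.Lib.Helper21.S5955N9
import Cfsg.Agent.Lib.helper8.S5955X4

set_option autoImplicit false
set_option linter.unusedVariables false
set_option linter.unusedSectionVars false

namespace Cfsg.Agent.Lib.Helper13.S5955

open Polynomial Module

theorem s5955n11_core {F : Type*} [Field F] [Fintype F] {p : ℕ} [Fact p.Prime] [CharP F p]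
    (r : ℕ) [Fact r.Prime] (hrp : r ≠ p) (hr2 : r ≠ 2) (d i : ℕ)
    (hi : i = orderOf ((Fintype.card F : ℕ) : ZMod r)) (hie : Even i) (hid : i ≤ 2 * d)
    (hfpf : ∀ (h : ℕ) (y : Module.End F (Fin h ⊕ Fin h → F)), 2 * h = i →
      SCtx r (stdB h F) y → y ≠ 1 →
      fixS y = ⊥ ∧ ∀ U : Submodule F (Fin h ⊕ Fin h → F), SInv y U → U = ⊥ ∨ U = ⊤)
    (htypes : ∀ (h : ℕ), 1 ≤ h → ∀ (y : Module.End F (Fin h ⊕ Fin h → F)), y ^ r = 1 → y ≠ 1 →
      (∀ U : Submodule F (Fin h ⊕ Fin h → F), SInv y U → U = ⊥ ∨ U = ⊤) →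
      ∀ (l l' : ℕ), ¬ r ∣ l → ¬ r ∣ l' →
      (∀ e : ℕ, ¬ (l' ≡ l * Fintype.card F ^ e [MOD r])) →
      ¬ ∃ φ : (Fin h ⊕ Fin h → F) ≃ₗ[F] (Fin h ⊕ Fin h → F),
        ∀ v, φ ((y ^ l) v) = (y ^ l') (φ v))
    (hosumctx : ∀ (A h w : ℕ) (y : Fin A → Module.End F (Fin h ⊕ Fin h → F)),
      (∀ a, SCtx r (stdB h F) (y a)) →
      SCtx r (osumB F A h w) (osumX w y) ∧ finrank F (OSum F A h w) = 2 * (A * h + w))
    (hosumfix : ∀ (A h w : ℕ) (y : Fin A → Module.End F (Fin h ⊕ Fin h → F)),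
      (∀ a, fixS (y a) = ⊥) →
      finrank F (fixS (osumX w y)) = 2 * w ∧ (1 ≤ A → 1 ≤ h → osumX w y ≠ 1))
    (hosumdist : ∀ (A h w : ℕ) (y : Fin A → Module.End F (Fin h ⊕ Fin h → F)),
      (∀ a, SCtx r (stdB h F) (y a)) → (∀ a, fixS (y a) = ⊥) →
      (∀ a, ∀ U : Submodule F (Fin h ⊕ Fin h → F), SInv (y a) U → U = ⊥ ∨ U = ⊤) →
      (∀ a b, a ≠ b → ¬ ∃ φ : (Fin h ⊕ Fin h → F) ≃ₗ[F] (Fin h ⊕ Fin h → F),
        ∀ v, φ (y a v) = y b (φ v)) →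
      ∀ (W : Submodule F (OSum F A h w)), SInv (osumX w y) W → STI (osumB F A h w) W →
        W ≤ fixS (osumX w y))
    (htd : ∀ (A h w : ℕ) (x : Module.End F (Fin d ⊕ Fin d → F)) (x' : Module.End F (OSum F A h w))
      (ψ : (Fin d ⊕ Fin d → F) ≃ₗ[F] OSum F A h w),
      (∀ u v, osumB F A h w (ψ u) (ψ v) = stdB d F u v) → (∀ u, ψ (x u) = x' (ψ u)) →
      finrank F (fixS x) = finrank F (fixS x') ∧ (x = 1 ↔ x' = 1) ∧
        ((∀ W, SInv x' W → STI (osumB F A h w) W → W ≤ fixS x') →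
          ∀ W, SInv x W → STI (stdB d F) W → W ≤ fixS x)) :
    ∃ y : Module.End F (Fin d ⊕ Fin d → F), SCtx r (stdB d F) y ∧ y ≠ 1 ∧
      finrank F (fixS y) + i * min ((r - 1) / i) ((2 * d) / i) = 2 * d ∧
      ∀ W : Submodule F (Fin d ⊕ Fin d → F), SInv y W → STI (stdB d F) W → W ≤ fixS y := by
  have hr : r.Prime := Fact.out
  have hp : p.Prime := Fact.out
  have hq1 : 1 ≤ Fintype.card F := Fintype.card_pos
  have hipos : 0 < i := by
    rw [hi]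
    exact Cfsg.Agent.Lib.Helper24.el_ord_pos (F := F) (p := p) r hrp
  have hidvd : i ∣ r - 1 := by
    have hrq0 : ¬ r ∣ Fintype.card F := by
      obtain ⟨n, _, hn⟩ := FiniteField.card F p
      intro hdvd
      rw [hn] at hdvd
      have := hr.dvd_of_dvd_pow hdvd
      exact hrp ((Nat.prime_dvd_prime_iff_eq hr hp).mp this)
    have hne0 : ((Fintype.card F : ℕ) : ZMod r) ≠ 0 := by
      rw [Ne, ZMod.natCast_eq_zero_iff]
      exact hrq0
    rw [hi]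
    apply orderOf_dvd_of_pow_eq_one
    exact ZMod.pow_card_sub_one_eq_one hne0
  have hdvdi : r ∣ Fintype.card F ^ i - 1 := by
    rw [Cfsg.Agent.Lib.Helper24.el_ord_dvd_iff (Fintype.card F) r i hq1, ← hi]
  subst hi
  set i := orderOf ((Fintype.card F : ℕ) : ZMod r) with hi
  obtain ⟨h, hh2⟩ := hie
  have h2h : 2 * h = i := by omega
  have hh : 1 ≤ h := by omega
  have hrq : ¬ r ∣ Fintype.card F := by
    obtain ⟨n, _, hn⟩ := FiniteField.card F p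
    intro hdvd
    rw [hn] at hdvd
    have := hr.dvd_of_dvd_pow hdvd
    exact hrp ((Nat.prime_dvd_prime_iff_eq hr hp).mp this)
  have hr1 : 0 < r - 1 := by
    have := hr.two_le
    omega
  have hile : i ≤ r - 1 := Nat.le_of_dvd hr1 hidvd
  have hdvd : r ∣ Fintype.card F ^ (2 * h) - 1 := by
    rw [h2h]
    exact hdvdi
  obtain ⟨y0, hy0, hy01⟩ := cauchy r hrp h hh hdvd
  obtain ⟨hfix0, hirr0⟩ := hfpf h y0 h2h hy0 hy01
  obtain ⟨l, hl, hlcos⟩ := cosets (Fintype.card F) r hrq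
  obtain ⟨A, hA⟩ : ∃ A : ℕ, A = min ((r - 1) / i) ((2 * d) / i) := ⟨_, rfl⟩
  have hAt : A ≤ (r - 1) / i := by rw [hA]; exact min_le_left _ _
  have hAd : A ≤ (2 * d) / i := by rw [hA]; exact min_le_right _ _
  have ht1 : 1 ≤ (r - 1) / i := by
    exact (Nat.le_div_iff_mul_le hipos).mpr (by omega)
  have hd1 : 1 ≤ (2 * d) / i := (Nat.le_div_iff_mul_le hipos).mpr (by omega)
  have hA1 : 1 ≤ A := by rw [hA]; exact le_min ht1 hd1
  have hAi : A * i ≤ 2 * d := by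
    calc A * i ≤ ((2 * d) / i) * i := Nat.mul_le_mul_right i hAd
      _ ≤ 2 * d := Nat.div_mul_le_self _ _
  have hAh : A * h ≤ d := by
    rw [← h2h] at hAi
    have : 2 * (A * h) ≤ 2 * d := by
      calc 2 * (A * h) = A * (2 * h) := by ring
        _ ≤ 2 * d := hAi
    omega
  obtain ⟨w, hw⟩ : ∃ w : ℕ, w = d - A * h := ⟨_, rfl⟩
  let ι : Fin A → Fin ((r - 1) / i) := Fin.castLE hAt
  have hιinj : Function.Injective ι := Fin.castLE_injective hAt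
  let y : Fin A → Module.End F (Fin h ⊕ Fin h → F) := fun a => y0 ^ (l (ι a))
  have hyall : ∀ a, SCtx r (stdB h F) (y a) ∧ fixS (y a) = ⊥ ∧
      ∀ U : Submodule F (Fin h ⊕ Fin h → F), SInv (y a) U → U = ⊥ ∨ U = ⊤ :=
    fun a => pow_irr hy0 hfix0 hirr0 (l (ι a)) (hl (ι a))
  have hyctx : ∀ a, SCtx r (stdB h F) (y a) := fun a => (hyall a).1
  have hyfix : ∀ a, fixS (y a) = ⊥ := fun a => (hyall a).2.1
  have hyirr : ∀ a, ∀ U : Submodule F (Fin h ⊕ Fin h → F), SInv (y a) U → U = ⊥ ∨ U = ⊤ :=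
    fun a => (hyall a).2.2
  have hydist : ∀ a b, a ≠ b → ¬ ∃ φ : (Fin h ⊕ Fin h → F) ≃ₗ[F] (Fin h ⊕ Fin h → F),
      ∀ v, φ (y a v) = y b (φ v) := by
    intro a b hab
    have hab' : ι a ≠ ι b := fun hcon => hab (hιinj hcon)
    exact htypes h hh y0 hy0.pow hy01 hirr0 (l (ι a)) (l (ι b)) (hl (ι a)) (hl (ι b))
      (hlcos (ι a) (ι b) hab')
  obtain ⟨hctx, hdim⟩ := hosumctx A h w y hyctx
  have hdim' : finrank F (OSum F A h w) = 2 * d := by
    rw [hdim, hw]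
    omega
  obtain ⟨ystd, ψ, hystd, hψB, hψx⟩ := transport (osumB F A h w) (osumX w y) hctx d hdim'
  obtain ⟨hfixdim, hone, hsub⟩ := htd A h w ystd (osumX w y) ψ hψB hψx
  obtain ⟨hfix2w, hne1⟩ := hosumfix A h w y hyfix
  refine ⟨ystd, hystd, ?_, ?_, ?_⟩
  · intro h1
    exact hne1 hA1 hh (hone.mp h1)
  · rw [hfixdim, hfix2w, hw, ← hA, ← h2h]
    have : 2 * h * A = 2 * (A * h) := by ring
    rw [this]
    omega
  · exact hsub (hosumdist A h w y hyctx hyfix hyirr hydist)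

end Cfsg.Agent.Lib.Helper13.S5955
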