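import Mathlib
import Cfsg.Agent.Lib.Helper13.S5955.Defs2
import Cfsg.Agent.Lib.Helper1.S5955N11core
import Cfsg.Agent.Lib.helper17.S5955N3
import Cfsg.Agent.Lib.Helper18.S5955N4
import Cfsg.Agent.Lib.Helper5.S5955N6
import Cfsg.Agent.Lib.Helper13.S5955N7
import Cfsg.Agent.Lib.helper2.S5955X5

set_option autoImplicit false
set_option linter.unusedVariables false
set_option linter.unusedSectionVars false

namespace Cfsg.Agent.Lib.Helper13.S5955

open Polynomial Module

theorem distel {F : Type*} [Field F] [Fintype F] {p : ℕ} [Fact p.Prime] [CharP F p]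
    (r : ℕ) [Fact r.Prime] (hrp : r ≠ p) (hr2 : r ≠ 2) (d i : ℕ)
    (hi : i = orderOf ((Fintype.card F : ℕ) : ZMod r)) (hie : Even i) (hid : i ≤ 2 * d) :
    ∃ y : Module.End F (Fin d ⊕ Fin d → F), SCtx r (stdB d F) y ∧ y ≠ 1 ∧
      finrank F (fixS y) + i * min ((r - 1) / i) ((2 * d) / i) = 2 * d ∧
      ∀ W : Submodule F (Fin d ⊕ Fin d → F), SInv y W → STI (stdB d F) W → W ≤ fixS y := by
  have hr : r.Prime := Fact.out
  apply s5955n11_core r hrp hr2 d i hi hie hid
  · intro h y h2h hy hy1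
    have hc : i = if Even i then i else 2 * i := by rw [if_pos hie]
    obtain ⟨hfix, hirr⟩ := cauchy_fpf r hrp h i i hi hc h2h y hy hy1
    exact ⟨hfix, hirr hie⟩
  · intro h hh y hyr hy1 hirr l l' hl hl' hcos
    exact types r hrp h hh y hyr hy1 hirr l l' hl hl' hcos
  · intro A h w y hy
    exact osum_ctx w r y hy
  · intro A h w y hy
    exact osum_fix w y hy
  · intro A h w y hy hfix hirr hdist W hW hWti
    exact osum_dist w r hr.pos y hy hfix hirr hdist W hW hWti
  · intro A h w x x' ψ hB hx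
    obtain ⟨-, h2, h3, h4⟩ := transport_dims (stdB d F) x (osumB F A h w) x' ψ hB hx
    exact ⟨h2, h3, h4⟩

end Cfsg.Agent.Lib.Helper13.S5955
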