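import Mathlib
import Cfsg.Agent.Lib.Helper13.S5955.Defs2
import Cfsg.Agent.Lib.Helper1.S5955N13core
import Cfsg.Agent.Lib.Helper1.S5955N11
import Cfsg.Agent.Lib.Helper21.S5955N10
import Cfsg.Agent.Lib.helper2.S5955X5

set_option autoImplicit false
set_option linter.unusedVariables false
set_option linter.unusedSectionVars false

namespace Cfsg.Agent.Lib.Helper13.S5955

open Polynomial Module

theorem nec_abs {F : Type*} [Field F] [Fintype F] {p : ℕ} [Fact p.Prime] [CharP F p]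
    (r : ℕ) [Fact r.Prime] (hrp : r ≠ p) (hr2 : r ≠ 2) (d m i c : ℕ)
    (hi : i = orderOf ((Fintype.card F : ℕ) : ZMod r)) (hc : c = if Even i then i else 2 * i)
    (hm1 : 1 ≤ m) (hmd : m ≤ d)
    (hj : ∃ j : ℕ, j < m ∧ r ∣ Fintype.card F ^ (2 * (d - j)) - 1)
    (hall : ∀ y : Module.End F (Fin d ⊕ Fin d → F), SCtx r (stdB d F) y → y ≠ 1 →
      TId (stdB d F) y m) :
    i ≤ m ∧ 2 * (m % i) ≤ (2 * d) % c ∧ (Odd i ∨ (r - 1) / i + 2 * (m / i) ≤ (2 * d) / i) := by
  apply s5955n13_core r hrp hr2 d m i c hi hc hm1 hmd hj hall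
  · intro hcd
    apply s5955n10_core r hrp hr2 d i c hi hc hcd
    intro A h w y x' ψ hB hx
    obtain ⟨-, h2, h3, -⟩ := transport_dims (stdB d F) y (osumB F A h w) x' ψ hB hx
    exact ⟨h2, h3⟩
  · intro hie hid
    exact distel r hrp hr2 d i hi hie hid

end Cfsg.Agent.Lib.Helper13.S5955
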