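import Mathlib
import Cfsg.Agent.Lib.Helper13.S5955.Defs

set_option autoImplicit false
set_option linter.unusedVariables false
set_option linter.unusedSectionVars false

namespace Cfsg.Agent.Lib.Helper13.S5955

open Polynomial Module Matrix Cfsg.Agent.Lib.helper6

theorem s5955x_toLin_pow {F : Type*} [Field F] {d : ℕ}
    (A : Matrix (Fin d ⊕ Fin d) (Fin d ⊕ Fin d) F) (k : ℕ) :
    (Matrix.toLin' A) ^ k = Matrix.toLin' (A ^ k) := by
  induction k with
  | zero => rw [pow_zero, pow_zero, Matrix.toLin'_one]; rfl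
  | succ k ih => rw [pow_succ, ih, pow_succ, Matrix.toLin'_mul]; rfl

theorem s5955x_pow_odd {F : Type*} [Field F] (z : F) (hz : z ^ 2 = 1) (r : ℕ) (hr : Odd r) :
    z ^ r = z := by
  obtain ⟨k, rfl⟩ := hr
  rw [pow_succ, pow_mul, hz, one_pow, one_mul]

theorem s5955x_sq_of_scalar_isom {F : Type*} [Field F] (d : ℕ) (z : F)
    (u v : Fin d ⊕ Fin d → F) (huv : Cfsg.sympForm d F u v ≠ 0)
    (h : Cfsg.sympForm d F (z • u) (z • v) = Cfsg.sympForm d F u v) : z ^ 2 = 1 := by
  rw [sympForm_smul_left, sympForm_smul_right, ← mul_assoc] at h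
  have h2 : (z * z - 1) * Cfsg.sympForm d F u v = 0 := by linear_combination h
  rcases mul_eq_zero.mp h2 with h3 | h3
  · linear_combination h3
  · exact absurd h3 huv

theorem std_ctx_odd {F : Type*} [Field F] (d : ℕ) (hd : 1 ≤ d) (r : ℕ) (hr : Odd r)
    (x : ↥(Matrix.symplecticGroup (Fin d) F)) (z : F)
    (hx : ((x ^ r : ↥(Matrix.symplecticGroup (Fin d) F)) :
      Matrix (Fin d ⊕ Fin d) (Fin d ⊕ Fin d) F) = z • (1 : Matrix (Fin d ⊕ Fin d) (Fin d ⊕ Fin d) F)) :
    ∃ y : Module.End F (Fin d ⊕ Fin d → F), SCtx r (stdB d F) y ∧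
      ∀ W : Submodule F (Fin d ⊕ Fin d → F), SInv y W →
        W.map (Matrix.toLin' (x : Matrix (Fin d ⊕ Fin d) (Fin d ⊕ Fin d) F)) ≤ W := by
  classical
  set X : Matrix (Fin d ⊕ Fin d) (Fin d ⊕ Fin d) F := (x : Matrix (Fin d ⊕ Fin d) (Fin d ⊕ Fin d) F)
    with hX
  have hXr : X ^ r = z • (1 : Matrix (Fin d ⊕ Fin d) (Fin d ⊕ Fin d) F) := by
    rw [← hx]
    rfl
  have hXiso : ∀ u v, Cfsg.sympForm d F (X *ᵥ u) (X *ᵥ v) = Cfsg.sympForm d F u v :=
    (mem_symplecticGroup_iff_sympForm d _).mp x.2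
  have hXriso : ∀ u v, Cfsg.sympForm d F ((X ^ r) *ᵥ u) ((X ^ r) *ᵥ v) = Cfsg.sympForm d F u v := by
    have hmem : ((x ^ r : ↥(Matrix.symplecticGroup (Fin d) F)) :
        Matrix (Fin d ⊕ Fin d) (Fin d ⊕ Fin d) F) ∈ Matrix.symplecticGroup (Fin d) F := (x ^ r).2
    exact (mem_symplecticGroup_iff_sympForm d _).mp hmem
  have hz2 : z ^ 2 = 1 := by
    set u0 : Fin d ⊕ Fin d → F := Pi.single (Sum.inl ⟨0, hd⟩) 1 with hu0
    have hu0ne : u0 ≠ 0 := by
      intro h0
      have := congrFun h0 (Sum.inl ⟨0, hd⟩)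
      rw [hu0, Pi.single_eq_same, Pi.zero_apply] at this
      exact one_ne_zero this
    obtain ⟨v0, hv0⟩ := sympForm_nondeg d u0 hu0ne
    apply s5955x_sq_of_scalar_isom d z u0 v0 hv0
    have := hXriso u0 v0
    rw [hXr, Matrix.smul_mulVec, Matrix.smul_mulVec, Matrix.one_mulVec, Matrix.one_mulVec] at this
    exact this
  have hzz : z * z = 1 := by rw [← pow_two]; exact hz2
  refine ⟨z • Matrix.toLin' X, ⟨fun v => ?_, fun u hu => ?_, fun u v => ?_, ?_⟩, ?_⟩
  · rw [stdB_apply]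
    exact sympForm_self d v
  · by_contra hne
    obtain ⟨w, hw⟩ := sympForm_nondeg d u hne
    exact hw (by rw [← stdB_apply]; exact hu w)
  · rw [stdB_apply, stdB_apply, LinearMap.smul_apply, LinearMap.smul_apply, Matrix.toLin'_apply,
      Matrix.toLin'_apply, sympForm_smul_left, sympForm_smul_right, hXiso, ← mul_assoc, hzz,
      one_mul]
  · rw [_root_.smul_pow, s5955x_toLin_pow, hXr, s5955x_pow_odd z hz2 r hr]
    apply LinearMap.ext
    intro v
    rw [LinearMap.smul_apply, Matrix.toLin'_apply, Matrix.smul_mulVec, Matrix.one_mulVec, smul_smul,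
      hzz, one_smul]
    rfl
  · intro W hW
    rintro w ⟨w0, hw0, rfl⟩
    have h1 : (z • Matrix.toLin' X) w0 ∈ W := hW w0 hw0
    have h2 : Matrix.toLin' X w0 = z • ((z • Matrix.toLin' X) w0) := by
      rw [LinearMap.smul_apply, smul_smul, hzz, one_smul]
    rw [h2]
    exact W.smul_mem z h1

theorem realize {F : Type*} [Field F] (d : ℕ) (r : ℕ) (hr : Odd r)
    (y : Module.End F (Fin d ⊕ Fin d → F)) (h : SCtx r (stdB d F) y) (hy : y ≠ 1) :
    ∃ x : ↥(Matrix.symplecticGroup (Fin d) F),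
      Matrix.toLin' (x : Matrix (Fin d ⊕ Fin d) (Fin d ⊕ Fin d) F) = y ∧
      ((x ^ r : ↥(Matrix.symplecticGroup (Fin d) F)) :
        Matrix (Fin d ⊕ Fin d) (Fin d ⊕ Fin d) F) =
          (1 : F) • (1 : Matrix (Fin d ⊕ Fin d) (Fin d ⊕ Fin d) F) ∧
      ∀ z : F, (x : Matrix (Fin d ⊕ Fin d) (Fin d ⊕ Fin d) F) ≠
        z • (1 : Matrix (Fin d ⊕ Fin d) (Fin d ⊕ Fin d) F) := by
  classical
  set X : Matrix (Fin d ⊕ Fin d) (Fin d ⊕ Fin d) F := LinearMap.toMatrix' y with hX
  have hXy : Matrix.toLin' X = y := by rw [hX, Matrix.toLin'_toMatrix']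
  have hXv : ∀ v, X *ᵥ v = y v := by
    intro v
    rw [← Matrix.toLin'_apply, hXy]
  have hmem : X ∈ Matrix.symplecticGroup (Fin d) F := by
    rw [mem_symplecticGroup_iff_sympForm]
    intro u v
    rw [hXv, hXv, ← stdB_apply, h.pres, stdB_apply]
  have hXr : X ^ r = 1 := by
    apply Matrix.toLin'.injective
    rw [← s5955x_toLin_pow, hXy, h.pow, Matrix.toLin'_one]
    rfl
  refine ⟨⟨X, hmem⟩, hXy, ?_, ?_⟩
  · rw [one_smul]
    show X ^ r = 1
    exact hXr
  · intro z hz
    have hz' : X = z • (1 : Matrix (Fin d ⊕ Fin d) (Fin d ⊕ Fin d) F) := hz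
    have hyz : ∀ v, y v = z • v := by
      intro v
      rw [← hXv, hz', Matrix.smul_mulVec, Matrix.one_mulVec]
    obtain ⟨v, hv⟩ : ∃ v, y v ≠ v := by
      by_contra hcon
      push Not at hcon
      apply hy
      apply LinearMap.ext
      intro v
      rw [hcon v]
      rfl
    have hv0 : v ≠ 0 := by
      rintro rfl
      exact hv (map_zero y)
    obtain ⟨w, hw⟩ := sympForm_nondeg d v hv0
    have hz2 : z ^ 2 = 1 := by
      apply s5955x_sq_of_scalar_isom d z v w hw
      have := h.pres v w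
      rw [stdB_apply, stdB_apply, hyz, hyz] at this
      exact this
    have hzr : z ^ r = 1 := by
      have h1 : (y ^ r) v = z ^ r • v := by
        have hpow : ∀ k : ℕ, (y ^ k) v = z ^ k • v := by
          intro k
          induction k with
          | zero => rw [pow_zero, pow_zero, one_smul]; rfl
          | succ k ih => rw [pow_succ', Module.End.mul_apply, ih, map_smul, hyz, smul_smul, pow_succ]
        exact hpow r
      rw [h.pow] at h1
      have h2 : (z ^ r - 1) • v = 0 := by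
        rw [sub_smul, one_smul, ← h1]
        exact sub_self _
      rcases smul_eq_zero.mp h2 with h3 | h3
      · linear_combination h3
      · exact absurd h3 hv0
    have hz1 : z = 1 := by
      rw [← s5955x_pow_odd z hz2 r hr]
      exact hzr
    apply hv
    rw [hyz, hz1, one_smul]

end Cfsg.Agent.Lib.Helper13.S5955
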