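import Mathlib
import Cfsg.Prelude.Def_Classical
import Cfsg.Agent.Lib.helper15.SpRegSemi2
import Cfsg.Agent.S0246

set_option autoImplicit false

namespace Cfsg.Agent.Lib.Helper1.S63

open Polynomial
open Cfsg.Agent.Lib.helper15.URegSemi
open Cfsg.Agent.Lib.helper15.SpRegSemi
open Cfsg.Agent.Lib.helper15.SpRegSemi2

section Core

variable {K : Type*} [Field K]

theorem pow_eq_smul_of_roots [IsAlgClosed K] {n : Type*} [Fintype n] [DecidableEq n]
    (A : Matrix n n K) (M : ℕ) (hM : (M : K) ≠ 0) (hAM : A ^ M = 1) (s : ℕ) (c : K)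
    (hall : ∀ μ : K, A.charpoly.IsRoot μ → μ ^ s = c) : A ^ s = c • (1 : Matrix n n K) := by
  have hss := isSemisimple_of_pow A M hM hAM
  have htop := hss.iSup_eigenspace_eq_top
  have hpow : ∀ (μ : K) (x : n → K), Matrix.toLin' A x = μ • x →
      ∀ t : ℕ, ((Matrix.toLin' A) ^ t) x = μ ^ t • x := by
    intro μ x hx t
    induction t with
    | zero => rw [pow_zero, pow_zero, one_smul, Module.End.one_apply]
    | succ t ih =>
      rw [pow_succ, Module.End.mul_apply, hx, map_smul, ih, smul_smul, pow_succ, mul_comm]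
  have hle : ∀ μ : K, Module.End.eigenspace (Matrix.toLin' A : Module.End K (n → K)) μ ≤
      LinearMap.ker ((Matrix.toLin' A : Module.End K (n → K)) ^ s - c • 1) := by
    intro μ x hx
    rw [LinearMap.mem_ker, LinearMap.sub_apply, LinearMap.smul_apply, Module.End.one_apply,
      sub_eq_zero]
    by_cases hbot : Module.End.eigenspace (Matrix.toLin' A : Module.End K (n → K)) μ = ⊥
    · rw [hbot, Submodule.mem_bot] at hx
      rw [hx, map_zero, smul_zero]
    · have hev : Module.End.HasEigenvalue (Matrix.toLin' A : Module.End K (n → K)) μ := hbot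
      rw [Module.End.hasEigenvalue_iff_isRoot_charpoly, Matrix.charpoly_toLin'] at hev
      rw [Module.End.mem_eigenspace_iff] at hx
      rw [hpow μ x hx s, hall μ hev]
  have hker : LinearMap.ker ((Matrix.toLin' A : Module.End K (n → K)) ^ s - c • 1) = ⊤ := by
    rw [eq_top_iff, ← htop]
    exact iSup_le hle
  have h2 : (Matrix.toLin' A : Module.End K (n → K)) ^ s - c • 1 = 0 := LinearMap.ker_eq_top.1 hker
  have h3 : Matrix.toLin' (A ^ s) = Matrix.toLin' (c • (1 : Matrix n n K)) := by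
    rw [toLin'_pow, map_smul, Matrix.toLin'_one]
    exact sub_eq_zero.1 h2
  exact Matrix.toLin'.injective h3

theorem orderOf_three_zmod13 : orderOf (((3 : ℕ) : ZMod 13)) = 3 := by
  have h1 : (((3 : ℕ) : ZMod 13)) ^ 3 = 1 := by decide
  have h2 : (((3 : ℕ) : ZMod 13)) ≠ 1 := by decide
  exact orderOf_eq_prime h1 h2

theorem pow_eq_one_of_two (u : Kˣ) (a b g : ℕ) (ha : u ^ a = 1) (hb : u ^ b = 1)
    (hg : Nat.gcd a b = g) : u ^ g = 1 := by
  rw [← hg]
  exact pow_gcd_eq_one.2 ⟨ha, hb⟩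

theorem odd_pow_of_sq (c : K) (hc : c ^ 2 = 1) (m : ℕ) (hm : Odd m) : c ^ m = c := by
  obtain ⟨k, rfl⟩ := hm
  rw [pow_succ, pow_mul, hc, one_pow, one_mul]

theorem core26 [IsAlgClosed K] [CharP K 3]
    (A : Matrix (Fin 3 ⊕ Fin 3) (Fin 3 ⊕ Fin 3) K)
    (Φ : K →+* K) (hΦ : ∀ x, Φ x = x ^ 3)
    (hfrob : ∀ ν : K, A.charpoly.rootMultiplicity (Φ ν) = A.charpoly.rootMultiplicity ν)
    (hinv : ∀ ν : K, ν ≠ 0 → A.charpoly.rootMultiplicity ν⁻¹ = A.charpoly.rootMultiplicity ν)
    (h52 : A ^ 52 = 1) (h4 : A ^ 4 ≠ 1) : A ^ 13 = 1 ∨ A ^ 13 = -1 := by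
  classical
  have h3 : (3 : K) = 0 := by exact_mod_cast CharP.cast_eq_zero K 3
  have hM : ((52 : ℕ) : K) ≠ 0 := by
    have : ((52 : ℕ) : K) = 1 := by
      push_cast
      linear_combination 17 * h3
    rw [this]
    exact one_ne_zero
  have hχ0 : A.charpoly ≠ 0 := (Matrix.charpoly_monic A).ne_zero
  have hroot52 : ∀ ν : K, A.charpoly.IsRoot ν → ν ^ 52 = 1 :=
    fun ν hν => root_pow_eq_one A 52 h52 ν hν
  obtain ⟨lam, hlamroot, hlam4⟩ : ∃ ν : K, A.charpoly.IsRoot ν ∧ ν ^ 4 ≠ 1 := by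
    by_contra hcon
    apply h4
    apply pow_eq_one_of_roots A 52 hM h52 4
    intro μ hμ
    by_contra h1
    exact hcon ⟨μ, hμ, h1⟩
  have hlam0 : lam ≠ 0 := by
    intro h0
    have h1 := hroot52 lam hlamroot
    rw [h0, zero_pow (by norm_num)] at h1
    exact zero_ne_one h1
  obtain ⟨u, hu⟩ : ∃ u : Kˣ, (u : K) = lam := ⟨Units.mk0 lam hlam0, rfl⟩
  have hupos : 0 < A.charpoly.rootMultiplicity (u : K) := by
    rw [hu]
    exact (Polynomial.rootMultiplicity_pos hχ0).2 hlamroot
  have hu52 : u ^ 52 = 1 := by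
    apply Units.ext
    rw [Units.val_pow_eq_pow_val, hu, hroot52 lam hlamroot]
    rfl
  have hu4 : u ^ 4 ≠ 1 := by
    intro h
    apply hlam4
    rw [← hu, ← Units.val_pow_eq_pow_val, h]
    rfl
  have h13 : (13 : ℕ).Prime := by norm_num
  have hro : 13 ∣ orderOf u := dvd_orderOf_of u 13 4 h13 (by norm_num; exact hu52) hu4
  have hrq : ¬ 13 ∣ 3 := by norm_num
  have hinj : ∀ i j : ℕ, i < 3 → j < 3 → u ^ (3 ^ i) = u ^ (3 ^ j) → i = j := by
    intro i j hi hj h
    by_contra hne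
    rcases lt_or_gt_of_ne hne with h1 | h1
    · have := dvd_of_pow_q_eq u 13 3 h13 hro hrq i j h1 h
      rw [orderOf_three_zmod13] at this
      have := Nat.le_of_dvd (by omega) this
      omega
    · have := dvd_of_pow_q_eq u 13 3 h13 hro hrq j i h1 h.symm
      rw [orderOf_three_zmod13] at this
      have := Nat.le_of_dvd (by omega) this
      omega
  have hdisj : ∀ i j : ℕ, i < 3 → j < 3 → u ^ (3 ^ i) ≠ (u ^ (3 ^ j))⁻¹ := by
    intro i j hi hj h
    have := pow_of_pow_q_inv u 13 3 h13 hro hrq i j h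
    have he : (j - i) + (i - j) < 3 := by omega
    interval_cases hk : (j - i) + (i - j)
    · revert this; decide
    · revert this; decide
    · revert this; decide
  obtain ⟨S1, hS1⟩ : ∃ S1 : Finset K,
      S1 = (Finset.range 3).image (fun i : ℕ => ((u ^ (3 ^ i) : Kˣ) : K)) := ⟨_, rfl⟩
  obtain ⟨S2, hS2⟩ : ∃ S2 : Finset K,
      S2 = (Finset.range 3).image (fun i : ℕ => (((u ^ (3 ^ i))⁻¹ : Kˣ) : K)) := ⟨_, rfl⟩
  have hc1 : S1.card = 3 := by
    rw [hS1, Finset.card_image_of_injOn, Finset.card_range]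
    intro i hi j hj h
    simp only [Finset.coe_range, Set.mem_Iio] at hi hj
    exact hinj i j hi hj (Units.ext h)
  have hc2 : S2.card = 3 := by
    rw [hS2, Finset.card_image_of_injOn, Finset.card_range]
    intro i hi j hj h
    simp only [Finset.coe_range, Set.mem_Iio] at hi hj
    exact hinj i j hi hj (inv_injective (Units.ext h))
  have hdis : Disjoint S1 S2 := by
    rw [Finset.disjoint_left]
    intro x hx1 hx2
    rw [hS1, Finset.mem_image] at hx1
    rw [hS2, Finset.mem_image] at hx2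
    obtain ⟨i, hi, rfl⟩ := hx1
    obtain ⟨j, hj, hij⟩ := hx2
    rw [Finset.mem_range] at hi hj
    exact hdisj i j hi hj (Units.ext hij.symm)
  have hm1 : ∀ x ∈ S1, x ∈ A.charpoly.roots.toFinset := by
    intro x hx
    rw [hS1, Finset.mem_image] at hx
    obtain ⟨i, -, rfl⟩ := hx
    rw [Multiset.mem_toFinset, Polynomial.mem_roots hχ0, ← Polynomial.rootMultiplicity_pos hχ0,
      Units.val_pow_eq_pow_val, mult_pow_q A Φ 3 hΦ hfrob]
    exact hupos
  have hm2 : ∀ x ∈ S2, x ∈ A.charpoly.roots.toFinset := by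
    intro x hx
    rw [hS2, Finset.mem_image] at hx
    obtain ⟨i, -, rfl⟩ := hx
    rw [Multiset.mem_toFinset, Polynomial.mem_roots hχ0, ← Polynomial.rootMultiplicity_pos hχ0,
      Units.val_inv_eq_inv_val, hinv _ (Units.ne_zero _), Units.val_pow_eq_pow_val,
      mult_pow_q A Φ 3 hΦ hfrob]
    exact hupos
  have hsub : S1 ∪ S2 ⊆ A.charpoly.roots.toFinset := by
    intro x hx
    rw [Finset.mem_union] at hx
    rcases hx with hx | hx
    · exact hm1 x hx
    · exact hm2 x hx
  have hcardR : A.charpoly.roots.toFinset.card ≤ 6 := by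
    have h1 := Polynomial.card_roots' A.charpoly
    rw [Matrix.charpoly_natDegree_eq_dim] at h1
    have h2 : Fintype.card (Fin 3 ⊕ Fin 3) = 6 := by
      rw [Fintype.card_sum, Fintype.card_fin]
    rw [h2] at h1
    exact (Multiset.toFinset_card_le _).trans h1
  have hcardT : (S1 ∪ S2).card = 6 := by
    rw [Finset.card_union_of_disjoint hdis, hc1, hc2]
  have hTR : S1 ∪ S2 = A.charpoly.roots.toFinset :=
    Finset.eq_of_subset_of_card_le hsub (by rw [hcardT]; exact hcardR)
  have hroots : ∀ μ : K, A.charpoly.IsRoot μ →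
      ∃ i : ℕ, i < 3 ∧ (μ = ((u ^ (3 ^ i) : Kˣ) : K) ∨ μ = (((u ^ (3 ^ i))⁻¹ : Kˣ) : K)) := by
    intro μ hμ
    have hmem : μ ∈ A.charpoly.roots.toFinset := by
      rw [Multiset.mem_toFinset, Polynomial.mem_roots hχ0]
      exact hμ
    rw [← hTR, Finset.mem_union] at hmem
    rcases hmem with h | h
    · rw [hS1, Finset.mem_image] at h
      obtain ⟨i, hi, rfl⟩ := h
      exact ⟨i, Finset.mem_range.1 hi, Or.inl rfl⟩
    · rw [hS2, Finset.mem_image] at h
      obtain ⟨i, hi, rfl⟩ := h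
      exact ⟨i, Finset.mem_range.1 hi, Or.inr rfl⟩
  have hu27root : A.charpoly.IsRoot (((u ^ (3 ^ 3) : Kˣ) : K)) := by
    rw [← Polynomial.rootMultiplicity_pos hχ0, Units.val_pow_eq_pow_val,
      mult_pow_q A Φ 3 hΦ hfrob]
    exact hupos
  have hu26 : u ^ 26 = 1 := by
    obtain ⟨i, hi, h | h⟩ := hroots _ hu27root
    · have h' : u ^ (3 ^ 3) = u ^ (3 ^ i) := Units.ext h
      interval_cases i
      · have e : u ^ 26 * u = 1 * u := by
          rw [← pow_succ, one_mul]
          norm_num at h'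
          exact h'
        exact mul_right_cancel e
      · exfalso
        have e : u ^ 24 = 1 := by
          have e1 : u ^ 24 * u ^ 3 = 1 * u ^ 3 := by
            rw [← pow_add, one_mul]
            norm_num at h'
            exact h'
          exact mul_right_cancel e1
        exact hu4 (pow_eq_one_of_two u 24 52 4 e hu52 (by norm_num))
      · exfalso
        have e : u ^ 18 = 1 := by
          have e1 : u ^ 18 * u ^ 9 = 1 * u ^ 9 := by
            rw [← pow_add, one_mul]
            norm_num at h'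
            exact h'
          exact mul_right_cancel e1
        have e2 := pow_eq_one_of_two u 18 52 2 e hu52 (by norm_num)
        apply hu4
        have : u ^ 4 = (u ^ 2) ^ 2 := by rw [← pow_mul]
        rw [this, e2, one_pow]
    · have h' : u ^ (3 ^ 3) = (u ^ (3 ^ i))⁻¹ := Units.ext h
      exfalso
      have hk : u ^ (3 ^ 3 + 3 ^ i) = 1 := by
        rw [pow_add, h', inv_mul_cancel]
      interval_cases i
      · norm_num at hk
        exact hu4 (pow_eq_one_of_two u 28 52 4 hk hu52 (by norm_num))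
      · norm_num at hk
        have e2 := pow_eq_one_of_two u 30 52 2 hk hu52 (by norm_num)
        apply hu4
        have : u ^ 4 = (u ^ 2) ^ 2 := by rw [← pow_mul]
        rw [this, e2, one_pow]
      · norm_num at hk
        exact hu4 (pow_eq_one_of_two u 36 52 4 hk hu52 (by norm_num))
  obtain ⟨c, hc⟩ : ∃ c : K, c = ((u ^ 13 : Kˣ) : K) := ⟨_, rfl⟩
  have hc2 : c ^ 2 = 1 := by
    have e : ((u ^ 13 : Kˣ) : K) ^ 2 = ((u ^ 26 : Kˣ) : K) := by
      rw [← Units.val_pow_eq_pow_val, ← pow_mul]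
    rw [hc, e, hu26]
    rfl
  have hcinv : c⁻¹ = c := by
    have hc0 : c ≠ 0 := by
      intro h0
      rw [h0] at hc2
      norm_num at hc2
    apply inv_eq_of_mul_eq_one_right
    rw [← pow_two]
    exact hc2
  have hodd3 : ∀ i : ℕ, Odd (3 ^ i) := fun i => Odd.pow (by decide)
  have hall : ∀ μ : K, A.charpoly.IsRoot μ → μ ^ 13 = c := by
    intro μ hμ
    obtain ⟨i, -, h | h⟩ := hroots μ hμ
    · rw [h, Units.val_pow_eq_pow_val, ← pow_mul, mul_comm, pow_mul, ← Units.val_pow_eq_pow_val,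
        ← hc]
      exact odd_pow_of_sq c hc2 _ (hodd3 i)
    · rw [h, Units.val_inv_eq_inv_val, inv_pow, Units.val_pow_eq_pow_val, ← pow_mul, mul_comm,
        pow_mul, ← Units.val_pow_eq_pow_val, ← hc, odd_pow_of_sq c hc2 _ (hodd3 i)]
      exact hcinv
  have hA13 := pow_eq_smul_of_roots A 52 hM h52 13 c hall
  have hcases : c = 1 ∨ c = -1 := by
    have : (c - 1) * (c + 1) = 0 := by linear_combination hc2
    rcases mul_eq_zero.1 this with h | h
    · exact Or.inl (sub_eq_zero.1 h)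
    · exact Or.inr (eq_neg_of_add_eq_zero_left h)
  rcases hcases with h | h
  · left
    rw [hA13, h, one_smul]
  · right
    rw [hA13, h, neg_smul, one_smul]

end Core

theorem psp_no_26 {F : Type*} [Field F] [Fintype F] (hF : Fintype.card F = 3) :
    ∀ g : Cfsg.PSp 3 F, orderOf g ≠ 26 := by
  classical
  intro gbar hg
  obtain ⟨g, rfl⟩ := QuotientGroup.mk_surjective gbar
  have : Fact (Nat.Prime 3) := ⟨by norm_num⟩
  have hcharF : CharP F 3 := charP_of_card_eq_prime hF
  have hcen : ∀ k : ℕ, g ^ k ∈ Subgroup.center (Matrix.symplecticGroup (Fin 3) F) →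
      26 ∣ k := by
    intro k hk
    rw [← hg]
    apply orderOf_dvd_of_pow_eq_one
    rw [← QuotientGroup.mk_pow]
    exact (QuotientGroup.eq_one_iff _).2 hk
  have h26 : g ^ 26 ∈ Subgroup.center (Matrix.symplecticGroup (Fin 3) F) := by
    rw [← QuotientGroup.eq_one_iff, QuotientGroup.mk_pow, ← hg]
    exact pow_orderOf_eq_one _
  have hg52 : g ^ 52 = 1 := by
    have e : g ^ 52 = (g ^ 26) ^ 2 := by rw [← pow_mul]
    rw [e]
    rcases Cfsg.Agent.S0246.center_cases (by norm_num) _ h26 with h | h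
    · rw [h, one_pow]
    · rw [h]
      apply Subtype.ext
      show (Cfsg.Agent.S0246.negOne F 3 : Matrix (Fin 3 ⊕ Fin 3) (Fin 3 ⊕ Fin 3) F) ^ 2 = 1
      rw [Cfsg.Agent.S0246.negOne_coe, neg_sq, one_pow]
  have hg4 : g ^ 4 ≠ 1 := by
    intro h
    have := hcen 4 (by rw [h]; exact Subgroup.one_mem _)
    omega
  have hg13 : g ^ 13 ∉ Subgroup.center (Matrix.symplecticGroup (Fin 3) F) := by
    intro h
    have := hcen 13 h
    omega
  obtain ⟨ι, hι⟩ : ∃ ι : F →+* AlgebraicClosure F, ι = algebraMap F (AlgebraicClosure F) := ⟨_, rfl⟩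
  have hιinj : Function.Injective ι := ι.injective
  have hcharK : CharP (AlgebraicClosure F) 3 := by
    rw [hι] at hιinj
    exact charP_of_injective_algebraMap hιinj 3
  obtain ⟨Φ, hΦ⟩ : ∃ Φ : AlgebraicClosure F →+* AlgebraicClosure F, ∀ x, Φ x = x ^ 3 :=
    ⟨frobenius (AlgebraicClosure F) 3, fun x => frobenius_def 3 x⟩
  have hfix : ∀ a : F, Φ (algebraMap F (AlgebraicClosure F) a) =
      algebraMap F (AlgebraicClosure F) a := by
    intro a
    rw [hΦ, ← map_pow]
    congr 1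
    have := FiniteField.pow_card a
    rw [hF] at this
    exact this
  obtain ⟨S, hS⟩ : ∃ S : Matrix (Fin 3 ⊕ Fin 3) (Fin 3 ⊕ Fin 3) F, S = g.1 := ⟨_, rfl⟩
  have hSmem : S.map (algebraMap F (AlgebraicClosure F)) ∈
      Matrix.symplecticGroup (Fin 3) (AlgebraicClosure F) := by
    rw [hS]
    exact SymplecticGroup.map_mem g.2 (algebraMap F (AlgebraicClosure F))
  have hcoepow : ∀ t : ℕ, ((g ^ t : Matrix.symplecticGroup (Fin 3) F) :
      Matrix (Fin 3 ⊕ Fin 3) (Fin 3 ⊕ Fin 3) F) = S ^ t := by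
    intro t
    rw [hS]
    rfl
  have hS52 : S ^ 52 = 1 := by
    rw [← hcoepow, hg52]
    rfl
  have hS4 : S ^ 4 ≠ 1 := by
    intro h
    apply hg4
    apply Subtype.ext
    rw [hcoepow, h]
    rfl
  have hmappow : ∀ (M : Matrix (Fin 3 ⊕ Fin 3) (Fin 3 ⊕ Fin 3) F) (k : ℕ),
      (M ^ k).map ι = (M.map ι) ^ k := by
    intro M k
    exact map_pow ι.mapMatrix M k
  have hmapone : (1 : Matrix (Fin 3 ⊕ Fin 3) (Fin 3 ⊕ Fin 3) F).map ι = 1 :=
    Matrix.map_one _ (map_zero ι) (map_one ι)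
  have hA52 : (S.map ι) ^ 52 = 1 := by
    rw [← hmappow, hS52, hmapone]
  have hA4 : (S.map ι) ^ 4 ≠ 1 := by
    rw [← hmappow]
    intro h
    apply hS4
    rw [← hmapone] at h
    exact Matrix.map_injective hιinj h
  have hfrob : ∀ ν : AlgebraicClosure F,
      (S.map ι).charpoly.rootMultiplicity (Φ ν) = (S.map ι).charpoly.rootMultiplicity ν := by
    intro ν
    rw [hι]
    exact mult_frob S Φ hfix ν
  have hinv : ∀ ν : AlgebraicClosure F, ν ≠ 0 →
      (S.map ι).charpoly.rootMultiplicity ν⁻¹ = (S.map ι).charpoly.rootMultiplicity ν := by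
    intro ν hν
    exact mult_inv_symp ⟨S.map ι, by rw [hι]; exact hSmem⟩ ν hν
  have hcore := core26 (S.map ι) Φ hΦ hfrob hinv hA52 hA4
  apply hg13
  rcases hcore with h | h
  · have h1 : S ^ 13 = 1 := by
      rw [← hmappow, ← hmapone] at h
      exact Matrix.map_injective hιinj h
    have : g ^ 13 = 1 := by
      apply Subtype.ext
      rw [hcoepow, h1]
      rfl
    rw [this]
    exact Subgroup.one_mem _
  · have hmapneg : (-1 : Matrix (Fin 3 ⊕ Fin 3) (Fin 3 ⊕ Fin 3) F).map ι = -1 := by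
      rw [Matrix.map_neg _ (fun a => map_neg ι a), hmapone]
    have h1 : S ^ 13 = -1 := by
      rw [← hmappow, ← hmapneg] at h
      exact Matrix.map_injective hιinj h
    have : g ^ 13 = Cfsg.Agent.S0246.negOne F 3 := by
      apply Subtype.ext
      rw [hcoepow, h1, Cfsg.Agent.S0246.negOne_coe]
    rw [this]
    exact Cfsg.Agent.S0246.negOne_mem_center

end Cfsg.Agent.Lib.Helper1.S63
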