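import Mathlib
import Cfsg.Prelude.Def_Classical
import Cfsg.Agent.Lib.Helper1.S8U.Defs

set_option autoImplicit false

namespace Cfsg.Agent.Lib.Helper1.S8U

open Matrix Module Polynomial

/-- `∑_{i < L m} x^i = (∑_{i<L} x^i) (∑_{j<m} x^(L j))` in any semiring -/
theorem s8ugeof_split {R : Type*} [Semiring R] (x : R) (L m : ℕ) :
    ∑ i ∈ Finset.range (L * m), x ^ i =
      (∑ i ∈ Finset.range L, x ^ i) * ∑ j ∈ Finset.range m, x ^ (L * j) := by
  induction m with
  | zero => simp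
  | succ m ih =>
    rw [Nat.mul_succ, Finset.sum_range_add, ih, Finset.sum_range_succ, mul_add]
    congr 1
    rw [Finset.sum_mul]
    apply Finset.sum_congr rfl
    intro i _
    rw [← pow_add, add_comm]

/-- `∑_{i<2^a} X^i = (X - 1)^(2^a - 1)` in characteristic 2 -/
theorem s8ugeof_poly {F : Type*} [Field F] [CharP F 2] (a : ℕ) :
    ∑ i ∈ Finset.range (2 ^ a), (X : F[X]) ^ i = (X - 1) ^ (2 ^ a - 1) := by
  have h1 : (∑ i ∈ Finset.range (2 ^ a), (X : F[X]) ^ i) * (X - 1) = (X - 1) ^ (2 ^ a - 1) * (X - 1) := by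
    rw [geom_sum_mul, ← pow_succ, Nat.sub_add_cancel Nat.one_le_two_pow, sub_pow_char_pow, one_pow]
  have h2 : (X - 1 : F[X]) ≠ 0 := X_sub_C_ne_zero 1
  exact mul_right_cancel₀ h2 h1

theorem geo_factor {F : Type*} [Field F] [CharP F 2] {V : Type*} [AddCommGroup V] [Module F V]
    (y : Module.End F V) (a m0 : ℕ) :
    geoE y (2 ^ a * m0) = (y - 1) ^ (2 ^ a - 1) * ∑ j ∈ Finset.range m0, y ^ (2 ^ a * j) := by
  unfold geoE
  rw [s8ugeof_split y (2 ^ a) m0]
  congr 1
  have h := congrArg (Polynomial.aeval y) (s8ugeof_poly (F := F) a)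
  simpa using h

end Cfsg.Agent.Lib.Helper1.S8U
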