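import Mathlib
import Cfsg.Prelude.Def_Classical
import Cfsg.Agent.Lib.Helper1.S8U.Defs

set_option autoImplicit false

namespace Cfsg.Agent.Lib.Helper1.S8U

open Matrix Module Polynomial Cfsg.Agent.Lib.Helper16 Cfsg.Agent.Lib.Helper13.OTS Cfsg.Agent.Lib.Helper19.SO8
  Cfsg.Agent.Lib.helper14.OrthInv

theorem hd_iff {F : Type*} [Field F] [Fintype F] [CharP F 2] (a b : F) (hab : Aniso a b) (g : GL MI8 F) :
    g ∈ Hd a b hab ↔ g ∈ GO8 F a b ∧ Even ((g : Matrix MI8 MI8 F) - 1).rank := by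
  rw [mem_Hd]
  constructor
  · rintro ⟨hg, h⟩
    refine ⟨hg, ?_⟩
    exact (Cfsg.Agent.Lib.helper14.OmegaInv.dickson_eq_one_iff_even (qfMinus 3 F a b)
      (OSemi.qfMinus_nondeg 3 a b hab) ⟨g, hg⟩).mp h
  · rintro ⟨hg, h⟩
    exact ⟨hg, (Cfsg.Agent.Lib.helper14.OmegaInv.dickson_eq_one_iff_even (qfMinus 3 F a b)
      (OSemi.qfMinus_nondeg 3 a b hab) ⟨g, hg⟩).mpr h⟩

end Cfsg.Agent.Lib.Helper1.S8U
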