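import Mathlib
import Cfsg.Prelude.Def_Classical
import Cfsg.Agent.Lib.Helper1.S8U.Defs

set_option autoImplicit false

namespace Cfsg.Agent.Lib.Helper1.S8U

open Matrix Module Polynomial

theorem ker_chain {F : Type*} [Field F] {V : Type*} [AddCommGroup V] [Module F V] [FiniteDimensional F V]
    (B : Module.End F V) (L : ℕ) (hL : 1 ≤ L) (w : V) (h0 : (B ^ L) w = 0) (h1 : (B ^ (L - 1)) w ≠ 0)
    (h2 : 2 ≤ finrank F (LinearMap.ker B)) : L + 1 ≤ finrank F (LinearMap.ker (B ^ L)) := by
  have key : ∀ j : ℕ, 1 ≤ j → j ≤ L → j + 1 ≤ finrank F (LinearMap.ker (B ^ j)) := by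
    intro j hj
    induction j, hj using Nat.le_induction with
    | base =>
      intro _
      rw [pow_one]
      exact h2
    | succ j hj ih =>
      intro hjL
      have ih' := ih (by omega)
      have hlt : LinearMap.ker (B ^ j) < LinearMap.ker (B ^ (j + 1)) := by
        apply lt_of_le_of_ne
        · intro v hv
          rw [LinearMap.mem_ker] at hv ⊢
          rw [pow_succ', Module.End.mul_apply, hv, map_zero]
        · intro heq
          have hmem : (B ^ (L - (j + 1))) w ∈ LinearMap.ker (B ^ (j + 1)) := by
            rw [LinearMap.mem_ker, ← Module.End.mul_apply, ← pow_add]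
            have : j + 1 + (L - (j + 1)) = L := by omega
            rw [this]
            exact h0
          rw [← heq, LinearMap.mem_ker, ← Module.End.mul_apply, ← pow_add] at hmem
          have : j + (L - (j + 1)) = L - 1 := by omega
          rw [this] at hmem
          exact h1 hmem
      have := Submodule.finrank_lt_finrank_of_lt hlt
      omega
  exact key L hL le_rfl

end Cfsg.Agent.Lib.Helper1.S8U
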