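import Mathlib
import Cfsg.Prelude.Def_Classical
import Cfsg.Agent.Lib.Helper1.S8U.Defs
import Cfsg.Agent.Lib.Helper1.S8UGEOF
import Cfsg.Agent.Lib.Helper1.S8UKCH

set_option autoImplicit false

namespace Cfsg.Agent.Lib.Helper1.S8U

open Matrix Module Polynomial

/-- `(y - 1)^(2^a) = y^(2^a) - 1` for an endomorphism in characteristic 2 -/
theorem s8umlow_sub_pow {F : Type*} [Field F] [CharP F 2] {V : Type*} [AddCommGroup V] [Module F V]
    (y : Module.End F V) (a : ℕ) : (y - 1) ^ (2 ^ a) = y ^ (2 ^ a) - 1 := by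
  have h : ((X : F[X]) - 1) ^ (2 ^ a) = X ^ (2 ^ a) - 1 := by
    rw [sub_pow_char_pow, one_pow]
  have h2 := congrArg (Polynomial.aeval y) h
  simpa using h2

theorem mult_lower {F : Type*} [Field F] [CharP F 2] {ι : Type} [Fintype ι] [DecidableEq ι]
    (A : Matrix ι ι F) (a m0 : ℕ) (hA : A ^ (2 ^ a * m0) = 1)
    (hgeo : ∑ i ∈ Finset.range (2 ^ a * m0), A ^ i ≠ 0) (hev : Even (A - 1).rank)
    (hι : Even (Fintype.card ι)) : 2 ^ a + 1 ≤ A.charpoly.rootMultiplicity 1 := by
  set y : Module.End F (ι → F) := Matrix.toLinAlgEquiv' A with hy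
  have hyA : y = Matrix.toLin' A := rfl
  have hyn : y ^ (2 ^ a * m0) = 1 := by
    rw [hy, ← map_pow, hA, map_one]
  have hgeoE : geoE y (2 ^ a * m0) ≠ 0 := by
    unfold geoE
    intro h
    apply hgeo
    have h1 : (Matrix.toLinAlgEquiv' (∑ i ∈ Finset.range (2 ^ a * m0), A ^ i) :
        Module.End F (ι → F)) = 0 := by
      rw [map_sum]
      rw [← h]
      apply Finset.sum_congr rfl
      intro i _
      rw [map_pow]
    exact (map_eq_zero_iff _ (Matrix.toLinAlgEquiv' (R := F) (n := ι)).injective).mp h1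
  obtain ⟨u, hu⟩ : ∃ u, geoE y (2 ^ a * m0) u ≠ 0 := by
    by_contra hcon
    push Not at hcon
    apply hgeoE
    apply LinearMap.ext
    intro u
    rw [hcon u]
    rfl
  rw [geo_factor y a m0, Module.End.mul_apply] at hu
  set S : Module.End F (ι → F) := ∑ j ∈ Finset.range m0, y ^ (2 ^ a * j) with hS
  set w : ι → F := S u with hw
  set B : Module.End F (ι → F) := y - 1 with hB
  have hL : 1 ≤ 2 ^ a := Nat.one_le_two_pow
  -- `B ^ L w = 0`
  have h0 : (B ^ (2 ^ a)) w = 0 := by
    rw [hB, s8umlow_sub_pow y a, hw, ← Module.End.mul_apply, hS]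
    have h1 : (y ^ 2 ^ a - 1) * ∑ j ∈ Finset.range m0, y ^ (2 ^ a * j) = y ^ (2 ^ a * m0) - 1 := by
      have h2 : ∀ j, y ^ (2 ^ a * j) = (y ^ 2 ^ a) ^ j := fun j => pow_mul y (2 ^ a) j
      simp only [h2]
      rw [mul_geom_sum]
    rw [h1, hyn, sub_self]
    rfl
  -- the kernel of `B` has even dimension and is not zero
  have hrank : finrank F (LinearMap.range B) = (A - 1).rank := by
    unfold Matrix.rank
    have : B = (A - 1).mulVecLin := by
      rw [hB, hyA]
      apply LinearMap.ext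
      intro v
      simp
    rw [this]
  have hsum := LinearMap.finrank_range_add_finrank_ker B
  rw [Module.finrank_fintype_fun_eq_card, hrank] at hsum
  have hne : (B ^ (2 ^ a - 1)) w ∈ LinearMap.ker B := by
    rw [LinearMap.mem_ker, ← Module.End.mul_apply, ← pow_succ', Nat.sub_add_cancel hL]
    exact h0
  have hpos : 0 < finrank F (LinearMap.ker B) := by
    rw [Module.finrank_pos_iff_exists_ne_zero]
    exact ⟨⟨_, hne⟩, fun h => hu (congrArg Subtype.val h)⟩
  have h2 : 2 ≤ finrank F (LinearMap.ker B) := by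
    have hevk : Even (finrank F (LinearMap.ker B)) := by
      have h3 : Even ((A - 1).rank + finrank F (LinearMap.ker B)) := by rw [hsum]; exact hι
      exact (Nat.even_add.mp h3).mp hev
    obtain ⟨r, hr⟩ := hevk
    omega
  have hkc := ker_chain B (2 ^ a) hL w h0 hu h2
  have hgen : LinearMap.ker (B ^ (2 ^ a)) = y.genEigenspace 1 (2 ^ a : ℕ) := by
    rw [Module.End.genEigenspace_nat, one_smul]
  have hle := LinearMap.finrank_genEigenspace_le y 1 (2 ^ a)
  rw [← hgen] at hle
  have hcp : y.charpoly = A.charpoly := by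
    rw [hyA]
    exact Matrix.charpoly_toLin' A
  rw [hcp] at hle
  omega

end Cfsg.Agent.Lib.Helper1.S8U
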