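import Mathlib
import Cfsg.Prelude.Def_Classical
import Cfsg.Agent.Lib.Helper1.S8U.Defs
import Cfsg.Agent.Lib.Helper1.S8UHDIFF
import Cfsg.Agent.Lib.helper15.SO8XFER
import Cfsg.Agent.Lib.helper4.OTSSTDP

set_option autoImplicit false

namespace Cfsg.Agent.Lib.Helper1.S8U

open Matrix Module Polynomial Cfsg.Agent.Lib.Helper16 Cfsg.Agent.Lib.Helper13.OTS Cfsg.Agent.Lib.Helper19.SO8
  Cfsg.Agent.Lib.helper14.OrthInv

section conj

variable {F : Type*} [Field F] {V W : Type*} [AddCommGroup V] [Module F V] [AddCommGroup W] [Module F W]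

/-- a conjugate by a linear equivalence is `0` iff the map is -/
theorem s8uorxfer_conj_eq_zero (ψ : V ≃ₗ[F] W) (T : Module.End F W) :
    (ψ.symm.toLinearMap ∘ₗ T ∘ₗ ψ.toLinearMap : Module.End F V) = 0 ↔ T = 0 := by
  constructor
  · intro h
    apply LinearMap.ext
    intro w
    have h1 := LinearMap.congr_fun h (ψ.symm w)
    simp only [LinearMap.coe_comp, LinearEquiv.coe_coe, Function.comp_apply,
      LinearEquiv.apply_symm_apply, LinearMap.zero_apply] at h1
    have h2 := congrArg ψ h1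
    rw [LinearEquiv.apply_symm_apply, map_zero] at h2
    rw [h2]
    rfl
  · intro h
    rw [h]
    apply LinearMap.ext
    intro v
    simp

/-- conjugation is additive over finite sums -/
theorem s8uorxfer_conj_sum (ψ : V ≃ₗ[F] W) {κ : Type*} (s : Finset κ) (T : κ → Module.End F W) :
    (ψ.symm.toLinearMap ∘ₗ (∑ i ∈ s, T i) ∘ₗ ψ.toLinearMap : Module.End F V) =
      ∑ i ∈ s, (ψ.symm.toLinearMap ∘ₗ T i ∘ₗ ψ.toLinearMap : Module.End F V) := by
  apply LinearMap.ext
  intro v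
  simp [LinearMap.sum_apply]

/-- the rank of a conjugate -/
theorem s8uorxfer_conj_range [FiniteDimensional F V] [FiniteDimensional F W] (ψ : V ≃ₗ[F] W)
    (T : Module.End F W) :
    finrank F (LinearMap.range (ψ.symm.toLinearMap ∘ₗ T ∘ₗ ψ.toLinearMap : Module.End F V)) =
      finrank F (LinearMap.range T) := by
  have h1 : LinearMap.range (ψ.symm.toLinearMap ∘ₗ T ∘ₗ ψ.toLinearMap : Module.End F V) =
      (LinearMap.range T).map ψ.symm.toLinearMap := by
    ext v
    simp only [LinearMap.mem_range, Submodule.mem_map, LinearMap.coe_comp, LinearEquiv.coe_coe,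
      Function.comp_apply]
    constructor
    · rintro ⟨u, rfl⟩
      exact ⟨T (ψ u), ⟨ψ u, rfl⟩, rfl⟩
    · rintro ⟨w, ⟨u, rfl⟩, rfl⟩
      exact ⟨ψ.symm u, by rw [LinearEquiv.apply_symm_apply]⟩
  rw [h1]
  exact LinearEquiv.finrank_map_eq ψ.symm (LinearMap.range T)

end conj

/-- `toLin'` of `geoM` -/
theorem s8uorxfer_geo {F : Type*} [Field F] {ι : Type} [Fintype ι] [DecidableEq ι] (g : GL ι F) (k : ℕ) :
    Matrix.toLin' (geoM g k) = ∑ i ∈ Finset.range k, (Matrix.toLin' (g : Matrix ι ι F)) ^ i := by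
  unfold geoM
  rw [map_sum]
  apply Finset.sum_congr rfl
  intro i _
  rw [Units.val_pow_eq_pow_val]
  exact map_pow (Matrix.toLinAlgEquiv' (R := F) (n := ι)) _ i

theorem or_xfer {F : Type*} [Field F] [Fintype F] [CharP F 2] (a b : F) (hab : Aniso a b) (n : ℕ) (c : Prop)
    (h : OR F 4 (-1) n 0 c) : ∃ g ∈ Hd a b hab, orderOf g = n ∧ (c → geoM g n ≠ 0) := by
  obtain ⟨ι', fι', dι', Qs', hs', g', hg'n, hg'p, hg'c⟩ := h
  have hs : QStd (qfMinus 3 F a b) 4 (-1) := otsstdp_minus 3 a b hab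
  obtain ⟨hty, hV, hnd⟩ := q_ty_top Qs' 4 (-1) hs'
  obtain ⟨ψ, hψ⟩ := q_iso_std (qfMinus 3 F a b) 4 (-1) hs Qs' hnd hV hty
  have hgN : (g' : Matrix.GeneralLinearGroup ι' F) ^ n = 1 := by
    have h1 : g' ^ n = 1 := by rw [← hg'n]; exact pow_orderOf_eq_one g'
    have h2 := congrArg (Subtype.val) h1
    simpa using h2
  set T : Module.End F (ι' → F) :=
    Matrix.toLin' ((g' : Matrix.GeneralLinearGroup ι' F) : Matrix ι' ι' F) with hT
  have hctx' : QCtx n Qs' T :=
    q_std_ctx Qs' hs'.nd n (g' : Matrix.GeneralLinearGroup ι' F) g'.2 hgN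
  obtain ⟨hnd0, hV0, hnd1⟩ := q_ty_top (qfMinus 3 F a b) 4 (-1) hs
  have hctx : QCtx n (qfMinus 3 F a b) (ψ.symm.toLinearMap ∘ₗ T ∘ₗ ψ.toLinearMap) := by
    refine ⟨hnd1, ?_, ?_⟩
    · intro v
      rw [← hψ]
      simp only [LinearMap.coe_comp, LinearEquiv.coe_coe, Function.comp_apply,
        LinearEquiv.apply_symm_apply]
      rw [hctx'.pres, hψ]
    · rw [so8xfer_conj_pow, hctx'.pow]
      exact (so8xfer_conj_eq_one ψ 1).mpr rfl
  obtain ⟨x, hx, hxy, hxN⟩ := q_realize (qfMinus 3 F a b) n _ hctx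
  have hxGO : x ∈ GO8 F a b := hx
  -- the order
  have hord : orderOf x = n := by
    rw [← hg'n]
    have e0 : orderOf g' = orderOf (g' : Matrix.GeneralLinearGroup ι' F) :=
      (Subgroup.orderOf_coe g').symm
    rw [e0]
    apply orderOf_eq_orderOf_iff.mpr
    intro k
    rw [Cfsg.Agent.Lib.Lead.BCG.gl_same, Cfsg.Agent.Lib.Lead.BCG.gl_same, hxy,
      so8xfer_conj_pow, so8xfer_conj_eq_one]
  -- the rank
  have hrank : ((x : Matrix MI8 MI8 F) - 1).rank = rk g' := by
    unfold rk Matrix.rank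
    have e1 : ((x : Matrix MI8 MI8 F) - 1).mulVecLin =
        (ψ.symm.toLinearMap ∘ₗ (T - 1) ∘ₗ ψ.toLinearMap : Module.End F (MI8 → F)) := by
      have : ((x : Matrix MI8 MI8 F) - 1).mulVecLin = Matrix.toLin' (x : Matrix MI8 MI8 F) - 1 := by
        apply LinearMap.ext
        intro v
        simp
      rw [this, hxy]
      apply LinearMap.ext
      intro v
      simp
    have e2 : (mat g' - 1).mulVecLin = T - 1 := by
      apply LinearMap.ext
      intro v
      simp [hT]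
    rw [e1, e2]
    exact s8uorxfer_conj_range ψ (T - 1)
  have hxHd : x ∈ Hd a b hab := by
    rw [hd_iff]
    refine ⟨hxGO, ?_⟩
    rw [hrank, Nat.even_iff]
    exact hg'p
  refine ⟨x, hxHd, hord, ?_⟩
  intro hc hzero
  apply hg'c hc
  have h1 : Matrix.toLin' (geoM x n) = 0 := by rw [hzero, map_zero]
  rw [s8uorxfer_geo, hxy] at h1
  have h2 : (∑ i ∈ Finset.range n, (ψ.symm.toLinearMap ∘ₗ T ∘ₗ ψ.toLinearMap : Module.End F (MI8 → F)) ^ i) =
      (ψ.symm.toLinearMap ∘ₗ (∑ i ∈ Finset.range n, T ^ i) ∘ₗ ψ.toLinearMap :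
        Module.End F (MI8 → F)) := by
    rw [s8uorxfer_conj_sum]
    apply Finset.sum_congr rfl
    intro i _
    rw [so8xfer_conj_pow]
  rw [h2, s8uorxfer_conj_eq_zero] at h1
  have h3 : Matrix.toLin' (geoM (g' : GL ι' F) n) = 0 := by
    rw [s8uorxfer_geo]
    exact h1
  exact (map_eq_zero_iff _ (Matrix.toLin' (R := F) (n := ι') (m := ι')).injective).mp h3

end Cfsg.Agent.Lib.Helper1.S8U
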