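import Mathlib
import Cfsg.Prelude.Def_Classical
import Cfsg.Agent.Lib.Helper1.S8U.Defs
import Cfsg.Agent.Lib.Helper1.S8UORXFER
import Cfsg.Agent.Lib.helper14.S8UORODD
import Cfsg.Agent.Lib.helper14.S8UORONE
import Cfsg.Agent.Lib.helper23.S8UORSUM
import Cfsg.Agent.Lib.helper23.S8UORU4
import Cfsg.Agent.Lib.helper4.OTSSTDP

set_option autoImplicit false

namespace Cfsg.Agent.Lib.Helper1.S8U

open Matrix Module Polynomial Cfsg.Agent.Lib.Helper16 Cfsg.Agent.Lib.Helper13.OTS Cfsg.Agent.Lib.Helper19.SO8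
  Cfsg.Agent.Lib.helper14.OrthInv

theorem s8utgh1_cast {F : Type*} [Field F] [Fintype F] {d d' : ℕ} {s s' : ℤ} {n n' p p' : ℕ}
    {c : Prop} (h : OR F d s n p c) (hd : d = d') (hs : s = s') (hn : n = n') (hp : p = p') :
    OR F d' s' n' p' c := by
  subst hd hs hn hp
  exact h

/-- spare copy of `tgt_two` -/
theorem s8utgh1_two {F : Type*} [Field F] [Fintype F] [CharP F 2] (a b : F) (hab : Aniso a b) (m : ℕ)
    (hm : Odd m) (s : ℤ) (hs : s = 1 ∨ s = -1) (h : OReal F 3 s m) :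
    ∃ g ∈ Hd a b hab, orderOf g = m ∧ geoM g m ≠ 0 := by
  have h2 : OR F 3 s m 0 False := or_odd 3 s m hm h
  have h1 : OR F 1 (-s) 1 0 True := by
    rcases hs with rfl | rfl
    · exact or_one (qfMinus 0 F a b) 1 (-1) (otsstdp_minus 0 a b hab) le_rfl
    · have := or_one (qfPlus 1 F) 1 1 (q_std_plus 1) le_rfl
      simpa using this
  have h3 := or_sum 1 3 le_rfl (-s) s 1 m 0 0 True False h1 h2
  have hlcm : Nat.lcm 1 m = m := Nat.lcm_one_left m
  have hss : -s * s = -1 := by rcases hs with rfl | rfl <;> norm_num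
  have h4 : OR F 4 (-1) m 0 ((True ∧ Odd (Nat.lcm 1 m / 1)) ∨ (False ∧ Odd (Nat.lcm 1 m / m))) :=
    s8utgh1_cast h3 (by norm_num) hss hlcm (by norm_num)
  have h5 : OR F 4 (-1) m 0 True := by
    refine or_mono ?_ h4
    intro _
    left
    refine ⟨trivial, ?_⟩
    rw [hlcm, Nat.div_one]
    exact hm
  obtain ⟨g, hg, hord, hgeo⟩ := or_xfer a b hab m True h5
  exact ⟨g, hg, hord, hgeo trivial⟩

/-- spare copy of `tgt_four` -/
theorem s8utgh1_four {F : Type*} [Field F] [Fintype F] [CharP F 2] (a b : F) (hab : Aniso a b) (m : ℕ)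
    (hm : Odd m) (h : OReal F 2 (-1) m) :
    ∃ g ∈ Hd a b hab, orderOf g = 2 * m ∧ geoM g (2 * m) ≠ 0 := by
  have h2 : OR F 2 (-1) m 0 False := or_odd 2 (-1) m hm h
  have h1 : OR F 2 1 2 0 True := (or_u4 (F := F)).2
  have h3 := or_sum 2 2 (by norm_num) 1 (-1) 2 m 0 0 True False h1 h2
  have hlcm : Nat.lcm 2 m = 2 * m := (Nat.coprime_two_left.mpr hm).lcm_eq_mul
  have h4 : OR F 4 (-1) (2 * m) 0 ((True ∧ Odd (Nat.lcm 2 m / 2)) ∨ (False ∧ Odd (Nat.lcm 2 m / m))) :=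
    s8utgh1_cast h3 (by norm_num) (by norm_num) hlcm (by norm_num)
  have h5 : OR F 4 (-1) (2 * m) 0 True := by
    refine or_mono ?_ h4
    intro _
    left
    refine ⟨trivial, ?_⟩
    rw [hlcm, Nat.mul_div_cancel_left m (by norm_num)]
    exact hm
  obtain ⟨g, hg, hord, hgeo⟩ := or_xfer a b hab (2 * m) True h5
  exact ⟨g, hg, hord, hgeo trivial⟩

end Cfsg.Agent.Lib.Helper1.S8U
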