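import Mathlib
import Cfsg.Agent.Lib.helper2.S91Defs
import Cfsg.Agent.S1496

set_option autoImplicit false

namespace Cfsg.Agent.Lib.helper2.S91
open Subgroup

theorem cnt_orderOf_conj {G : Type*} [Group G] (a y : G) : orderOf (a * y * a⁻¹) = orderOf y := by
  have h : SemiconjBy a y (a * y * a⁻¹) := by
    unfold SemiconjBy
    group
  exact (h.orderOf_eq a).symm

theorem cnt_orbit {G : Type*} [Group G] (K : Subgroup G) (y : G) :
    Nat.card {g : G // ∃ k ∈ K, g = k * y * k⁻¹} = (K ⊓ centralizer {y}).relIndex K := by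
  classical
  rw [Subgroup.relIndex, Subgroup.index]
  symm
  have hwd : ∀ a b : ↥K, QuotientGroup.leftRel ((K ⊓ centralizer {y}).subgroupOf K) a b →
      (⟨(a : G) * y * (a : G)⁻¹, a, a.2, rfl⟩ : {g : G // ∃ k ∈ K, g = k * y * k⁻¹}) =
        ⟨(b : G) * y * (b : G)⁻¹, b, b.2, rfl⟩ := by
    intro a b hab
    rw [QuotientGroup.leftRel_apply, Subgroup.mem_subgroupOf] at hab
    have hc := (Subgroup.mem_inf.1 hab).2
    rw [Subgroup.mem_centralizer_iff] at hc
    have h1 := hc y (Set.mem_singleton y)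
    apply Subtype.ext
    simp only [Subgroup.coe_mul, Subgroup.coe_inv] at h1
    show (a : G) * y * (a : G)⁻¹ = (b : G) * y * (b : G)⁻¹
    have h2 : y = ((a : G)⁻¹ * (b : G)) * y * ((a : G)⁻¹ * (b : G))⁻¹ := by
      rw [← h1]
      group
    calc (a : G) * y * (a : G)⁻¹
        = (a : G) * (((a : G)⁻¹ * (b : G)) * y * ((a : G)⁻¹ * (b : G))⁻¹) * (a : G)⁻¹ := by
          rw [← h2]
      _ = (b : G) * y * (b : G)⁻¹ := by group
  refine Nat.card_congr (Equiv.ofBijective
    (fun q => Quotient.liftOn' q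
      (fun k : ↥K => (⟨(k : G) * y * (k : G)⁻¹, k, k.2, rfl⟩ :
        {g : G // ∃ k ∈ K, g = k * y * k⁻¹})) hwd) ⟨?_, ?_⟩)
  · intro q1 q2
    induction q1 using Quotient.inductionOn' with
    | h a =>
      induction q2 using Quotient.inductionOn' with
      | h b =>
        intro h
        simp only [Quotient.liftOn'_mk''] at h
        have h' : (a : G) * y * (a : G)⁻¹ = (b : G) * y * (b : G)⁻¹ := congrArg Subtype.val h
        apply Quotient.sound'
        rw [QuotientGroup.leftRel_apply, Subgroup.mem_subgroupOf]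
        refine Subgroup.mem_inf.2 ⟨(a⁻¹ * b).2, ?_⟩
        rw [Subgroup.mem_centralizer_iff]
        intro z hz
        rw [Set.mem_singleton_iff] at hz
        subst hz
        simp only [Subgroup.coe_mul, Subgroup.coe_inv]
        have : z = (a : G)⁻¹ * ((b : G) * z * (b : G)⁻¹) * (a : G) := by
          rw [← h']
          group
        calc z * ((a : G)⁻¹ * (b : G))
            = ((a : G)⁻¹ * ((b : G) * z * (b : G)⁻¹) * (a : G)) * ((a : G)⁻¹ * (b : G)) := by
              rw [← this]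
          _ = (a : G)⁻¹ * (b : G) * z := by group
  · rintro ⟨g, k, hk, rfl⟩
    exact ⟨Quotient.mk'' ⟨k, hk⟩, rfl⟩

theorem cnt {G : Type*} [Group G] [Finite G] (p : ℕ) [Fact p.Prime] (K R P0 : Subgroup G)
    [Fintype ↥P0] (hK : (Nat.card K).Coprime p) (hR : IsPGroup p R)
    (hRK : R ≤ normalizer (K : Set G)) (hP0R : P0 ≤ R) (x : G) (hx : x ∈ R) :
    uIn p {g : G | ∃ k ∈ K, ∃ u ∈ P0, g = k * (x * u)} =
      ∑ u : ↥P0, (K ⊓ centralizer {x * (u : G)}).relIndex K := by
  classical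
  have hp : p.Prime := Fact.out
  have hRord : ∀ y ∈ R, ∃ j : ℕ, orderOf y = p ^ j := by
    intro y hy
    obtain ⟨j, hj⟩ := (IsPGroup.iff_orderOf.1 hR) ⟨y, hy⟩
    exact ⟨j, by rw [← hj, Subgroup.orderOf_mk]⟩
  have hKord : ∀ c ∈ K, orderOf c ∣ Nat.card K := by
    intro c hc
    have := orderOf_dvd_natCard (⟨c, hc⟩ : ↥K)
    rwa [Subgroup.orderOf_mk] at this
  have hcop1 : ∀ c ∈ K, ∀ j : ℕ, c ^ (p ^ j) = 1 → c = 1 := by
    intro c hc j hj
    have h1 : orderOf c ∣ p ^ j := orderOf_dvd_of_pow_eq_one hj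
    have h2 := hKord c hc
    have h3 : Nat.Coprime (Nat.card K) (p ^ j) := Nat.Coprime.pow_right j hK
    have h4 : orderOf c = 1 := Nat.eq_one_of_dvd_coprimes h3 h2 h1
    exact orderOf_eq_one_iff.1 h4
  have hKR : ∀ c, c ∈ K → c ∈ R → c = 1 := by
    intro c hcK hcR
    obtain ⟨j, hj⟩ := hRord c hcR
    apply hcop1 c hcK j
    rw [← hj]
    exact pow_orderOf_eq_one c
  have hnorm : ∀ y ∈ R, ∀ k ∈ K, y * k * y⁻¹ ∈ K := by
    intro y hy k hk
    have := hRK hy
    rw [Subgroup.mem_normalizer_iff] at this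
    exact (this k).1 hk
  have hnorm' : ∀ y ∈ R, ∀ k ∈ K, y⁻¹ * k * y ∈ K := by
    intro y hy k hk
    have := hnorm y⁻¹ (R.inv_mem hy) k hk
    rwa [inv_inv] at this
  have hxu : ∀ u : ↥P0, x * (u : G) ∈ R := fun u => R.mul_mem hx (hP0R u.2)
  have hiso : uIn p {g : G | ∃ k ∈ K, ∃ u ∈ P0, g = k * (x * u)} =
      Nat.card (Σ u : ↥P0, {g : G // ∃ k ∈ K, g = k * (x * (u : G)) * k⁻¹}) := by
    unfold uIn
    symm
    refine Nat.card_congr (Equiv.ofBijective
      (fun s => ⟨s.2.1, ?_⟩) ⟨?_, ?_⟩)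
    · obtain ⟨u, g, k, hk, rfl⟩ := s
      refine ⟨⟨k * ((x * (u : G)) * k⁻¹ * (x * (u : G))⁻¹), K.mul_mem hk
        (hnorm _ (hxu u) _ (K.inv_mem hk)), u, u.2, by group⟩, ?_⟩
      obtain ⟨j, hj⟩ := hRord _ (hxu u)
      refine ⟨j, ?_⟩
      rw [← hj]
      exact cnt_orderOf_conj _ _
    · rintro ⟨u, g, k, hk, hg⟩ ⟨u', g', k', hk', hg'⟩ h
      have hgg : g = g' := congrArg Subtype.val h
      have huu : u = u' := by
        have e : k * (x * (u : G)) * k⁻¹ = k' * (x * (u' : G)) * k'⁻¹ := by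
          rw [← hg, ← hg', hgg]
        have hc : k'⁻¹ * k ∈ K := K.mul_mem (K.inv_mem hk') hk
        have e2 : (x * (u' : G)) = (k'⁻¹ * k) * (x * (u : G)) * (k'⁻¹ * k)⁻¹ := by
          have : (x * (u' : G)) = k'⁻¹ * (k' * (x * (u' : G)) * k'⁻¹) * k' := by group
          rw [this, ← e]
          group
        have e3 : (u : G)⁻¹ * (u' : G) =
            ((x * (u : G))⁻¹ * (k'⁻¹ * k) * (x * (u : G))) * (k'⁻¹ * k)⁻¹ := by
          have : (u : G)⁻¹ * (u' : G) = (x * (u : G))⁻¹ * (x * (u' : G)) := by group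
          rw [this, e2]
          group
        have h1 : (u : G)⁻¹ * (u' : G) ∈ K := by
          rw [e3]
          exact K.mul_mem (hnorm' _ (hxu u) _ hc) (K.inv_mem hc)
        have h2 : (u : G)⁻¹ * (u' : G) ∈ R := hP0R (P0.mul_mem (P0.inv_mem u.2) u'.2)
        have h3 := hKR _ h1 h2
        apply Subtype.ext
        exact inv_mul_eq_one.1 h3
      subst huu
      subst hgg
      rfl
    · rintro ⟨g, ⟨k, hk, u, hu, rfl⟩, e, he⟩
      obtain ⟨t, ht, c, hc, hcy, htc⟩ := Cfsg.Agent.S1496.result K (x * u)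
        (hRK (R.mul_mem hx (hP0R hu)))
        (by
          obtain ⟨j, hj⟩ := hRord _ (R.mul_mem hx (hP0R hu))
          rw [hj]
          exact (Nat.Coprime.pow_right j hK).symm) k hk
      obtain ⟨j, hj⟩ := hRord _ (R.mul_mem hx (hP0R hu))
      have hc1 : c = 1 := by
        apply hcop1 c hc (e + j)
        have h1 : (c * (x * u)) ^ (p ^ (e + j)) = 1 := by
          rw [← htc]
          apply orderOf_dvd_iff_pow_eq_one.1
          rw [cnt_orderOf_conj, he]
          exact pow_dvd_pow p (Nat.le_add_right e j)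
        have h2 : (x * u) ^ (p ^ (e + j)) = 1 := by
          apply orderOf_dvd_iff_pow_eq_one.1
          rw [hj]
          exact pow_dvd_pow p (Nat.le_add_left j e)
        have hcomm : Commute c (x * u) := hcy
        rw [hcomm.mul_pow, h2, mul_one] at h1
        exact h1
      rw [hc1, one_mul] at htc
      refine ⟨⟨⟨u, hu⟩, k * (x * u), t⁻¹, K.inv_mem ht, ?_⟩, rfl⟩
      show k * (x * u) = t⁻¹ * (x * u) * t⁻¹⁻¹
      calc k * (x * u) = t⁻¹ * (t * (k * (x * u)) * t⁻¹) * t⁻¹⁻¹ := by group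
        _ = t⁻¹ * (x * u) * t⁻¹⁻¹ := by rw [htc]
  rw [hiso, Nat.card_sigma]
  apply Finset.sum_congr rfl
  intro u _
  exact cnt_orbit K (x * (u : G))

end Cfsg.Agent.Lib.helper2.S91
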