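import Mathlib
import Cfsg.Agent.Lib.helper2.S91Defs

set_option autoImplicit false

namespace Cfsg.Agent.Lib.helper2.S91
open Subgroup

universe u

theorem qg_card_of_map {G : Type*} [Group G] (H : Subgroup G) (A' : Subgroup ↥H) (A : Subgroup G)
    (h : A'.map H.subtype = A) : Nat.card A' = Nat.card A := by
  rw [← h, Subgroup.card_map_of_injective H.subtype_injective]

theorem qg_inf_cent {G : Type*} [Group G] (K : Subgroup G) (S T : Set G) :
    K ⊓ centralizer S ⊓ centralizer T = K ⊓ centralizer (S ∪ T) := by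
  ext g
  simp only [Subgroup.mem_inf, Subgroup.mem_centralizer_iff, Set.mem_union]
  constructor
  · rintro ⟨⟨hK, h1⟩, h2⟩
    exact ⟨hK, fun h hh => hh.elim (h1 h) (h2 h)⟩
  · rintro ⟨hK, h⟩
    exact ⟨⟨hK, fun s hs => h s (Or.inl hs)⟩, fun s hs => h s (Or.inr hs)⟩

theorem qg_cent_empty {G : Type*} [Group G] : centralizer (∅ : Set G) = ⊤ := by
  ext g
  simp [Subgroup.mem_centralizer_iff]

theorem qg_cent_transfer {G : Type*} [Group G] (H K : Subgroup G) (hKH : K ≤ H) (S' : Set ↥H) :
    Nat.card ↥(K.subgroupOf H ⊓ centralizer S') =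
      Nat.card ↥(K ⊓ centralizer (H.subtype '' S')) := by
  apply qg_card_of_map H
  ext g
  simp only [Subgroup.mem_map, Subgroup.mem_inf, Subgroup.mem_subgroupOf,
    Subgroup.mem_centralizer_iff]
  constructor
  · rintro ⟨h, ⟨hK, hc⟩, rfl⟩
    refine ⟨hK, ?_⟩
    rintro _ ⟨s, hs, rfl⟩
    have := hc s hs
    exact congrArg Subtype.val this
  · rintro ⟨hK, hc⟩
    refine ⟨⟨g, hKH hK⟩, ⟨hK, ?_⟩, rfl⟩
    intro s hs
    apply Subtype.ext
    exact hc _ ⟨s, hs, rfl⟩

theorem qg_transfer {G : Type*} [Group G] (p : ℕ) (H K P0 : Subgroup G) [Fintype ↥P0]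
    [Fintype ↥(P0.subgroupOf H)] (hKH : K ≤ H) (hPH : P0 ≤ H) (x : G) (hx : x ∈ H)
    (h : PIneq p (K.subgroupOf H) (P0.subgroupOf H) (⟨x, hx⟩ : ↥H)) : PIneq p K P0 x := by
  unfold PIneq at h ⊢
  have himP : H.subtype '' ((P0.subgroupOf H : Subgroup ↥H) : Set ↥H) = (P0 : Set G) := by
    ext g
    constructor
    · rintro ⟨s, hs, rfl⟩
      exact hs
    · intro hg
      exact ⟨⟨g, hPH hg⟩, hg, rfl⟩
  have e1 : ∀ u' : ↥(P0.subgroupOf H),
      Nat.card ↥(K.subgroupOf H ⊓ centralizer {(⟨x, hx⟩ : ↥H) * (u' : ↥H)}) =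
        Nat.card ↥(K ⊓ centralizer {x * ((u' : ↥H) : G)}) := by
    intro u'
    rw [qg_cent_transfer H K hKH, Set.image_singleton]
    rfl
  have hbij : Function.Bijective
      (fun u' : ↥(P0.subgroupOf H) => (⟨((u' : ↥H) : G), u'.2⟩ : ↥P0)) := by
    constructor
    · intro a b hab
      apply Subtype.ext
      apply Subtype.ext
      have h' := congrArg Subtype.val hab
      exact h'
    · intro u
      exact ⟨⟨⟨(u : G), hPH u.2⟩, u.2⟩, rfl⟩
  have e2 : ∏ u' : ↥(P0.subgroupOf H),
      Nat.card ↥(K.subgroupOf H ⊓ centralizer {(⟨x, hx⟩ : ↥H) * (u' : ↥H)}) =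
        ∏ u : ↥P0, Nat.card ↥(K ⊓ centralizer {x * (u : G)}) := by
    apply Fintype.prod_bijective _ hbij
    intro u'
    exact e1 u'
  have e3 : Nat.card ↥(P0.subgroupOf H) = Nat.card ↥P0 := Nat.card_eq_of_bijective _ hbij
  have e4 : Nat.card ↥(K.subgroupOf H ⊓ centralizer ((P0.subgroupOf H : Subgroup ↥H) : Set ↥H)) =
      Nat.card ↥(K ⊓ centralizer (P0 : Set G)) := by
    rw [qg_cent_transfer H K hKH, himP]
  have e5 : Nat.card ↥(K.subgroupOf H) = Nat.card ↥K :=
    Nat.card_congr (Subgroup.subgroupOfEquivOfLe hKH).toEquiv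
  have e6 : Nat.card ↥(K.subgroupOf H ⊓ centralizer {(⟨x, hx⟩ : ↥H)} ⊓
      centralizer ((P0.subgroupOf H : Subgroup ↥H) : Set ↥H)) =
      Nat.card ↥(K ⊓ centralizer {x} ⊓ centralizer (P0 : Set G)) := by
    rw [qg_inf_cent, qg_inf_cent, qg_cent_transfer H K hKH, Set.image_union, himP,
      Set.image_singleton]
    rfl
  rw [e2, e3, e4, e5, e6] at h
  exact h

theorem qg_normal (p : ℕ) [Fact p.Prime] (q : ℕ) [Fact q.Prime]
    (hAB : ∀ (G : Type u) [Group G] [Finite G] (K R P0 : Subgroup G) [Fintype ↥P0]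
      (_ : ∀ a ∈ K, ∀ b ∈ K, a * b = b * a) (_ : (Nat.card K).Coprime p) (_ : IsPGroup p R)
      (_ : R ≤ normalizer (K : Set G)) (_ : P0 ≤ R) (_ : R ≤ normalizer (P0 : Set G))
      (x : G) (_ : x ∈ R), PIneq p K P0 x)
    (hSEC : ∀ (G : Type u) [Group G] [Finite G] (K N : Subgroup G) [N.Normal] (_ : N ≤ K)
      (_ : (Nat.card K).Coprime p) (S : Set G) (_ : IsPGroup p (Subgroup.closure S))
      (_ : S ⊆ (normalizer (K : Set G) : Set G)),
      Nat.card ↥(K.map (QuotientGroup.mk' N) ⊓ centralizer ((QuotientGroup.mk' N) '' S)) *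
        Nat.card ↥(N ⊓ centralizer S) = Nat.card ↥(K ⊓ centralizer S)) :
    ∀ (n : ℕ) (G : Type u) [Group G] [Finite G] (K R P0 : Subgroup G) [Fintype ↥P0]
      (_ : K.Normal) (_ : IsPGroup q K) (_ : (Nat.card K).Coprime p) (_ : IsPGroup p R)
      (_ : P0 ≤ R) (_ : R ≤ normalizer (P0 : Set G)) (x : G) (_ : x ∈ R) (_ : Nat.card K = n),
      PIneq p K P0 x := by
  intro n
  induction n using Nat.strong_induction_on with
  | _ n ih =>
    intro G _ _ K R P0 _ hKn hKq hK hR hP0R hRP0 x hx hn
    classical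
    have hp : p.Prime := Fact.out
    have hKtop : normalizer (K : Set G) = ⊤ := by
      have := hKn
      exact Subgroup.normalizer_eq_top K
    by_cases hab : ∀ a ∈ K, ∀ b ∈ K, a * b = b * a
    · exact hAB G K R P0 hab hK hR (by rw [hKtop]; exact le_top) hP0R hRP0 x hx
    · have := hKn
      obtain ⟨N, hN⟩ : ∃ N : Subgroup G, N = (Subgroup.center ↥K).map K.subtype := ⟨_, rfl⟩
      have hNn : N.Normal := by
        rw [hN]
        exact ConjAct.normal_of_characteristic_of_normal
      have hNtop : normalizer (N : Set G) = ⊤ := Subgroup.normalizer_eq_top N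
      have hNK : N ≤ K := by
        rw [hN]
        exact Subgroup.map_subtype_le _
      have hNmem : ∀ g : G, g ∈ N → ∀ k ∈ K, k * g = g * k := by
        intro g hg k hk
        rw [hN] at hg
        obtain ⟨z, hz, rfl⟩ := hg
        have := Subgroup.mem_center_iff.1 hz ⟨k, hk⟩
        exact congrArg Subtype.val this
      have hNab : ∀ a ∈ N, ∀ b ∈ N, a * b = b * a := by
        intro a ha b hb
        exact hNmem b hb a (hNK ha)
      have hKne : K ≠ ⊥ := by
        intro h
        apply hab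
        intro a ha b hb
        rw [h, Subgroup.mem_bot] at ha hb
        rw [ha, hb]
      have : Nontrivial ↥K := (Subgroup.nontrivial_iff_ne_bot K).2 hKne
      have : Nontrivial ↥(Subgroup.center ↥K) := IsPGroup.center_nontrivial hKq
      have hNcard : 2 ≤ Nat.card ↥N := by
        rw [hN, Subgroup.card_map_of_injective K.subtype_injective]
        exact Finite.one_lt_card
      have hcl : ∀ S : Set G, S ⊆ (R : Set G) → IsPGroup p (Subgroup.closure S) := by
        intro S hS
        exact hR.to_le ((Subgroup.closure_le R).2 hS)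
      have hsubtop : ∀ S : Set G, S ⊆ (normalizer (K : Set G) : Set G) := by
        intro S g _
        rw [hKtop]
        exact Subgroup.mem_top g
      have hkk : Nat.card ↥(K.map (QuotientGroup.mk' N)) * Nat.card ↥N = Nat.card ↥K := by
        have := hSEC G K N hNK hK ∅ (hcl ∅ (Set.empty_subset _)) (hsubtop ∅)
        rw [Set.image_empty, qg_cent_empty, qg_cent_empty, inf_top_eq, inf_top_eq,
          inf_top_eq] at this
        exact this
      have hKpos : 0 < Nat.card ↥(K.map (QuotientGroup.mk' N)) := Nat.card_pos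
      have hlt : Nat.card ↥(K.map (QuotientGroup.mk' N)) < n := by
        rw [← hn, ← hkk]
        nlinarith
      have hcopb : (Nat.card ↥(K.map (QuotientGroup.mk' N))).Coprime p :=
        Nat.Coprime.coprime_dvd_left (Dvd.intro _ hkk) hK
      have hcopN : (Nat.card ↥N).Coprime p :=
        Nat.Coprime.coprime_dvd_left (Dvd.intro_left _ hkk) hK
      have hKR : ∀ c, c ∈ K → c ∈ R → c = 1 := by
        intro c hcK hcR
        obtain ⟨j, hj⟩ := (IsPGroup.iff_orderOf.1 hR) ⟨c, hcR⟩
        rw [Subgroup.orderOf_mk] at hj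
        have h2 : orderOf c ∣ Nat.card ↥K := by
          have := orderOf_dvd_natCard (⟨c, hcK⟩ : ↥K)
          rwa [Subgroup.orderOf_mk] at this
        have h3 : Nat.Coprime (Nat.card K) (p ^ j) := Nat.Coprime.pow_right j hK
        have h4 : orderOf c = 1 := Nat.eq_one_of_dvd_coprimes h3 h2 (by rw [hj])
        exact orderOf_eq_one_iff.1 h4
      have : Fintype ↥(P0.map (QuotientGroup.mk' N)) := Fintype.ofFinite _
      have h2 := ih _ hlt (G ⧸ N) (K.map (QuotientGroup.mk' N)) (R.map (QuotientGroup.mk' N))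
        (P0.map (QuotientGroup.mk' N)) (hKn.map _ (QuotientGroup.mk'_surjective N))
        (hKq.map _) hcopb (hR.map _) (Subgroup.map_mono hP0R)
        ((Subgroup.map_mono hRP0).trans (Subgroup.le_normalizer_map _))
        (QuotientGroup.mk' N x) (Subgroup.mem_map_of_mem _ hx) rfl
      have h1 := hAB G N R P0 hNab hcopN hR (by rw [hNtop]; exact le_top) hP0R hRP0 x hx
      unfold PIneq at h1 h2 ⊢
      have hbij : Function.Bijective (fun u : ↥P0 =>
          (⟨QuotientGroup.mk' N (u : G), Subgroup.mem_map_of_mem _ u.2⟩ :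
            ↥(P0.map (QuotientGroup.mk' N)))) := by
        constructor
        · intro a b hab'
          have e : (QuotientGroup.mk' N (a : G)) = QuotientGroup.mk' N (b : G) :=
            congrArg Subtype.val hab'
          have e2 : (a : G)⁻¹ * (b : G) ∈ N := QuotientGroup.eq.1 e
          have e3 := hKR _ (hNK e2) (hP0R (P0.mul_mem (P0.inv_mem a.2) b.2))
          apply Subtype.ext
          exact inv_mul_eq_one.1 e3
        · rintro ⟨_, u, hu, rfl⟩
          exact ⟨⟨u, hu⟩, rfl⟩
      have hs : Nat.card ↥(P0.map (QuotientGroup.mk' N)) = Nat.card ↥P0 :=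
        (Nat.card_eq_of_bijective _ hbij).symm
      have hprod : ∏ ub : ↥(P0.map (QuotientGroup.mk' N)),
          Nat.card ↥(K.map (QuotientGroup.mk' N) ⊓
            centralizer {QuotientGroup.mk' N x * (ub : G ⧸ N)}) =
          ∏ u : ↥P0, Nat.card ↥(K.map (QuotientGroup.mk' N) ⊓
            centralizer {QuotientGroup.mk' N x * QuotientGroup.mk' N (u : G)}) := by
        symm
        apply Fintype.prod_bijective _ hbij
        intro u
        rfl
      have ha : ∀ u : ↥P0, Nat.card ↥(K ⊓ centralizer {x * (u : G)}) =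
          Nat.card ↥(K.map (QuotientGroup.mk' N) ⊓
            centralizer {QuotientGroup.mk' N x * QuotientGroup.mk' N (u : G)}) *
          Nat.card ↥(N ⊓ centralizer {x * (u : G)}) := by
        intro u
        have := hSEC G K N hNK hK {x * (u : G)}
          (hcl _ (by
            intro g hg
            rw [Set.mem_singleton_iff] at hg
            rw [hg]
            exact R.mul_mem hx (hP0R u.2))) (hsubtop _)
        rw [Set.image_singleton, map_mul] at this
        exact this.symm
      have hb : Nat.card ↥(K ⊓ centralizer (P0 : Set G)) =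
          Nat.card ↥(K.map (QuotientGroup.mk' N) ⊓
            centralizer ((P0.map (QuotientGroup.mk' N) : Subgroup (G ⧸ N)) : Set (G ⧸ N))) *
          Nat.card ↥(N ⊓ centralizer (P0 : Set G)) := by
        have := hSEC G K N hNK hK (P0 : Set G) (hcl _ hP0R) (hsubtop _)
        rw [Subgroup.coe_map]
        exact this.symm
      have hd : Nat.card ↥(K ⊓ centralizer {x} ⊓ centralizer (P0 : Set G)) =
          Nat.card ↥(K.map (QuotientGroup.mk' N) ⊓ centralizer {QuotientGroup.mk' N x} ⊓
            centralizer ((P0.map (QuotientGroup.mk' N) : Subgroup (G ⧸ N)) : Set (G ⧸ N))) *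
          Nat.card ↥(N ⊓ centralizer {x} ⊓ centralizer (P0 : Set G)) := by
        have := hSEC G K N hNK hK ({x} ∪ (P0 : Set G))
          (hcl _ (by
            intro g hg
            rcases hg with hg | hg
            · rw [Set.mem_singleton_iff] at hg
              rw [hg]
              exact hx
            · exact hP0R hg)) (hsubtop _)
        rw [qg_inf_cent, qg_inf_cent, qg_inf_cent, Subgroup.coe_map, ← Set.image_singleton,
          ← Set.image_union]
        exact this.symm
      rw [hprod, hs] at h2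
      have hprodK : ∏ u : ↥P0, Nat.card ↥(K ⊓ centralizer {x * (u : G)}) =
          (∏ u : ↥P0, Nat.card ↥(K.map (QuotientGroup.mk' N) ⊓
            centralizer {QuotientGroup.mk' N x * QuotientGroup.mk' N (u : G)})) *
          ∏ u : ↥P0, Nat.card ↥(N ⊓ centralizer {x * (u : G)}) := by
        rw [← Finset.prod_mul_distrib]
        apply Finset.prod_congr rfl
        intro u _
        exact ha u
      rw [hprodK, hb, hd, ← hkk]
      generalize (∏ u : ↥P0, Nat.card ↥(K.map (QuotientGroup.mk' N) ⊓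
            centralizer {QuotientGroup.mk' N x * QuotientGroup.mk' N (u : G)})) = A2 at h2 ⊢
      generalize (∏ u : ↥P0, Nat.card ↥(N ⊓ centralizer {x * (u : G)})) = A1 at h1 ⊢
      generalize Nat.card ↥P0 = s at h1 h2 ⊢
      calc (A2 * A1) ^ p * (Nat.card ↥(K.map (QuotientGroup.mk' N) ⊓
            centralizer ((P0.map (QuotientGroup.mk' N) : Subgroup (G ⧸ N)) : Set (G ⧸ N))) *
          Nat.card ↥(N ⊓ centralizer (P0 : Set G))) ^ s
          = (A2 ^ p * Nat.card ↥(K.map (QuotientGroup.mk' N) ⊓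
            centralizer ((P0.map (QuotientGroup.mk' N) : Subgroup (G ⧸ N)) : Set (G ⧸ N))) ^ s) *
            (A1 ^ p * Nat.card ↥(N ⊓ centralizer (P0 : Set G)) ^ s) := by ring
        _ ≤ _ := Nat.mul_le_mul h2 h1
        _ = _ := by ring

theorem pineq_qgroup_of (p : ℕ) [Fact p.Prime] (q : ℕ) [Fact q.Prime]
    (hAB : ∀ (G : Type u) [Group G] [Finite G] (K R P0 : Subgroup G) [Fintype ↥P0]
      (_ : ∀ a ∈ K, ∀ b ∈ K, a * b = b * a) (_ : (Nat.card K).Coprime p) (_ : IsPGroup p R)
      (_ : R ≤ normalizer (K : Set G)) (_ : P0 ≤ R) (_ : R ≤ normalizer (P0 : Set G))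
      (x : G) (_ : x ∈ R), PIneq p K P0 x)
    (hSEC : ∀ (G : Type u) [Group G] [Finite G] (K N : Subgroup G) [N.Normal] (_ : N ≤ K)
      (_ : (Nat.card K).Coprime p) (S : Set G) (_ : IsPGroup p (Subgroup.closure S))
      (_ : S ⊆ (normalizer (K : Set G) : Set G)),
      Nat.card ↥(K.map (QuotientGroup.mk' N) ⊓ centralizer ((QuotientGroup.mk' N) '' S)) *
        Nat.card ↥(N ⊓ centralizer S) = Nat.card ↥(K ⊓ centralizer S))
    {G : Type u} [Group G] [Finite G] (K R P0 : Subgroup G)
    [Fintype ↥P0] (hKq : IsPGroup q K) (hK : (Nat.card K).Coprime p)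
    (hR : IsPGroup p R)
    (hRK : R ≤ normalizer (K : Set G)) (hP0R : P0 ≤ R) (hRP0 : R ≤ normalizer (P0 : Set G))
    (x : G) (hx : x ∈ R) : PIneq p K P0 x := by
  classical
  obtain ⟨H, hH⟩ : ∃ H : Subgroup G, H = normalizer (K : Set G) := ⟨_, rfl⟩
  have hKH : K ≤ H := by
    rw [hH]
    exact Subgroup.le_normalizer
  have hRH : R ≤ H := by
    rw [hH]
    exact hRK
  have : Fintype ↥(P0.subgroupOf H) := Fintype.ofFinite _
  apply qg_transfer p H K P0 hKH (hP0R.trans hRH) x (hRH hx)
  have hKn : (K.subgroupOf H).Normal := by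
    rw [hH]
    exact Subgroup.normal_in_normalizer
  have hcard : Nat.card ↥(K.subgroupOf H) = Nat.card ↥K :=
    Nat.card_congr (Subgroup.subgroupOfEquivOfLe hKH).toEquiv
  refine qg_normal p q hAB hSEC _ ↥H (K.subgroupOf H) (R.subgroupOf H) (P0.subgroupOf H) hKn
    hKq.comap_subtype (by rw [hcard]; exact hK) hR.comap_subtype ?_ ?_ _ ?_ rfl
  · intro g hg
    exact hP0R hg
  · intro g hg
    rw [Subgroup.mem_normalizer_iff]
    intro h
    have := Subgroup.mem_normalizer_iff.1 (hRP0 hg) (h : G)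
    exact this
  · exact hx

end Cfsg.Agent.Lib.helper2.S91
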