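import Mathlib
import Cfsg.Agent.Lib.helper2.S91Defs
import Cfsg.Agent.Lib.Helper1.S91QG
import Cfsg.Agent.Lib.Helper25.S91AB
import Cfsg.Agent.Lib.Helper28.S91SEC

set_option autoImplicit false

namespace Cfsg.Agent.Lib.helper2.S91
open Subgroup

universe u

theorem pineq_qgroup {G : Type u} [Group G] [Finite G] (p : ℕ) [Fact p.Prime] (K R P0 : Subgroup G)
    [Fintype ↥P0] (q : ℕ) [Fact q.Prime] (hKq : IsPGroup q K) (hK : (Nat.card K).Coprime p)
    (hR : IsPGroup p R)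
    (hRK : R ≤ normalizer (K : Set G)) (hP0R : P0 ≤ R) (hRP0 : R ≤ normalizer (P0 : Set G))
    (x : G) (hx : x ∈ R) : PIneq p K P0 x :=
  pineq_qgroup_of p q
    (fun _ _ _ K R P0 _ hab hK hR hRK hP0R hRP0 x hx =>
      pineq_abelian p K R P0 hab hK hR hRK hP0R hRP0 x hx)
    (fun _ _ _ K N _ hNK hK S hS hSK => sec_card p K N hNK hK S hS hSK)
    K R P0 hKq hK hR hRK hP0R hRP0 x hx

end Cfsg.Agent.Lib.helper2.S91
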