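import Mathlib
import Cfsg.Agent.Lib.helper8.SylowBasic
import Cfsg.Agent.Lib.helper8.SimpleEmbed
import Cfsg.Agent.Lib.helper8.OrbitCount
import Cfsg.Agent.Lib.helper23.OrdGen3

set_option autoImplicit false

namespace Cfsg.Agent.Lib.Helper1.S983

open Cfsg.Agent.Lib.helper8 Cfsg.Agent.Lib.helper23

theorem s983_dvd_normalizer_of_centralizes {G : Type*} [Group G] [Finite G] (p q : ℕ)
    [hp : Fact p.Prime] [hq : Fact q.Prime] (P : Sylow p G) (hP : Nat.card (P : Subgroup G) = p)
    (hq1 : ∀ R : Sylow q G, Nat.card (R : Subgroup G) = q)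
    (hdvd : q ∣ Nat.card (Subgroup.centralizer ((P : Subgroup G) : Set G))) :
    ∃ R : Sylow q G, p ∣ Nat.card (Subgroup.normalizer ((R : Subgroup G) : Set G)) := by
  obtain ⟨y', hy'⟩ := exists_prime_orderOf_dvd_card' q hdvd
  have hy : orderOf (y' : G) = q := by rw [Subgroup.orderOf_coe]; exact hy'
  have hyp : IsPGroup q (Subgroup.zpowers (y' : G)) := by
    apply IsPGroup.of_card (n := 1)
    rw [Nat.card_zpowers, hy, pow_one]
  obtain ⟨R, hR⟩ := hyp.exists_le_sylow
  have hRe : Subgroup.zpowers (y' : G) = (R : Subgroup G) := by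
    apply Subgroup.eq_of_le_of_card_ge hR
    rw [hq1 R, Nat.card_zpowers, hy]
  refine ⟨R, ?_⟩
  have hle : (P : Subgroup G) ≤ Subgroup.normalizer ((R : Subgroup G) : Set G) := by
    refine le_trans ?_ (Subgroup.centralizer_le_normalizer _)
    intro x hx
    rw [Subgroup.mem_centralizer_iff]
    intro h hh
    have hh' : h ∈ Subgroup.zpowers (y' : G) := by rw [hRe]; exact hh
    obtain ⟨k, rfl⟩ := Subgroup.mem_zpowers_iff.mp hh'
    have hc : (y' : G) * x = x * (y' : G) := by
      have := Subgroup.mem_centralizer_iff.mp y'.2 x hx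
      exact this.symm
    have hcomm : Commute (y' : G) x := hc
    exact (hcomm.zpow_left k).eq
  have := Subgroup.card_dvd_of_le hle
  rwa [hP] at this

theorem no_simple_3780 {G : Type*} [Group G] [Finite G] [IsSimpleGroup G]
    (hG : Nat.card G = 3780) : False := by
  have : Fact (Nat.Prime 7) := ⟨by norm_num⟩
  have : Fact (Nat.Prime 5) := ⟨by norm_num⟩
  have hG' : Nat.card G = 7 ^ 1 * 540 := by rw [hG]; norm_num
  have hnd : ¬ 7 ∣ 540 := by norm_num
  have hG5 : Nat.card G = 5 ^ 1 * 756 := by rw [hG]; norm_num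
  have hnd5 : ¬ 5 ∣ 756 := by norm_num
  have hnc : ¬ IsMulCommutative G := h8_not_comm_of_card (by rw [hG]; norm_num)
  have hmem := h8_nsylow_mem 7 1 540 hG' hnd
  have hne1 := h8_simple_nsylow_ne_one 7 1 540 hG' hnd (by norm_num) (by norm_num)
  obtain ⟨P⟩ : Nonempty (Sylow 7 G) := inferInstance
  obtain ⟨hP, hNn, hXn, r, hr6, hr1, hCr⟩ := og3_sylow_data 7 540 hG' hnd (by norm_num) P
  have hdiv : (Nat.divisors 540).filter (fun d => d % 7 = 1) = {1, 15, 36, 540} := by decide
  rw [hdiv] at hmem
  simp only [Finset.mem_insert, Finset.mem_singleton] at hmem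
  have hr6' : r ∣ 6 := by simpa using hr6
  have hrle : r ≤ 6 := Nat.le_of_dvd (by norm_num) hr6'
  rcases hmem with h | h | h | h
  · exact hne1 h
  · rw [h, hG] at hNn
    have hN : Nat.card (Subgroup.normalizer ((P : Subgroup G) : Set G)) = 252 := by omega
    rw [hN] at hCr
    have h2C : 2 ∣ Nat.card (Subgroup.centralizer ((P : Subgroup G) : Set G)) := by
      interval_cases r <;> omega
    obtain ⟨c, hcC, hc2, f, hf, hf7, hf4, hflt, himp⟩ :=
      og3_invol_package hnc 7 (by decide) P hP h2C hne1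
    rw [h] at hf4 hflt
    have : f % 7 = 1 := hf7
    obtain ⟨k, hk⟩ := hf4
    omega
  · rw [h, hG] at hNn
    have hN : Nat.card (Subgroup.normalizer ((P : Subgroup G) : Set G)) = 105 := by omega
    rw [hN] at hCr
    have hC : Nat.card (Subgroup.centralizer ((P : Subgroup G) : Set G)) = 35 := by
      interval_cases r <;> omega
    have hq1 : ∀ R : Sylow 5 G, Nat.card (R : Subgroup G) = 5 := by
      intro R
      have := h8_sylow_card 5 1 756 hG5 hnd5 R
      simpa using this
    obtain ⟨R, hR7⟩ := s983_dvd_normalizer_of_centralizes 7 5 P hP hq1 (by rw [hC]; norm_num)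
    have hmem5 := h8_nsylow_mem 5 1 756 hG5 hnd5
    have hne5 := h8_simple_nsylow_ne_one 5 1 756 hG5 hnd5 (by norm_num) (by norm_num)
    obtain ⟨hR, hNn5, hXn5, r', hr4, hr'1, hCr5⟩ := og3_sylow_data 5 756 hG5 hnd5 (by norm_num) R
    have hdiv5 : (Nat.divisors 756).filter (fun d => d % 5 = 1) = {1, 6, 21, 36, 126, 756} := by
      decide
    rw [hdiv5] at hmem5
    simp only [Finset.mem_insert, Finset.mem_singleton] at hmem5
    have hr4' : r' ∣ 4 := by simpa using hr4
    have hr'le : r' ≤ 4 := Nat.le_of_dvd (by norm_num) hr4'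
    obtain ⟨k7, hk7⟩ := hR7
    rw [hG] at hNn5
    rcases hmem5 with h5 | h5 | h5 | h5 | h5 | h5
    · exact hne5 h5
    · have hidx := h8_nsylow_eq_index_normalizer 5 R
      have hNtop : Subgroup.normalizer ((R : Subgroup G) : Set G) ≠ ⊤ := by
        intro htop
        rw [htop, Subgroup.index_top] at hidx
        omega
      have := h8_simple_two_mul_card_dvd_factorial hnc _ hNtop
      rw [← hidx, h5, hG] at this
      revert this
      decide
    · rw [h5] at hNn5
      omega
    · rw [h5] at hNn5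
      have hN5 : Nat.card (Subgroup.normalizer ((R : Subgroup G) : Set G)) = 105 := by omega
      rw [hN5] at hCr5
      interval_cases r' <;> omega
    · rw [h5] at hNn5
      omega
    · rw [h5] at hNn5
      omega
  · rw [h, hG] at hNn
    have hN : Nat.card (Subgroup.normalizer ((P : Subgroup G) : Set G)) = 7 := by omega
    rw [hN] at hCr
    interval_cases r <;> omega

end Cfsg.Agent.Lib.Helper1.S983
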