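import Mathlib
import Cfsg.Agent.Lib.helper8.SylowBasic
import Cfsg.Agent.Lib.helper8.SimpleEmbed
import Cfsg.Agent.Lib.helper8.OrbitCount
import Cfsg.Agent.Lib.helper8.CountOrder
import Cfsg.Agent.Lib.helper23.OrdGen3
import Cfsg.Agent.Lib.Helper25.S496K1
import Cfsg.Agent.Lib.Helper1.S983N3780

set_option autoImplicit false

namespace Cfsg.Agent.Lib.Helper1.S983

open Cfsg.Agent.Lib.helper8 Cfsg.Agent.Lib.helper23 Cfsg.Agent.Lib.helper3.S496

theorem s983_card_fixedBy_modEq {G X : Type*} [Group G] [MulAction G X] [Finite X] (q : ℕ)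
    [Fact q.Prime] (y : G) (hy : orderOf y = q) :
    Nat.card X ≡ Nat.card (MulAction.fixedBy X y) [MOD q] := by
  have hyp : IsPGroup q (Subgroup.zpowers y) := by
    apply IsPGroup.of_card (n := 1)
    rw [Nat.card_zpowers, hy, pow_one]
  have h := og2_card_fixedBy_modEq_of_commute (X := X) (1 : G) y (Commute.one_left y) hyp
  have e1 : Nat.card (MulAction.fixedBy X (1 : G)) = Nat.card X := by
    rw [MulAction.fixedBy_one_eq_univ]
    exact Nat.card_congr (Equiv.Set.univ X)
  have e2 : Nat.card {x : X // (1 : G) • x = x ∧ y • x = x} =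
      Nat.card (MulAction.fixedBy X y) := by
    apply Nat.card_congr
    apply Equiv.subtypeEquivRight
    intro x
    rw [MulAction.mem_fixedBy, one_smul]
    simp
  rw [e1, e2] at h
  exact h

theorem s983_fixedBy_lt {G : Type*} [Group G] [Finite G] [IsSimpleGroup G]
    (H : Subgroup G) (hH : H ≠ ⊤) (c : G) (hc : c ≠ 1) :
    Nat.card (MulAction.fixedBy (G ⧸ H) c) < Nat.card (G ⧸ H) := by
  have hle : Nat.card (MulAction.fixedBy (G ⧸ H) c) ≤ Nat.card (G ⧸ H) :=
    Nat.card_le_card_of_injective _ Subtype.val_injective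
  rcases Nat.lt_or_ge (Nat.card (MulAction.fixedBy (G ⧸ H) c)) (Nat.card (G ⧸ H)) with h | h
  · exact h
  · exact absurd (og2_eq_one_of_card_fixedBy H hH c (le_antisymm hle h)) hc


set_option maxRecDepth 100000 in
theorem no_simple_4620 {G : Type*} [Group G] [Finite G] [IsSimpleGroup G]
    (hG : Nat.card G = 4620) : False := by
  have : Fact (Nat.Prime 7) := ⟨by norm_num⟩
  have : Fact (Nat.Prime 5) := ⟨by norm_num⟩
  have : Fact (Nat.Prime 11) := ⟨by norm_num⟩
  have hG7 : Nat.card G = 7 ^ 1 * 660 := by rw [hG]; norm_num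
  have hnd7 : ¬ 7 ∣ 660 := by norm_num
  have hG5 : Nat.card G = 5 ^ 1 * 924 := by rw [hG]; norm_num
  have hnd5 : ¬ 5 ∣ 924 := by norm_num
  have hG11 : Nat.card G = 11 ^ 1 * 420 := by rw [hG]; norm_num
  have hnd11 : ¬ 11 ∣ 420 := by norm_num
  have hnc : ¬ IsMulCommutative G := h8_not_comm_of_card (by rw [hG]; norm_num)
  have hq7 : ∀ R : Sylow 7 G, Nat.card (R : Subgroup G) = 7 := by
    intro R
    have := h8_sylow_card 7 1 660 hG7 hnd7 R
    simpa using this
  have hq11 : ∀ R : Sylow 11 G, Nat.card (R : Subgroup G) = 11 := by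
    intro R
    have := h8_sylow_card 11 1 420 hG11 hnd11 R
    simpa using this
  have hmem7 := h8_nsylow_mem 7 1 660 hG7 hnd7
  have hne7 := h8_simple_nsylow_ne_one 7 1 660 hG7 hnd7 (by norm_num) (by norm_num)
  obtain ⟨P7⟩ : Nonempty (Sylow 7 G) := inferInstance
  obtain ⟨hP7, hNn7, hXn7, r7, hr7, hr71, hCr7⟩ := og3_sylow_data 7 660 hG7 hnd7 (by norm_num) P7
  have hdiv7 : (Nat.divisors 660).filter (fun d => d % 7 = 1) = {1, 15, 22, 330} := by decide
  rw [hdiv7] at hmem7
  simp only [Finset.mem_insert, Finset.mem_singleton] at hmem7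
  have hr7' : r7 ∣ 6 := by simpa using hr7
  have hr7le : r7 ≤ 6 := Nat.le_of_dvd (by norm_num) hr7'
  rcases hmem7 with h | h | h | h
  · exact hne7 h
  · have hNn := hNn7
    rw [h, hG] at hNn
    have hN : Nat.card (Subgroup.normalizer ((P7 : Subgroup G) : Set G)) = 308 := by omega
    rw [hN] at hCr7
    have h2C : 2 ∣ Nat.card (Subgroup.centralizer ((P7 : Subgroup G) : Set G)) := by
      interval_cases r7 <;> omega
    obtain ⟨c, hcC, hc2, f, hf, hf7, hf4, hflt, himp⟩ :=
      og3_invol_package hnc 7 (by decide) P7 hP7 h2C hne7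
    rw [h] at hf4 hflt
    have : f % 7 = 1 := hf7
    obtain ⟨k, hk⟩ := hf4
    omega
  · have hNn := hNn7
    rw [h, hG] at hNn
    have hN : Nat.card (Subgroup.normalizer ((P7 : Subgroup G) : Set G)) = 210 := by omega
    rw [hN] at hCr7
    have h5C : 5 ∣ Nat.card (Subgroup.centralizer ((P7 : Subgroup G) : Set G)) := by
      interval_cases r7 <;> omega
    obtain ⟨y', hy'⟩ := exists_prime_orderOf_dvd_card' 5 h5C
    have hy : orderOf (y' : G) = 5 := by rw [Subgroup.orderOf_coe]; exact hy'
    have hy1 : (y' : G) ≠ 1 := by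
      intro h1
      rw [h1, orderOf_one] at hy
      omega
    have hNtop : Subgroup.normalizer ((P7 : Subgroup G) : Set G) ≠ ⊤ := by
      intro htop
      rw [htop] at hN
      rw [Subgroup.card_top, hG] at hN
      omega
    have h1 := og2_card_fixedBy_modEq_one 7 P7 hP7 (y' : G) y'.2
    have h2 := s983_card_fixedBy_modEq
      (X := G ⧸ Subgroup.normalizer ((P7 : Subgroup G) : Set G)) 5 (y' : G) hy
    have h3 := s983_fixedBy_lt (Subgroup.normalizer ((P7 : Subgroup G) : Set G)) hNtop (y' : G) hy1
    rw [hXn7, h] at h2 h3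
    have h1' : Nat.card (MulAction.fixedBy
      (G ⧸ Subgroup.normalizer ((P7 : Subgroup G) : Set G)) (y' : G)) % 7 = 1 := h1
    have h2' : 22 % 5 = Nat.card (MulAction.fixedBy
      (G ⧸ Subgroup.normalizer ((P7 : Subgroup G) : Set G)) (y' : G)) % 5 := h2
    omega
  · have hN7 : ∀ R : Sylow 7 G,
        Nat.card (Subgroup.normalizer ((R : Subgroup G) : Set G)) = 14 := by
      intro R
      have := h8_card_normalizer_sylow 7 R
      rw [h, hG] at this
      omega
    have hmem11 := h8_nsylow_mem 11 1 420 hG11 hnd11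
    have hne11 := h8_simple_nsylow_ne_one 11 1 420 hG11 hnd11 (by norm_num) (by norm_num)
    obtain ⟨P11⟩ : Nonempty (Sylow 11 G) := inferInstance
    have hP11 := hq11 P11
    have hdiv11 : (Nat.divisors 420).filter (fun d => d % 11 = 1) = {1, 12, 210} := by decide
    rw [hdiv11] at hmem11
    simp only [Finset.mem_insert, Finset.mem_singleton] at hmem11
    rcases hmem11 with h11 | h11 | h11
    · exact hne11 h11
    · obtain ⟨_, hdvd⟩ := np_succ 11 P11 hP11 (by rw [h11])
      rw [hG] at hdvd
      norm_num at hdvd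
    · have hN11 : ∀ R : Sylow 11 G,
          Nat.card (Subgroup.normalizer ((R : Subgroup G) : Set G)) = 22 := by
        intro R
        have := h8_card_normalizer_sylow 11 R
        rw [h11, hG] at this
        omega
      have hmem5 := h8_nsylow_mem 5 1 924 hG5 hnd5
      have hne5 := h8_simple_nsylow_ne_one 5 1 924 hG5 hnd5 (by norm_num) (by norm_num)
      obtain ⟨P5⟩ : Nonempty (Sylow 5 G) := inferInstance
      obtain ⟨hP5, hNn5, hXn5, r5, hr5, hr51, hCr5⟩ :=
        og3_sylow_data 5 924 hG5 hnd5 (by norm_num) P5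
      have hdiv5 : (Nat.divisors 924).filter (fun d => d % 5 = 1) = {1, 6, 11, 21, 66, 231} := by
        decide
      rw [hdiv5] at hmem5
      simp only [Finset.mem_insert, Finset.mem_singleton] at hmem5
      have hr5' : r5 ∣ 4 := by simpa using hr5
      have hr5le : r5 ≤ 4 := Nat.le_of_dvd (by norm_num) hr5'
      rw [hG] at hNn5
      rcases hmem5 with h5 | h5 | h5 | h5 | h5 | h5
      · exact hne5 h5
      · have hidx := h8_nsylow_eq_index_normalizer 5 P5
        have hNtop : Subgroup.normalizer ((P5 : Subgroup G) : Set G) ≠ ⊤ := by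
          intro htop
          rw [htop, Subgroup.index_top] at hidx
          omega
        have := h8_simple_two_mul_card_dvd_factorial hnc _ hNtop
        rw [← hidx, h5, hG] at this
        revert this
        decide
      · rw [h5] at hNn5
        have hN5 : Nat.card (Subgroup.normalizer ((P5 : Subgroup G) : Set G)) = 420 := by omega
        rw [hN5] at hCr5
        have h7C : 7 ∣ Nat.card (Subgroup.centralizer ((P5 : Subgroup G) : Set G)) := by
          interval_cases r5 <;> omega
        obtain ⟨R, hR⟩ := s983_dvd_normalizer_of_centralizes 5 7 P5 hP5 hq7 h7C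
        rw [hN7 R] at hR
        omega
      · rw [h5] at hNn5
        have hN5 : Nat.card (Subgroup.normalizer ((P5 : Subgroup G) : Set G)) = 220 := by omega
        rw [hN5] at hCr5
        have h11C : 11 ∣ Nat.card (Subgroup.centralizer ((P5 : Subgroup G) : Set G)) := by
          interval_cases r5 <;> omega
        obtain ⟨R, hR⟩ := s983_dvd_normalizer_of_centralizes 5 11 P5 hP5 hq11 h11C
        rw [hN11 R] at hR
        omega
      · rw [h5] at hNn5
        have hN5 : Nat.card (Subgroup.normalizer ((P5 : Subgroup G) : Set G)) = 70 := by omega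
        rw [hN5] at hCr5
        have h7C : 7 ∣ Nat.card (Subgroup.centralizer ((P5 : Subgroup G) : Set G)) := by
          interval_cases r5 <;> omega
        obtain ⟨R, hR⟩ := s983_dvd_normalizer_of_centralizes 5 7 P5 hP5 hq7 h7C
        rw [hN7 R] at hR
        omega
      · have c5 := h8_card_orderOf_eq_prime (G := G) 5 924 (by rw [hG]) hnd5
        have c7 := h8_card_orderOf_eq_prime (G := G) 7 660 (by rw [hG]) hnd7
        have c11 := h8_card_orderOf_eq_prime (G := G) 11 420 (by rw [hG]) hnd11
        rw [h5] at c5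
        rw [h] at c7
        rw [h11] at c11
        have hsum := h8_sum_card_orderOf_le (G := G) ({5, 7, 11} : Finset ℕ)
        rw [Finset.sum_insert (by decide), Finset.sum_insert (by decide), Finset.sum_singleton,
          c5, c7, c11, hG] at hsum
        omega

end Cfsg.Agent.Lib.Helper1.S983
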