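import Mathlib
import Cfsg.Agent.Lib.Helper24.SCH.Defs
import Cfsg.Agent.Lib.Helper21.PSeries
import Cfsg.Agent.Lib.Helper24.SCHX5
import Cfsg.Agent.Lib.Helper9.SCHA9
import Cfsg.Agent.Lib.Helper20.SCHD4

/-!
# Project SCH, row D5 (main): core on the statements of D1 (schP_equiv) and D3 (sylow_le_ups_two).
-/

set_option autoImplicit false

namespace Cfsg.Agent.Lib.Helper24.SCH

open scoped commutatorElement
open Cfsg.Agent.Lib.Helper21 (ups)

/-- D5 core: `hD1` = the statement of D1 at `T = ↥P`, `T' = ↥Q`; `hD3` = the statement of D3 for `G`. -/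
theorem schd5_core {G X : Type*} [Group G] [Finite G] [Group X] [Finite X] (p : ℕ) [Fact p.Prime]
    (hX : Cfsg.IsMinimalNonNilpotent X) (P : Sylow p X) (hPn : (P : Subgroup X).Normal)
    (hP1 : (P : Subgroup X) ≠ ⊥) (hG : Cfsg.IsPSolvable p G) (Q : Sylow p G)
    (hQ : Nonempty (↥(Q : Subgroup G) ≃* ↥(P : Subgroup X)))
    (hD1 : ∀ (_ : ↥(P : Subgroup X) ≃* ↥(Q : Subgroup G)), SchP p ↥(P : Subgroup X) →
      SchP p ↥(Q : Subgroup G))
    (hD3 : Cfsg.IsPSolvable p G → ∀ Q : Sylow p G,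
      ((∀ x y : ↥(Q : Subgroup G), x * y = y * x) ∨ SchP p ↥(Q : Subgroup G)) →
      (Q : Subgroup G) ≤ ups p G 2) : Cfsg.PLengthLE p 1 G := by
  obtain ⟨e⟩ := hQ
  obtain ⟨q, α, hact⟩ := exists_schAct hX P hPn hP1
  have hS : (∀ x y : ↥(Q : Subgroup G), x * y = y * x) ∨ SchP p ↥(Q : Subgroup G) := by
    by_cases hab : ∀ x y : ↥(P : Subgroup X), x * y = y * x
    · left
      intro x y
      apply e.injective
      rw [map_mul, map_mul]
      exact hab _ _
    · right
      exact hD1 e.symm (schP_of_schAct hact hab)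
  exact plength_of_sylow_le Q (hD3 hG Q hS)

end Cfsg.Agent.Lib.Helper24.SCH
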