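import Mathlib
import Cfsg.Agent.Lib.Helper24.SCH.Defs
import Cfsg.Agent.Lib.Helper21.PSeries
import Cfsg.Agent.Lib.Helper1.SCHD5core
import Cfsg.Agent.Lib.helper15.SCHD1
import Cfsg.Agent.Lib.Helper20.SCHD3

/-!
# Project SCH, row D5 (`main`), verbatim vs `Helper24/SCH/Skel.lean.txt`.
-/

set_option autoImplicit false

namespace Cfsg.Agent.Lib.Helper24.SCH

open scoped commutatorElement
open Cfsg.Agent.Lib.Helper21 (ups)

universe u v

/-- D5 [S-M]. The statement S4394: X5, A9 (or the abelian case), D1, D3, D4. -/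
theorem main {G X : Type*} [Group G] [Finite G] [Group X] [Finite X] (p : ℕ) [Fact p.Prime]
    (hX : Cfsg.IsMinimalNonNilpotent X) (P : Sylow p X) (hPn : (P : Subgroup X).Normal)
    (hP1 : (P : Subgroup X) ≠ ⊥) (hG : Cfsg.IsPSolvable p G) (Q : Sylow p G)
    (hQ : Nonempty (↥(Q : Subgroup G) ≃* ↥(P : Subgroup X))) : Cfsg.PLengthLE p 1 G :=
  schd5_core p hX P hPn hP1 hG Q hQ (fun e h => schP_equiv e h)
    (fun hsolv Q hS => sylow_le_ups_two hsolv Q hS)

end Cfsg.Agent.Lib.Helper24.SCH
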