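import Cfsg.Agent.Lib.Helper1.SLK.Defs
import Cfsg.Agent.Lib.Helper29.GLK.PieceA
import Cfsg.Agent.Lib.Helper29.GLK.PieceB2
import Cfsg.Agent.Lib.Helper29.GLK.PieceM3

/-!
# Project SLK, row M2 (core): `k(SL_n) ≤ ∑_{tdet T = 1} tg T`, from the statements of M1, A6, A8
-/

set_option autoImplicit false

namespace Cfsg.Agent.Lib.Helper1.SLK

open Polynomial
open Cfsg.Agent.Lib.Helper29.GLK

universe u

theorem slkm2_core {F : Type u} [Field F] [Fintype F] [DecidableEq F] (n : ℕ)
    (hM1 : Nat.card (ConjClasses (Matrix.SpecialLinearGroup (Fin n) F)) =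
      ∑ᶠ C : ConjClasses (Matrix.GeneralLinearGroup (Fin n) F),
        {c : ConjClasses (Matrix.SpecialLinearGroup (Fin n) F) |
          ConjClasses.map (Matrix.SpecialLinearGroup.toGL :
            _ →* Matrix.GeneralLinearGroup (Fin n) F) c = C}.ncard)
    (hA6 : ∀ (x : Matrix.GeneralLinearGroup (Fin n) F) (G : ℕ → F[X]), IsInv x G →
      (x : Matrix (Fin n) (Fin n) F).det = tdet (fun i : Fin n => G i))
    (hA8 : ∀ (x : Matrix.SpecialLinearGroup (Fin n) F) (G : ℕ → F[X]),
      IsInv (Matrix.SpecialLinearGroup.toGL x) G →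
      (slFib x).ncard ≤ tg (Fintype.card F) (fun i : Fin n => G i)) :
    Nat.card (ConjClasses (Matrix.SpecialLinearGroup (Fin n) F)) ≤
      ∑ T ∈ (tupFin F n).filter (fun T => tdet T = 1), tg (Fintype.card F) T := by
  classical
  set ι : Matrix.SpecialLinearGroup (Fin n) F →* Matrix.GeneralLinearGroup (Fin n) F :=
    Matrix.SpecialLinearGroup.toGL with hι
  have : Fintype (ConjClasses (Matrix.GeneralLinearGroup (Fin n) F)) := Fintype.ofFinite _
  rw [hM1, finsum_eq_sum_of_fintype]
  -- representatives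
  let X : ConjClasses (Matrix.GeneralLinearGroup (Fin n) F) → Matrix.SpecialLinearGroup (Fin n) F :=
    fun C => if h : ∃ c, ConjClasses.map ι c = C then (Classical.choose h).out else 1
  have hX : ∀ C, (∃ c, ConjClasses.map ι c = C) → ConjClasses.mk (ι (X C)) = C := by
    intro C h
    have h1 : X C = (Classical.choose h).out := dif_pos h
    have h2 := Classical.choose_spec h
    rw [h1]
    have h3 : ConjClasses.map ι (ConjClasses.mk (Classical.choose h).out) = C := by
      rw [show ConjClasses.mk (Classical.choose h).out = Classical.choose h from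
        Quotient.out_eq _]
      exact h2
    exact h3
  have hex : ∀ C, ∃ G, IsInv (ι (X C)) G := fun C => exists_isInv _
  choose Γ hΓ using hex
  have hmem := fun C => isInv_mem _ _ (hΓ C)
  let T : ConjClasses (Matrix.GeneralLinearGroup (Fin n) F) → (Fin n → F[X]) :=
    fun C i => Γ C i
  set Cs : Finset (ConjClasses (Matrix.GeneralLinearGroup (Fin n) F)) :=
    Finset.univ.filter (fun C => ∃ c, ConjClasses.map ι c = C) with hCs
  -- the sum is supported on `Cs`
  have hsupp : ∑ C, {c : ConjClasses (Matrix.SpecialLinearGroup (Fin n) F) |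
        ConjClasses.map ι c = C}.ncard =
      ∑ C ∈ Cs, {c : ConjClasses (Matrix.SpecialLinearGroup (Fin n) F) |
        ConjClasses.map ι c = C}.ncard := by
    symm
    apply Finset.sum_subset (Finset.subset_univ _)
    intro C _ hC
    have : {c : ConjClasses (Matrix.SpecialLinearGroup (Fin n) F) |
        ConjClasses.map ι c = C} = ∅ := by
      ext c
      simp only [Set.mem_ofPred_eq, Set.mem_empty_iff_false, iff_false]
      intro hc
      exact hC (by rw [hCs, Finset.mem_filter]; exact ⟨Finset.mem_univ _, c, hc⟩)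
    rw [this, Set.ncard_empty]
  rw [hsupp]
  have hCmem : ∀ C ∈ Cs, ∃ c, ConjClasses.map ι c = C := by
    intro C hC
    rw [hCs, Finset.mem_filter] at hC
    exact hC.2
  -- each fibre is bounded
  have hfib : ∀ C ∈ Cs, {c : ConjClasses (Matrix.SpecialLinearGroup (Fin n) F) |
      ConjClasses.map ι c = C}.ncard ≤ tg (Fintype.card F) (T C) := by
    intro C hC
    have h1 := hX C (hCmem C hC)
    have h2 := hA8 (X C) (Γ C) (hΓ C)
    have h3 : slFib (X C) = {c : ConjClasses (Matrix.SpecialLinearGroup (Fin n) F) |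
        ConjClasses.map ι c = C} := by
      unfold slFib
      rw [← hι, h1]
    rw [← h3]
    exact h2
  -- `T` is injective on `Cs`
  have hinj : Set.InjOn T Cs := by
    intro C hC C' hC' hTT
    have hG : Γ C = Γ C' := by
      funext i
      by_cases hi : i < n
      · exact congrFun hTT ⟨i, hi⟩
      · rw [(hmem C).2 i (not_lt.mp hi), (hmem C').2 i (not_lt.mp hi)]
    have hconj : IsConj (ι (X C)) (ι (X C')) := isConj_of_isInv _ _ _ (hΓ C) (hG ▸ hΓ C')
    rw [← hX C (hCmem C hC), ← hX C' (hCmem C' hC')]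
    exact ConjClasses.mk_eq_mk_iff_isConj.mpr hconj
  -- `T` lands in the filter
  have hTmem : ∀ C ∈ Cs, T C ∈ (tupFin F n).filter (fun T => tdet T = 1) := by
    intro C _
    rw [Finset.mem_filter, mem_tupFin]
    refine ⟨(hmem C).1, ?_⟩
    have h1 := hA6 (ι (X C)) (Γ C) (hΓ C)
    rw [← h1]
    show ((X C : Matrix.SpecialLinearGroup (Fin n) F) : Matrix (Fin n) (Fin n) F).det = 1
    exact (X C).2
  calc ∑ C ∈ Cs, {c : ConjClasses (Matrix.SpecialLinearGroup (Fin n) F) |
        ConjClasses.map ι c = C}.ncard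
      ≤ ∑ C ∈ Cs, tg (Fintype.card F) (T C) := Finset.sum_le_sum hfib
    _ = ∑ T' ∈ Cs.image T, tg (Fintype.card F) T' := (Finset.sum_image hinj).symm
    _ ≤ ∑ T' ∈ (tupFin F n).filter (fun T => tdet T = 1), tg (Fintype.card F) T' := by
        apply Finset.sum_le_sum_of_subset
        intro T' hT'
        rw [Finset.mem_image] at hT'
        obtain ⟨C, hC, rfl⟩ := hT'
        exact hTmem C hC

end Cfsg.Agent.Lib.Helper1.SLK
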