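import Mathlib
import Cfsg.Agent.Lib.helper15.SLM.Defs

set_option autoImplicit false
set_option linter.unusedSectionVars false
set_option linter.unusedVariables false

namespace Cfsg.Agent.Lib.helper15.SLM

open Matrix

section A

variable {F : Type*} [Field F] [Fintype F] [DecidableEq F]
  {κ : Type*} [Fintype κ] [DecidableEq κ]
  {H : Type*} [Group H] {W : Type*} [AddCommGroup W] [Module ℂ W] [FiniteDimensional ℂ W]

theorem h1_rep_inv_comm (σ : Representation ℂ H W) (e : Module.End ℂ W) (s : H)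
    (h : σ s * e = e * σ s) : σ s⁻¹ * e = e * σ s⁻¹ := by
  have h1 : σ s⁻¹ * σ s = 1 := by rw [← map_mul, inv_mul_cancel, map_one]
  have h2 : σ s * σ s⁻¹ = 1 := by rw [← map_mul, mul_inv_cancel, map_one]
  calc σ s⁻¹ * e = σ s⁻¹ * e * (σ s * σ s⁻¹) := by rw [h2, mul_one]
    _ = σ s⁻¹ * (e * σ s) * σ s⁻¹ := by simp only [mul_assoc]
    _ = σ s⁻¹ * (σ s * e) * σ s⁻¹ := by rw [h]
    _ = (σ s⁻¹ * σ s) * e * σ s⁻¹ := by simp only [mul_assoc]
    _ = e * σ s⁻¹ := by rw [h1, one_mul]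

theorem h1_scalar_on_line (e : Module.End ℂ W) (he : e * e = e) (v : W) (hv : e v = v)
    (hspan : ∀ w : W, e w = w → ∃ c : ℂ, c • v = w) (g : Module.End ℂ W)
    (hg : g * e = e * g) : ∃ a : ℂ, g v = a • v := by
  have h1 : e (g v) = g v := by
    have : (e * g) v = (g * e) v := by rw [hg]
    simp only [Module.End.mul_apply] at this
    rw [this, hv]
  obtain ⟨c, hc⟩ := hspan (g v) h1
  exact ⟨c, hc.symm⟩

theorem trace_comm_mul_idem (σ : Representation ℂ H W) (e : Module.End ℂ W) (he : e * e = e)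
    (hrk : Module.finrank ℂ (LinearMap.range e) = 1) (s₁ s₂ : H)
    (h₁ : σ s₁ * e = e * σ s₁) (h₂ : σ s₂ * e = e * σ s₂) :
    LinearMap.trace ℂ W (σ (s₁ * s₂ * s₁⁻¹ * s₂⁻¹) * e) = 1 := by
  have hidem : IsIdempotentElem e := he
  have hproj := LinearMap.IsIdempotentElem.isProj_range e hidem
  have htr : LinearMap.trace ℂ W e = 1 := by
    rw [hproj.trace, hrk, Nat.cast_one]
  obtain ⟨v0, hv0, hspan0⟩ := finrank_eq_one_iff'.mp hrk
  have hfix : ∀ w : W, w ∈ LinearMap.range e ↔ e w = w := fun w => hproj.mem_iff_map_id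
  set v : W := (v0 : W) with hv
  have hev : e v = v := (hfix v).mp v0.2
  have hvne : v ≠ 0 := by
    intro h
    apply hv0
    exact Subtype.ext h
  have hspan : ∀ w : W, e w = w → ∃ c : ℂ, c • v = w := by
    intro w hw
    obtain ⟨c, hc⟩ := hspan0 ⟨w, (hfix w).mpr hw⟩
    exact ⟨c, congrArg Subtype.val hc⟩
  obtain ⟨a₁, ha₁⟩ := h1_scalar_on_line e he v hev hspan (σ s₁) h₁
  obtain ⟨a₂, ha₂⟩ := h1_scalar_on_line e he v hev hspan (σ s₂) h₂
  obtain ⟨b₁, hb₁⟩ := h1_scalar_on_line e he v hev hspan (σ s₁⁻¹) (h1_rep_inv_comm σ e s₁ h₁)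
  obtain ⟨b₂, hb₂⟩ := h1_scalar_on_line e he v hev hspan (σ s₂⁻¹) (h1_rep_inv_comm σ e s₂ h₂)
  have hab₁ : a₁ * b₁ = 1 := by
    have h1 : σ s₁ (σ s₁⁻¹ v) = v := by
      have : (σ s₁ * σ s₁⁻¹) v = v := by rw [← map_mul, mul_inv_cancel, map_one]; rfl
      exact this
    rw [hb₁, map_smul, ha₁, smul_smul] at h1
    have h2 : (b₁ * a₁ - 1) • v = 0 := by rw [sub_smul, h1, one_smul, sub_self]
    rcases smul_eq_zero.mp h2 with h3 | h3
    · linear_combination h3
    · exact absurd h3 hvne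
  have hab₂ : a₂ * b₂ = 1 := by
    have h1 : σ s₂ (σ s₂⁻¹ v) = v := by
      have : (σ s₂ * σ s₂⁻¹) v = v := by rw [← map_mul, mul_inv_cancel, map_one]; rfl
      exact this
    rw [hb₂, map_smul, ha₂, smul_smul] at h1
    have h2 : (b₂ * a₂ - 1) • v = 0 := by rw [sub_smul, h1, one_smul, sub_self]
    rcases smul_eq_zero.mp h2 with h3 | h3
    · linear_combination h3
    · exact absurd h3 hvne
  have hcv : σ (s₁ * s₂ * s₁⁻¹ * s₂⁻¹) v = v := by
    rw [map_mul, map_mul, map_mul]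
    simp only [Module.End.mul_apply]
    simp only [hb₂, map_smul, hb₁, ha₂, ha₁, smul_smul]
    have : b₂ * b₁ * a₂ * a₁ = 1 := by
      linear_combination (a₂ * b₂) * hab₁ + hab₂
    rw [this, one_smul]
  have hmul : σ (s₁ * s₂ * s₁⁻¹ * s₂⁻¹) * e = e := by
    apply LinearMap.ext
    intro x
    simp only [Module.End.mul_apply]
    have hex : e (e x) = e x := by
      have : (e * e) x = e x := by rw [he]
      exact this
    obtain ⟨c, hc⟩ := hspan (e x) hex
    rw [← hc, map_smul, hcv]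
  rw [hmul, htr]

end A

end Cfsg.Agent.Lib.helper15.SLM
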