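import Mathlib
import Cfsg.Agent.Lib.helper15.SLM.Defs

set_option autoImplicit false
set_option linter.unusedSectionVars false
set_option linter.unusedVariables false

namespace Cfsg.Agent.Lib.helper15.SLM

open Matrix

section C

variable {F : Type*} [Field F] {ι : Type*} [Fintype ι] [DecidableEq ι]

theorem h1_exists_dot (W : Submodule F (ι → F)) (x : ι → F) (hx : x ∉ W) :
    ∃ φ : ι → F, φ ⬝ᵥ x = 1 ∧ ∀ w ∈ W, φ ⬝ᵥ w = 0 := by
  obtain ⟨f, hfx, hf⟩ := Submodule.exists_dual_map_eq_bot_of_notMem hx inferInstance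
  have hzero : ∀ w ∈ W, f w = 0 := by
    intro w hw
    have : f w ∈ W.map f := Submodule.mem_map_of_mem hw
    rw [hf] at this
    exact (Submodule.mem_bot F).mp this
  have hrep : ∀ w : ι → F, f w = (fun i => f (Pi.single i 1)) ⬝ᵥ w := by
    intro w
    rw [LinearMap.pi_apply_eq_sum_univ f w]
    simp only [dotProduct, smul_eq_mul]
    refine Finset.sum_congr rfl fun i _ => ?_
    have : (fun j => if i = j then (1 : F) else 0) = Pi.single i 1 := by
      funext j
      by_cases h : i = j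
      · subst h
        simp
      · rw [if_neg h, Pi.single_eq_of_ne (Ne.symm h)]
    rw [this, mul_comm]
  refine ⟨(f x)⁻¹ • (fun i => f (Pi.single i 1)), ?_, ?_⟩
  · rw [smul_dotProduct, ← hrep, smul_eq_mul, inv_mul_cancel₀ hfx]
  · intro w hw
    rw [smul_dotProduct, ← hrep, hzero w hw, smul_zero]

theorem h1_step (η y y' : ι → F) (hη : η ⬝ᵥ y = 0) (hη' : η ⬝ᵥ y' = 0)
    (hind : y ∉ Submodule.span F ({y' - y} : Set (ι → F))) :
    ∃ g : SpecialLinearGroup ι F, (g : Matrix ι ι F) *ᵥ y = y' ∧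
      η ᵥ* (g : Matrix ι ι F) = η := by
  obtain ⟨φ, h1, h2⟩ := h1_exists_dot _ y hind
  have h3 : φ ⬝ᵥ (y' - y) = 0 := h2 _ (Submodule.mem_span_singleton_self _)
  refine ⟨tv (y' - y) φ h3, ?_, ?_⟩
  · rw [coe_tv, tvMat_mulVec, h1, one_smul]
    abel
  · rw [coe_tv, vecMul_tvMat, dotProduct_sub, hη', hη, sub_zero, zero_smul, add_zero]

theorem h1_exists_ker_notMem (hι : 3 ≤ Fintype.card ι) (η y : ι → F) :
    ∃ z : ι → F, η ⬝ᵥ z = 0 ∧ z ∉ Submodule.span F ({y} : Set (ι → F)) := by
  by_contra hcon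
  push Not at hcon
  let f : (ι → F) →ₗ[F] F :=
    { toFun := fun z => η ⬝ᵥ z
      map_add' := dotProduct_add η
      map_smul' := fun c z => by simp [dotProduct_smul] }
  have hle : LinearMap.ker f ≤ Submodule.span F ({y} : Set (ι → F)) := by
    intro z hz
    exact hcon z (LinearMap.mem_ker.mp hz)
  have h1 := LinearMap.finrank_range_add_finrank_ker f
  rw [Module.finrank_fintype_fun_eq_card] at h1
  have h2 : Module.finrank F (LinearMap.range f) ≤ 1 := by
    have := Submodule.finrank_le (LinearMap.range f)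
    rwa [Module.finrank_self] at this
  have h3 : Module.finrank F (LinearMap.ker f) ≤
      Module.finrank F (Submodule.span F ({y} : Set (ι → F))) := Submodule.finrank_mono hle
  have h4 : Module.finrank F (Submodule.span F ({y} : Set (ι → F))) ≤ 1 := by
    have := finrank_span_le_card (R := F) ({y} : Set (ι → F))
    simpa using this
  omega

theorem h1_trans (hι : 3 ≤ Fintype.card ι) (η y y' : ι → F) (hy : y ≠ 0) (hy' : y' ≠ 0)
    (hη : η ⬝ᵥ y = 0) (hη' : η ⬝ᵥ y' = 0) :
    ∃ g : SpecialLinearGroup ι F, (g : Matrix ι ι F) *ᵥ y = y' ∧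
      η ᵥ* (g : Matrix ι ι F) = η := by
  by_cases h : y ∈ Submodule.span F ({y' - y} : Set (ι → F))
  · obtain ⟨z, hz0, hz⟩ := h1_exists_ker_notMem hι η y
    obtain ⟨c, hc⟩ := Submodule.mem_span_singleton.mp h
    have hc0 : c ≠ 0 := by
      intro h0
      rw [h0, zero_smul] at hc
      exact hy hc.symm
    have hy'y : y' = (1 + c⁻¹) • y := by
      have h1 : c • y' = (c + 1) • y := by
        have : c • y' = c • (y' - y) + c • y := by module
        rw [this, hc]
        module
      have h2 : y' = c⁻¹ • (c • y') := by rw [smul_smul, inv_mul_cancel₀ hc0, one_smul]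
      rw [h2, h1, smul_smul]
      congr 1
      field_simp
    have h1 : y ∉ Submodule.span F ({z - y} : Set (ι → F)) := by
      intro hmem
      obtain ⟨a, ha⟩ := Submodule.mem_span_singleton.mp hmem
      have ha0 : a ≠ 0 := by
        intro h0
        rw [h0, zero_smul] at ha
        exact hy ha.symm
      apply hz
      rw [Submodule.mem_span_singleton]
      refine ⟨1 + a⁻¹, ?_⟩
      have h3 : a • z = (a + 1) • y := by
        have : a • z = a • (z - y) + a • y := by module
        rw [this, ha]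
        module
      have h4 : z = a⁻¹ • (a • z) := by rw [smul_smul, inv_mul_cancel₀ ha0, one_smul]
      rw [h4, h3, smul_smul]
      congr 1
      field_simp
    have h2 : z ∉ Submodule.span F ({y' - z} : Set (ι → F)) := by
      intro hmem
      obtain ⟨a, ha⟩ := Submodule.mem_span_singleton.mp hmem
      have h3 : (1 + a) • z = (a * (1 + c⁻¹)) • y := by
        have : (1 + a) • z = (z - a • (y' - z)) + a • y' := by module
        rw [this, ha, sub_self, zero_add, hy'y, smul_smul]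
      by_cases hb : 1 + a = 0
      · rw [hb, zero_smul] at h3
        have ha' : a = -1 := by linear_combination hb
        rw [ha'] at h3
        have : y' = 0 := by
          rw [hy'y]
          have h5 : (1 + c⁻¹) • y = -((-1 * (1 + c⁻¹)) • y) := by module
          rw [h5, ← h3, neg_zero]
        exact hy' this
      · apply hz
        rw [Submodule.mem_span_singleton]
        refine ⟨(1 + a)⁻¹ * (a * (1 + c⁻¹)), ?_⟩
        rw [← smul_smul, ← h3, smul_smul, inv_mul_cancel₀ hb, one_smul]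
    obtain ⟨g1, hg1y, hg1η⟩ := h1_step η y z hη hz0 h1
    obtain ⟨g2, hg2y, hg2η⟩ := h1_step η z y' hz0 hη' h2
    refine ⟨g2 * g1, ?_, ?_⟩
    · rw [Matrix.SpecialLinearGroup.coe_mul, ← Matrix.mulVec_mulVec, hg1y, hg2y]
    · rw [Matrix.SpecialLinearGroup.coe_mul, ← Matrix.vecMul_vecMul, hg2η, hg1η]
  · exact h1_step η y y' hη hη' h

theorem h1_mulVec_ne_zero (g : SpecialLinearGroup ι F) (y : ι → F) (hy : y ≠ 0) :
    (g : Matrix ι ι F) *ᵥ y ≠ 0 := by
  intro h
  apply hy
  have h1 : ((g⁻¹ : SpecialLinearGroup ι F) : Matrix ι ι F) *ᵥ ((g : Matrix ι ι F) *ᵥ y) = y := by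
    rw [Matrix.mulVec_mulVec, ← Matrix.SpecialLinearGroup.coe_mul, inv_mul_cancel,
      Matrix.SpecialLinearGroup.coe_one, Matrix.one_mulVec]
  rw [← h1, h, Matrix.mulVec_zero]

end C

section C

variable {F : Type*} [Field F] [Fintype F] [DecidableEq F]
  {ι : Type*} [Fintype ι] [DecidableEq ι]

theorem tv_conj (hι : 3 ≤ Fintype.card ι) (y η y' η' : ι → F) (hy : y ≠ 0) (hη : η ≠ 0)
    (hy' : y' ≠ 0) (hη' : η' ≠ 0) (h : η ⬝ᵥ y = 0) (h' : η' ⬝ᵥ y' = 0) :
    ∃ g : SpecialLinearGroup ι F, g * tv y η h * g⁻¹ = tv y' η' h' := by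
  obtain ⟨g0, hg0, -⟩ := h1_trans hι (0 : ι → F) η' η hη' hη (zero_dotProduct _) (zero_dotProduct _)
  have hg1 : η' ᵥ* ((g0.transpose : SpecialLinearGroup ι F) : Matrix ι ι F) = η := by
    rw [Matrix.SpecialLinearGroup.coe_transpose, Matrix.vecMul_transpose, hg0]
  set g1 : SpecialLinearGroup ι F := g0.transpose with hg1def
  have hy1 : (g1 : Matrix ι ι F) *ᵥ y ≠ 0 := h1_mulVec_ne_zero g1 y hy
  have hη1 : η' ⬝ᵥ ((g1 : Matrix ι ι F) *ᵥ y) = 0 := by
    rw [Matrix.dotProduct_mulVec, hg1, h]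
  obtain ⟨g2, hg2y, hg2η⟩ := h1_trans hι η' _ y' hy1 hy' hη1 h'
  refine ⟨g2 * g1, ?_⟩
  rw [mul_inv_eq_iff_eq_mul]
  apply Subtype.ext
  simp only [Matrix.SpecialLinearGroup.coe_mul, coe_tv]
  unfold tvMat
  rw [Matrix.mul_add, Matrix.add_mul, Matrix.mul_one, Matrix.one_mul, Matrix.mul_vecMulVec,
    Matrix.vecMulVec_mul, ← Matrix.mulVec_mulVec, hg2y, ← Matrix.vecMul_vecMul, hg2η, hg1]

end C

end Cfsg.Agent.Lib.helper15.SLM
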