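import Mathlib
import Cfsg.Agent.Lib.helper15.SLM.Defs
import Cfsg.Agent.Lib.Helper13.SLMC4

set_option autoImplicit false
set_option linter.unusedSectionVars false
set_option linter.unusedVariables false

namespace Cfsg.Agent.Lib.helper15.SLM

open Matrix

section C

variable {F : Type*} [Field F] {ι : Type*} [Fintype ι] [DecidableEq ι]

theorem h1_vecMulVec_eq {y η y' η' : ι → F} (hy : y ≠ 0) (hη : η ≠ 0)
    (h : vecMulVec y η = vecMulVec y' η') :
    ∃ c : Fˣ, y' = (c : F) • y ∧ η' = ((c⁻¹ : Fˣ) : F) • η := by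
  obtain ⟨i, hi⟩ := Function.ne_iff.mp hy
  obtain ⟨j, hj⟩ := Function.ne_iff.mp hη
  simp only [Pi.zero_apply] at hi hj
  have hij : ∀ k l, y k * η l = y' k * η' l := fun k l => by
    have := congrFun (congrFun h k) l
    simpa [vecMulVec_apply] using this
  have h1 : y' i * η' j ≠ 0 := by
    rw [← hij]
    exact mul_ne_zero hi hj
  have hy'i : y' i ≠ 0 := left_ne_zero_of_mul h1
  have hη'j : η' j ≠ 0 := right_ne_zero_of_mul h1
  refine ⟨Units.mk0 (η j / η' j) (div_ne_zero hj hη'j), ?_, ?_⟩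
  · funext k
    simp only [Units.val_mk0, Pi.smul_apply, smul_eq_mul]
    have := hij k j
    field_simp
    linear_combination -this
  · funext l
    simp only [Units.val_inv_eq_inv_val, Units.val_mk0, Pi.smul_apply, smul_eq_mul, inv_div]
    have h2 := hij i l
    have h3 := hij i j
    have h4 : y' i * (η' l * η j) = y' i * (η' j * η l) := by
      calc y' i * (η' l * η j) = (y' i * η' l) * η j := by ring
        _ = (y i * η l) * η j := by rw [h2]
        _ = (y i * η j) * η l := by ring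
        _ = (y' i * η' j) * η l := by rw [h3]
        _ = y' i * (η' j * η l) := by ring
    have h5 := mul_left_cancel₀ hy'i h4
    field_simp
    linear_combination h5

theorem h1_tvMat_eq_iff {y η y' η' : ι → F} (hy : y ≠ 0) (hη : η ≠ 0) :
    tvMat y η = tvMat y' η' ↔ ∃ c : Fˣ, y' = (c : F) • y ∧ η' = ((c⁻¹ : Fˣ) : F) • η := by
  constructor
  · intro h
    unfold tvMat at h
    exact h1_vecMulVec_eq hy hη (add_left_cancel h)
  · rintro ⟨c, rfl, rfl⟩
    unfold tvMat
    congr 1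
    ext i j
    simp only [vecMulVec_apply, Pi.smul_apply, smul_eq_mul]
    have : (c : F) * ((c⁻¹ : Fˣ) : F) = 1 := by
      rw [← Units.val_mul, mul_inv_cancel, Units.val_one]
    calc y i * η j = ((c : F) * ((c⁻¹ : Fˣ) : F)) * (y i * η j) := by rw [this, one_mul]
      _ = _ := by ring

end C

section C

variable {F : Type*} [Field F] [Fintype F] [DecidableEq F]
  {ι : Type*} [Fintype ι] [DecidableEq ι]

noncomputable def h1_tvOfPair (p : (ι → F) × (ι → F)) : SpecialLinearGroup ι F :=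
  if h : p.2 ⬝ᵥ p.1 = 0 then tv p.1 p.2 h else 1

theorem h1_card_ne_zero (q n : ℕ) (hq : Fintype.card F = q) (hn : Fintype.card ι = n) :
    (Finset.univ.filter (fun y : ι → F => y ≠ 0)).card = q ^ n - 1 := by
  rw [Finset.filter_ne' Finset.univ (0 : ι → F), Finset.card_erase_of_mem (Finset.mem_univ _),
    Finset.card_univ, Fintype.card_fun, hq, hn]

theorem h1_card_pairs (q n : ℕ) (hq : Fintype.card F = q) (hn : Fintype.card ι = n) :
    (Finset.univ.filter (fun p : (ι → F) × (ι → F) =>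
      p.1 ≠ 0 ∧ p.2 ≠ 0 ∧ p.2 ⬝ᵥ p.1 = 0)).card = (q ^ n - 1) * (q ^ (n - 1) - 1) := by
  rw [Finset.card_filter, Fintype.sum_prod_type]
  have h1 : ∀ y : ι → F, (∑ η : ι → F, if (y ≠ 0 ∧ η ≠ 0 ∧ η ⬝ᵥ y = 0) then 1 else 0) =
      if y ≠ 0 then q ^ (n - 1) - 1 else 0 := by
    intro y
    by_cases hy : y = 0
    · simp [hy]
    · rw [if_pos hy, ← card_hyperplane q n hq hn y hy, Finset.card_filter]
      refine Finset.sum_congr rfl fun η _ => ?_
      rw [dotProduct_comm]
      simp [hy]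
  simp only [h1]
  rw [← Finset.sum_filter, Finset.sum_const, h1_card_ne_zero q n hq hn, smul_eq_mul]

theorem card_transvections (q n : ℕ) (hq : Fintype.card F = q) (hn : Fintype.card ι = n)
    (hn2 : 2 ≤ n) :
    (Finset.univ.filter (fun g : SpecialLinearGroup ι F =>
      ∃ (y η : ι → F) (h : η ⬝ᵥ y = 0), y ≠ 0 ∧ η ≠ 0 ∧ g = tv y η h)).card * (q - 1) =
      (q ^ n - 1) * (q ^ (n - 1) - 1) := by
  rw [← h1_card_pairs q n hq hn]
  set P := Finset.univ.filter (fun p : (ι → F) × (ι → F) =>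
      p.1 ≠ 0 ∧ p.2 ≠ 0 ∧ p.2 ⬝ᵥ p.1 = 0) with hP
  set T := Finset.univ.filter (fun g : SpecialLinearGroup ι F =>
      ∃ (y η : ι → F) (h : η ⬝ᵥ y = 0), y ≠ 0 ∧ η ≠ 0 ∧ g = tv y η h) with hT
  have hmaps : ∀ p ∈ P, h1_tvOfPair p ∈ T := by
    intro p hp
    rw [hP, Finset.mem_filter] at hp
    obtain ⟨-, hp1, hp2, hp3⟩ := hp
    rw [hT, Finset.mem_filter]
    refine ⟨Finset.mem_univ _, p.1, p.2, hp3, hp1, hp2, ?_⟩
    unfold h1_tvOfPair
    rw [dif_pos hp3]
  rw [Finset.card_eq_sum_card_fiberwise hmaps]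
  have hfib : ∀ g ∈ T, (P.filter (fun p => h1_tvOfPair p = g)).card = q - 1 := by
    intro g hg
    rw [hT, Finset.mem_filter] at hg
    obtain ⟨-, y₀, η₀, h₀, hy₀, hη₀, rfl⟩ := hg
    rw [← hq, ← Fintype.card_units, ← Finset.card_univ]
    symm
    refine Finset.card_bij (fun (c : Fˣ) _ => ((c : F) • y₀, ((c⁻¹ : Fˣ) : F) • η₀)) ?_ ?_ ?_
    · intro c _
      have hc0 : (c : F) ≠ 0 := c.ne_zero
      have hc1 : ((c⁻¹ : Fˣ) : F) ≠ 0 := (c⁻¹).ne_zero
      have hdot : (((c⁻¹ : Fˣ) : F) • η₀) ⬝ᵥ ((c : F) • y₀) = 0 := by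
        rw [smul_dotProduct, dotProduct_smul, h₀, smul_zero, smul_zero]
      rw [Finset.mem_filter, hP, Finset.mem_filter]
      refine ⟨⟨Finset.mem_univ _, smul_ne_zero hc0 hy₀, smul_ne_zero hc1 hη₀, hdot⟩, ?_⟩
      unfold h1_tvOfPair
      rw [dif_pos hdot]
      apply Subtype.ext
      simp only [coe_tv]
      exact ((h1_tvMat_eq_iff hy₀ hη₀).mpr ⟨c, rfl, rfl⟩).symm
    · intro c _ c' _ hcc
      have h1 : (c : F) • y₀ = (c' : F) • y₀ := congrArg Prod.fst hcc
      obtain ⟨i, hi⟩ := Function.ne_iff.mp hy₀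
      simp only [Pi.zero_apply] at hi
      have h2 := congrFun h1 i
      simp only [Pi.smul_apply, smul_eq_mul] at h2
      exact Units.ext (mul_right_cancel₀ hi h2)
    · intro p hp
      rw [Finset.mem_filter, hP, Finset.mem_filter] at hp
      obtain ⟨⟨-, hp1, hp2, hp3⟩, hpe⟩ := hp
      unfold h1_tvOfPair at hpe
      rw [dif_pos hp3] at hpe
      have hmat : tvMat y₀ η₀ = tvMat p.1 p.2 := by
        have := congrArg Subtype.val hpe
        simpa using this.symm
      obtain ⟨c, hc1, hc2⟩ := (h1_tvMat_eq_iff hy₀ hη₀).mp hmat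
      exact ⟨c, Finset.mem_univ _, by rw [← hc1, ← hc2]⟩
  rw [Finset.sum_congr rfl hfib, Finset.sum_const, smul_eq_mul]

end C

end Cfsg.Agent.Lib.helper15.SLM
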