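import Mathlib
import Cfsg.Agent.Lib.Helper19.SPD.Defs

set_option autoImplicit false
set_option linter.unusedVariables false
set_option linter.unusedSectionVars false

namespace Cfsg.Agent.Lib.Helper19.SPD

open Polynomial Cfsg.Agent.Lib.helper6 Cfsg.Agent.Lib.helper6.SB

variable {F : Type*} [Field F] {d : ℕ}

theorem spdblockodd_finrank_le (U U' : Submodule F (Fin d ⊕ Fin d → F))
    (hinj : ∀ u' ∈ U', (∀ u ∈ U, Cfsg.sympForm d F u u' = 0) → u' = 0) :
    Module.finrank F U' ≤ Module.finrank F U := by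
  let ψ : U' →ₗ[F] U →ₗ[F] F := (sB d F).flip.domRestrict₁₂ U' U
  have hψ : ∀ (u' : U') (u : U), ψ u' u = Cfsg.sympForm d F (u : Fin d ⊕ Fin d → F) (u' : Fin d ⊕ Fin d → F) := by
    intro u' u
    change (sB d F) (u : Fin d ⊕ Fin d → F) (u' : Fin d ⊕ Fin d → F) = _
    rw [sB_apply]
  have hinjψ : Function.Injective ψ := by
    rw [injective_iff_map_eq_zero]
    intro u' hu'
    apply Subtype.ext
    apply hinj u'.1 u'.2
    intro u hu
    have := hψ u' ⟨u, hu⟩
    rw [hu'] at this
    simpa using this.symm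
  have h1 := LinearMap.finrank_le_finrank_of_injective hinjψ
  have h2 : Module.finrank F (U →ₗ[F] F) = Module.finrank F U := Subspace.dual_finrank_eq
  omega

theorem spdblockodd_core [Fintype F] {p q : ℕ} [Fact p.Prime] [CharP F p] (hq : Fintype.card F = q)
    (r : ℕ) [Fact r.Prime] (hrp : r ≠ p) (i : ℕ) (hi : i = orderOf (q : ZMod r)) (hio : Odd i)
    (y : (Fin d ⊕ Fin d → F) →ₗ[F] (Fin d ⊕ Fin d → F)) (hiso : Isom y) (hy : y ^ r = 1)
    (hcyc : ∀ (W : Submodule F (Fin d ⊕ Fin d → F)), Inv y W → FF y W → W ≠ ⊥ →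
      ∃ U ≤ W, Inv y U ∧ Module.finrank F U = i)
    (hk3 : ∀ (W : Submodule F (Fin d ⊕ Fin d → F)), Inv y W → FF y W →
      orderOf (q : ZMod r) ∣ Module.finrank F W)
    (heven : ∀ (W : Submodule F (Fin d ⊕ Fin d → F)), ND W → Even (Module.finrank F W))
    (horthinv : ∀ (W : Submodule F (Fin d ⊕ Fin d → F)), Inv y W → Inv y (orth d W))
    (hmaschke : ∀ (H W : Submodule F (Fin d ⊕ Fin d → F)), H ≤ W → Inv y H → Inv y W →
      ∃ U' : Submodule F (Fin d ⊕ Fin d → F), U' ≤ W ∧ Inv y U' ∧ H ⊓ U' = ⊥ ∧ H ⊔ U' = W)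
    (W : Submodule F (Fin d ⊕ Fin d → F)) (hW : Inv y W) (hnd : ND W) (hff : FF y W) (hne : W ≠ ⊥) :
    ∃ M ≤ W, Inv y M ∧ ND M ∧ Module.finrank F M = 2 * i := by
  have hi1 : 1 ≤ i := by
    rcases hio with ⟨k, hk⟩
    omega
  obtain ⟨U, hUW, hUinv, hUdim⟩ := hcyc W hW hff hne
  have hffU : FF y U := fun w hw => hff w (hUW hw)
  have hUiso : U ≤ orth d U := by
    set R := U ⊓ orth d U with hR
    have hRinv : Inv y R := by
      intro v hv
      exact ⟨hUinv v hv.1, horthinv U hUinv v hv.2⟩
    have hRff : FF y R := fun w hw => hffU w hw.1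
    have hRdvd := hk3 R hRinv hRff
    rw [← hi] at hRdvd
    have hRle : Module.finrank F R ≤ i := by
      rw [← hUdim]
      exact Submodule.finrank_mono inf_le_left
    have hcases : Module.finrank F R = 0 ∨ Module.finrank F R = i := by
      obtain ⟨k, hk⟩ := hRdvd
      rcases Nat.eq_zero_or_pos k with h0 | hpos
      · left
        rw [hk, h0, mul_zero]
      · right
        have : i ≤ i * k := Nat.le_mul_of_pos_right i hpos
        omega
    rcases hcases with h0 | hfull
    · exfalso
      have hRbot : R = ⊥ := Submodule.finrank_eq_zero.mp h0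
      have hUnd : ND U := by
        intro u hu huv
        have hmem : u ∈ R := by
          refine Submodule.mem_inf.mpr ⟨hu, ?_⟩
          rw [mem_orth]
          intro w hw
          rw [sympForm_swap, huv w hw, neg_zero]
        rw [hRbot] at hmem
        exact (Submodule.mem_bot F).mp hmem
      have := heven U hUnd
      rw [hUdim] at this
      exact (Nat.not_even_iff_odd.mpr hio) this
    · have hRU : R = U := by
        apply Submodule.eq_of_le_of_finrank_eq inf_le_left
        rw [hfull, hUdim]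
      intro u hu
      have : u ∈ R := by rw [hRU]; exact hu
      exact this.2
  set H := W ⊓ orth d U with hH
  have hHinv : Inv y H := by
    intro v hv
    exact ⟨hW v hv.1, horthinv U hUinv v hv.2⟩
  obtain ⟨U', hU'W, hU'inv, hHU', hHsup⟩ := hmaschke H W inf_le_left hHinv hW
  have hUH : U ≤ H := fun u hu => ⟨hUW hu, hUiso hu⟩
  have hinjU' : ∀ u' ∈ U', (∀ u ∈ U, Cfsg.sympForm d F u u' = 0) → u' = 0 := by
    intro u' hu' hall
    have hmem : u' ∈ H ⊓ U' := by
      refine Submodule.mem_inf.mpr ⟨Submodule.mem_inf.mpr ⟨hU'W hu', ?_⟩, hu'⟩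
      rw [mem_orth]
      exact hall
    rw [hHU'] at hmem
    exact (Submodule.mem_bot F).mp hmem
  have hU'le : Module.finrank F U' ≤ i := by
    rw [← hUdim]
    exact spdblockodd_finrank_le U U' hinjU'
  have hffU' : FF y U' := fun w hw => hff w (hU'W hw)
  have hU'dvd := hk3 U' hU'inv hffU'
  rw [← hi] at hU'dvd
  have hU'ne : U' ≠ ⊥ := by
    intro hbot
    rw [hbot, sup_bot_eq] at hHsup
    have hUpos : 0 < Module.finrank F U := by omega
    rw [Module.finrank_pos_iff_exists_ne_zero] at hUpos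
    obtain ⟨⟨u, hu⟩, hu0⟩ := hUpos
    apply hu0
    apply Subtype.ext
    apply hnd u (hUW hu)
    intro v hv
    rw [← hHsup] at hv
    have := (mem_orth d U v).mp hv.2 u hu
    exact this
  have hU'dim : Module.finrank F U' = i := by
    have hpos : 0 < Module.finrank F U' := by
      rw [Nat.pos_iff_ne_zero]
      intro h0
      exact hU'ne (Submodule.finrank_eq_zero.mp h0)
    have := Nat.le_of_dvd hpos hU'dvd
    omega
  have hdisj : U ⊓ U' = ⊥ := by
    rw [eq_bot_iff]
    intro v hv
    have : v ∈ H ⊓ U' := ⟨hUH hv.1, hv.2⟩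
    rw [hHU'] at this
    exact this
  refine ⟨U ⊔ U', sup_le hUW hU'W, ?_, ?_, ?_⟩
  · intro v hv
    obtain ⟨a, ha, b, hb, rfl⟩ := Submodule.mem_sup.mp hv
    rw [map_add]
    exact Submodule.add_mem _ (Submodule.mem_sup_left (hUinv a ha))
      (Submodule.mem_sup_right (hU'inv b hb))
  · intro m hm hmv
    obtain ⟨u, hu, u', hu', rfl⟩ := Submodule.mem_sup.mp hm
    have hu'0 : u' = 0 := by
      apply hinjU' u' hu'
      intro x hx
      have h1 := hmv x (Submodule.mem_sup_left hx)
      rw [sympForm_add_left] at h1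
      have h2 : Cfsg.sympForm d F u x = 0 := by
        have := (mem_orth d U x).mp (hUiso hx) u hu
        exact this
      rw [h2, zero_add] at h1
      rw [sympForm_swap, h1, neg_zero]
    rw [hu'0, add_zero]
    rw [hu'0, add_zero] at hmv
    apply hnd u (hUW hu)
    intro v hv
    rw [← hHsup] at hv
    obtain ⟨a, ha, b, hb, rfl⟩ := Submodule.mem_sup.mp hv
    rw [sympForm_add_right]
    have h1 : Cfsg.sympForm d F u a = 0 := (mem_orth d U a).mp ha.2 u hu
    have h2 : Cfsg.sympForm d F u b = 0 := hmv b (Submodule.mem_sup_right hb)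
    rw [h1, h2, add_zero]
  · have e := Submodule.finrank_sup_add_finrank_inf_eq U U'
    rw [hdisj, finrank_bot] at e
    omega

end Cfsg.Agent.Lib.Helper19.SPD
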