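import Mathlib
import Cfsg.Agent.Lib.Helper19.SPD.Defs
import Cfsg.Agent.Lib.Helper16.PSemi4

set_option autoImplicit false
set_option linter.unusedVariables false
set_option linter.unusedSectionVars false

namespace Cfsg.Agent.Lib.Helper19.SPD

open Polynomial

universe u

variable {F : Type u} [Field F] {d : ℕ}

theorem spdcyc_ord_dvd [Fintype F] {p q : ℕ} [Fact p.Prime] [CharP F p] (hq : Fintype.card F = q)
    (r : ℕ) [Fact r.Prime] (hrp : r ≠ p) : orderOf (q : ZMod r) ∣ r - 1 := by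
  have hr : r.Prime := Fact.out
  have hp : p.Prime := Fact.out
  obtain ⟨e, _, hqe⟩ := FiniteField.card F p
  rw [hq] at hqe
  have hne : (q : ZMod r) ≠ 0 := by
    intro h0
    rw [ZMod.natCast_eq_zero_iff] at h0
    rw [hqe] at h0
    have := hr.dvd_of_dvd_pow h0
    exact hrp ((Nat.prime_dvd_prime_iff_eq hr hp).mp this)
  apply orderOf_dvd_of_pow_eq_one
  exact ZMod.pow_card_sub_one_eq_one hne

theorem spdcyc_core [Fintype F] {p q : ℕ} [Fact p.Prime] [CharP F p] (hq : Fintype.card F = q)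
    (r : ℕ) [Fact r.Prime] (hrp : r ≠ p) (i : ℕ) (hi : i = orderOf (q : ZMod r))
    (y : (Fin d ⊕ Fin d → F) →ₗ[F] (Fin d ⊕ Fin d → F)) (hy : y ^ r = 1)
    (hk3 : ∀ (W : Submodule F (Fin d ⊕ Fin d → F)), Inv y W → FF y W →
      orderOf (q : ZMod r) ∣ Module.finrank F W)
    (hcycspan : ∀ (g : F[X]), g.Monic → ∀ (v : Fin d ⊕ Fin d → F), aeval y g v = 0 →
      ∃ U : Submodule F (Fin d ⊕ Fin d → F), v ∈ U ∧ Inv y U ∧ Module.finrank F U ≤ g.natDegree ∧
        (∀ W : Submodule F (Fin d ⊕ Fin d → F), Inv y W → v ∈ W → U ≤ W))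
    (hkerfac : ∀ (κ : Type u) [Fintype κ] (f : κ → F[X]), (X - 1) * ∏ k, f k = X ^ r - 1 →
      ∀ (W : Submodule F (Fin d ⊕ Fin d → F)), Inv y W → FF y W → W ≠ ⊥ →
        ∃ k, ∃ v ∈ W, v ≠ 0 ∧ aeval y (f k) v = 0)
    (W : Submodule F (Fin d ⊕ Fin d → F)) (hW : Inv y W) (hff : FF y W) (hne : W ≠ ⊥) :
    ∃ U ≤ W, Inv y U ∧ Module.finrank F U = i := by
  have hr : r.Prime := Fact.out
  have hdvd : i ∣ r - 1 := by
    rw [hi]
    exact spdcyc_ord_dvd hq r hrp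
  obtain ⟨t, ht⟩ := hdvd
  have ht' : t * i = r - 1 := by rw [ht, mul_comm]
  obtain ⟨κ, iκ, _, f, -, hirr, hdeg, -, -, hprod, -⟩ :=
    Cfsg.Agent.Lib.Helper16.PSemi.cyclo_data hq r i t hr hrp hi ht'
  obtain ⟨k, v, hvW, hv0, hkv⟩ := hkerfac κ f hprod W hW hff hne
  have hfk0 : f k ≠ 0 := (hirr k).ne_zero
  have hlc : (f k).leadingCoeff ≠ 0 := leadingCoeff_ne_zero.mpr hfk0
  set g : F[X] := f k * C ((f k).leadingCoeff)⁻¹ with hg
  have hgm : g.Monic := monic_mul_leadingCoeff_inv hfk0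
  have hgdeg : g.natDegree = i := by
    rw [hg, natDegree_mul_C (inv_ne_zero hlc)]
    exact hdeg k
  have hgv : aeval y g v = 0 := by
    rw [hg, map_mul, Module.End.mul_apply, aeval_C]
    rw [Module.algebraMap_end_apply, map_smul, hkv, smul_zero]
  obtain ⟨U, hvU, hUinv, hUle, hUmin⟩ := hcycspan g hgm v hgv
  have hUW : U ≤ W := hUmin W hW hvW
  refine ⟨U, hUW, hUinv, ?_⟩
  have hffU : FF y U := fun w hw => hff w (hUW hw)
  have hdiv := hk3 U hUinv hffU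
  rw [← hi] at hdiv
  rw [hgdeg] at hUle
  have hpos : 0 < Module.finrank F U := by
    rw [Module.finrank_pos_iff_exists_ne_zero]
    exact ⟨⟨v, hvU⟩, fun h => hv0 (congrArg Subtype.val h)⟩
  have hge : i ≤ Module.finrank F U := Nat.le_of_dvd hpos hdiv
  omega

end Cfsg.Agent.Lib.Helper19.SPD
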