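import Mathlib
import Cfsg.Agent.Lib.Helper19.SPD.Defs
import Cfsg.Agent.Lib.Helper1.SPDCYCcore
import Cfsg.Agent.Lib.Helper20.SPDK3
import Cfsg.Agent.Lib.Helper11.SPDKERFAC

set_option autoImplicit false
set_option linter.unusedVariables false
set_option linter.unusedSectionVars false

namespace Cfsg.Agent.Lib.Helper19.SPD

open Polynomial

variable {F : Type*} [Field F] {d : ℕ}

theorem spdcyc_cyc_span (y : (Fin d ⊕ Fin d → F) →ₗ[F] (Fin d ⊕ Fin d → F)) (g : F[X]) (hg : g.Monic)
    (v : Fin d ⊕ Fin d → F) (hv : aeval y g v = 0) :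
    ∃ U : Submodule F (Fin d ⊕ Fin d → F), v ∈ U ∧ Inv y U ∧ Module.finrank F U ≤ g.natDegree ∧
      (∀ W : Submodule F (Fin d ⊕ Fin d → F), Inv y W → v ∈ W → U ≤ W) := by
  let ev : F[X] →ₗ[F] (Fin d ⊕ Fin d → F) :=
    { toFun := fun P => aeval y P v
      map_add' := by intro P Q; rw [map_add, LinearMap.add_apply]
      map_smul' := by intro c P; rw [map_smul, LinearMap.smul_apply, RingHom.id_apply] }
  have hev : ∀ P, ev P = aeval y P v := fun P => rfl
  have hmod : ∀ P : F[X], ev P = ev (P %ₘ g) := by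
    intro P
    have h : P %ₘ g + (P /ₘ g) * g = P := by
      rw [mul_comm]
      exact modByMonic_add_div P g
    rw [hev, hev]
    conv_lhs => rw [← h]
    rw [map_add, LinearMap.add_apply, map_mul, Module.End.mul_apply, hv, map_zero,
      add_zero]
  refine ⟨LinearMap.range ev, ⟨1, by rw [hev, map_one, Module.End.one_apply]⟩, ?_, ?_, ?_⟩
  · rintro w ⟨P, rfl⟩
    refine ⟨X * P, ?_⟩
    rw [hev, hev, map_mul, aeval_X, Module.End.mul_apply]
  · have hle : LinearMap.range ev ≤ Submodule.map ev (degreeLT F g.natDegree) := by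
      rintro w ⟨P, rfl⟩
      refine ⟨P %ₘ g, ?_, (hmod P).symm⟩
      rw [SetLike.mem_coe, mem_degreeLT]
      calc (P %ₘ g).degree < g.degree := degree_modByMonic_lt P hg
        _ = g.natDegree := degree_eq_natDegree hg.ne_zero
    calc Module.finrank F (LinearMap.range ev)
        ≤ Module.finrank F (Submodule.map ev (degreeLT F g.natDegree)) := Submodule.finrank_mono hle
      _ ≤ Module.finrank F (degreeLT F g.natDegree) := Submodule.finrank_map_le ev _
      _ = g.natDegree := by
          rw [LinearEquiv.finrank_eq (degreeLTEquiv F g.natDegree), Module.finrank_fintype_fun_eq_card,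
            Fintype.card_fin]
  · intro W hW hvW
    have hpow : ∀ k : ℕ, (y ^ k) v ∈ W := by
      intro k
      induction k with
      | zero => rw [pow_zero, Module.End.one_apply]; exact hvW
      | succ k ih =>
        rw [pow_succ', Module.End.mul_apply]
        exact hW _ ih
    rintro w ⟨P, rfl⟩
    rw [hev, aeval_eq_sum_range, LinearMap.sum_apply]
    apply Submodule.sum_mem
    intro k _
    rw [LinearMap.smul_apply]
    exact W.smul_mem _ (hpow k)

theorem exists_cyc [Fintype F] {p q : ℕ} [Fact p.Prime] [CharP F p] (hq : Fintype.card F = q)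
    (r : ℕ) [Fact r.Prime] (hrp : r ≠ p) (i : ℕ) (hi : i = orderOf (q : ZMod r))
    (y : (Fin d ⊕ Fin d → F) →ₗ[F] (Fin d ⊕ Fin d → F)) (hy : y ^ r = 1)
    (W : Submodule F (Fin d ⊕ Fin d → F)) (hW : Inv y W) (hff : FF y W) (hne : W ≠ ⊥) :
    ∃ U ≤ W, Inv y U ∧ Module.finrank F U = i :=
  spdcyc_core hq r hrp i hi y hy
    (fun W hW hff => k3_dvd hq r y hy W hW hff)
    (fun g hg v hv => spdcyc_cyc_span y g hg v hv)
    (fun κ _ f hprod W hW hff hne => ker_fac r y hy f hprod W hW hff hne)
    W hW hff hne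

end Cfsg.Agent.Lib.Helper19.SPD
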