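import Mathlib
import Cfsg.Agent.Lib.Helper19.SPD.Defs
import Cfsg.Agent.Lib.Helper1.SPDBLOCKODDcore
import Cfsg.Agent.Lib.Helper1.SPDCYC
import Cfsg.Agent.Lib.Helper20.SPDK3
import Cfsg.Agent.Lib.Lead.SPDEVEN
import Cfsg.Agent.Lib.Helper28.SPDORTHINV
import Cfsg.Agent.Lib.Helper21.SPDMASCHKE

set_option autoImplicit false
set_option linter.unusedVariables false
set_option linter.unusedSectionVars false

namespace Cfsg.Agent.Lib.Helper19.SPD

open Polynomial

variable {F : Type*} [Field F] {d : ℕ}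

theorem block_odd [Fintype F] {p q : ℕ} [Fact p.Prime] [CharP F p] (hq : Fintype.card F = q)
    (r : ℕ) [Fact r.Prime] (hrp : r ≠ p) (i : ℕ) (hi : i = orderOf (q : ZMod r)) (hio : Odd i)
    (y : (Fin d ⊕ Fin d → F) →ₗ[F] (Fin d ⊕ Fin d → F)) (hiso : Isom y) (hy : y ^ r = 1)
    (W : Submodule F (Fin d ⊕ Fin d → F)) (hW : Inv y W) (hnd : ND W) (hff : FF y W) (hne : W ≠ ⊥) :
    ∃ M ≤ W, Inv y M ∧ ND M ∧ Module.finrank F M = 2 * i := by
  have hr : r.Prime := Fact.out
  have hp : p.Prime := Fact.out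
  have hrF : (r : F) ≠ 0 := by
    intro h
    rw [CharP.cast_eq_zero_iff F p] at h
    exact hrp ((Nat.prime_dvd_prime_iff_eq hp hr).mp h).symm
  exact spdblockodd_core hq r hrp i hi hio y hiso hy
    (fun W hW hff hne => exists_cyc hq r hrp i hi y hy W hW hff hne)
    (fun W hW hff => k3_dvd hq r y hy W hW hff)
    (fun W hnd => nd_even W hnd)
    (fun W hW => orth_inv r hr.pos y hiso hy W hW)
    (fun H W hHW hH hW => exists_inv_compl r hrF y hy H W hHW hH hW)
    W hW hnd hff hne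

end Cfsg.Agent.Lib.Helper19.SPD
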