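import Mathlib
import Cfsg.Prelude.Def_Classical
import Cfsg.Prelude.Def_KGroupFacts
import Cfsg.Agent.Lib.Lead.SPM2.Defs
import Cfsg.Agent.Lib.helper4.STMX1

/-!
# Project SPM2 (designer lead), row G1 CORE (helper1): the spin group `Spin⁻_{2m+2}(F)` exists,
with the STATEMENTS of C12 (`neg_one_ne_one_ClM`) and C13 (`exists_cliffSysM`) as hypotheses; own-name copies of T0b (`restrict_genM`) and T0c (`map_hsM`).
Port of SPB G1 (`Helper22/SPBG1core.lean`) / SPN G2 (`Helper1/SPNG2core.lean`).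
-/

set_option autoImplicit false

namespace Cfsg.Agent.Lib.Lead.SPM2

open Cfsg.Agent.Lib.helper15.St2 Cfsg.Agent.Lib.helper3.STC Cfsg.Agent.Lib.Lead.STD Cfsg.Agent.Lib.helper17.STM
  Cfsg.Agent.Lib.Lead.SPN Cfsg.Agent.Lib.Helper16
open Cfsg.Agent.Lib.Helper12.OMN (omatM oglM omatM_mul omatM_one omatM_injective oglM_coe oglM_injective)

universe u v w

/-- own-name copy of T0b `restrict_genM`. -/
theorem spm2g1_restrict_genM {F : Type*} [Field F] {A B : F} [Fact (∀ r : F, r ^ 2 ≠ -B + A * r)] {ι : Type*} {G : Type*} [Group G]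
    (P : SysM F A B ι G)
    (hL : ∀ a b t, P.x a b t ∈ P.XQ (fun _ _ => True) (fun _ => True)) (hLs : ∀ a t, P.xs a t ∈ P.XQ (fun _ _ => True) (fun _ => True)) :
    (P.restrict (P.XQ (fun _ _ => True) (fun _ => True)) hL hLs).XQ (fun _ _ => True) (fun _ => True) = ⊤ := by
  rw [eq_top_iff]
  rintro ⟨x, hx⟩ -
  have hmap : P.XQ (fun _ _ => True) (fun _ => True) ≤
      ((P.restrict (P.XQ (fun _ _ => True) (fun _ => True)) hL hLs).XQ (fun _ _ => True) (fun _ => True)).map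
        (P.XQ (fun _ _ => True) (fun _ => True)).subtype := by
    conv_lhs => unfold SysM.XQ
    rw [Subgroup.closure_le]
    rintro _ (⟨a, b, t, hab, hab', -, rfl⟩ | ⟨a, t, -, rfl⟩)
    · refine ⟨(P.restrict (P.XQ (fun _ _ => True) (fun _ => True)) hL hLs).x a b t, ?_, rfl⟩
      exact Subgroup.subset_closure (Or.inl ⟨a, b, t, hab, hab', trivial, rfl⟩)
    · refine ⟨(P.restrict (P.XQ (fun _ _ => True) (fun _ => True)) hL hLs).xs a t, ?_, rfl⟩
      exact Subgroup.subset_closure (Or.inr ⟨a, t, trivial, rfl⟩)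
  obtain ⟨x', hx', hxx⟩ := hmap hx
  have : x' = ⟨x, hx⟩ := Subtype.ext hxx
  rw [← this]
  exact hx'

/-- own-name copy of T0c `map_hsM`. -/
theorem spm2g1_map_hsM {F : Type*} [Field F] {A B : F} [Fact (∀ r : F, r ^ 2 ≠ -B + A * r)] {ι : Type*} {G : Type*} [Group G]
    {H : Type*} [Group H]
    (S : SysM F A B ι G) (T : SysM F A B ι H) (f : G →* H) (hf : ∀ a t, f (S.xs a t) = T.xs a t) (a : ι ⊕ ι) (t : Kq F A B) :
    f (S.hs a t) = T.hs a t := by
  unfold SysM.hs SysM.ws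
  simp only [map_mul, hf]

/-- G1 core. -/
theorem spm2g1_core {m : ℕ} {F : Type u} [Field F] [Fintype F] {A B : F} [Fact (∀ r : F, r ^ 2 ≠ -B + A * r)] (hl : 3 ≤ m)
    (homn : OmnSys m F A B)
    (hC13 : ∃ S : SysM F A B (Fin m) (ClM m F A B)ˣ, (∀ a b t, S.x a b t = XClm a b t) ∧ (∀ a u, S.xs a u = XCsm a u) ∧
      ∀ a, S.hs a (-1) = -1)
    (hC12 : (2 : F) ≠ 0 → (-1 : (ClM m F A B)ˣ) ≠ 1) :
    ∃ (G : Type u) (_ : Group G) (C : CovM m F A B G), (2 : F) ≠ 0 → C.zel ≠ 1 := by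
  obtain ⟨Sc, -, -, hSc⟩ := hC13
  obtain ⟨So, -, hSox, hSoxs⟩ := homn
  let P : SysM F A B (Fin m) ((ClM m F A B)ˣ × ↥(Cfsg.Omega F (Cfsg.quadFormMinus m F A B))) := Sc.prod So
  have hL : ∀ a b t, P.x a b t ∈ P.XQ (fun _ _ => True) (fun _ => True) :=
    fun a b t => P.x_mem_XQ (Q := fun _ _ => True) trivial t
  have hLs : ∀ a t, P.xs a t ∈ P.XQ (fun _ _ => True) (fun _ => True) :=
    fun a t => P.xs_mem_XQ (Qs := fun _ => True) trivial t
  let L := P.XQ (fun _ _ => True) (fun _ => True)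
  let S : SysM F A B (Fin m) ↥L := P.restrict L hL hLs
  let C : CovM m F A B ↥L :=
    { hl := hl
      S := S
      gen := spm2g1_restrict_genM P hL hLs
      π := (MonoidHom.snd _ _).comp L.subtype
      hπ := by
        intro a b hab hab' t
        exact hSox a b hab hab' t
      hπs := by
        intro a t
        exact hSoxs a t }
  refine ⟨↥L, inferInstance, C, ?_⟩
  intro h2 hz
  have hf : ∀ a t, ((MonoidHom.fst (ClM m F A B)ˣ ↥(Cfsg.Omega F (Cfsg.quadFormMinus m F A B))).comp L.subtype) (S.xs a t) =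
      Sc.xs a t := fun a t => rfl
  have h1 := congrArg ((MonoidHom.fst (ClM m F A B)ˣ ↥(Cfsg.Omega F (Cfsg.quadFormMinus m F A B))).comp L.subtype) hz
  rw [map_one] at h1
  have h3 : ((MonoidHom.fst (ClM m F A B)ˣ ↥(Cfsg.Omega F (Cfsg.quadFormMinus m F A B))).comp L.subtype) C.zel =
      Sc.hs (Sum.inl C.i0) (-1) := by
    unfold CovM.zel
    rw [spm2g1_map_hsM S Sc _ hf]
  rw [h3, hSc] at h1
  exact hC12 h2 h1

end Cfsg.Agent.Lib.Lead.SPM2
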