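import Mathlib
import Cfsg.Prelude.Def_Classical
import Cfsg.Prelude.Def_KGroupFacts
import Cfsg.Agent.Lib.Lead.SPM2.Defs
import Cfsg.Agent.Lib.Helper29.SPM2C12
import Cfsg.Agent.Lib.Helper29.SPM2C13
import Cfsg.Agent.Lib.Helper1.SPM2G1core

/-!
# Project SPM2 (designer lead), row G1 (helper1), VERBATIM: `exists_covM` — the spin group `Spin⁻_{2m+2}(F)` exists, `zel ≠ 1` in odd characteristic.
Wrapper of `spm2g1_core` on helper29's C12 `neg_one_ne_one_ClM`, C13 `exists_cliffSysM`.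
-/

set_option autoImplicit false

namespace Cfsg.Agent.Lib.Lead.SPM2

open Cfsg.Agent.Lib.helper15.St2 Cfsg.Agent.Lib.helper3.STC Cfsg.Agent.Lib.Lead.STD Cfsg.Agent.Lib.helper17.STM
  Cfsg.Agent.Lib.Lead.SPN Cfsg.Agent.Lib.Helper16
open Cfsg.Agent.Lib.Helper12.OMN (omatM oglM omatM_mul omatM_one omatM_injective oglM_coe oglM_injective)

universe u v w

section G

/-- G1 [M]  **the spin group** -/
theorem exists_covM {m : ℕ} {F : Type u} [Field F] [Fintype F] {A B : F} [Fact (∀ r : F, r ^ 2 ≠ -B + A * r)] (hl : 3 ≤ m) (homn : OmnSys m F A B) :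
    ∃ (G : Type u) (_ : Group G) (C : CovM m F A B G), (2 : F) ≠ 0 → C.zel ≠ 1 :=
  spm2g1_core hl homn (exists_cliffSysM m F A B) (neg_one_ne_one_ClM m A B)

end G

end Cfsg.Agent.Lib.Lead.SPM2
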