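import Mathlib
import Cfsg.Prelude.Def_Classical
import Cfsg.Prelude.Def_KGroupFacts
import Cfsg.Agent.Lib.Lead.SPM2.Defs
import Cfsg.Agent.Lib.Lead.STDB1
import Cfsg.Agent.Lib.Helper16.STDH3

/-!
# Project SPM2 (designer lead), rows K1 (`CovM.exists_neg_hyp`), K2 (`CovM.exists_neg`): the CORES (helper1)

Port of `helper23/SPNK1core.lean`.  Hypotheses: `hT12` = the STATEMENT of T12 `CovM.omat_h`, `hH5` = the statement of STM H5 `SysM.h_hs_comm` at `C.S`;
for K2 also `hT13` = the statement of T13 `CovM.omat_hs_unit` and `hH1` = the statement of STM H1 `SysM.hs_mul` at `C.S`.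
-/

set_option autoImplicit false
set_option linter.unusedSectionVars false

namespace Cfsg.Agent.Lib.Lead.SPM2

open Cfsg.Agent.Lib.helper15.St2 Cfsg.Agent.Lib.helper3.STC Cfsg.Agent.Lib.Lead.STD Cfsg.Agent.Lib.helper17.STM
  Cfsg.Agent.Lib.Lead.SPN Cfsg.Agent.Lib.Helper16
open Cfsg.Agent.Lib.Helper12.OMN (omatM oglM omatM_mul omatM_one omatM_injective oglM_coe oglM_injective)

universe u v w

namespace CovM

variable {m : ℕ} {F : Type u} [Field F] [Fintype F] {A B : F} [Fact (∀ r : F, r ^ 2 ≠ -B + A * r)] {G : Type v} [Group G] (C : CovM m F A B G)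

/-! ### products of torus elements `h a b (-1)` -/

/-- the product of the torus elements `h a b (-1)` over a list of pairs -/
def spm2k1_prod (L : List ((Fin m ⊕ Fin m) × (Fin m ⊕ Fin m))) : G :=
  (L.map fun p => C.S.h p.1 p.2 (-1)).prod

theorem spm2k1_prod_nil : C.spm2k1_prod [] = 1 := rfl

theorem spm2k1_prod_cons (p : (Fin m ⊕ Fin m) × (Fin m ⊕ Fin m)) (L : List ((Fin m ⊕ Fin m) × (Fin m ⊕ Fin m))) :
    C.spm2k1_prod (p :: L) = C.S.h p.1 p.2 (-1) * C.spm2k1_prod L := by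
  unfold spm2k1_prod
  rw [List.map_cons, List.prod_cons]

/-- a torus element commutes with the product -/
theorem spm2k1_comm (a b : Fin m ⊕ Fin m) (hab : a ≠ b) (hab' : a ≠ ng b)
    (L : List ((Fin m ⊕ Fin m) × (Fin m ⊕ Fin m))) (hL : ∀ p ∈ L, p.1 ≠ p.2 ∧ p.1 ≠ ng p.2) :
    C.S.h a b (-1) * C.spm2k1_prod L = C.spm2k1_prod L * C.S.h a b (-1) := by
  have hm1 : (-1 : F) ≠ 0 := neg_ne_zero.mpr one_ne_zero
  induction L with
  | nil => rw [spm2k1_prod_nil, mul_one, one_mul]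
  | cons p L ih =>
    have hp := hL p (List.mem_cons_self ..)
    have ih' := ih (fun q hq => hL q (List.mem_cons_of_mem _ hq))
    rw [spm2k1_prod_cons, ← mul_assoc, C.S.toSysD.h_comm hab hab' hp.1 hp.2 (-1) (-1) hm1 hm1, mul_assoc, ih', mul_assoc]

/-- the product is an involution (or `1`) -/
theorem spm2k1_sq (L : List ((Fin m ⊕ Fin m) × (Fin m ⊕ Fin m))) (hL : ∀ p ∈ L, p.1 ≠ p.2 ∧ p.1 ≠ ng p.2) :
    C.spm2k1_prod L * C.spm2k1_prod L = 1 := by
  have hm1 : (-1 : F) ≠ 0 := neg_ne_zero.mpr one_ne_zero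
  induction L with
  | nil => rw [spm2k1_prod_nil, mul_one]
  | cons p L ih =>
    have hp := hL p (List.mem_cons_self ..)
    have hL' : ∀ q ∈ L, q.1 ≠ q.2 ∧ q.1 ≠ ng q.2 := fun q hq => hL q (List.mem_cons_of_mem _ hq)
    have ih' := ih hL'
    have hc := C.spm2k1_comm p.1 p.2 hp.1 hp.2 L hL'
    have hs := C.S.toSysD.h_mul hp.1 hp.2 (-1) (-1) hm1 hm1
    have hmm : (-1 : F) * (-1) = 1 := by ring
    rw [hmm, SysD.h_one] at hs
    rw [spm2k1_prod_cons]
    calc C.S.h p.1 p.2 (-1) * C.spm2k1_prod L * (C.S.h p.1 p.2 (-1) * C.spm2k1_prod L)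
        = C.S.h p.1 p.2 (-1) * (C.spm2k1_prod L * C.S.h p.1 p.2 (-1)) * C.spm2k1_prod L := by group
      _ = C.S.h p.1 p.2 (-1) * (C.S.h p.1 p.2 (-1) * C.spm2k1_prod L) * C.spm2k1_prod L := by rw [hc]
      _ = (C.S.h p.1 p.2 (-1) * C.S.h p.1 p.2 (-1)) * (C.spm2k1_prod L * C.spm2k1_prod L) := by group
      _ = 1 := by rw [hs, ih', one_mul]

/-- the product commutes with the short torus elements -/
theorem spm2k1_comm_hs
    (hH5 : ∀ {a b : Fin m ⊕ Fin m}, a ≠ b → a ≠ ng b → ∀ (c : Fin m ⊕ Fin m) (u : F) (v : Kq F A B), u ≠ 0 → v ≠ 0 →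
      C.S.h a b u * C.S.hs c v = C.S.hs c v * C.S.h a b u)
    (L : List ((Fin m ⊕ Fin m) × (Fin m ⊕ Fin m))) (hL : ∀ p ∈ L, p.1 ≠ p.2 ∧ p.1 ≠ ng p.2)
    (c : Fin m ⊕ Fin m) (v : Kq F A B) (hv : v ≠ 0) :
    C.spm2k1_prod L * C.S.hs c v = C.S.hs c v * C.spm2k1_prod L := by
  have hm1 : (-1 : F) ≠ 0 := neg_ne_zero.mpr one_ne_zero
  induction L with
  | nil => rw [spm2k1_prod_nil, mul_one, one_mul]
  | cons p L ih =>
    have hp := hL p (List.mem_cons_self ..)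
    have ih' := ih (fun q hq => hL q (List.mem_cons_of_mem _ hq))
    rw [spm2k1_prod_cons, mul_assoc, ih', ← mul_assoc, hH5 hp.1 hp.2 c (-1) v hm1 hv, mul_assoc]

/-- the matrix of the product -/
theorem spm2k1_omat
    (hT12 : ∀ {a b : Fin m ⊕ Fin m}, a ≠ b → a ≠ ng b → ∀ u : F, u ≠ 0 →
      omatM (C.π (C.S.h a b u)) = Matrix.fromBlocks (Matrix.diagonal (dhs a b u)) 0 0 1)
    (L : List ((Fin m ⊕ Fin m) × (Fin m ⊕ Fin m))) (hL : ∀ p ∈ L, p.1 ≠ p.2 ∧ p.1 ≠ ng p.2) :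
    omatM (C.π (C.spm2k1_prod L)) =
      Matrix.fromBlocks (Matrix.diagonal (fun c => (L.map fun p => dhs p.1 p.2 (-1 : F) c).prod)) 0 0 1 := by
  have hm1 : (-1 : F) ≠ 0 := neg_ne_zero.mpr one_ne_zero
  induction L with
  | nil =>
    rw [spm2k1_prod_nil, map_one, omatM_one, ← Matrix.fromBlocks_one]
    congr 1
  | cons p L ih =>
    have hp := hL p (List.mem_cons_self ..)
    have ih' := ih (fun q hq => hL q (List.mem_cons_of_mem _ hq))
    rw [spm2k1_prod_cons, map_mul, omatM_mul, hT12 hp.1 hp.2 (-1) hm1, ih', Matrix.fromBlocks_multiply]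
    simp only [Matrix.mul_zero, Matrix.zero_mul, add_zero, zero_add, Matrix.mul_one, Matrix.diagonal_mul_diagonal]
    congr 1

/-- the coefficient of the `k`-th block at the index `c` -/
theorem spm2k1_coef (n : ℕ) (hlm : m = n + n) (c : Fin m ⊕ Fin m) (k : Fin n) :
    dhs (Sum.inl (⟨2 * k.val, by have := k.isLt; omega⟩ : Fin m) : Fin m ⊕ Fin m)
        (Sum.inl (⟨2 * k.val + 1, by have := k.isLt; omega⟩ : Fin m)) (-1 : F) c =
      if k.val = (ab c).val / 2 then -1 else 1 := by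
  have h1 : ((-1 : F))⁻¹ = -1 := by rw [inv_neg, inv_one]
  unfold dhs
  rw [h1]
  rcases c with j | j
  · have e1 : ((Sum.inl j : Fin m ⊕ Fin m) = Sum.inl (⟨2 * k.val, by have := k.isLt; omega⟩ : Fin m)) ↔ j.val = 2 * k.val := by
      rw [Sum.inl.injEq, Fin.ext_iff]
    have e2 : ((Sum.inl j : Fin m ⊕ Fin m) = Sum.inl (⟨2 * k.val + 1, by have := k.isLt; omega⟩ : Fin m)) ↔ j.val = 2 * k.val + 1 := by
      rw [Sum.inl.injEq, Fin.ext_iff]
    have e3 : ∀ x : Fin m, ¬ ((Sum.inl j : Fin m ⊕ Fin m) = ng (Sum.inl x)) := fun x h => by cases h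
    simp only [e1, e2, e3, or_false]
    show (if j.val = 2 * k.val then (-1 : F) else if j.val = 2 * k.val + 1 then -1 else 1) = if k.val = j.val / 2 then -1 else 1
    by_cases h1 : j.val = 2 * k.val
    · rw [if_pos h1, if_pos (by omega)]
    · by_cases h2 : j.val = 2 * k.val + 1
      · rw [if_neg h1, if_pos h2, if_pos (by omega)]
      · rw [if_neg h1, if_neg h2, if_neg (by omega)]
  · have e1 : ((Sum.inr j : Fin m ⊕ Fin m) = ng (Sum.inl (⟨2 * k.val, by have := k.isLt; omega⟩ : Fin m))) ↔ j.val = 2 * k.val := by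
      show (Sum.inr j : Fin m ⊕ Fin m) = Sum.inr _ ↔ _
      rw [Sum.inr.injEq, Fin.ext_iff]
    have e2 : ((Sum.inr j : Fin m ⊕ Fin m) = ng (Sum.inl (⟨2 * k.val + 1, by have := k.isLt; omega⟩ : Fin m))) ↔ j.val = 2 * k.val + 1 := by
      show (Sum.inr j : Fin m ⊕ Fin m) = Sum.inr _ ↔ _
      rw [Sum.inr.injEq, Fin.ext_iff]
    have e3 : ∀ x : Fin m, ¬ ((Sum.inr j : Fin m ⊕ Fin m) = Sum.inl x) := fun x h => by cases h
    simp only [e1, e2, e3, false_or]
    show (if j.val = 2 * k.val + 1 then (-1 : F) else if j.val = 2 * k.val then -1 else 1) = if k.val = j.val / 2 then -1 else 1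
    by_cases h1 : j.val = 2 * k.val
    · rw [if_neg (by omega), if_pos h1, if_pos (by omega)]
    · by_cases h2 : j.val = 2 * k.val + 1
      · rw [if_pos h2, if_pos (by omega)]
      · rw [if_neg h2, if_neg h1, if_neg (by omega)]

/-- K1 core: `m` even: a preimage `g` of `diag(-1, 1)` with `g * g = 1` commuting with the short torus elements,
from the statements of T12 and STM H5 -/
theorem spm2k1_core
    (hT12 : ∀ {a b : Fin m ⊕ Fin m}, a ≠ b → a ≠ ng b → ∀ u : F, u ≠ 0 →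
      omatM (C.π (C.S.h a b u)) = Matrix.fromBlocks (Matrix.diagonal (dhs a b u)) 0 0 1)
    (hH5 : ∀ {a b : Fin m ⊕ Fin m}, a ≠ b → a ≠ ng b → ∀ (c : Fin m ⊕ Fin m) (u : F) (v : Kq F A B), u ≠ 0 → v ≠ 0 →
      C.S.h a b u * C.S.hs c v = C.S.hs c v * C.S.h a b u)
    (he : Even m) :
    ∃ g : G, omatM (C.π g) = Matrix.fromBlocks (-1) 0 0 1 ∧ g * g = 1 ∧
      ∀ (a : Fin m ⊕ Fin m) (u : Kq F A B), u ≠ 0 → g * C.S.hs a u = C.S.hs a u * g := by
  obtain ⟨n, hlm⟩ := he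
  let f : Fin n → (Fin m ⊕ Fin m) × (Fin m ⊕ Fin m) := fun k =>
    (Sum.inl (⟨2 * k.val, by have := k.isLt; omega⟩ : Fin m), Sum.inl (⟨2 * k.val + 1, by have := k.isLt; omega⟩ : Fin m))
  have hL : ∀ p ∈ (List.finRange n).map f, p.1 ≠ p.2 ∧ p.1 ≠ ng p.2 := by
    intro p hp
    rw [List.mem_map] at hp
    obtain ⟨k, -, rfl⟩ := hp
    constructor
    · intro h
      have h2 := congrArg Fin.val (Sum.inl.inj h)
      simp only at h2
      omega
    · intro h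
      cases h
  refine ⟨C.spm2k1_prod ((List.finRange n).map f), ?_, C.spm2k1_sq _ hL,
    fun a u hu => C.spm2k1_comm_hs hH5 _ hL a u hu⟩
  rw [C.spm2k1_omat hT12 _ hL]
  have hneg : (-1 : Matrix (Fin m ⊕ Fin m) (Fin m ⊕ Fin m) F) = Matrix.diagonal (fun _ => (-1 : F)) := by
    rw [← Matrix.diagonal_one, ← Matrix.diagonal_neg]
  rw [hneg]
  congr 2
  funext c
  rw [List.map_map]
  have h1 : (List.map ((fun p : (Fin m ⊕ Fin m) × (Fin m ⊕ Fin m) => dhs p.1 p.2 (-1 : F) c) ∘ f) (List.finRange n)) =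
      List.map (fun k : Fin n => if k.val = (ab c).val / 2 then (-1 : F) else 1) (List.finRange n) := by
    apply List.map_congr_left
    intro k _
    exact spm2k1_coef n hlm c k
  rw [h1, ← Fin.prod_univ_def]
  have hk0 : (ab c).val / 2 < n := by
    have := (ab c).isLt
    omega
  have h2 : ∀ k : Fin n, (if k.val = (ab c).val / 2 then (-1 : F) else 1) = if k = ⟨(ab c).val / 2, hk0⟩ then -1 else 1 := by
    intro k
    congr 1
    rw [Fin.ext_iff]
  simp only [h2]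
  rw [Finset.prod_ite_eq' Finset.univ (⟨(ab c).val / 2, hk0⟩ : Fin n) (fun _ => (-1 : F)), if_pos (Finset.mem_univ _)]

/-- K2 core: from the conclusion of K1, the statement of T13 at `a = inl i0` and of STM H1 `hs_mul` -/
theorem spm2k2_core
    (hK1 : ∃ g : G, omatM (C.π g) = Matrix.fromBlocks (-1) 0 0 1 ∧ g * g = 1 ∧
      ∀ (a : Fin m ⊕ Fin m) (u : Kq F A B), u ≠ 0 → g * C.S.hs a u = C.S.hs a u * g)
    (i : Kq F A B) (hi : i * i = -1)
    (hT13 : omatM (C.π (C.S.hs (Sum.inl C.i0) i)) = Matrix.fromBlocks 1 0 0 (-1))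
    (hH1 : ∀ (a : Fin m ⊕ Fin m) (u v : Kq F A B), u ≠ 0 → v ≠ 0 → C.S.hs a u * C.S.hs a v = C.S.hs a (u * v)) :
    ∃ g : G, omatM (C.π g) = -1 ∧ g * g = C.zel := by
  obtain ⟨g₁, hg₁, hsq, hcomm⟩ := hK1
  have hi0 : i ≠ 0 := by
    intro h
    rw [h, mul_zero] at hi
    exact neg_ne_zero.mpr one_ne_zero hi.symm
  refine ⟨g₁ * C.S.hs (Sum.inl C.i0) i, ?_, ?_⟩
  · rw [map_mul, omatM_mul, hg₁, hT13, Matrix.fromBlocks_multiply]
    simp only [Matrix.mul_zero, Matrix.zero_mul, add_zero, zero_add, Matrix.mul_one, Matrix.one_mul]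
    have e : (-1 : Matrix (Im (Fin m)) (Im (Fin m)) F) = -(Matrix.fromBlocks 1 0 0 1) := by
      rw [Matrix.fromBlocks_one]
    rw [e, Matrix.fromBlocks_neg]
    simp only [neg_zero]
  · have hc := hcomm (Sum.inl C.i0) i hi0
    calc g₁ * C.S.hs (Sum.inl C.i0) i * (g₁ * C.S.hs (Sum.inl C.i0) i)
        = g₁ * (C.S.hs (Sum.inl C.i0) i * g₁) * C.S.hs (Sum.inl C.i0) i := by group
      _ = g₁ * (g₁ * C.S.hs (Sum.inl C.i0) i) * C.S.hs (Sum.inl C.i0) i := by rw [hc]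
      _ = (g₁ * g₁) * (C.S.hs (Sum.inl C.i0) i * C.S.hs (Sum.inl C.i0) i) := by group
      _ = C.zel := by rw [hsq, one_mul, hH1 _ i i hi0 hi0, hi]; rfl

end CovM

end Cfsg.Agent.Lib.Lead.SPM2
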