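import Mathlib
import Cfsg.Prelude.Def_Classical
import Cfsg.Prelude.Def_KGroupFacts
import Cfsg.Agent.Lib.Lead.SPM2.Defs
import Cfsg.Agent.Lib.Helper28.SPM2T12
import Cfsg.Agent.Lib.Helper28.SPM2T13
import Cfsg.Agent.Lib.Helper20.STMH1
import Cfsg.Agent.Lib.helper2.STMH5
import Cfsg.Agent.Lib.Helper1.SPM2K1core

/-!
# Project SPM2 (designer lead), rows K1, K2 (helper1), VERBATIM: `CovM.exists_neg_hyp`, `CovM.exists_neg`.
Wrappers of `spm2k1_core`, `spm2k2_core` on T12 `omat_h`, T13 `omat_hs_unit` (helper28), STM H5 `h_hs_comm` (helper2), STM H1 `hs_mul` (helper20).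
-/

set_option autoImplicit false

namespace Cfsg.Agent.Lib.Lead.SPM2

open Cfsg.Agent.Lib.helper15.St2 Cfsg.Agent.Lib.helper3.STC Cfsg.Agent.Lib.Lead.STD Cfsg.Agent.Lib.helper17.STM
  Cfsg.Agent.Lib.Lead.SPN Cfsg.Agent.Lib.Helper16
open Cfsg.Agent.Lib.Helper12.OMN (omatM oglM omatM_mul omatM_one omatM_injective oglM_coe oglM_injective)

universe u v w

section K

namespace CovM

variable {m : ℕ} {F : Type u} [Field F] [Fintype F] {A B : F} [Fact (∀ r : F, r ^ 2 ≠ -B + A * r)] {G : Type v} [Group G] (C : CovM m F A B G)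

/-- K1 [M] -/
theorem exists_neg_hyp (he : Even m) :
    ∃ g : G, omatM (C.π g) = Matrix.fromBlocks (-1) 0 0 1 ∧ g * g = 1 ∧ ∀ (a : Fin m ⊕ Fin m) (u : Kq F A B), u ≠ 0 → g * C.S.hs a u = C.S.hs a u * g :=
  C.spm2k1_core (fun hab hab' u hu => C.omat_h hab hab' u hu) (fun hab hab' c u v hu hv => C.S.h_hs_comm hab hab' c u v hu hv) he

/-- K2 [S-M] -/
theorem exists_neg (he : Even m) (i : Kq F A B) (hi : i * i = -1) (hsi : star i = -i) : ∃ g : G, omatM (C.π g) = -1 ∧ g * g = C.zel :=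
  C.spm2k2_core (C.exists_neg_hyp he) i hi (C.omat_hs_unit (Sum.inl C.i0) i hi hsi) (fun a u v hu hv => C.S.hs_mul a u v hu hv)

end CovM

end K

end Cfsg.Agent.Lib.Lead.SPM2
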