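import Mathlib
import Cfsg.Prelude.Def_Classical
import Cfsg.Prelude.Def_KGroupFacts
import Cfsg.Agent.Lib.Lead.SPN.Defs
import Cfsg.Agent.Lib.Lead.SPN.Defs2
import Cfsg.Agent.Lib.Helper1.OMPD5
import Cfsg.Agent.Lib.Helper24.STDX1

/-!
# Project SPN (designer lead), row G1 (helper1), verbatim: the Steinberg system of `Ω⁺_{2l}(F)`
-/

set_option autoImplicit false

namespace Cfsg.Agent.Lib.Lead.SPN

open Cfsg.Agent.Lib.helper15.St2 Cfsg.Agent.Lib.helper3.STC Cfsg.Agent.Lib.Lead.STD Cfsg.Agent.Lib.Helper16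
  Cfsg.Agent.Lib.Helper1.OMP

universe u v w

section G

/-- G1 [S-M]  the system of `Ω`. -/
theorem exists_omegaSys {l : ℕ} {F : Type u} [Field F] [Fintype F] (hl : 4 ≤ l) :
    ∃ S : SysD F (Fin l) ↥(Cfsg.Omega F (Cfsg.quadFormPlus l F)),
      ∀ a b : Fin l ⊕ Fin l, a ≠ b → a ≠ ng b → ∀ t : F, omat (S.x a b t) = Td a b t := by
  obtain ⟨κ, hκ⟩ := Cfsg.Agent.Lib.helper17.OMP.xq_equiv_omega (F := F) l hl
  refine ⟨((Cfsg.Agent.Lib.Helper28.CTD.matSys F (Fin l)).restrict _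
    (fun a b t => (Cfsg.Agent.Lib.Helper28.CTD.matSys F (Fin l)).x_mem_XQ (Q := fun _ _ => True) trivial t)).map
      κ.toMonoidHom, ?_⟩
  intro a b hab hab' t
  show omat (κ _) = _
  unfold omat
  rw [hκ]
  exact Cfsg.Agent.Lib.Helper28.CTD.mx_coe a b hab hab' t

end G

end Cfsg.Agent.Lib.Lead.SPN
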