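import Mathlib
import Cfsg.Prelude.Def_Classical
import Cfsg.Prelude.Def_KGroupFacts
import Cfsg.Agent.Lib.Lead.SPN.Defs
import Cfsg.Agent.Lib.Lead.SPN.Defs2
import Cfsg.Agent.Lib.Helper1.SPNG1
import Cfsg.Agent.Lib.Helper24.STDX1

/-!
# Project SPN (designer lead), row G2 core (helper1): the spin group exists

`spng2_core`: `exists_cov` with the STATEMENTS of C16 `exists_cliffSys`, C19 `spin_XC`, C20 `neg_one_ne_one_Cl` as hypotheses
(G1 `exists_omegaSys` is on main).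
-/

set_option autoImplicit false

namespace Cfsg.Agent.Lib.Lead.SPN

open Cfsg.Agent.Lib.helper15.St2 Cfsg.Agent.Lib.helper3.STC Cfsg.Agent.Lib.Lead.STD Cfsg.Agent.Lib.Helper16
  Cfsg.Agent.Lib.Helper1.OMP

universe u v w

/-- a homomorphism matching the root elements matches the torus elements -/
theorem spng2_map_h {K : Type*} [Field K] {ι : Type*} {G : Type*} [Group G] {H : Type*} [Group H]
    (S : SysD K ι G) (T : SysD K ι H) (f : G →* H) (hf : ∀ a b t, f (S.x a b t) = T.x a b t) (a b : ι ⊕ ι) (t : K) :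
    f (S.h a b t) = T.h a b t := by
  unfold SysD.h SysD.w
  simp only [map_mul, hf]

/-- the restriction of a `SysD` to the subgroup generated by its root elements generates -/
theorem spng2_restrict_gen {K : Type*} [Field K] {ι : Type*} {G : Type*} [Group G] (P : SysD K ι G)
    (hL : ∀ a b t, P.x a b t ∈ P.XQ (fun _ _ => True)) :
    (P.restrict (P.XQ (fun _ _ => True)) hL).XQ (fun _ _ => True) = ⊤ := by
  rw [eq_top_iff]
  rintro ⟨x, hx⟩ -
  have hmap : P.XQ (fun _ _ => True) ≤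
      ((P.restrict (P.XQ (fun _ _ => True)) hL).XQ (fun _ _ => True)).map (P.XQ (fun _ _ => True)).subtype := by
    conv_lhs => unfold SysD.XQ
    rw [Subgroup.closure_le]
    rintro _ ⟨a, b, t, hab, hab', -, rfl⟩
    refine ⟨(P.restrict (P.XQ (fun _ _ => True)) hL).x a b t, ?_, rfl⟩
    exact Subgroup.subset_closure ⟨a, b, t, hab, hab', trivial, rfl⟩
  obtain ⟨x', hx', hxx⟩ := hmap hx
  have : x' = ⟨x, hx⟩ := Subtype.ext hxx
  rw [← this]
  exact hx'

theorem spng2_core {l : ℕ} {F : Type u} [Field F] [Fintype F] (hl : 4 ≤ l)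
    (hC16 : ∃ S : SysD F (Fin l) (Cl l F)ˣ, (∀ a b t, S.x a b t = XC a b t) ∧ (∀ a b t, S.w a b t = wOf XC a b t) ∧
      (∀ a b t, S.h a b t = hOf XC a b t))
    (hC19 : ∀ {a b : Fin l ⊕ Fin l}, a ≠ b → a ≠ ng b →
      hOf (XC (l := l) (F := F)) a b (-1) * hOf XC a (ng b) (-1) = -1)
    (hC20 : (2 : F) ≠ 0 → (-1 : (Cl l F)ˣ) ≠ 1) :
    ∃ (G : Type u) (_ : Group G) (C : Cov l F G), (2 : F) ≠ 0 → C.zel ≠ 1 := by
  obtain ⟨Sc, hScx, -, hSch⟩ := hC16
  obtain ⟨So, hSo⟩ := exists_omegaSys (F := F) hl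
  let P : SysD F (Fin l) ((Cl l F)ˣ × ↥(Cfsg.Omega F (Cfsg.quadFormPlus l F))) := Sc.prod So
  have hL : ∀ a b t, P.x a b t ∈ P.XQ (fun _ _ => True) :=
    fun a b t => P.x_mem_XQ (Q := fun _ _ => True) trivial t
  let L := P.XQ (fun _ _ => True)
  let S : SysD F (Fin l) ↥L := P.restrict L hL
  let C : Cov l F ↥L :=
    { hl := hl
      S := S
      gen := spng2_restrict_gen P hL
      π := (MonoidHom.snd _ _).comp L.subtype
      hπ := by
        intro a b hab hab' t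
        exact hSo a b hab hab' t }
  refine ⟨↥L, inferInstance, C, ?_⟩
  intro h2 hz
  have hf : ∀ a b t, ((MonoidHom.fst (Cl l F)ˣ ↥(Cfsg.Omega F (Cfsg.quadFormPlus l F))).comp L.subtype) (S.x a b t) =
      Sc.x a b t := fun a b t => rfl
  have h1 := congrArg ((MonoidHom.fst (Cl l F)ˣ ↥(Cfsg.Omega F (Cfsg.quadFormPlus l F))).comp L.subtype) hz
  rw [map_one] at h1
  have h3 : ((MonoidHom.fst (Cl l F)ˣ ↥(Cfsg.Omega F (Cfsg.quadFormPlus l F))).comp L.subtype) C.zel =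
      Sc.h (Sum.inl C.i0) (Sum.inl C.i1) (-1) * Sc.h (Sum.inl C.i0) (Sum.inr C.i1) (-1) := by
    unfold Cov.zel
    rw [map_mul, spng2_map_h S Sc _ hf, spng2_map_h S Sc _ hf]
  rw [h3, hSch, hSch] at h1
  have h01 : (Sum.inl C.i0 : Fin l ⊕ Fin l) ≠ Sum.inl C.i1 := by
    intro h
    have := congrArg Fin.val (Sum.inl.inj h)
    simp [Cov.i0, Cov.i1] at this
  have h4 := hC19 (a := Sum.inl C.i0) (b := Sum.inl C.i1) h01 (by simp [ng])
  have e : ng (Sum.inl C.i1 : Fin l ⊕ Fin l) = Sum.inr C.i1 := rfl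
  rw [e] at h4
  rw [h4] at h1
  exact hC20 h2 h1

end Cfsg.Agent.Lib.Lead.SPN
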