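import Mathlib
import Cfsg.Prelude.Def_Classical
import Cfsg.Prelude.Def_KGroupFacts
import Cfsg.Agent.Lib.Lead.SPN.Defs
import Cfsg.Agent.Lib.Lead.SPN.Defs2
import Cfsg.Agent.Lib.Helper1.SPNG2core
import Cfsg.Agent.Lib.Helper11.SPNC16
import Cfsg.Agent.Lib.Helper11.SPNC19
import Cfsg.Agent.Lib.Helper9.SPNC1

/-!
# Project SPN (designer lead), row G2 (helper1), verbatim: the spin group exists
-/

set_option autoImplicit false

namespace Cfsg.Agent.Lib.Lead.SPN

open Cfsg.Agent.Lib.helper15.St2 Cfsg.Agent.Lib.helper3.STC Cfsg.Agent.Lib.Lead.STD Cfsg.Agent.Lib.Helper16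
  Cfsg.Agent.Lib.Helper1.OMP

universe u v w

section G

/-- G2 [M]  **the spin group.** -/
theorem exists_cov {l : ℕ} {F : Type u} [Field F] [Fintype F] (hl : 4 ≤ l) :
    ∃ (G : Type u) (_ : Group G) (C : Cov l F G), (2 : F) ≠ 0 → C.zel ≠ 1 :=
  spng2_core hl (exists_cliffSys l F) (fun hab hab' => spin_XC hab hab') (fun h2 => neg_one_ne_one_Cl l h2)

end G

end Cfsg.Agent.Lib.Lead.SPN
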