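import Mathlib
import Cfsg.Prelude.Def_Classical
import Cfsg.Prelude.Def_KGroupFacts
import Cfsg.Agent.Lib.Lead.SPN.Defs
import Cfsg.Agent.Lib.Lead.SPN.Defs2
import Cfsg.Agent.Lib.Lead.POM
import Cfsg.Agent.Lib.Helper16.SPNC3

/-!
# Project SPN (designer lead), rows K4 K5 cores (helper1): the kernel of `sig`

`spnk4_core`: `Cov.ker_sig_of_neg` with the STATEMENT of T5 `ker_pi` as a hypothesis (T11 is inlined as `spnk4_mem_ker_sig`).
`spnk5_core`: `Cov.ker_sig_char_two` with the STATEMENTS of T5 `ker_pi` and T9 `zel_char_two` as hypotheses.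
-/

set_option autoImplicit false

namespace Cfsg.Agent.Lib.Lead.SPN

open Cfsg.Agent.Lib.helper15.St2 Cfsg.Agent.Lib.helper3.STC Cfsg.Agent.Lib.Lead.STD Cfsg.Agent.Lib.Helper16
  Cfsg.Agent.Lib.Helper1.OMP

universe u v w

namespace Cov

variable {l : ℕ} {F : Type u} [Field F] [Fintype F] {G : Type v} [Group G] (C : Cov l F G)

omit [Fintype F] in
/-- own-name copy of T11 -/
theorem spnk4_mem_ker_sig (g : G) : g ∈ C.sig.ker ↔ C.π g ∈ Subgroup.center ↥(Cfsg.Omega F (Cfsg.quadFormPlus l F)) := by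
  rw [MonoidHom.mem_ker]
  unfold Cov.sig
  rw [MonoidHom.comp_apply]
  exact QuotientGroup.eq_one_iff _

omit [Fintype F] in
theorem spnk4_core (hker : ∀ g : G, C.π g = 1 → g = 1 ∨ g = C.zel) (g₀ : G) (h₀ : omat (C.π g₀) = -1) :
    g₀ ∈ C.sig.ker ∧ ∀ g ∈ C.sig.ker, g = 1 ∨ g = C.zel ∨ g = g₀ ∨ g = g₀ * C.zel := by
  have hl3 : 3 ≤ l := by have := C.hl; omega
  constructor
  · rw [spnk4_mem_ker_sig]
    exact Cfsg.Agent.Lib.Helper16.SPN.spnc3_central_of_neg (C.π g₀) h₀
  · intro g hg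
    rw [spnk4_mem_ker_sig] at hg
    rcases Cfsg.Agent.Lib.Lead.POM.pom_center_cases hl3 (C.π g) hg with h | h
    · have h1 : C.π g = 1 := omat_injective (by rw [omat_one]; exact h)
      rcases hker g h1 with h' | h'
      · left; exact h'
      · right; left; exact h'
    · have h1 : C.π g = C.π g₀ := omat_injective (by rw [h₀]; exact h)
      have h2 : C.π (g₀⁻¹ * g) = 1 := by rw [map_mul, map_inv, h1, inv_mul_cancel]
      rcases hker _ h2 with h' | h'
      · right; right; left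
        exact (inv_mul_eq_one.mp h').symm
      · right; right; right
        rw [← h']
        group

omit [Fintype F] in
theorem spnk5_core (hker : ∀ g : G, C.π g = 1 → g = 1 ∨ g = C.zel) (hz2 : (2 : F) = 0 → C.zel = 1)
    (h2 : (2 : F) = 0) (g : G) (hg : g ∈ C.sig.ker) : g = 1 := by
  have hl3 : 3 ≤ l := by have := C.hl; omega
  have : CharP F 2 := CharTwo.of_one_ne_zero_of_two_eq_zero one_ne_zero h2
  rw [spnk4_mem_ker_sig, Cfsg.Agent.Lib.Helper16.SPN.spnc3_center_eq_bot_char_two hl3, Subgroup.mem_bot] at hg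
  rcases hker g hg with h | h
  · exact h
  · rw [h, hz2 h2]

end Cov

end Cfsg.Agent.Lib.Lead.SPN
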