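import Mathlib
import Cfsg.Prelude.Def_Classical
import Cfsg.Prelude.Def_KGroupFacts
import Cfsg.Agent.Lib.Lead.SPN.Defs
import Cfsg.Agent.Lib.Lead.SPN.Defs2

/-!
# Project SPN (designer lead), row T1 core (helper1): the spin element does not depend on the root

`spnt1_core`: `Cov.zel_eq` with the STATEMENTS of T1A `zz_first` and T1B `zz_swap` as hypotheses.
-/

set_option autoImplicit false

namespace Cfsg.Agent.Lib.Lead.SPN

open Cfsg.Agent.Lib.helper15.St2 Cfsg.Agent.Lib.helper3.STC Cfsg.Agent.Lib.Lead.STD Cfsg.Agent.Lib.Helper16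
  Cfsg.Agent.Lib.Helper1.OMP

universe u v w

namespace Cov

variable {l : ℕ} {F : Type u} [Field F] {G : Type v} [Group G] (C : Cov l F G)

theorem spnt1_core
    (hfirst : ∀ {a b c : Fin l ⊕ Fin l}, a ≠ b → a ≠ ng b → a ≠ c → a ≠ ng c → c ≠ b → c ≠ ng b →
      C.S.h a b (-1) * C.S.h a (ng b) (-1) = C.S.h c b (-1) * C.S.h c (ng b) (-1))
    (hswap : ∀ {a b : Fin l ⊕ Fin l}, a ≠ b → a ≠ ng b →
      C.S.h a b (-1) * C.S.h a (ng b) (-1) = C.S.h b a (-1) * C.S.h b (ng a) (-1) ∧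
      C.S.h a b (-1) * C.S.h a (ng b) (-1) = C.S.h (ng a) b (-1) * C.S.h (ng a) (ng b) (-1) ∧
      C.S.h a b (-1) * C.S.h a (ng b) (-1) = C.S.h a (ng b) (-1) * C.S.h a b (-1))
    {a b : Fin l ⊕ Fin l} (hab : a ≠ b) (hab' : a ≠ ng b) : C.S.h a b (-1) * C.S.h a (ng b) (-1) = C.zel := by
  -- the spin element of a pair
  set zz : Fin l ⊕ Fin l → Fin l ⊕ Fin l → G := fun a b => C.S.h a b (-1) * C.S.h a (ng b) (-1) with hzz
  have ngng : ∀ x : Fin l ⊕ Fin l, ng (ng x) = x := fun x => by cases x <;> rfl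
  -- on the unsigned indices
  have hZ1 : ∀ i j : Fin l, i ≠ j → zz (Sum.inl i) (Sum.inl j) = zz (Sum.inl j) (Sum.inl i) := by
    intro i j hij
    exact (hswap (a := Sum.inl i) (b := Sum.inl j) (by simpa using hij) (by simp [ng])).1
  have hZ2 : ∀ i j k : Fin l, i ≠ j → k ≠ i → k ≠ j → zz (Sum.inl i) (Sum.inl j) = zz (Sum.inl k) (Sum.inl j) := by
    intro i j k hij hki hkj
    exact hfirst (a := Sum.inl i) (b := Sum.inl j) (c := Sum.inl k) (by simpa using hij) (by simp [ng])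
      (by simpa using hki.symm) (by simp [ng]) (by simpa using hkj) (by simp [ng])
  have hZ : ∀ i j : Fin l, i ≠ j → zz (Sum.inl i) (Sum.inl j) = zz (Sum.inl C.i0) (Sum.inl C.i1) := by
    have h01 : C.i0 ≠ C.i1 := by
      intro h
      have := congrArg Fin.val h
      simp [Cov.i0, Cov.i1] at this
    -- second step
    have step2 : ∀ j : Fin l, j ≠ C.i0 → zz (Sum.inl C.i0) (Sum.inl j) = zz (Sum.inl C.i0) (Sum.inl C.i1) := by
      intro j hj
      by_cases hj1 : j = C.i1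
      · rw [hj1]
      · rw [hZ1 C.i0 j hj.symm, hZ2 j C.i0 C.i1 hj (Ne.symm hj1) h01.symm, hZ1 C.i1 C.i0 h01.symm]
    intro i j hij
    by_cases hi : i = C.i0
    · subst hi
      exact step2 j hij.symm
    · by_cases hj : j = C.i0
      · subst hj
        rw [hZ1 i C.i0 hij]
        exact step2 i hi
      · rw [hZ2 i j C.i0 hij (Ne.symm hi) (Ne.symm hj)]
        exact step2 j hj
  -- the signs
  have hsign : ∀ (a b : Fin l ⊕ Fin l), a ≠ b → a ≠ ng b →
      ∃ i j : Fin l, i ≠ j ∧ zz a b = zz (Sum.inl i) (Sum.inl j) := by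
    intro a b hab hab'
    have h2 : ∀ (a b : Fin l ⊕ Fin l), a ≠ b → a ≠ ng b → zz a b = zz (ng a) b := fun a b h h' => (hswap h h').2.1
    have h3 : ∀ (a b : Fin l ⊕ Fin l), a ≠ b → a ≠ ng b → zz a b = zz a (ng b) := by
      intro a b h h'
      have := (hswap h h').2.2
      show C.S.h a b (-1) * C.S.h a (ng b) (-1) = C.S.h a (ng b) (-1) * C.S.h a (ng (ng b)) (-1)
      rw [ngng]
      exact this
    rcases a with i | i <;> rcases b with j | j
    · exact ⟨i, j, by simpa using hab, rfl⟩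
    · refine ⟨i, j, by simpa [ng] using hab', ?_⟩
      exact h3 _ _ hab hab'
    · refine ⟨i, j, by simpa [ng] using hab', ?_⟩
      exact h2 _ _ hab hab'
    · refine ⟨i, j, by simpa using hab, ?_⟩
      rw [h2 _ _ hab hab']
      have e : ng (Sum.inr i : Fin l ⊕ Fin l) = Sum.inl i := rfl
      rw [e]
      exact h3 (Sum.inl i) (Sum.inr j) (by simp) (by simpa [ng] using hab)
  obtain ⟨i, j, hij, e⟩ := hsign a b hab hab'
  show zz a b = C.zel
  rw [e, hZ i j hij]
  rfl

end Cov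

end Cfsg.Agent.Lib.Lead.SPN
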