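import Mathlib
import Cfsg.Prelude.Def_Classical
import Cfsg.Prelude.Def_KGroupFacts
import Cfsg.Agent.Lib.Lead.SPN.Defs
import Cfsg.Agent.Lib.Lead.SPN.Defs2
import Cfsg.Agent.Lib.Helper1.SPNT1core
import Cfsg.Agent.Lib.Helper5.SPNT1A
import Cfsg.Agent.Lib.helper8.SPNT1B

/-!
# Project SPN (designer lead), row T1 (helper1), verbatim: the spin element does not depend on the root
-/

set_option autoImplicit false

namespace Cfsg.Agent.Lib.Lead.SPN

open Cfsg.Agent.Lib.helper15.St2 Cfsg.Agent.Lib.helper3.STC Cfsg.Agent.Lib.Lead.STD Cfsg.Agent.Lib.Helper16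
  Cfsg.Agent.Lib.Helper1.OMP

universe u v w

namespace Cov

variable {l : ℕ} {F : Type u} [Field F] [Fintype F] {G : Type v} [Group G] (C : Cov l F G)

/-- T1 [M]  the spin element does not depend on the root. -/
theorem zel_eq {a b : Fin l ⊕ Fin l} (hab : a ≠ b) (hab' : a ≠ ng b) : C.S.h a b (-1) * C.S.h a (ng b) (-1) = C.zel :=
  C.spnt1_core (fun h1 h2 h3 h4 h5 h6 => C.zz_first h1 h2 h3 h4 h5 h6) (fun h1 h2 => C.zz_swap h1 h2) hab hab'

end Cov

end Cfsg.Agent.Lib.Lead.SPN
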