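import Mathlib
import Cfsg.Prelude.Def_Classical
import Cfsg.Prelude.Def_KGroupFacts
import Cfsg.Agent.Lib.Lead.SPN.Defs
import Cfsg.Agent.Lib.Lead.SPN.Defs2

/-!
# Project SPN (designer lead), rows T5 T6 core (helper1): the kernel of `π` is `{1, zel}` and `π` is onto

`spnt5_core`: both statements, with the STATEMENTS of T1 `zel_eq`, T2 `zel_central`, T3 `zel_sq`, T4 `pi_zel` as hypotheses
(T0 `XQ_map` is reproved here as `spnt5_XQ_map`).
-/

set_option autoImplicit false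

namespace Cfsg.Agent.Lib.Lead.SPN

open Cfsg.Agent.Lib.helper15.St2 Cfsg.Agent.Lib.helper3.STC Cfsg.Agent.Lib.Lead.STD Cfsg.Agent.Lib.Helper16
  Cfsg.Agent.Lib.Helper1.OMP

universe u v w

/-- own-name copy of T0 -/
theorem spnt5_XQ_map {K : Type*} [Field K] {ι : Type*} {G : Type*} [Group G] {H : Type*} [Group H]
    (S : SysD K ι G) (f : G →* H) (Q : ι ⊕ ι → ι ⊕ ι → Prop) : (S.map f).XQ Q = (S.XQ Q).map f := by
  unfold SysD.XQ
  rw [MonoidHom.map_closure]
  congr 1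
  ext z
  constructor
  · rintro ⟨a, b, t, hab, hab', hQ, rfl⟩
    exact ⟨S.x a b t, ⟨a, b, t, hab, hab', hQ, rfl⟩, rfl⟩
  · rintro ⟨g, ⟨a, b, t, hab, hab', hQ, rfl⟩, rfl⟩
    exact ⟨a, b, t, hab, hab', hQ, rfl⟩

namespace Cov

variable {l : ℕ} {F : Type u} [Field F] [Fintype F] {G : Type v} [Group G] (C : Cov l F G)

theorem spnt5_core
    (hzeq : ∀ {a b : Fin l ⊕ Fin l}, a ≠ b → a ≠ ng b → C.S.h a b (-1) * C.S.h a (ng b) (-1) = C.zel)
    (hcent : ∀ g : G, g * C.zel = C.zel * g) (hsq : C.zel * C.zel = 1) (hpi : C.π C.zel = 1) :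
    (∀ g : G, C.π g = 1 → g = 1 ∨ g = C.zel) ∧ Function.Surjective C.π := by
  have hN : (Subgroup.zpowers C.zel).Normal := by
    constructor
    intro n hn g
    obtain ⟨k, rfl⟩ := hn
    have hc : ∀ k : ℤ, g * C.zel ^ k = C.zel ^ k * g := by
      intro k
      have : Commute g C.zel := hcent g
      exact (this.zpow_right k)
    rw [hc k, mul_assoc, mul_inv_cancel, mul_one]
    exact ⟨k, rfl⟩
  have hle : Subgroup.zpowers C.zel ≤ C.π.ker := by
    rw [Subgroup.zpowers_le]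
    exact hpi
  let S' : SysD F (Fin l) (G ⧸ Subgroup.zpowers C.zel) := C.S.map (QuotientGroup.mk' (Subgroup.zpowers C.zel))
  let π' : G ⧸ Subgroup.zpowers C.zel →* ↥(Cfsg.Omega F (Cfsg.quadFormPlus l F)) :=
    QuotientGroup.lift (Subgroup.zpowers C.zel) C.π hle
  have hSpin : S'.Spin := by
    intro a b hab hab'
    show (C.S.map _).h a b (-1) * (C.S.map _).h a (ng b) (-1) = 1
    rw [SysD.map_h, SysD.map_h, ← map_mul, hzeq hab hab']
    exact (QuotientGroup.eq_one_iff _).2 (Subgroup.mem_zpowers _)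
  have hgen : S'.XQ (fun _ _ => True) = ⊤ := by
    show (C.S.map _).XQ _ = ⊤
    rw [spnt5_XQ_map, C.gen, ← MonoidHom.range_eq_map, MonoidHom.range_eq_top]
    exact QuotientGroup.mk'_surjective _
  have hπ' : ∀ a b : Fin l ⊕ Fin l, a ≠ b → a ≠ ng b → ∀ t : F, omat (π' (S'.x a b t)) = Td a b t := by
    intro a b hab hab' t
    exact C.hπ a b hab hab' t
  have hbij := omp_bijective_of_sysD C.hl S' hSpin hgen π' hπ'
  constructor
  · intro g hg
    have h1 : π' (QuotientGroup.mk' _ g) = π' 1 := by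
      rw [map_one]
      exact hg
    have h2 := hbij.1 h1
    have h3 : g ∈ Subgroup.zpowers C.zel := (QuotientGroup.eq_one_iff g).1 h2
    obtain ⟨k, rfl⟩ := h3
    rcases Int.even_or_odd' k with ⟨m, rfl | rfl⟩
    · left
      show C.zel ^ (2 * m) = 1
      rw [zpow_mul, zpow_two, hsq, one_zpow]
    · right
      show C.zel ^ (2 * m + 1) = C.zel
      rw [zpow_add, zpow_mul, zpow_two, hsq, one_zpow, one_mul, zpow_one]
  · intro ω
    obtain ⟨x, hx⟩ := hbij.2 ω
    obtain ⟨g, rfl⟩ := QuotientGroup.mk'_surjective _ x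
    exact ⟨g, hx⟩

end Cov

end Cfsg.Agent.Lib.Lead.SPN
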