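import Mathlib
import Cfsg.Prelude.Def_Classical
import Cfsg.Prelude.Def_KGroupFacts
import Cfsg.Agent.Lib.Lead.SPN.Defs
import Cfsg.Agent.Lib.Lead.SPN.Defs2
import Cfsg.Agent.Lib.Helper1.SPNT5core
import Cfsg.Agent.Lib.Helper1.SPNT1
import Cfsg.Agent.Lib.helper23.SPNT2
import Cfsg.Agent.Lib.helper23.SPNK1core
import Cfsg.Agent.Lib.Helper18.SPNT12

/-!
# Project SPN (designer lead), rows T5 T6 (helper1), verbatim: `ker π = {1, zel}`, `π` is onto
-/

set_option autoImplicit false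

namespace Cfsg.Agent.Lib.Lead.SPN

open Cfsg.Agent.Lib.helper15.St2 Cfsg.Agent.Lib.helper3.STC Cfsg.Agent.Lib.Lead.STD Cfsg.Agent.Lib.Helper16
  Cfsg.Agent.Lib.Helper1.OMP

universe u v w

namespace Cov

variable {l : ℕ} {F : Type u} [Field F] [Fintype F] {G : Type v} [Group G] (C : Cov l F G)

/-- both statements at once -/
theorem spnt5_both : (∀ g : G, C.π g = 1 → g = 1 ∨ g = C.zel) ∧ Function.Surjective C.π :=
  C.spnt5_core (fun hab hab' => C.zel_eq hab hab') C.zel_central C.zel_sq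
    (C.spnt4_core (fun hab hab' u hu => C.omat_h hab hab' u hu))

/-- T5 [M]  **the kernel of `π`.** -/
theorem ker_pi (g : G) (hg : C.π g = 1) : g = 1 ∨ g = C.zel :=
  C.spnt5_both.1 g hg

/-- T6 [S-M]  as T5 (`π̄` is onto). -/
theorem pi_surj : Function.Surjective C.π :=
  C.spnt5_both.2

end Cov

end Cfsg.Agent.Lib.Lead.SPN
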