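import Mathlib
import Cfsg.Prelude.Def_Classical
import Cfsg.Prelude.Def_KGroupFacts
import Cfsg.Agent.Lib.Lead.SPN.Defs
import Cfsg.Agent.Lib.Lead.SPN.Defs2
import Cfsg.Agent.Lib.Helper1.SPNK4core
import Cfsg.Agent.Lib.Helper1.SPNT5

/-!
# Project SPN (designer lead), rows K4 K5 (helper1), verbatim: the kernel of `sig`
-/

set_option autoImplicit false

namespace Cfsg.Agent.Lib.Lead.SPN

open Cfsg.Agent.Lib.helper15.St2 Cfsg.Agent.Lib.helper3.STC Cfsg.Agent.Lib.Lead.STD Cfsg.Agent.Lib.Helper16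
  Cfsg.Agent.Lib.Helper1.OMP

universe u v w

namespace Cov

variable {l : ℕ} {F : Type u} [Field F] [Fintype F] {G : Type v} [Group G] (C : Cov l F G)

/-- K4 [S-M]  a preimage `g₀` of `-1`: `ker sig = {1, zel, g₀, g₀ zel}`. -/
theorem ker_sig_of_neg (g₀ : G) (h₀ : omat (C.π g₀) = -1) :
    g₀ ∈ C.sig.ker ∧ ∀ g ∈ C.sig.ker, g = 1 ∨ g = C.zel ∨ g = g₀ ∨ g = g₀ * C.zel :=
  C.spnk4_core C.ker_pi g₀ h₀

/-- K5 [S-M]  characteristic two: `ker sig = ⊥`. -/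
theorem ker_sig_char_two (h2 : (2 : F) = 0) (g : G) (hg : g ∈ C.sig.ker) : g = 1 :=
  C.spnk5_core C.ker_pi C.zel_char_two h2 g hg

end Cov

end Cfsg.Agent.Lib.Lead.SPN
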