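import Mathlib
import Cfsg.Prelude.Def_Classical
import Cfsg.Prelude.Def_KGroupFacts
import Cfsg.Agent.Lib.Lead.SPN.Defs
import Cfsg.Agent.Lib.Lead.SPN.Defs2

/-!
# Project SPN (designer lead), row T10 core (helper1): `sig` is a stem extension

`spnt10_core`: `Cov.stem` with the STATEMENTS of T2 `zel_central`, T5 `ker_pi`, T6 `pi_surj`, T7 `perfect` as hypotheses.
-/

set_option autoImplicit false

namespace Cfsg.Agent.Lib.Lead.SPN

open Cfsg.Agent.Lib.helper15.St2 Cfsg.Agent.Lib.helper3.STC Cfsg.Agent.Lib.Lead.STD Cfsg.Agent.Lib.Helper16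
  Cfsg.Agent.Lib.Helper1.OMP

universe u v w

open scoped commutatorElement

/-- an element whose commutators with everything are central centralises all commutators -/
theorem spnt10_comm_of_central_comm {H : Type*} [Group H] (g : H)
    (h : ∀ y : H, ∀ x : H, x * (g * y * g⁻¹ * y⁻¹) = (g * y * g⁻¹ * y⁻¹) * x) (a b : H) :
    g * ⁅a, b⁆ = ⁅a, b⁆ * g := by
  -- `g a g⁻¹ = z_a a` with `z_a` central
  obtain ⟨za, hza⟩ : ∃ za : H, za = g * a * g⁻¹ * a⁻¹ := ⟨_, rfl⟩
  obtain ⟨zb, hzb⟩ : ∃ zb : H, zb = g * b * g⁻¹ * b⁻¹ := ⟨_, rfl⟩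
  have ha : g * a * g⁻¹ = za * a := by rw [hza]; group
  have hb : g * b * g⁻¹ = zb * b := by rw [hzb]; group
  have hca : ∀ x : H, x * za = za * x := by rw [hza]; exact h a
  have hcb : ∀ x : H, x * zb = zb * x := by rw [hzb]; exact h b
  have hca' : ∀ x : H, x * za⁻¹ = za⁻¹ * x := by
    intro x
    have := hca x⁻¹
    have h2 := congrArg (fun z => z⁻¹) this
    simp only [_root_.mul_inv_rev, inv_inv] at h2
    exact h2.symm
  have hcb' : ∀ x : H, x * zb⁻¹ = zb⁻¹ * x := by
    intro x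
    have := hcb x⁻¹
    have h2 := congrArg (fun z => z⁻¹) this
    simp only [_root_.mul_inv_rev, inv_inv] at h2
    exact h2.symm
  have key : g * ⁅a, b⁆ * g⁻¹ = ⁅a, b⁆ := by
    calc g * ⁅a, b⁆ * g⁻¹ = (g * a * g⁻¹) * (g * b * g⁻¹) * (g * a * g⁻¹)⁻¹ * (g * b * g⁻¹)⁻¹ := by
          rw [commutatorElement_def]; group
      _ = (za * a) * (zb * b) * (za * a)⁻¹ * (zb * b)⁻¹ := by rw [ha, hb]
      _ = ⁅a, b⁆ := by
          rw [commutatorElement_def, _root_.mul_inv_rev, _root_.mul_inv_rev]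
          -- move the central elements out
          calc za * a * (zb * b) * (a⁻¹ * za⁻¹) * (b⁻¹ * zb⁻¹)
              = za * (a * zb) * b * a⁻¹ * za⁻¹ * (b⁻¹ * zb⁻¹) := by group
            _ = za * (zb * a) * b * a⁻¹ * za⁻¹ * (b⁻¹ * zb⁻¹) := by rw [hcb a]
            _ = za * zb * (a * b * a⁻¹ * za⁻¹) * (b⁻¹ * zb⁻¹) := by group
            _ = za * zb * (za⁻¹ * (a * b * a⁻¹)) * (b⁻¹ * zb⁻¹) := by rw [hca' (a * b * a⁻¹)]
            _ = za * (zb * za⁻¹) * (a * b * a⁻¹ * b⁻¹ * zb⁻¹) := by group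
            _ = za * (za⁻¹ * zb) * (zb⁻¹ * (a * b * a⁻¹ * b⁻¹)) := by rw [hca' zb, hcb' (a * b * a⁻¹ * b⁻¹)]
            _ = a * b * a⁻¹ * b⁻¹ := by group
  calc g * ⁅a, b⁆ = g * ⁅a, b⁆ * g⁻¹ * g := by group
    _ = ⁅a, b⁆ * g := by rw [key]

namespace Cov

variable {l : ℕ} {F : Type u} [Field F] [Fintype F] {G : Type v} [Group G] (C : Cov l F G)

omit [Fintype F] in
theorem spnt10_core
    (hcent : ∀ g : G, g * C.zel = C.zel * g)
    (hker : ∀ g : G, C.π g = 1 → g = 1 ∨ g = C.zel)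
    (hsurj : Function.Surjective C.π)
    (hperf : commutator G = ⊤) : Cfsg.IsStemExtension C.sig := by
  refine ⟨?_, ?_, ?_⟩
  · unfold Cov.sig
    exact (QuotientGroup.mk'_surjective _).comp hsurj
  · intro g hg
    have hgc : C.π g ∈ Subgroup.center ↥(Cfsg.Omega F (Cfsg.quadFormPlus l F)) := by
      have : C.sig g = 1 := hg
      unfold Cov.sig at this
      rw [MonoidHom.comp_apply] at this
      exact (QuotientGroup.eq_one_iff _).1 this
    -- the commutators of `g` are central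
    have hcc : ∀ y : G, ∀ x : G, x * (g * y * g⁻¹ * y⁻¹) = (g * y * g⁻¹ * y⁻¹) * x := by
      intro y x
      have h1 : C.π (g * y * g⁻¹ * y⁻¹) = 1 := by
        rw [map_mul, map_mul, map_mul, map_inv, map_inv]
        have := Subgroup.mem_center_iff.1 hgc (C.π y)
        rw [← this]
        group
      rcases hker _ h1 with h | h
      · rw [h, mul_one, one_mul]
      · rw [h]
        exact hcent x
    rw [Subgroup.mem_center_iff]
    intro x
    have hx : x ∈ commutator G := by rw [hperf]; exact Subgroup.mem_top x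
    rw [commutator_def, Subgroup.commutator_def] at hx
    have hle : Subgroup.closure {z | ∃ a ∈ (⊤ : Subgroup G), ∃ b ∈ (⊤ : Subgroup G), ⁅a, b⁆ = z} ≤
        Subgroup.centralizer {g} := by
      rw [Subgroup.closure_le]
      rintro z ⟨a, -, b, -, rfl⟩
      rw [SetLike.mem_coe, Subgroup.mem_centralizer_iff]
      intro h hh
      rw [Set.mem_singleton_iff] at hh
      subst hh
      exact spnt10_comm_of_central_comm h hcc a b
    have := hle hx
    rw [Subgroup.mem_centralizer_iff] at this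
    exact (this g rfl).symm
  · rw [hperf]
    exact le_top

end Cov

end Cfsg.Agent.Lib.Lead.SPN
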