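import Mathlib
import Cfsg.Prelude.Def_Classical
import Cfsg.Prelude.Def_KGroupFacts
import Cfsg.Agent.Lib.Lead.SPN.Defs
import Cfsg.Agent.Lib.Lead.SPN.Defs2
import Cfsg.Agent.Lib.Helper1.SPNT10core
import Cfsg.Agent.Lib.Helper1.SPNT5
import Cfsg.Agent.Lib.helper8.SPNT7

/-!
# Project SPN (designer lead), row T10 (helper1), verbatim: `sig` is a stem extension
-/

set_option autoImplicit false

namespace Cfsg.Agent.Lib.Lead.SPN

open Cfsg.Agent.Lib.helper15.St2 Cfsg.Agent.Lib.helper3.STC Cfsg.Agent.Lib.Lead.STD Cfsg.Agent.Lib.Helper16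
  Cfsg.Agent.Lib.Helper1.OMP

universe u v w

namespace Cov

variable {l : ℕ} {F : Type u} [Field F] [Fintype F] {G : Type v} [Group G] (C : Cov l F G)

/-- T10 [M]  **`sig` is a stem extension.** -/
theorem stem : Cfsg.IsStemExtension C.sig :=
  C.spnt10_core C.zel_central C.ker_pi C.pi_surj (Cov.perfect C)

end Cov

end Cfsg.Agent.Lib.Lead.SPN
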