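import Mathlib
import Cfsg.Prelude.Def_Classical
import Cfsg.Prelude.Def_KGroupFacts
import Cfsg.Agent.Lib.Lead.SPN.Defs
import Cfsg.Agent.Lib.Lead.SPN.Defs2

/-!
# Project SPN (designer lead), row T8 core (helper1): `G` is finite

`spnt8_core`: `Cov.finite` with the STATEMENT of T5 `ker_pi` as a hypothesis.
-/

set_option autoImplicit false

namespace Cfsg.Agent.Lib.Lead.SPN

open Cfsg.Agent.Lib.helper15.St2 Cfsg.Agent.Lib.helper3.STC Cfsg.Agent.Lib.Lead.STD Cfsg.Agent.Lib.Helper16
  Cfsg.Agent.Lib.Helper1.OMP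

universe u v w

namespace Cov

variable {l : ℕ} {F : Type u} [Field F] [Fintype F] {G : Type v} [Group G] (C : Cov l F G)

theorem spnt8_core (hker : ∀ g : G, C.π g = 1 → g = 1 ∨ g = C.zel) : Finite G := by
  classical
  have : Finite ↥(Cfsg.Omega F (Cfsg.quadFormPlus l F)) := inferInstance
  have : Finite ↥(C.π.range) := inferInstance
  have : Finite (G ⧸ C.π.ker) := Finite.of_equiv _ (QuotientGroup.quotientKerEquivRange C.π).symm.toEquiv
  have : Finite ↥(C.π.ker) := by
    have hsub : (C.π.ker : Set G) ⊆ {1, C.zel} := by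
      intro g hg
      rcases hker g hg with h | h
      · left; exact h
      · right; exact h
    exact (Set.Finite.subset (Set.toFinite _) hsub).to_subtype
  exact Finite.of_equiv _ (Subgroup.groupEquivQuotientProdSubgroup (s := C.π.ker)).symm

end Cov

end Cfsg.Agent.Lib.Lead.SPN
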