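import Mathlib
import Cfsg.Prelude.Def_Classical
import Cfsg.Prelude.Def_KGroupFacts
import Cfsg.Agent.Lib.Lead.SPN.Defs
import Cfsg.Agent.Lib.Lead.SPN.Defs2
import Cfsg.Agent.Lib.Helper1.SPNT8core
import Cfsg.Agent.Lib.Helper1.SPNT5

/-!
# Project SPN (designer lead), row T8 (helper1), verbatim: `G` is finite
-/

set_option autoImplicit false

namespace Cfsg.Agent.Lib.Lead.SPN

open Cfsg.Agent.Lib.helper15.St2 Cfsg.Agent.Lib.helper3.STC Cfsg.Agent.Lib.Lead.STD Cfsg.Agent.Lib.Helper16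
  Cfsg.Agent.Lib.Helper1.OMP

universe u v w

namespace Cov

variable {l : ℕ} {F : Type u} [Field F] [Fintype F] {G : Type v} [Group G] (C : Cov l F G)

/-- T8 [S-M]  `G` is finite. -/
theorem finite (C : Cov l F G) : Finite G :=
  C.spnt8_core C.ker_pi

end Cov

end Cfsg.Agent.Lib.Lead.SPN
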