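import Mathlib
import Cfsg.Prelude.Def_GeometricClasses
import Cfsg.Agent.Lib.Lead.SPU.Defs

set_option autoImplicit false
set_option linter.unusedVariables false
set_option linter.unusedSectionVars false

namespace Cfsg.Agent.Lib.Lead.SPU

open Matrix Cfsg.Agent.S5646 Cfsg.Agent.S5647 Cfsg.Agent.Lib.Helper28.SpPair

variable {m : ℕ} {F : Type*} [Field F] {j j1 : Matrix (Fin m ⊕ Fin m) (Fin m ⊕ Fin m) F} {c0 : F}
  {M : Subgroup (Matrix.GeneralLinearGroup (Fin m ⊕ Fin m) F)}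

theorem js_conj (hJ : JS j c0) (g : Matrix.GeneralLinearGroup (Fin m ⊕ Fin m) F) (hg : g ∈ Cfsg.spGL m F) :
    JS ((g : Matrix (Fin m ⊕ Fin m) (Fin m ⊕ Fin m) F) * j *
      ((g⁻¹ : Matrix.GeneralLinearGroup (Fin m ⊕ Fin m) F) : Matrix (Fin m ⊕ Fin m) (Fin m ⊕ Fin m) F)) c0 := by
  set gm : Matrix (Fin m ⊕ Fin m) (Fin m ⊕ Fin m) F :=
    (g : Matrix (Fin m ⊕ Fin m) (Fin m ⊕ Fin m) F) with hgm
  set gi : Matrix (Fin m ⊕ Fin m) (Fin m ⊕ Fin m) F :=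
    ((g⁻¹ : Matrix.GeneralLinearGroup (Fin m ⊕ Fin m) F) :
      Matrix (Fin m ⊕ Fin m) (Fin m ⊕ Fin m) F) with hgi
  have h1 : gm * gi = 1 := Units.mul_inv g
  have h2 : gi * gm = 1 := Units.inv_mul g
  have hgf : ∀ u v, Cfsg.sympForm m F (gm *ᵥ u) (gm *ᵥ v) = Cfsg.sympForm m F u v :=
    (mem_spGL_iff g).1 hg
  have e1 : ∀ x, (gm * j * gi) *ᵥ x = gm *ᵥ (j *ᵥ (gi *ᵥ x)) := by
    intro x
    rw [Matrix.mulVec_mulVec, Matrix.mulVec_mulVec]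
  have e2 : ∀ x, gm *ᵥ (gi *ᵥ x) = x := by
    intro x
    rw [Matrix.mulVec_mulVec, h1, Matrix.one_mulVec]
  refine ⟨hJ.two, ?_, hJ.nsq, ?_⟩
  · calc gm * j * gi * (gm * j * gi) = gm * j * (gi * gm) * j * gi := by
          simp only [Matrix.mul_assoc]
      _ = gm * (j * j) * gi := by
          rw [h2]
          simp only [Matrix.mul_one, Matrix.mul_assoc]
      _ = c0 • (1 : Matrix (Fin m ⊕ Fin m) (Fin m ⊕ Fin m) F) := by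
          rw [hJ.sq, Matrix.mul_smul, Matrix.smul_mul, Matrix.mul_one, h1]
  · intro u v
    rw [e1, e1]
    calc Cfsg.sympForm m F (gm *ᵥ (j *ᵥ (gi *ᵥ u))) v
        = Cfsg.sympForm m F (gm *ᵥ (j *ᵥ (gi *ᵥ u))) (gm *ᵥ (gi *ᵥ v)) := by rw [e2]
      _ = Cfsg.sympForm m F (j *ᵥ (gi *ᵥ u)) (gi *ᵥ v) := hgf _ _
      _ = - Cfsg.sympForm m F (gi *ᵥ u) (j *ᵥ (gi *ᵥ v)) := hJ.adj _ _
      _ = - Cfsg.sympForm m F (gm *ᵥ (gi *ᵥ u)) (gm *ᵥ (j *ᵥ (gi *ᵥ v))) := by rw [hgf]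
      _ = - Cfsg.sympForm m F u (gm *ᵥ (j *ᵥ (gi *ᵥ v))) := by rw [e2]

theorem inC_conj (g : Matrix.GeneralLinearGroup (Fin m ⊕ Fin m) F) (hg : g ∈ Cfsg.spGL m F)
    (g' : Matrix.GeneralLinearGroup (Fin m ⊕ Fin m) F)
    (h : InC ((g : Matrix (Fin m ⊕ Fin m) (Fin m ⊕ Fin m) F) * j *
      ((g⁻¹ : Matrix.GeneralLinearGroup (Fin m ⊕ Fin m) F) : Matrix (Fin m ⊕ Fin m) (Fin m ⊕ Fin m) F)) g') :
    InC j (g⁻¹ * g' * g) := by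
  set gm : Matrix (Fin m ⊕ Fin m) (Fin m ⊕ Fin m) F :=
    (g : Matrix (Fin m ⊕ Fin m) (Fin m ⊕ Fin m) F) with hgm
  set gi : Matrix (Fin m ⊕ Fin m) (Fin m ⊕ Fin m) F :=
    ((g⁻¹ : Matrix.GeneralLinearGroup (Fin m ⊕ Fin m) F) :
      Matrix (Fin m ⊕ Fin m) (Fin m ⊕ Fin m) F) with hgi
  set g'm : Matrix (Fin m ⊕ Fin m) (Fin m ⊕ Fin m) F :=
    (g' : Matrix (Fin m ⊕ Fin m) (Fin m ⊕ Fin m) F) with hg'm
  have h1 : gm * gi = 1 := Units.mul_inv g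
  have h2 : gi * gm = 1 := Units.inv_mul g
  obtain ⟨hsp, hcomm⟩ := h
  refine ⟨(Cfsg.spGL m F).mul_mem ((Cfsg.spGL m F).mul_mem ((Cfsg.spGL m F).inv_mem hg) hsp) hg, ?_⟩
  rw [Units.val_mul, Units.val_mul]
  change gi * g'm * gm * j = j * (gi * g'm * gm)
  calc gi * g'm * gm * j = gi * (g'm * (gm * j * gi)) * gm := by
        simp only [Matrix.mul_assoc, h2, Matrix.mul_one]
    _ = gi * (gm * j * gi * g'm) * gm := by rw [hcomm]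
    _ = (gi * gm) * j * (gi * g'm * gm) := by simp only [Matrix.mul_assoc]
    _ = j * (gi * g'm * gm) := by rw [h2, Matrix.one_mul]

end Cfsg.Agent.Lib.Lead.SPU
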