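import Mathlib
import Cfsg.Prelude.Def_GeometricClasses
import Cfsg.Agent.Lib.Lead.SPU.Defs

set_option autoImplicit false
set_option linter.unusedVariables false
set_option linter.unusedSectionVars false

namespace Cfsg.Agent.Lib.Lead.SPU

open Matrix Cfsg.Agent.S5646 Cfsg.Agent.S5647 Cfsg.Agent.Lib.Helper28.SpPair

variable {m : ℕ} {F : Type*} [Field F] {j j1 : Matrix (Fin m ⊕ Fin m) (Fin m ⊕ Fin m) F} {c0 : F}
  {M : Subgroup (Matrix.GeneralLinearGroup (Fin m ⊕ Fin m) F)}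

theorem spustrict_ex_ne (hm : 2 ≤ m) : ∃ v : Fin m ⊕ Fin m → F, v ≠ 0 := by
  refine ⟨Pi.single (Sum.inl ⟨0, by omega⟩) 1, ?_⟩
  intro h
  have := congrFun h (Sum.inl ⟨0, by omega⟩)
  simp at this

theorem strict (hm : 2 ≤ m) (hJ : JS j c0) :
    ∃ g : Matrix.GeneralLinearGroup (Fin m ⊕ Fin m) F, g ∈ Cfsg.spGL m F ∧
      ¬ ((g : Matrix (Fin m ⊕ Fin m) (Fin m ⊕ Fin m) F) * j = j * (g : Matrix (Fin m ⊕ Fin m) (Fin m ⊕ Fin m) F)) ∧
      ¬ ((g : Matrix (Fin m ⊕ Fin m) (Fin m ⊕ Fin m) F) * j = -(j * (g : Matrix (Fin m ⊕ Fin m) (Fin m ⊕ Fin m) F))) := by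
  obtain ⟨v, hv⟩ := spustrict_ex_ne (F := F) hm
  obtain ⟨g, hg, hgS⟩ := tsGL v (1 : F)
  have hjj : ∀ x : Fin m ⊕ Fin m → F, j *ᵥ (j *ᵥ x) = c0 • x := by
    intro x
    rw [Matrix.mulVec_mulVec, hJ.sq, Matrix.smul_mulVec, Matrix.one_mulVec]
  refine ⟨g, hgS, ?_, ?_⟩
  · intro hc
    obtain ⟨x, hx⟩ := Cfsg.Agent.Lib.helper6.sympForm_nondeg m v hv
    have hxv : Cfsg.sympForm m F x v ≠ 0 := by
      rw [Cfsg.Agent.Lib.helper6.sympForm_swap]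
      exact neg_ne_zero.mpr hx
    have h1 : (g : Matrix (Fin m ⊕ Fin m) (Fin m ⊕ Fin m) F) *ᵥ (j *ᵥ x) =
        j *ᵥ ((g : Matrix (Fin m ⊕ Fin m) (Fin m ⊕ Fin m) F) *ᵥ x) := by
      rw [Matrix.mulVec_mulVec, Matrix.mulVec_mulVec, hc]
    rw [ts_apply g v 1 hg, ts_apply g v 1 hg, Matrix.mulVec_add, Matrix.mulVec_smul, one_mul,
      one_mul] at h1
    have h2 : Cfsg.sympForm m F (j *ᵥ x) v • v = Cfsg.sympForm m F x v • (j *ᵥ v) :=
      add_left_cancel h1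
    have h3 : j *ᵥ v = ((Cfsg.sympForm m F x v)⁻¹ * Cfsg.sympForm m F (j *ᵥ x) v) • v := by
      rw [mul_smul, h2, smul_smul, inv_mul_cancel₀ hxv, one_smul]
    have h4 := hjj v
    rw [h3, Matrix.mulVec_smul, h3, smul_smul] at h4
    have h5 : (((Cfsg.sympForm m F x v)⁻¹ * Cfsg.sympForm m F (j *ᵥ x) v) *
        ((Cfsg.sympForm m F x v)⁻¹ * Cfsg.sympForm m F (j *ᵥ x) v) - c0) • v = 0 := by
      rw [sub_smul, h4, sub_self]
    rcases smul_eq_zero.1 h5 with h6 | h6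
    · exact hJ.nsq _ (sub_eq_zero.1 h6)
    · exact hv h6
  · intro hc
    have hfr : Module.finrank F (⊥ : Submodule F (Fin m ⊕ Fin m → F)) + 2 <
        Module.finrank F (⊤ : Submodule F (Fin m ⊕ Fin m → F)) := by
      rw [finrank_bot, finrank_top, Module.finrank_fintype_fun_eq_card, Fintype.card_sum,
        Fintype.card_fin]
      omega
    obtain ⟨x, -, hx0, hxn⟩ := avoid (⊤ : Submodule F (Fin m ⊕ Fin m → F)) ⊥
      ![sfL v, sfL (j *ᵥ v)] hfr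
    have hx1 : Cfsg.sympForm m F x v = 0 := hx0 0
    have hx2 : Cfsg.sympForm m F x (j *ᵥ v) = 0 := hx0 1
    have hx3 : Cfsg.sympForm m F (j *ᵥ x) v = 0 := by rw [hJ.adj, hx2, neg_zero]
    have h1 : (g : Matrix (Fin m ⊕ Fin m) (Fin m ⊕ Fin m) F) *ᵥ (j *ᵥ x) =
        -(j *ᵥ ((g : Matrix (Fin m ⊕ Fin m) (Fin m ⊕ Fin m) F) *ᵥ x)) := by
      rw [Matrix.mulVec_mulVec, Matrix.mulVec_mulVec, hc, Matrix.neg_mulVec]
    rw [ts_apply g v 1 hg, ts_apply g v 1 hg, hx1, hx3, mul_zero, zero_smul, add_zero,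
      add_zero] at h1
    have h2 : (2 : F) • (j *ᵥ x) = 0 := by
      rw [two_smul]
      nth_rewrite 1 [h1]
      exact neg_add_cancel _
    rcases smul_eq_zero.1 h2 with h3 | h3
    · exact hJ.two h3
    · have h4 := hjj x
      rw [h3, Matrix.mulVec_zero] at h4
      rcases smul_eq_zero.1 h4.symm with h5 | h5
      · exact hJ.nsq 0 (by rw [h5, mul_zero])
      · exact hxn (by rw [h5]; exact Submodule.zero_mem _)

end Cfsg.Agent.Lib.Lead.SPU
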