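import Mathlib
import Cfsg.Prelude.Def_GeometricClasses
import Cfsg.Agent.Lib.Lead.SPU.Defs
import Cfsg.Agent.Lib.Helper11.SPUREFL
import Cfsg.Agent.Lib.Helper11.SPUUNIV3

set_option autoImplicit false
set_option linter.unusedVariables false
set_option linter.unusedSectionVars false

namespace Cfsg.Agent.Lib.Lead.SPU

open Matrix Cfsg.Agent.S5646 Cfsg.Agent.S5647 Cfsg.Agent.Lib.Helper28.SpPair

variable {m : ℕ} {F : Type*} [Field F] {j j1 : Matrix (Fin m ⊕ Fin m) (Fin m ⊕ Fin m) F} {c0 : F}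
  {M : Subgroup (Matrix.GeneralLinearGroup (Fin m ⊕ Fin m) F)}

theorem sputrans_inC_mul {g h : Matrix.GeneralLinearGroup (Fin m ⊕ Fin m) F} (hg : InC j g)
    (hh : InC j h) : InC j (g * h) := by
  refine ⟨(Cfsg.spGL m F).mul_mem hg.1 hh.1, ?_⟩
  rw [Units.val_mul, Matrix.mul_assoc, hh.2, ← Matrix.mul_assoc, hg.2, Matrix.mul_assoc]

theorem sputrans_HOj_symm (hJ : JS j c0) (x y : Fin m ⊕ Fin m → F) (h : HOj j x y) : HOj j y x := by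
  refine ⟨?_, ?_⟩
  · rw [Cfsg.Agent.Lib.helper6.sympForm_swap, h.1, neg_zero]
  · rw [spurefl_B_symm hJ y x, h.2]

theorem trans_ns [Fintype F] (hm : 7 ≤ m) (hJ : JS j c0) (x y : Fin m ⊕ Fin m → F) (hx : Qj j x ≠ 0)
    (hxy : Qj j x = Qj j y) :
    ∃ g : Matrix.GeneralLinearGroup (Fin m ⊕ Fin m) F, InC j g ∧
      (g : Matrix (Fin m ⊕ Fin m) (Fin m ⊕ Fin m) F) *ᵥ x = y := by
  obtain ⟨w, hw0, hwx, hwy, -, hQw⟩ := univ3 hm hJ x y 0 (Qj j x)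
  have hxw : HOj j x w := sputrans_HOj_symm hJ w x hwx
  obtain ⟨hd1, hs1⟩ := refl_swap hJ x w hx hQw.symm hxw
  have hw : Qj j w ≠ 0 := by rw [hQw]; exact hx
  obtain ⟨hd2, hs2⟩ := refl_swap hJ w y hw (hQw.trans hxy) hwy
  obtain ⟨g1, hg1, ha1⟩ := refl_ex hJ (x - w) hd1
  obtain ⟨g2, hg2, ha2⟩ := refl_ex hJ (w - y) hd2
  refine ⟨g2 * g1, sputrans_inC_mul hg2 hg1, ?_⟩
  rw [Units.val_mul, ← Matrix.mulVec_mulVec, ha1, hs1, ha2, hs2]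

end Cfsg.Agent.Lib.Lead.SPU
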