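import Mathlib
import Cfsg.Agent.Lib.Helper1.Nilp

set_option autoImplicit false
set_option linter.unusedVariables false
set_option linter.unusedSectionVars false
set_option linter.style.haveILetI false

namespace Cfsg.Agent.Lib.Helper1

theorem spxc6ord_class_two {G : Type*} [Group G] [Finite G] (hG : IsPGroup 2 G)
    (hchar : ∀ A : Subgroup G, A.Characteristic → IsMulCommutative A → IsCyclic A)
    (hexp : ∀ x : G, x ^ 4 = 1) (hZ : Nat.card (Subgroup.center G) = 2) :
    ∀ x y : G, x * y * x⁻¹ * y⁻¹ ∈ Subgroup.center G := by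
  classical
  haveI : Fact (Nat.Prime 2) := ⟨Nat.prime_two⟩
  have hmemT : ∀ x, x ∈ Subgroup.upperCentralSeries G 2 ↔
      ∀ y : G, x * y * x⁻¹ * y⁻¹ ∈ Subgroup.center G := by
    intro x
    rw [show (2 : ℕ) = 1 + 1 from rfl, Subgroup.mem_upperCentralSeries_succ_iff,
      Subgroup.upperCentralSeries_one]
    rfl
  set T : Subgroup G := Subgroup.upperCentralSeries G 2 with hT
  have hZT : Subgroup.center G ≤ T := by
    intro x hx
    rw [hmemT]
    intro y
    have : x * y * x⁻¹ * y⁻¹ = 1 := by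
      rw [Subgroup.mem_center_iff] at hx
      rw [← hx y]
      group
    rw [this]
    exact one_mem _
  set D : Subgroup G := Subgroup.centralizer (T : Set G) with hD
  set A : Subgroup G := T ⊓ D with hA
  have hAchar : A.Characteristic := by
    rw [hA, hD, hT]
    infer_instance
  have hAcomm : IsMulCommutative A := by
    refine ⟨⟨fun a b => ?_⟩⟩
    apply Subtype.ext
    show (a : G) * b = b * a
    have ha : (a : G) ∈ T ⊓ D := a.2
    have hb : (b : G) ∈ T ⊓ D := b.2
    rw [Subgroup.mem_inf] at ha hb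
    exact (Subgroup.mem_centralizer_iff.mp hb.2 a ha.1)
  haveI hAcyc : IsCyclic A := hchar A hAchar hAcomm
  have hZA : Subgroup.center G ≤ A := by
    rw [hA]
    exact le_inf hZT (Subgroup.center_le_centralizer _)
  have hzsq : ∀ z ∈ Subgroup.center G, z ^ 2 = 1 := by
    intro z hz
    have h1 : (⟨z, hz⟩ : Subgroup.center G) ^ Nat.card (Subgroup.center G) = 1 := pow_card_eq_one'
    rw [hZ] at h1
    have := congrArg Subtype.val h1
    simpa using this
  have ha : ∀ x ∈ A, x ^ 2 = 1 → x ∈ Subgroup.center G := by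
    intro x hx hx2
    haveI : Fintype A := Fintype.ofFinite _
    haveI : Fintype (Subgroup.center G) := Fintype.ofFinite _
    have hle := IsCyclic.card_pow_eq_one_le (α := A) (n := 2) (by norm_num)
    let Zs : Finset A := Finset.univ.image (fun z : Subgroup.center G => (⟨z.1, hZA z.2⟩ : A))
    have hZs : Zs.card = 2 := by
      rw [Finset.card_image_of_injective]
      · rw [Finset.card_univ, ← Nat.card_eq_fintype_card, hZ]
      · intro z z' hzz
        apply Subtype.ext
        have := congrArg Subtype.val hzz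
        exact this
    have hsub : Zs ⊆ Finset.univ.filter (fun a : A => a ^ 2 = 1) := by
      intro a ha
      obtain ⟨z, -, rfl⟩ := Finset.mem_image.mp ha
      rw [Finset.mem_filter]
      refine ⟨Finset.mem_univ _, ?_⟩
      apply Subtype.ext
      exact hzsq z.1 z.2
    have heq := Finset.eq_of_subset_of_card_le hsub (by rw [hZs]; exact hle)
    have hxS : (⟨x, hx⟩ : A) ∈ Finset.univ.filter (fun a : A => a ^ 2 = 1) := by
      rw [Finset.mem_filter]
      refine ⟨Finset.mem_univ _, ?_⟩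
      apply Subtype.ext
      exact hx2
    rw [← heq] at hxS
    obtain ⟨z, -, hz⟩ := Finset.mem_image.mp hxS
    have := congrArg Subtype.val hz
    simp only at this
    rw [← this]
    exact z.2
  have ha4 : ∀ c ∈ A, c ^ 2 ∈ Subgroup.center G := by
    intro c hc
    refine ha (c ^ 2) (A.pow_mem hc 2) ?_
    rw [← pow_mul]
    exact hexp c
  haveI hTn : T.Normal := by
    rw [hT]
    infer_instance
  haveI hDn : D.Normal := by
    rw [hD]
    infer_instance
  have hDT : D ≤ T := by
    by_contra hnot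
    obtain ⟨c, hc, hcT⟩ := SetLike.not_le_iff_exists.mp hnot
    haveI : Group.IsNilpotent (G ⧸ T) := by
      haveI : Group.IsNilpotent G := hG.isNilpotent
      infer_instance
    set Db : Subgroup (G ⧸ T) := D.map (QuotientGroup.mk' T) with hDb
    haveI : Db.Normal := Subgroup.Normal.map hDn _ (QuotientGroup.mk'_surjective _)
    have hDbne : Db ≠ ⊥ := by
      intro hbot
      have : (QuotientGroup.mk' T) c ∈ Db := Subgroup.mem_map_of_mem _ hc
      rw [hbot, Subgroup.mem_bot] at this
      have h5 : c ∈ (QuotientGroup.mk' T).ker := this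
      rw [QuotientGroup.ker_mk'] at h5
      exact hcT h5
    have hmeet := normal_inf_center_ne_bot Db hDbne
    obtain ⟨q, hq, hq1⟩ := (Subgroup.ne_bot_iff_exists_ne_one (H := Db ⊓ Subgroup.center (G ⧸ T))).mp hmeet |>
      fun ⟨q, hq⟩ => (⟨(q : G ⧸ T), q.2, fun h => hq (Subtype.ext h)⟩ :
        ∃ q : G ⧸ T, q ∈ Db ⊓ Subgroup.center (G ⧸ T) ∧ q ≠ 1)
    rw [Subgroup.mem_inf] at hq
    obtain ⟨y, hy, rfl⟩ := hq.1
    have hyT : y ∉ T := by
      intro hyT
      apply hq1
      have : y ∈ (QuotientGroup.mk' T).ker := by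
        rw [QuotientGroup.ker_mk']
        exact hyT
      exact this
    have hcT' : ∀ g : G, y * g * y⁻¹ * g⁻¹ ∈ T := by
      intro g
      have h6 := Subgroup.mem_center_iff.mp hq.2 ((QuotientGroup.mk' T) g)
      have h7 : (QuotientGroup.mk' T) (y * g * y⁻¹ * g⁻¹) = 1 := by
        rw [map_mul, map_mul, map_mul, map_inv, map_inv, ← h6]
        group
      have h8 : y * g * y⁻¹ * g⁻¹ ∈ (QuotientGroup.mk' T).ker := h7
      rwa [QuotientGroup.ker_mk'] at h8
    have hcA : ∀ g : G, y * g * y⁻¹ * g⁻¹ ∈ A := by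
      intro g
      rw [hA, Subgroup.mem_inf]
      refine ⟨hcT' g, ?_⟩
      have h1 : y * g * y⁻¹ * g⁻¹ = y * (g * y⁻¹ * g⁻¹) := by group
      rw [h1]
      exact D.mul_mem hy (hDn.conj_mem y⁻¹ (D.inv_mem hy) g)
    have hycomm : ∀ a ∈ A, a * y = y * a := by
      intro a ha'
      rw [hA, Subgroup.mem_inf] at ha'
      exact Subgroup.mem_centralizer_iff.mp hy a ha'.1
    have hsq : ∀ g : G, y ^ 2 * g * (y ^ 2)⁻¹ * g⁻¹ = (y * g * y⁻¹ * g⁻¹) ^ 2 := by
      intro g
      have h1 : y ^ 2 * g * (y ^ 2)⁻¹ * g⁻¹ = y * (y * g * y⁻¹ * g⁻¹) * y⁻¹ * (y * g * y⁻¹ * g⁻¹) := by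
        rw [pow_two]
        group
      rw [h1, ← hycomm _ (hcA g), pow_two]
      group
    have hy2T : y ^ 2 ∈ T := by
      rw [hmemT]
      intro g
      rw [hsq]
      exact ha4 _ (hcA g)
    have hy2A : y ^ 2 ∈ A := by
      rw [hA, Subgroup.mem_inf]
      exact ⟨hy2T, D.pow_mem hy 2⟩
    have hy2Z : y ^ 2 ∈ Subgroup.center G := by
      refine ha _ hy2A ?_
      rw [← pow_mul]
      exact hexp y
    apply hyT
    rw [hmemT]
    intro g
    refine ha _ (hcA g) ?_
    rw [← hsq]
    have := Subgroup.mem_center_iff.mp hy2Z g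
    rw [← this]
    group
  have hsqZ : ∀ g : G, g ^ 2 ∈ Subgroup.center G := by
    intro g
    have hgD : g ^ 2 ∈ D := by
      rw [hD, Subgroup.mem_centralizer_iff]
      intro x hx
      have hζ := (hmemT x).mp hx g
      set ζ := x * g * x⁻¹ * g⁻¹ with hζdef
      have hζc := Subgroup.mem_center_iff.mp hζ
      have hζ2 : ζ ^ 2 = 1 := hzsq ζ hζ
      have h1 : x * g = ζ * g * x := by
        rw [hζdef]
        group
      calc x * g ^ 2 = (x * g) * g := by rw [pow_two, mul_assoc]
        _ = (ζ * g * x) * g := by rw [h1]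
        _ = ζ * g * (x * g) := by simp only [mul_assoc]
        _ = ζ * g * (ζ * g * x) := by rw [h1]
        _ = ζ * (g * ζ) * g * x := by simp only [mul_assoc]
        _ = ζ * (ζ * g) * g * x := by rw [hζc g]
        _ = ζ ^ 2 * g ^ 2 * x := by simp only [pow_two, mul_assoc]
        _ = g ^ 2 * x := by rw [hζ2, one_mul]
    have hgA : g ^ 2 ∈ A := by
      rw [hA, Subgroup.mem_inf]
      exact ⟨hDT hgD, hgD⟩
    refine ha _ hgA ?_
    rw [← pow_mul]
    exact hexp g
  intro x y
  have hs := hsqZ x⁻¹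
  have hsc := Subgroup.mem_center_iff.mp hs
  have h1 : x * y * x⁻¹ * y⁻¹ = (x * y) ^ 2 * (y⁻¹ * (x⁻¹) ^ 2 * y) * (y⁻¹) ^ 2 := by
    simp only [pow_two]
    group
  have h2 : y⁻¹ * (x⁻¹) ^ 2 * y = (x⁻¹) ^ 2 := by
    rw [mul_assoc, ← hsc y]
    group
  rw [h1, h2]
  exact Subgroup.mul_mem _ (Subgroup.mul_mem _ (hsqZ _) hs) (hsqZ _)

end Cfsg.Agent.Lib.Helper1
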