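import Mathlib
import Cfsg.Prelude.Def_GeometricClasses
import Cfsg.Agent.Lib.Helper27.ASC.Defs
import Cfsg.Agent.Lib.Helper11.ASGBURN
import Cfsg.Agent.Lib.Helper1.SPXC6ORDa

set_option autoImplicit false
set_option linter.unusedVariables false
set_option linter.unusedSectionVars false
set_option linter.style.haveILetI false

namespace Cfsg.Agent.Lib.helper6.SPX

open Cfsg Cfsg.Geo Cfsg.Agent.Lib.Helper27.ASC
open scoped MatrixGroups Matrix

variable {ι : Type} [Fintype ι] [DecidableEq ι] {F : Type*} [Field F] [Fintype F]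

omit [Fintype F] in
theorem spxc6ord_li_conj_smul (R : Subgroup (GL (ι) F))
    (hc : ∀ x ∈ R, ∀ y ∈ R, x * y * x⁻¹ * y⁻¹ ∈ scalars (ι) F)
    (y z : GL (ι) F) (hy : y ∈ R) (hz : z ∈ R) :
    ∃ c : Fˣ, (y : Matrix (ι) (ι) F) * (z : Matrix (ι) (ι) F) *
      ((y⁻¹ : GL (ι) F) : Matrix (ι) (ι) F) = (c : F) • (z : Matrix (ι) (ι) F) := by
  obtain ⟨c, hcc⟩ := (mem_scalars_iff _).mp (hc y hy z hz)
  refine ⟨c, ?_⟩
  have h1 : ((y * z * y⁻¹ * z⁻¹ : GL (ι) F) : Matrix (ι) (ι) F) *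
      (z : Matrix (ι) (ι) F) = ((y * z * y⁻¹ : GL (ι) F) : Matrix (ι) (ι) F) := by
    rw [← Units.val_mul]
    congr 1
    group
  rw [hcc, Matrix.smul_mul, Matrix.one_mul] at h1
  rw [h1, Units.val_mul, Units.val_mul]

omit [Fintype F] in
theorem spxc6ord_li_sep (R : Subgroup (GL (ι) F))
    (hz : ∀ x ∈ R, x ∈ scalars (ι) F ↔ ∀ y ∈ R, x * y = y * x)
    (a b : GL (ι) F) (ha : a ∈ R) (hb : b ∈ R) (hab : a⁻¹ * b ∉ scalars (ι) F) :
    ∃ y ∈ R, y * a * y⁻¹ * a⁻¹ ≠ y * b * y⁻¹ * b⁻¹ := by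
  have hmem : a⁻¹ * b ∈ R := R.mul_mem (R.inv_mem ha) hb
  have hnc : ¬ ∀ y ∈ R, a⁻¹ * b * y = y * (a⁻¹ * b) := fun h => hab ((hz _ hmem).mpr h)
  push Not at hnc
  obtain ⟨y, hy, hne⟩ := hnc
  refine ⟨y, hy, fun heq => hne ?_⟩
  have h1 : y * a * y⁻¹ = (y * a * y⁻¹ * a⁻¹) * a := by group
  have h2 : y * b * y⁻¹ = (y * a * y⁻¹ * a⁻¹) * b := by rw [heq]; group
  have h7 : y * (a⁻¹ * b) * y⁻¹ = a⁻¹ * b := by
    have : y * (a⁻¹ * b) * y⁻¹ = (y * a * y⁻¹)⁻¹ * (y * b * y⁻¹) := by group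
    rw [this, h2]
    group
  calc a⁻¹ * b * y = (y * (a⁻¹ * b) * y⁻¹) * y := by rw [h7]
    _ = y * (a⁻¹ * b) := by group

omit [Fintype F] in
theorem spxc6ord_li_comm_eq (y z w : GL (ι) F) (c : F)
    (hz : (y : Matrix (ι) (ι) F) * (z : Matrix (ι) (ι) F) *
      ((y⁻¹ : GL (ι) F) : Matrix (ι) (ι) F) = c • (z : Matrix (ι) (ι) F))
    (hw : (y : Matrix (ι) (ι) F) * (w : Matrix (ι) (ι) F) *
      ((y⁻¹ : GL (ι) F) : Matrix (ι) (ι) F) = c • (w : Matrix (ι) (ι) F)) :
    y * z * y⁻¹ * z⁻¹ = y * w * y⁻¹ * w⁻¹ := by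
  apply Units.ext
  rw [Units.val_mul (y * z * y⁻¹) z⁻¹, Units.val_mul (y * w * y⁻¹) w⁻¹, Units.val_mul (y * z) y⁻¹,
    Units.val_mul (y * w) y⁻¹, Units.val_mul y z, Units.val_mul y w, hz, hw, Matrix.smul_mul, Matrix.smul_mul,
    ← Units.val_mul, ← Units.val_mul, mul_inv_cancel, mul_inv_cancel]

theorem spxc6ord_linearIndependent [Nonempty ι] (R : Subgroup (GL (ι) F))
    (hc : ∀ x ∈ R, ∀ y ∈ R, x * y * x⁻¹ * y⁻¹ ∈ scalars (ι) F)
    (hz : ∀ x ∈ R, x ∈ scalars (ι) F ↔ ∀ y ∈ R, x * y = y * x)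
    {κ : Type*} (x : κ → GL (ι) F) (hx : ∀ k, x k ∈ R)
    (hdist : ∀ k l, k ≠ l → (x k)⁻¹ * x l ∉ scalars (ι) F) :
    LinearIndependent F (fun k => ((x k : GL (ι) F) : Matrix (ι) (ι) F)) := by
  classical
  rw [linearIndependent_iff']
  intro s
  induction s using Finset.induction_on with
  | empty => intro g _ i hi; simp at hi
  | insert a s has ih =>
    intro g hg
    have hs : ∀ i ∈ s, g i = 0 := by
      intro i hi
      have hia : a ≠ i := fun h => has (h ▸ hi)
      obtain ⟨y, hy, hsep⟩ := spxc6ord_li_sep R hz (x a) (x i) (hx a) (hx i) (hdist a i hia)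
      choose c hcdef using fun k => spxc6ord_li_conj_smul R hc y (x k) hy (hx k)
      have hconj : ∑ j ∈ insert a s, (g j * (c j : F)) • ((x j : GL (ι) F) : Matrix (ι) (ι) F) = 0 := by
        have h1 : (y : Matrix (ι) (ι) F) *
            (∑ j ∈ insert a s, g j • ((x j : GL (ι) F) : Matrix (ι) (ι) F)) *
            ((y⁻¹ : GL (ι) F) : Matrix (ι) (ι) F) = 0 := by
          rw [hg, Matrix.mul_zero, Matrix.zero_mul]
        rw [Finset.mul_sum, Finset.sum_mul] at h1
        rw [← h1]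
        apply Finset.sum_congr rfl
        intro j _
        rw [Matrix.mul_smul, Matrix.smul_mul, hcdef j, smul_smul]
      have hsub : ∑ j ∈ s, (g j * ((c j : F) - (c a : F))) •
          ((x j : GL (ι) F) : Matrix (ι) (ι) F) = 0 := by
        have h2 : ∑ j ∈ insert a s, (g j * ((c j : F) - (c a : F))) •
            ((x j : GL (ι) F) : Matrix (ι) (ι) F) = 0 := by
          have : ∀ j, (g j * ((c j : F) - (c a : F))) • ((x j : GL (ι) F) : Matrix (ι) (ι) F) =
              (g j * (c j : F)) • ((x j : GL (ι) F) : Matrix (ι) (ι) F) -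
              (c a : F) • (g j • ((x j : GL (ι) F) : Matrix (ι) (ι) F)) := by
            intro j
            rw [smul_smul, ← sub_smul]
            congr 1
            ring
          simp only [this]
          rw [Finset.sum_sub_distrib, ← Finset.smul_sum, hconj, hg, smul_zero, sub_zero]
        rw [Finset.sum_insert has, sub_self, mul_zero, zero_smul, zero_add] at h2
        exact h2
      have h3 := ih _ hsub i hi
      rcases mul_eq_zero.mp h3 with h4 | h4
      · exact h4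
      · exfalso
        have h5 : (c i : F) = (c a : F) := sub_eq_zero.mp h4
        have h6 := hcdef i
        rw [h5] at h6
        exact hsep (spxc6ord_li_comm_eq y (x a) (x i) (c a : F) (hcdef a) h6)
    intro i hi
    rcases Finset.mem_insert.mp hi with rfl | hi'
    · rw [Finset.sum_insert has] at hg
      have h1 : ∑ j ∈ s, g j • ((x j : GL (ι) F) : Matrix (ι) (ι) F) = 0 := by
        apply Finset.sum_eq_zero
        intro j hj
        rw [hs j hj, zero_smul]
      rw [h1, add_zero] at hg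
      by_contra hgi
      have h2 : ((x i : GL (ι) F) : Matrix (ι) (ι) F) = 0 := by
        rcases smul_eq_zero.mp hg with h | h
        · exact absurd h hgi
        · exact h
      have h5 : IsUnit ((x i : GL (ι) F) : Matrix (ι) (ι) F) := ⟨x i, rfl⟩
      rw [h2] at h5
      exact not_isUnit_zero h5
    · exact hs i hi'


theorem spxc6ord_degree [Nonempty ι] (R : Subgroup (GL ι F)) (hA : ActsAbsolutelyIrreducibly (matrixSet R))
    (hc : ∀ x ∈ R, ∀ y ∈ R, x * y * x⁻¹ * y⁻¹ ∈ scalars (ι) F)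
    (hz : ∀ x ∈ R, x ∈ scalars (ι) F ↔ ∀ y ∈ R, x * y = y * x) :
    (Fintype.card ι) ^ 2 * Nat.card (Subgroup.center R) = Nat.card R := by
  classical
  haveI : Finite (GL (ι) F) := inferInstance
  set Z : Subgroup R := Subgroup.center R with hZ
  set x : R ⧸ Z → GL (ι) F := fun q => ((Quotient.out q : R) : GL (ι) F) with hxdef
  have hx : ∀ q, x q ∈ R := fun q => (Quotient.out q : R).2
  have hcent_scalar : ∀ z : R, z ∈ Z → (z : GL (ι) F) ∈ scalars (ι) F := by
    intro z hzz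
    rw [hz _ z.2]
    intro y hy
    have := Subgroup.mem_center_iff.mp hzz ⟨y, hy⟩
    have h2 := congrArg (Subtype.val) this
    simpa using h2.symm
  have hdist : ∀ q q' : R ⧸ Z, q ≠ q' → (x q)⁻¹ * x q' ∉ scalars (ι) F := by
    intro q q' hne hsc
    apply hne
    have hmemR : (x q)⁻¹ * x q' ∈ R := R.mul_mem (R.inv_mem (hx q)) (hx q')
    have hcomm := (hz _ hmemR).mp hsc
    have hcen : (Quotient.out q : R)⁻¹ * (Quotient.out q' : R) ∈ Z := by
      refine Subgroup.mem_center_iff.mpr ?_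
      intro g
      apply Subtype.ext
      have := hcomm g g.2
      simpa [hxdef] using this.symm
    have h3 : ((Quotient.out q : R) : R ⧸ Z) = ((Quotient.out q' : R) : R ⧸ Z) :=
      QuotientGroup.eq.mpr hcen
    rw [QuotientGroup.out_eq', QuotientGroup.out_eq'] at h3
    exact h3
  have hli := spxc6ord_linearIndependent R hc hz x hx hdist
  have hspan : ⊤ ≤ Submodule.span F (Set.range fun q : R ⧸ Z =>
      ((x q : GL (ι) F) : Matrix (ι) (ι) F)) := by
    rw [← burnside_span_gen R hA]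
    apply Submodule.span_le.mpr
    rintro _ ⟨g, hg, rfl⟩
    set q : R ⧸ Z := ((⟨g, hg⟩ : R) : R ⧸ Z) with hq
    have hzmem : (Quotient.out q : R)⁻¹ * (⟨g, hg⟩ : R) ∈ Z := by
      apply QuotientGroup.eq.mp
      rw [QuotientGroup.out_eq']
    obtain ⟨c, hcz⟩ := (mem_scalars_iff _).mp (hcent_scalar _ hzmem)
    have hg_eq : (g : Matrix (ι) (ι) F) = (c : F) • ((x q : GL (ι) F) : Matrix (ι) (ι) F) := by
      have h1 : g = x q * (((Quotient.out q : R)⁻¹ * (⟨g, hg⟩ : R) : R) : GL (ι) F) := by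
        simp [hxdef]
      rw [h1, Units.val_mul, hcz, Matrix.mul_smul, Matrix.mul_one]
    change (g : Matrix (ι) (ι) F) ∈ _
    rw [hg_eq]
    exact Submodule.smul_mem _ _ (Submodule.subset_span ⟨q, rfl⟩)
  let b := Module.Basis.mk hli hspan
  haveI : Fintype (R ⧸ Z) := Fintype.ofFinite _
  have hcard : Module.finrank F (Matrix (ι) (ι) F) = Fintype.card (R ⧸ Z) :=
    Module.finrank_eq_card_basis b
  rw [Module.finrank_matrix] at hcard
  simp only [Module.finrank_self, mul_one] at hcard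
  rw [Subgroup.card_eq_card_quotient_mul_card_subgroup Z, Nat.card_eq_fintype_card (α := R ⧸ Z), ← hcard]
  ring


end Cfsg.Agent.Lib.helper6.SPX
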