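import Mathlib
import Cfsg.Prelude.Def_GeometricClasses
import Cfsg.Agent.Lib.Helper27.ASC.Defs
import Cfsg.Agent.Lib.Helper1.SPXC6ORDb

set_option autoImplicit false
set_option linter.unusedVariables false
set_option linter.unusedSectionVars false
set_option linter.style.haveILetI false

namespace Cfsg.Agent.Lib.helper6.SPX

open Cfsg Cfsg.Geo Cfsg.Agent.Lib.Helper27.ASC
open scoped MatrixGroups Matrix Kronecker

variable {m : ℕ} {F : Type*} [Field F] [Fintype F]

theorem spxc6ord_gen {ι : Type} [Fintype ι] [DecidableEq ι] (R : Subgroup (GL ι F))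
    (h1 : IsSymplecticTypeGroup 2 R) (h2 : ActsAbsolutelyIrreducibly (matrixSet R))
    (h8 : Nat.card (Subgroup.center R) = 2) : (Fintype.card ι) ^ 2 * 2 = Nat.card R := by
  classical
  haveI : Finite R := inferInstance
  have hne : Nonempty ι := by
    by_contra hcon
    rw [not_nonempty_iff] at hcon
    haveI : Subsingleton (GL ι F) := ⟨fun a b => Units.ext (Subsingleton.elim _ _)⟩
    haveI : Subsingleton (Subgroup.center R) := inferInstance
    have : Nat.card (Subgroup.center R) = 1 := Nat.card_unique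
    omega
  have hexp : ∀ x : R, x ^ 4 = 1 := by
    intro x
    have h := Monoid.pow_exponent_eq_one x
    rw [h1.exponent_eq] at h
    exact h
  have hcl := Cfsg.Agent.Lib.Helper1.spxc6ord_class_two h1.pGroup h1.cyclic_of_characteristic hexp h8
  have hz : ∀ x ∈ R, x ∈ scalars ι F ↔ ∀ y ∈ R, x * y = y * x := by
    intro x hx
    constructor
    · intro hs y _
      rw [mem_scalars_iff] at hs
      obtain ⟨c, hc⟩ := hs
      apply Units.ext
      rw [Units.val_mul, Units.val_mul, hc, Matrix.smul_mul, Matrix.one_mul, Matrix.mul_smul, Matrix.mul_one]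
    · intro hcomm
      obtain ⟨c, hc⟩ := h2.2 (x : Matrix ι ι F) (by
        rintro s ⟨y, hy, rfl⟩
        have := congrArg (fun g : GL ι F => (g : Matrix ι ι F)) (hcomm y hy)
        simpa using this)
      have hc0 : c ≠ 0 := by
        intro h0
        rw [h0, zero_smul] at hc
        have h3 : (x : Matrix ι ι F) * ((x⁻¹ : GL ι F) : Matrix ι ι F) = 1 := by
          rw [← Units.val_mul, mul_inv_cancel, Units.val_one]
        rw [hc, zero_mul] at h3
        obtain ⟨i⟩ := hne
        have h4 := congrFun (congrFun h3 i) i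
        simp at h4
      rw [mem_scalars_iff]
      exact ⟨Units.mk0 c hc0, hc⟩
  have hc : ∀ x ∈ R, ∀ y ∈ R, x * y * x⁻¹ * y⁻¹ ∈ scalars ι F := by
    intro x hx y hy
    have hmem : x * y * x⁻¹ * y⁻¹ ∈ R :=
      R.mul_mem (R.mul_mem (R.mul_mem hx hy) (R.inv_mem hx)) (R.inv_mem hy)
    rw [hz _ hmem]
    intro z hzR
    have h3 := hcl ⟨x, hx⟩ ⟨y, hy⟩
    rw [Subgroup.mem_center_iff] at h3
    have h4 := h3 ⟨z, hzR⟩
    have h5 := congrArg (fun g : R => (g : GL ι F)) h4
    simpa using h5.symm
  have := spxc6ord_degree R h2 hc hz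
  rw [h8] at this
  exact this

theorem class6_order (R : Subgroup (GL (Fin m ⊕ Fin m) F)) (k : ℕ) (h1 : IsSymplecticTypeGroup 2 R)
    (h2 : ActsAbsolutelyIrreducibly (matrixSet R)) (h7 : Nat.card R = 2 ^ (1 + 2 * k))
    (h8 : Nat.card (Subgroup.center R) = 2) : (2 * m) ^ 2 * 2 = Nat.card R := by
  have := spxc6ord_gen R h1 h2 h8
  rw [Fintype.card_sum, Fintype.card_fin] at this
  rw [← this]
  ring

end Cfsg.Agent.Lib.helper6.SPX
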