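import Mathlib
import Cfsg.Prelude.Def_GeometricClasses
import Cfsg.Agent.Lib.Helper27.ASC.Defs
import Cfsg.Agent.Lib.helper6.Symp
import Cfsg.Agent.S0270
import Cfsg.Agent.S5646

set_option autoImplicit false
set_option linter.unusedVariables false
set_option linter.unusedSectionVars false
set_option linter.style.haveILetI false
set_option warn.classDefReducibility false

namespace Cfsg.Agent.Lib.helper6.SPX

open Cfsg Cfsg.Geo Cfsg.Agent.Lib.Helper27.ASC Cfsg.Agent.Lib.helper6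
open scoped MatrixGroups Matrix Kronecker
open scoped LinearAlgebra.Projectivization

variable {m : ℕ} {F : Type*} [Field F] [Fintype F]

attribute [local instance] Cfsg.Agent.S0270.spAction

theorem spxpr6_normal_sp (hm : 2 ≤ m) (hex : m = 2 → 3 ≤ Fintype.card F)
    (N : Subgroup (Matrix.symplecticGroup (Fin m) F)) (hN : N.Normal) :
    (∀ g ∈ N, ∃ l : F, g.1 = l • (1 : Matrix (Fin m ⊕ Fin m) (Fin m ⊕ Fin m) F)) ∨ N = ⊤ := by
  classical
  have hperf : commutator (Matrix.symplecticGroup (Fin m) F) = ⊤ := Cfsg.Agent.S0269.result m (by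
    by_cases h2 : m = 2
    · right; left; exact ⟨h2, hex h2⟩
    · left; omega)
  haveI := Cfsg.Agent.S0270.sp_preprimitive (F := F) (m := m) (by omega)
  by_cases hfix : MulAction.fixedPoints N (ℙ F (Fin m ⊕ Fin m → F)) = Set.univ
  · left
    intro g hg
    apply Cfsg.Agent.S0246.scalar_of_all_eigen
    intro u
    by_cases hu : u = 0
    · exact ⟨1, by rw [hu, Matrix.mulVec_zero, smul_zero]⟩
    obtain ⟨hv', h⟩ := Cfsg.Agent.S0270.sp_smul_mk g u hu
    have hp : (Projectivization.mk F u hu : ℙ F (Fin m ⊕ Fin m → F)) ∈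
        MulAction.fixedPoints N (ℙ F (Fin m ⊕ Fin m → F)) := by rw [hfix]; trivial
    have hp' : g • (Projectivization.mk F u hu : ℙ F (Fin m ⊕ Fin m → F)) =
        Projectivization.mk F u hu := hp ⟨g, hg⟩
    rw [hp'] at h
    have := (Projectivization.mk_eq_mk_iff F _ _ hu hv').mp h
    obtain ⟨a, ha⟩ := this
    refine ⟨((a⁻¹ : Fˣ) : F), ?_⟩
    have ha' : (a : F) • (g.1 *ᵥ u) = u := ha
    calc g.1 *ᵥ u = ((a⁻¹ : Fˣ) : F) • ((a : F) • (g.1 *ᵥ u)) := by
          rw [smul_smul]; simp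
      _ = ((a⁻¹ : Fˣ) : F) • u := by rw [ha']
  · right
    have := Cfsg.Agent.S0270.iwasawa.commutator_le N hfix
    rw [hperf] at this
    exact top_le_iff.mp this

theorem spxpr6_normal (hm : 2 ≤ m) (hex : ¬ (m = 2 ∧ Fintype.card F = 2))
    (N : Subgroup (GL (Fin m ⊕ Fin m) F)) (hN : N ≤ spGL m F)
    (hnorm : ∀ g ∈ spGL m F, ∀ x ∈ N, g * x * g⁻¹ ∈ N) :
    N = spGL m F ∨ N ≤ scalars (Fin m ⊕ Fin m) F := by
  classical
  have hex' : m = 2 → 3 ≤ Fintype.card F := by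
    intro h2
    have h1 : 1 < Fintype.card F := Fintype.one_lt_card
    by_contra h3
    exact hex ⟨h2, by omega⟩
  let N' : Subgroup (Matrix.symplecticGroup (Fin m) F) :=
    (N.subgroupOf (spGL m F)).comap Cfsg.Agent.S0270.toSpGL
  have hmemN' : ∀ g : Matrix.symplecticGroup (Fin m) F, g ∈ N' ↔
      ((Cfsg.Agent.S0270.toSpGL g : ↥(spGL m F)) : GL (Fin m ⊕ Fin m) F) ∈ N := by
    intro g
    rfl
  have hN'n : N'.Normal := by
    refine ⟨fun x hx g => ?_⟩
    rw [hmemN'] at hx ⊢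
    rw [map_mul, map_mul, map_inv]
    exact hnorm _ (Cfsg.Agent.S0270.toSpGL g).2 _ hx
  rcases spxpr6_normal_sp hm hex' N' hN'n with h | h
  · right
    intro x hx
    have hxA : ((Cfsg.Agent.S0270.toSpGL (Cfsg.Agent.S0270.ofSpGL ⟨x, hN hx⟩) : ↥(spGL m F)) :
        GL (Fin m ⊕ Fin m) F) = x := by
      rw [Cfsg.Agent.S0270.toSpGL_ofSpGL]
    have hmem : Cfsg.Agent.S0270.ofSpGL ⟨x, hN hx⟩ ∈ N' := by
      rw [hmemN', hxA]
      exact hx
    obtain ⟨l, hl⟩ := h _ hmem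
    have hl' : (x : Matrix (Fin m ⊕ Fin m) (Fin m ⊕ Fin m) F) = l • 1 := hl
    have hl0 : l ≠ 0 := by
      rintro rfl
      rw [zero_smul] at hl'
      have h1 : (x : Matrix (Fin m ⊕ Fin m) (Fin m ⊕ Fin m) F) *
          ((x⁻¹ : GL (Fin m ⊕ Fin m) F) : Matrix (Fin m ⊕ Fin m) (Fin m ⊕ Fin m) F) = 1 := by
        rw [← Units.val_mul, mul_inv_cancel, Units.val_one]
      rw [hl', zero_mul] at h1
      have h2 := congrFun (congrFun h1 (Sum.inl ⟨0, by omega⟩)) (Sum.inl ⟨0, by omega⟩)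
      simp at h2
    rw [mem_scalars_iff]
    exact ⟨Units.mk0 l hl0, hl'⟩
  · left
    apply le_antisymm hN
    intro y hy
    have hmem : Cfsg.Agent.S0270.ofSpGL ⟨y, hy⟩ ∈ N' := by rw [h]; exact Subgroup.mem_top _
    rw [hmemN', Cfsg.Agent.S0270.toSpGL_ofSpGL] at hmem
    exact hmem

theorem spxpr6_two_ne_zero (hodd : Odd (Fintype.card F)) : (2 : F) ≠ 0 := by
  intro h2
  have hchar : ringChar F = 2 := by
    have hp : (ringChar F).Prime := CharP.char_is_prime F (ringChar F)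
    have hdvd : ringChar F ∣ 2 := by
      rw [← CharP.cast_eq_zero_iff F (ringChar F) 2]
      exact_mod_cast h2
    exact (Nat.prime_dvd_prime_iff_eq hp Nat.prime_two).mp hdvd
  have heven := FiniteField.even_card_of_char_two hchar
  rcases hodd with ⟨k, hk⟩
  omega

theorem spxpr6_tv_pow (g : GL (Fin m ⊕ Fin m) F) (v : Fin m ⊕ Fin m → F)
    (hg : ∀ x, (g : Matrix (Fin m ⊕ Fin m) (Fin m ⊕ Fin m) F) *ᵥ x = x + sympForm m F x v • v) (n : ℕ)
    (x : Fin m ⊕ Fin m → F) :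
    ((g ^ n : GL (Fin m ⊕ Fin m) F) : Matrix (Fin m ⊕ Fin m) (Fin m ⊕ Fin m) F) *ᵥ x =
      x + ((n : F) * sympForm m F x v) • v := by
  induction n generalizing x with
  | zero => simp
  | succ n ih =>
    rw [pow_succ, Units.val_mul, ← Matrix.mulVec_mulVec, hg, Matrix.mulVec_add, Matrix.mulVec_smul, ih, ih,
      sympForm_self, mul_zero, zero_smul, add_zero, Nat.cast_succ, add_mul, one_mul, add_smul, add_assoc]

theorem pr_sp_sympl (hm : 2 ≤ m) (hex : ¬ (m = 2 ∧ Fintype.card F = 2)) (hodd : Odd (Fintype.card F))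
    (R : Subgroup (GL (Fin m ⊕ Fin m) F)) (h2 : IsPGroup 2 R)
    (hA : ActsAbsolutelyIrreducibly (matrixSet R)) (hsim : R ≤ similarityGroup (sympForm m F)) :
    ¬ spGL m F ≤ subgroupNormalizer R := by
  classical
  intro hle
  have h2F : (2 : F) ≠ 0 := spxpr6_two_ne_zero hodd
  have hnorm : ∀ g ∈ spGL m F, ∀ x ∈ R ⊓ spGL m F, g * x * g⁻¹ ∈ R ⊓ spGL m F := by
    intro g hg x hx
    refine ⟨?_, (spGL m F).mul_mem ((spGL m F).mul_mem hg hx.2) ((spGL m F).inv_mem hg)⟩
    have hgN : g ∈ Subgroup.normalizer (R : Set (GL (Fin m ⊕ Fin m) F)) := hle hg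
    exact (Subgroup.mem_normalizer_iff.mp hgN x).1 hx.1
  let i0 : Fin m ⊕ Fin m := Sum.inl ⟨0, by omega⟩
  let i1 : Fin m ⊕ Fin m := Sum.inr ⟨0, by omega⟩
  have hi : i0 ≠ i1 := by
    intro h
    exact Sum.inl_ne_inr h
  let v : Fin m ⊕ Fin m → F := Pi.single i0 1
  have hv : v ≠ 0 := by
    intro h
    have := congrFun h i0
    simp [v] at this
  obtain ⟨w, hw⟩ := sympForm_nondeg m v hv
  have hw' : sympForm m F w v ≠ 0 := by
    rw [sympForm_swap]
    exact neg_ne_zero.mpr hw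
  rcases spxpr6_normal hm hex (R ⊓ spGL m F) inf_le_right hnorm with hR1 | hR1
  · obtain ⟨g, hgS, hgM⟩ := Cfsg.Agent.S5646.tsGL v (1 : F)
    have hgR : g ∈ R := by
      have : g ∈ R ⊓ spGL m F := by rw [hR1]; exact hgM
      exact this.1
    have hgx : ∀ x, (g : Matrix (Fin m ⊕ Fin m) (Fin m ⊕ Fin m) F) *ᵥ x = x + sympForm m F x v • v := by
      intro x
      rw [Cfsg.Agent.S5646.ts_apply g v 1 hgS x, one_mul]
    obtain ⟨k, hk⟩ := h2 ⟨g, hgR⟩
    have hk' : g ^ (2 ^ k) = 1 := by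
      have := congrArg Subtype.val hk
      simpa using this
    have h3 := spxpr6_tv_pow g v hgx (2 ^ k) w
    rw [hk', Units.val_one, Matrix.one_mulVec] at h3
    have h4 : (((2 ^ k : ℕ) : F) * sympForm m F w v) • v = 0 := by
      have : w + 0 = w + (((2 ^ k : ℕ) : F) * sympForm m F w v) • v := by rw [add_zero]; exact h3
      exact (add_left_cancel this).symm
    rcases smul_eq_zero.mp h4 with h5 | h5
    · rcases mul_eq_zero.mp h5 with h6 | h6
      · rw [Nat.cast_pow, Nat.cast_ofNat] at h6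
        exact h2F (pow_eq_zero_iff (by
          intro hk0
          rw [hk0, pow_zero] at h6
          exact one_ne_zero h6) |>.mp h6)
      · exact hw' h6
    · exact hv h5
  · have hfne : ∃ u₀ v₀ : Fin m ⊕ Fin m → F, sympForm m F u₀ v₀ ≠ 0 := ⟨v, w, hw⟩
    obtain ⟨u₀, v₀, huv⟩ := hfne
    have hmul : ∀ a : R, ∃ c : Fˣ, ∀ u v : Fin m ⊕ Fin m → F,
        sympForm m F (((a : GL (Fin m ⊕ Fin m) F) : Matrix (Fin m ⊕ Fin m) (Fin m ⊕ Fin m) F) *ᵥ u)
          (((a : GL (Fin m ⊕ Fin m) F) : Matrix (Fin m ⊕ Fin m) (Fin m ⊕ Fin m) F) *ᵥ v) =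
          (c : F) * sympForm m F u v := fun a => hsim a.2
    choose μ hμ using hmul
    have huniq : ∀ (a : R) (c : Fˣ), (∀ u v : Fin m ⊕ Fin m → F,
        sympForm m F (((a : GL (Fin m ⊕ Fin m) F) : Matrix (Fin m ⊕ Fin m) (Fin m ⊕ Fin m) F) *ᵥ u)
          (((a : GL (Fin m ⊕ Fin m) F) : Matrix (Fin m ⊕ Fin m) (Fin m ⊕ Fin m) F) *ᵥ v) =
          (c : F) * sympForm m F u v) → μ a = c := by
      intro a c hc
      have h1 := hμ a u₀ v₀
      rw [hc u₀ v₀] at h1
      exact (Units.ext (mul_right_cancel₀ huv h1)).symm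
    let φ : R →* Fˣ :=
      { toFun := μ
        map_one' := huniq 1 1 (fun u v => by simp)
        map_mul' := fun a b => huniq (a * b) (μ a * μ b) (fun u v => by
          rw [Subgroup.coe_mul, Units.val_mul, ← Matrix.mulVec_mulVec, ← Matrix.mulVec_mulVec, hμ a, hμ b,
            Units.val_mul, mul_assoc]) }
    have hker : φ.ker ≤ Subgroup.center R := by
      intro a ha
      rw [MonoidHom.mem_ker] at ha
      have ha' : μ a = 1 := ha
      have haS : (a : GL (Fin m ⊕ Fin m) F) ∈ spGL m F := by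
        intro u v
        have := hμ a u v
        rw [ha', Units.val_one, one_mul] at this
        exact this
      have hsc := hR1 ⟨a.2, haS⟩
      rw [mem_scalars_iff] at hsc
      obtain ⟨c, hc⟩ := hsc
      rw [Subgroup.mem_center_iff]
      intro b
      apply Subtype.ext
      apply Units.ext
      rw [Subgroup.coe_mul, Subgroup.coe_mul, Units.val_mul, Units.val_mul, hc, Matrix.mul_smul,
        Matrix.smul_mul, Matrix.mul_one, Matrix.one_mul]
    have hcomm : ∀ a b : R, a * b = b * a :=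
      (MonoidHom.isMulCommutative_of_isCyclic_of_ker_le_center φ hker).is_comm.comm
    have hscal : ∀ a ∈ R, ∃ c : F, ((a : GL (Fin m ⊕ Fin m) F) : Matrix (Fin m ⊕ Fin m) (Fin m ⊕ Fin m) F) =
        c • 1 := by
      intro a ha
      apply hA.2
      rintro s ⟨b, hb, rfl⟩
      have := hcomm ⟨a, ha⟩ ⟨b, hb⟩
      have h3 := congrArg (fun z : R => ((z : GL (Fin m ⊕ Fin m) F) :
        Matrix (Fin m ⊕ Fin m) (Fin m ⊕ Fin m) F)) this
      simpa using h3
    obtain ⟨c, hc⟩ := hA.2 (Matrix.single i0 i1 (1 : F)) (by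
      rintro s ⟨x, hx, rfl⟩
      obtain ⟨c, hc⟩ := hscal x hx
      show Matrix.single i0 i1 (1 : F) * ((x : GL (Fin m ⊕ Fin m) F) :
        Matrix (Fin m ⊕ Fin m) (Fin m ⊕ Fin m) F) =
        ((x : GL (Fin m ⊕ Fin m) F) : Matrix (Fin m ⊕ Fin m) (Fin m ⊕ Fin m) F) * Matrix.single i0 i1 (1 : F)
      rw [hc]
      simp)
    have h01 := congrFun (congrFun hc i0) i1
    simp [hi] at h01

end Cfsg.Agent.Lib.helper6.SPX
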