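import Mathlib
import Cfsg.Prelude.Def_GeometricClasses
import Cfsg.Agent.Lib.Helper27.ASC.Defs
import Cfsg.Agent.Lib.helper6.Symp
import Cfsg.Agent.S5646
import Cfsg.Agent.Lib.Helper11.LXPRT
import Cfsg.Agent.S0246

set_option autoImplicit false
set_option linter.unusedVariables false
set_option linter.unusedSectionVars false
set_option linter.style.haveILetI false

namespace Cfsg.Agent.Lib.helper6.SPX

open Cfsg Cfsg.Geo Cfsg.Agent.Lib.Helper27.ASC
open scoped MatrixGroups Matrix Kronecker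

variable {m : ℕ} {F : Type*} [Field F] [Fintype F]

def spxpr7Pt {k t : ℕ} (u : Fin t → Fin k → F) : (Fin t → Fin k) → F := fun x => ∏ i, u i (x i)

omit [Fintype F] in
theorem spxpr7_shape_mulVec {k t : ℕ} (σ : Equiv.Perm (Fin t)) (c : Fin t → Matrix (Fin k) (Fin k) F)
    (M : Matrix (Fin t → Fin k) (Fin t → Fin k) F)
    (hM : ∀ x y, M x y = ∏ i, c i (x i) (y (σ i))) (u : Fin t → Fin k → F) :
    M *ᵥ spxpr7Pt u = spxpr7Pt (fun i => c i *ᵥ u (σ i)) := by
  classical
  funext x
  simp only [Matrix.mulVec, dotProduct, spxpr7Pt]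
  have h2 := Finset.prod_univ_sum (fun _ : Fin t => (Finset.univ : Finset (Fin k)))
    (fun i b => c i (x i) b * u (σ i) b)
  rw [Fintype.piFinset_univ] at h2
  rw [h2]
  symm
  apply Fintype.sum_equiv (Equiv.arrowCongr σ (Equiv.refl (Fin k)))
  intro z
  rw [hM, Finset.prod_mul_distrib]
  congr 1
  · refine Finset.prod_congr rfl fun i _ => ?_
    simp [Equiv.arrowCongr]
  · rw [← Equiv.prod_comp σ (fun j => u j ((Equiv.arrowCongr σ (Equiv.refl (Fin k))) z j))]
    refine Finset.prod_congr rfl fun i _ => ?_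
    simp [Equiv.arrowCongr]

omit [Fintype F] in
theorem spxpr7_pt_update {k t : ℕ} (u : Fin t → Fin k → F) (x : Fin t → Fin k) (i : Fin t) (a : Fin k) :
    spxpr7Pt u (Function.update x i a) = u i a * ∏ j ∈ Finset.univ.erase i, u j (x j) := by
  classical
  unfold spxpr7Pt
  rw [← Finset.mul_prod_erase _ _ (Finset.mem_univ i), Function.update_self]
  congr 1
  refine Finset.prod_congr rfl fun j hj => ?_
  rw [Function.update_of_ne (Finset.ne_of_mem_erase hj)]

omit [Fintype F] in
theorem spxpr7_pt_update' {k t : ℕ} (u : Fin t → Fin k → F) (l : Fin t) (v : Fin k → F)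
    (x : Fin t → Fin k) :
    spxpr7Pt (Function.update u l v) x = v (x l) * ∏ j ∈ Finset.univ.erase l, u j (x j) := by
  classical
  unfold spxpr7Pt
  rw [← Finset.mul_prod_erase _ _ (Finset.mem_univ l), Function.update_self]
  congr 1
  refine Finset.prod_congr rfl fun j hj => ?_
  rw [Function.update_of_ne (Finset.ne_of_mem_erase hj)]

omit [Fintype F] in
theorem spxpr7_kernel {k t : ℕ} (hk : 2 ≤ k) (Y : (Fin t → Fin k) → F) (u : Fin t → Fin k → F) (l : Fin t) :
    ∃ v : Fin k → F, v ≠ 0 ∧ Y ⬝ᵥ spxpr7Pt (Function.update u l v) = 0 := by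
  classical
  let φ : (Fin k → F) →ₗ[F] F :=
    { toFun := fun v => ∑ x : Fin t → Fin k, Y x * (v (x l) * ∏ j ∈ Finset.univ.erase l, u j (x j))
      map_add' := by
        intro v v'
        rw [← Finset.sum_add_distrib]
        refine Finset.sum_congr rfl fun x _ => ?_
        simp only [Pi.add_apply]
        ring
      map_smul' := by
        intro r v
        simp only [RingHom.id_apply, smul_eq_mul]
        rw [Finset.mul_sum]
        refine Finset.sum_congr rfl fun x _ => ?_
        simp only [Pi.smul_apply, smul_eq_mul]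
        ring }
  have hker : LinearMap.ker φ ≠ ⊥ := by
    intro hbot
    have hinj : Function.Injective φ := LinearMap.ker_eq_bot.mp hbot
    have := LinearMap.finrank_le_finrank_of_injective hinj
    rw [Module.finrank_fin_fun, Module.finrank_self] at this
    omega
  obtain ⟨v, hv, hv0⟩ := (Submodule.ne_bot_iff _).mp hker
  refine ⟨v, hv0, ?_⟩
  have h1 : φ v = 0 := hv
  rw [← h1]
  unfold dotProduct
  refine Finset.sum_congr rfl fun x _ => ?_
  rw [spxpr7_pt_update']

omit [Fintype F] in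
theorem spxpr7_parallel {k t : ℕ} (u u' : Fin t → Fin k → F) (h : spxpr7Pt u' = spxpr7Pt u)
    (x : Fin t → Fin k) (hx : spxpr7Pt u x ≠ 0) (i : Fin t) :
    ∃ r : F, r ≠ 0 ∧ u' i = r • u i := by
  classical
  set p := ∏ j ∈ Finset.univ.erase i, u j (x j) with hp
  set p' := ∏ j ∈ Finset.univ.erase i, u' j (x j) with hp'
  have h1 : ∀ a, u' i a * p' = u i a * p := by
    intro a
    have := congrFun h (Function.update x i a)
    rwa [spxpr7_pt_update, spxpr7_pt_update] at this
  have h2 : u i (x i) * p ≠ 0 := by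
    have := spxpr7_pt_update u x i (x i)
    rw [Function.update_eq_self] at this
    rw [← this]
    exact hx
  have hp0 : p ≠ 0 := right_ne_zero_of_mul h2
  have hp'0 : p' ≠ 0 := by
    rw [← h1] at h2
    exact right_ne_zero_of_mul h2
  refine ⟨p / p', div_ne_zero hp0 hp'0, ?_⟩
  funext a
  rw [Pi.smul_apply, smul_eq_mul]
  have := h1 a
  field_simp
  linear_combination this

omit [Fintype F] in
theorem spxpr7_fixed {k t : ℕ} (σ : Equiv.Perm (Fin t)) (c : Fin t → Matrix (Fin k) (Fin k) F)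
    (M : Matrix (Fin t → Fin k) (Fin t → Fin k) F)
    (hM : ∀ x y, M x y = ∏ i, c i (x i) (y (σ i))) (X Y : (Fin t → Fin k) → F)
    (h : M = 1 + Matrix.vecMulVec X Y) (u : Fin t → Fin k → F) (hu : Y ⬝ᵥ spxpr7Pt u = 0) :
    spxpr7Pt (fun i => c i *ᵥ u (σ i)) = spxpr7Pt u := by
  classical
  rw [← spxpr7_shape_mulVec σ c M hM u, h, Matrix.add_mulVec, Matrix.one_mulVec]
  have : Matrix.vecMulVec X Y *ᵥ spxpr7Pt u = 0 := by
    funext x
    simp only [Matrix.mulVec, dotProduct, Matrix.vecMulVec_apply, Pi.zero_apply]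
    have h2 : ∑ y, X x * Y y * spxpr7Pt u y = X x * ∑ y, Y y * spxpr7Pt u y := by
      rw [Finset.mul_sum]
      refine Finset.sum_congr rfl fun y _ => ?_
      ring
    rw [h2]
    unfold dotProduct at hu
    rw [hu, mul_zero]
  rw [this, add_zero]

omit [Fintype F] in
theorem spxpr7_pt_ne {k t : ℕ} (u : Fin t → Fin k → F) (hu : ∀ j, u j ≠ 0) :
    ∃ x, spxpr7Pt u x ≠ 0 := by
  classical
  have h1 : ∀ j, ∃ a, u j a ≠ 0 := by
    intro j
    by_contra hcon
    push Not at hcon
    exact hu j (funext hcon)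
  choose x hx using h1
  refine ⟨x, ?_⟩
  unfold spxpr7Pt
  exact Finset.prod_ne_zero_iff.mpr fun j _ => hx j

omit [Fintype F] in
theorem spxpr7_sigma_one {k t : ℕ} (hk : 2 ≤ k) (ht : 3 ≤ t) (σ : Equiv.Perm (Fin t))
    (c : Fin t → Matrix (Fin k) (Fin k) F) (M : Matrix (Fin t → Fin k) (Fin t → Fin k) F)
    (hM : ∀ x y, M x y = ∏ i, c i (x i) (y (σ i))) (X Y : (Fin t → Fin k) → F)
    (h : M = 1 + Matrix.vecMulVec X Y) : σ = 1 := by
  classical
  by_contra hσ
  obtain ⟨i, hi⟩ : ∃ i, σ i ≠ i := by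
    by_contra hcon
    push Not at hcon
    exact hσ (Equiv.ext hcon)
  obtain ⟨l, -, hl⟩ : ∃ l ∈ (Finset.univ : Finset (Fin t)), l ∉ ({i, σ i} : Finset (Fin t)) := by
    apply Finset.exists_mem_notMem_of_card_lt_card
    have h1 : ({i, σ i} : Finset (Fin t)).card ≤ 2 := Finset.card_le_two
    rw [Finset.card_univ, Fintype.card_fin]
    omega
  have hli : l ≠ i := by
    intro hh
    exact hl (by rw [hh]; exact Finset.mem_insert_self _ _)
  have hls : l ≠ σ i := by
    intro hh
    exact hl (by rw [hh]; exact Finset.mem_insert_of_mem (Finset.mem_singleton_self _))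
  let e0 : Fin k := ⟨0, by omega⟩
  let e1 : Fin k := ⟨1, by omega⟩
  have he01 : e1 ≠ e0 := by
    intro hh
    have := congrArg Fin.val hh
    simp [e0, e1] at this
  set w : Fin k → F := c i *ᵥ Pi.single e0 1 with hw
  let u0 : Fin t → Fin k → F := fun j =>
    if j = i then (if w e1 = 0 then Pi.single e1 1 else Pi.single e0 1) else Pi.single e0 1
  obtain ⟨v, hv0, hv⟩ := spxpr7_kernel hk Y u0 l
  set u := Function.update u0 l v with hu
  have hune : ∀ j, u j ≠ 0 := by
    intro j
    by_cases hj : j = l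
    · rw [hu, hj, Function.update_self]
      exact hv0
    · rw [hu, Function.update_of_ne hj]
      simp only [u0]
      split_ifs
      · intro hh
        have := congrFun hh e1
        simp at this
      · intro hh
        have := congrFun hh e0
        simp at this
      · intro hh
        have := congrFun hh e0
        simp at this
  obtain ⟨x, hx⟩ := spxpr7_pt_ne u hune
  have hfix := spxpr7_fixed σ c M hM X Y h u hv
  obtain ⟨r, hr0, hr⟩ := spxpr7_parallel u (fun i => c i *ᵥ u (σ i)) hfix x hx i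
  have hui : u i = u0 i := by rw [hu, Function.update_of_ne hli.symm]
  have husi : u (σ i) = Pi.single e0 1 := by
    rw [hu, Function.update_of_ne hls.symm]
    simp only [u0]
    rw [if_neg hi]
  rw [husi, ← hw, hui] at hr
  simp only [u0, if_pos rfl] at hr
  by_cases hw1 : w e1 = 0
  · rw [if_pos hw1] at hr
    have := congrFun hr e1
    rw [hw1, Pi.smul_apply, Pi.single_eq_same, smul_eq_mul, mul_one] at this
    exact hr0 this.symm
  · rw [if_neg hw1] at hr
    have := congrFun hr e1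
    rw [Pi.smul_apply, Pi.single_eq_of_ne he01, smul_zero] at this
    exact hw1 this

omit [Fintype F] in
theorem spxpr7_scalar {k t : ℕ} (hk : 2 ≤ k) (ht : 2 ≤ t)
    (c : Fin t → Matrix (Fin k) (Fin k) F) (M : Matrix (Fin t → Fin k) (Fin t → Fin k) F)
    (hM : ∀ x y, M x y = ∏ i, c i (x i) (y i)) (X Y : (Fin t → Fin k) → F)
    (h : M = 1 + Matrix.vecMulVec X Y) (i : Fin t) : ∃ μ : F, c i = μ • (1 : Matrix (Fin k) (Fin k) F) := by
  classical
  apply Cfsg.Agent.S0246.scalar_of_all_eigen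
  intro v0
  by_cases hv00 : v0 = 0
  · exact ⟨0, by rw [hv00, Matrix.mulVec_zero, smul_zero]⟩
  obtain ⟨l, hli⟩ : ∃ l : Fin t, l ≠ i := by
    by_cases hi : (i : ℕ) = 0
    · refine ⟨⟨1, by omega⟩, ?_⟩
      intro hh
      have := congrArg Fin.val hh
      simp only at this
      omega
    · refine ⟨⟨0, by omega⟩, ?_⟩
      intro hh
      have := congrArg Fin.val hh
      simp only at this
      omega
  let e0 : Fin k := ⟨0, by omega⟩
  let u0 : Fin t → Fin k → F := fun j => if j = i then v0 else Pi.single e0 1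
  obtain ⟨v, hv0, hv⟩ := spxpr7_kernel hk Y u0 l
  set u := Function.update u0 l v with hu
  have hune : ∀ j, u j ≠ 0 := by
    intro j
    by_cases hj : j = l
    · rw [hu, hj, Function.update_self]
      exact hv0
    · rw [hu, Function.update_of_ne hj]
      simp only [u0]
      split_ifs
      · exact hv00
      · intro hh
        have := congrFun hh e0
        simp at this
  obtain ⟨x, hx⟩ := spxpr7_pt_ne u hune
  have hfix := spxpr7_fixed 1 c M (by intro x y; rw [hM]; rfl) X Y h u hv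
  obtain ⟨r, hr0, hr⟩ := spxpr7_parallel u (fun i => c i *ᵥ u ((1 : Equiv.Perm (Fin t)) i)) hfix x hx i
  have hui : u i = v0 := by
    rw [hu, Function.update_of_ne hli.symm]
    simp only [u0, if_pos rfl]
  simp only [Equiv.Perm.coe_one, id_eq] at hr
  rw [hui] at hr
  exact ⟨r, hr⟩

omit [Fintype F] in
theorem spxpr7_core {k t : ℕ} (hk : 2 ≤ k) (ht : 3 ≤ t)
    (M : Matrix (Fin t → Fin k) (Fin t → Fin k) F) (hM : Cfsg.Agent.Lib.Helper27.ASC.LxprtShape k t M)
    (X Y : (Fin t → Fin k) → F) (hX : X ≠ 0) (hY : Y ≠ 0)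
    (h : M = 1 + Matrix.vecMulVec X Y) : False := by
  classical
  obtain ⟨σ, c, hM⟩ := hM
  have hσ := spxpr7_sigma_one hk ht σ c M hM X Y h
  subst hσ
  have hM' : ∀ x y, M x y = ∏ i, c i (x i) (y i) := by
    intro x y
    rw [hM]
    rfl
  choose μ hμ using spxpr7_scalar hk (by omega) c M hM' X Y h
  have hoff : ∀ x y, x ≠ y → X x * Y y = 0 := by
    intro x y hxy
    have h1 := congrFun (congrFun h x) y
    rw [Matrix.add_apply, Matrix.one_apply_ne hxy, zero_add, Matrix.vecMulVec_apply] at h1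
    rw [← h1, hM']
    obtain ⟨j, hj⟩ : ∃ j, x j ≠ y j := by
      by_contra hcon
      push Not at hcon
      exact hxy (funext hcon)
    apply Finset.prod_eq_zero (Finset.mem_univ j)
    rw [hμ j, Matrix.smul_apply, Matrix.one_apply_ne hj, smul_zero]
  have hdiag : ∀ x, ∏ i, μ i = 1 + X x * Y x := by
    intro x
    have h1 := congrFun (congrFun h x) x
    rw [Matrix.add_apply, Matrix.one_apply_eq, Matrix.vecMulVec_apply] at h1
    rw [← h1, hM']
    refine Finset.prod_congr rfl fun i _ => ?_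
    rw [hμ i, Matrix.smul_apply, Matrix.one_apply_eq, smul_eq_mul, mul_one]
  obtain ⟨x0, hx0⟩ : ∃ x, X x ≠ 0 := by
    by_contra hcon
    push Not at hcon
    exact hX (funext hcon)
  obtain ⟨y0, hy0⟩ : ∃ y, Y y ≠ 0 := by
    by_contra hcon
    push Not at hcon
    exact hY (funext hcon)
  have hxy : x0 = y0 := by
    by_contra hne
    exact mul_ne_zero hx0 hy0 (hoff x0 y0 hne)
  subst hxy
  let e0 : Fin k := ⟨0, by omega⟩
  let e1 : Fin k := ⟨1, by omega⟩
  have he01 : e1 ≠ e0 := by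
    intro hh
    have := congrArg Fin.val hh
    simp [e0, e1] at this
  let j0 : Fin t := ⟨0, by omega⟩
  obtain ⟨x1, hx1⟩ : ∃ x1 : Fin t → Fin k, x1 ≠ x0 := by
    by_cases hh : x0 j0 = e0
    · refine ⟨Function.update x0 j0 e1, fun hcon => ?_⟩
      have := congrFun hcon j0
      rw [Function.update_self, hh] at this
      exact he01 this
    · refine ⟨Function.update x0 j0 e0, fun hcon => ?_⟩
      have := congrFun hcon j0
      rw [Function.update_self] at this
      exact hh this.symm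
  have hX1 : X x1 = 0 := by
    rcases mul_eq_zero.mp (hoff x1 x0 hx1) with h1 | h1
    · exact h1
    · exact absurd h1 hy0
  have h1 := hdiag x1
  have h0 := hdiag x0
  rw [hX1, zero_mul, add_zero] at h1
  rw [h1] at h0
  have : X x0 * Y x0 = 0 := by linear_combination -h0
  exact mul_ne_zero hx0 hy0 this

theorem pr_sp_wreath {k t : ℕ} (hk : 2 ≤ k) (ht : 3 ≤ t) (e : (Fin m ⊕ Fin m) ≃ (Fin t → Fin k))
    (P : GL (Fin m ⊕ Fin m) F) : ¬ spGL m F ≤ tensorWreathSubgroup k t e P := by
  classical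
  intro hle
  let x₀ : Fin t → Fin k := fun _ => ⟨0, by omega⟩
  let i₀ : Fin m ⊕ Fin m := e.symm x₀
  let v : Fin m ⊕ Fin m → F := Pi.single i₀ 1
  have hv : v ≠ 0 := by
    intro h
    have := congrFun h i₀
    simp [v] at this
  set w : Fin m ⊕ Fin m → F := Matrix.J (Fin m) F *ᵥ v with hw
  have hw0 : w ≠ 0 := by
    intro h
    apply hv
    have := Cfsg.Agent.Lib.helper6.J_mulVec_J_mulVec m v
    rw [← hw, h, Matrix.mulVec_zero] at this
    exact neg_eq_zero.mp this.symm
  obtain ⟨g, hg, hgS⟩ := Cfsg.Agent.S5646.tsGL v (1 : F)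
  have hgT := hle hgS
  unfold tensorWreathSubgroup at hgT
  obtain ⟨y, hy, hyg⟩ := hgT
  obtain ⟨k', hk', rfl⟩ := hy
  have hshape := Cfsg.Agent.Lib.Helper27.ASC.lxprt_shape_of_mem k t k' hk'
  have hPi : ((P⁻¹ : GL (Fin m ⊕ Fin m) F) : Matrix (Fin m ⊕ Fin m) (Fin m ⊕ Fin m) F) *
      (P : Matrix (Fin m ⊕ Fin m) (Fin m ⊕ Fin m) F) = 1 := by
    rw [← Units.val_mul, inv_mul_cancel, Units.val_one]
  have hPi' : (P : Matrix (Fin m ⊕ Fin m) (Fin m ⊕ Fin m) F) *
      ((P⁻¹ : GL (Fin m ⊕ Fin m) F) : Matrix (Fin m ⊕ Fin m) (Fin m ⊕ Fin m) F) = 1 := by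
    rw [← Units.val_mul, mul_inv_cancel, Units.val_one]
  have h3 : (glReindex e.symm k' : GL (Fin m ⊕ Fin m) F) = P⁻¹ * g * P := by
    rw [← hyg]
    show _ = P⁻¹ * (P * glReindex e.symm k' * P⁻¹) * P
    group
  have h4 : (k' : Matrix (Fin t → Fin k) (Fin t → Fin k) F).submatrix e e =
      1 + Matrix.vecMulVec (((P⁻¹ : GL (Fin m ⊕ Fin m) F) : Matrix (Fin m ⊕ Fin m) (Fin m ⊕ Fin m) F) *ᵥ v)
        (w ᵥ* (P : Matrix (Fin m ⊕ Fin m) (Fin m ⊕ Fin m) F)) := by
    have h5 := congrArg (fun u : GL (Fin m ⊕ Fin m) F => (u : Matrix (Fin m ⊕ Fin m) (Fin m ⊕ Fin m) F)) h3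
    simp only [Units.val_mul] at h5
    rw [hg] at h5
    unfold Cfsg.sympTransvection at h5
    rw [one_smul, Matrix.mul_add, Matrix.add_mul, mul_one, hPi, Matrix.mul_vecMulVec, Matrix.vecMulVec_mul] at h5
    rw [← h5]
    rfl
  set x' : Fin m ⊕ Fin m → F :=
    ((P⁻¹ : GL (Fin m ⊕ Fin m) F) : Matrix (Fin m ⊕ Fin m) (Fin m ⊕ Fin m) F) *ᵥ v with hx'
  set y' : Fin m ⊕ Fin m → F := w ᵥ* (P : Matrix (Fin m ⊕ Fin m) (Fin m ⊕ Fin m) F) with hy'
  have hx'0 : x' ≠ 0 := by
    intro h
    apply hv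
    have : (P : Matrix (Fin m ⊕ Fin m) (Fin m ⊕ Fin m) F) *ᵥ x' = v := by
      rw [hx', Matrix.mulVec_mulVec, hPi', Matrix.one_mulVec]
    rw [← this, h, Matrix.mulVec_zero]
  have hy'0 : y' ≠ 0 := by
    intro h
    apply hw0
    have : y' ᵥ* ((P⁻¹ : GL (Fin m ⊕ Fin m) F) : Matrix (Fin m ⊕ Fin m) (Fin m ⊕ Fin m) F) = w := by
      rw [hy', Matrix.vecMul_vecMul, hPi', Matrix.vecMul_one]
    rw [← this, h, Matrix.zero_vecMul]
  apply spxpr7_core hk ht (k' : Matrix (Fin t → Fin k) (Fin t → Fin k) F) hshape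
    (fun p => x' (e.symm p)) (fun q => y' (e.symm q))
  · intro h
    apply hx'0
    funext p
    have := congrFun h (e p)
    simpa using this
  · intro h
    apply hy'0
    funext p
    have := congrFun h (e p)
    simpa using this
  · ext p q
    have h5 := congrFun (congrFun h4 (e.symm p)) (e.symm q)
    rw [Matrix.submatrix_apply, Equiv.apply_symm_apply, Equiv.apply_symm_apply, Matrix.add_apply,
      Matrix.vecMulVec_apply, Matrix.one_apply] at h5
    rw [h5, Matrix.add_apply, Matrix.vecMulVec_apply, Matrix.one_apply]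
    congr 1
    by_cases hpq : p = q
    · rw [if_pos hpq, if_pos (by rw [hpq])]
    · rw [if_neg hpq, if_neg (fun h => hpq (e.symm.injective h))]

end Cfsg.Agent.Lib.helper6.SPX
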