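import Mathlib
import Cfsg.Prelude.Def_GeometricClasses
import Cfsg.Agent.Lib.Helper27.ASC.Defs
import Cfsg.Agent.S5646
import Cfsg.Agent.Lib.Helper1.SPXT24f

set_option autoImplicit false
set_option linter.unusedVariables false
set_option linter.unusedSectionVars false

namespace Cfsg.Agent.Lib.helper6.SPX

open Cfsg Cfsg.Geo Cfsg.Agent.Lib.Helper27.ASC
open scoped MatrixGroups Matrix Kronecker

variable {m : ℕ} {F : Type*} [Field F] [Fintype F]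

theorem tensor24_plus (hodd : Odd (Fintype.card F)) (e : (Fin 4 ⊕ Fin 4) ≃ Fin 2 × Fin 4) (P : GL (Fin 4 ⊕ Fin 4) F)
    (f₁ : (Fin 2 → F) → (Fin 2 → F) → F) (f₂ : (Fin 4 → F) → (Fin 4 → F) → F)
    (hf₁ : IsSymplecticForm f₁) (hf₂ : IsSymmetricForm f₂) (hplus : IsPlusTypeOn (fun v : Fin 4 → F => f₂ v v) ⊤)
    (hT : IsTensorFormStructure id (sympForm 4 F) f₁ f₂ e P) :
    ∃ (e' : (Fin 4 ⊕ Fin 4) ≃ (Fin 3 → Fin 2)) (P' : GL (Fin 4 ⊕ Fin 4) F) (f₁' : (Fin 2 → F) → (Fin 2 → F) → F),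
      IsSymplecticForm f₁' ∧ IsTensorPowerFormStructure id (sympForm 4 F) f₁' e' P' ∧
      tensorProductSubgroup 2 4 e P ⊓ spGL 4 F ≤ tensorWreathSubgroup 2 3 e' P' ∧
      ¬ tensorWreathSubgroup 2 3 e' P' ⊓ spGL 4 F ≤ tensorProductSubgroup 2 4 e P := by
  classical
  have h2 : (2 : F) ≠ 0 := Cfsg.Agent.Lib.Helper1.T24.two_ne_zero_of_odd hodd
  obtain ⟨c, hc, hT'⟩ := hT
  obtain ⟨l, hl, hG₁⟩ := Cfsg.Agent.Lib.Helper1.T24.gram_alt2 f₁ hf₁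
  obtain ⟨S, hS⟩ := Cfsg.Agent.Lib.Helper1.T24.plus_normal h2 f₂ hf₂ hplus Cfsg.Agent.Lib.Helper1.T24.psi
  have hG₁0 : gramMatrix f₁ ≠ 0 := by
    intro h0
    have h01 : (l • Cfsg.Agent.Lib.Helper1.T24.Jm F) 0 1 = (0 : Matrix (Fin 2) (Fin 2) F) 0 1 :=
      congrFun (congrFun (hG₁.symm.trans h0) 0) 1
    have h02 : (l • Cfsg.Agent.Lib.Helper1.T24.Jm F) 0 1 = l := by
      simp [Cfsg.Agent.Lib.Helper1.T24.Jm]
    exact hl (h02.symm.trans h01)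
  have hG₂0 : gramMatrix f₂ ≠ 0 := by
    intro h0
    apply Cfsg.Agent.Lib.Helper28.OTens.gram_det_ne_zero hf₂.bilinear hf₂.nondegenerate
    rw [h0, Matrix.det_zero]
  have hform : ∀ x y : (Fin 3 → Fin 2) → F,
      sympForm 4 F
        (((P * glReindex e.symm (Cfsg.Agent.Lib.Helper1.T24.K1 S) : GL (Fin 4 ⊕ Fin 4) F) :
          Matrix (Fin 4 ⊕ Fin 4) (Fin 4 ⊕ Fin 4) F) *ᵥ (x ∘ (e.trans Cfsg.Agent.Lib.Helper1.T24.theta)))
        (((P * glReindex e.symm (Cfsg.Agent.Lib.Helper1.T24.K1 S) : GL (Fin 4 ⊕ Fin 4) F) :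
          Matrix (Fin 4 ⊕ Fin 4) (Fin 4 ⊕ Fin 4) F) *ᵥ (y ∘ (e.trans Cfsg.Agent.Lib.Helper1.T24.theta))) =
        (c * l) * ∑ a, ∑ b, x a * (∏ i, Cfsg.Agent.Lib.Helper1.T24.Jm F (a i) (b i)) * id (y b) :=
    Cfsg.Agent.Lib.Helper1.T24.form_structure (sympForm 4 F) e P _ _ c l hG₁ S hS hT'
  refine ⟨e.trans Cfsg.Agent.Lib.Helper1.T24.theta, P * glReindex e.symm (Cfsg.Agent.Lib.Helper1.T24.K1 S),
    Cfsg.Agent.Lib.Helper1.T24.Jf F, Cfsg.Agent.Lib.Helper1.T24.Jf_symp, ?_, ?_, ?_⟩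
  · refine ⟨c * l, mul_ne_zero hc hl, fun x y => ?_⟩
    rw [Cfsg.Agent.Lib.Helper1.T24.Jf_gram]
    exact hform x y
  · intro g hg
    obtain ⟨hg1, hg2⟩ := hg
    unfold tensorProductSubgroup at hg1
    obtain ⟨y, ⟨k, ⟨a, b, hk⟩, rfl⟩, rfl⟩ := hg1
    have hgg : (MulAut.conj P).toMonoidHom ((glReindex e.symm).toMonoidHom k) =
        P * glReindex e.symm k * P⁻¹ := rfl
    rw [hgg] at hg2 ⊢
    have hiso := (Cfsg.Agent.S5646.mem_spGL_iff _).mp hg2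
    have hmem := Cfsg.Agent.Lib.Helper1.T24.contain_core h2 (sympForm 4 F) e P _ _ c hc hG₁0 hG₂0 S hS hT' k a b hk
      hiso
    rw [Cfsg.Agent.Lib.Helper1.T24.conj_reindex e Cfsg.Agent.Lib.Helper1.T24.theta P
      (Cfsg.Agent.Lib.Helper1.T24.K1 S) k]
    unfold tensorWreathSubgroup
    exact ⟨_, ⟨_, hmem, rfl⟩, rfl⟩
  · intro hle
    apply Cfsg.Agent.Lib.Helper1.T24.strict_core e P S
    apply hle
    refine ⟨?_, ?_⟩
    · unfold tensorWreathSubgroup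
      refine ⟨_, ⟨_, Subgroup.subset_closure
        (Or.inr (Cfsg.Agent.Lib.Helper19.ASG.asgd2tptperm_isFactorPermutation (Equiv.swap 0 1))), rfl⟩, rfl⟩
    · show _ ∈ spGL 4 F
      rw [Cfsg.Agent.S5646.mem_spGL_iff]
      intro u v
      exact Cfsg.Agent.Lib.Helper1.T24.perm_iso (sympForm 4 F) _ _ (c * l) _ hform (Equiv.swap 0 1) u v

end Cfsg.Agent.Lib.helper6.SPX
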