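import Mathlib
import Cfsg.Prelude.Def_LieTypeChar
import Cfsg.Prelude.Def_ChevStructure
import Cfsg.Agent.Lib.helper14.SQD.Defs

/-!
Project SQD = S4625 (designer helper14), rows X4 (`good2_of_equiv`), X6 (`good2_sylow`), X10 (`good2_quot_card`),
X11 (`semi_good`), written by helper1.  Self-contained: own-name copies `sqdx4_map` (= X2), `sqdx10_of_card` (= X7),
`sqdx11_of_closure` (= X1) of the rows they cite.
-/

set_option autoImplicit false

namespace Cfsg.Agent.Lib.helper14.SQD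

open Cfsg Cfsg.Lie Matrix
open scoped commutatorElement

universe u v

/-- own-name copy of X2. -/
theorem sqdx4_map {G : Type u} {H : Type v} [Group G] [Group H] (f : G →* H) (U : Subgroup G)
    (h : SqD U) : SqD (U.map f) := by
  intro x hx
  obtain ⟨y, hy, rfl⟩ := hx
  rw [← Subgroup.map_commutator, ← map_pow]
  exact Subgroup.mem_map_of_mem f (h y hy)

/-- X4 -/
theorem good2_of_equiv {G : Type u} {H : Type v} [Group G] [Group H] (e : G ≃* H) (h : Good2 H) :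
    Good2 G := by
  obtain ⟨U, hp, hi, hS⟩ := h
  refine ⟨U.map e.symm.toMonoidHom, hp.map _, ?_, sqdx4_map _ U hS⟩
  have : (U.map e.symm.toMonoidHom).index = U.index := Subgroup.index_map_equiv U e.symm
  rw [this]
  exact hi

/-- own-name copy of X7. -/
theorem sqdx10_of_card {G : Type u} [Group G] [Finite G] (U : Subgroup G) (k r : ℕ)
    (hp : IsPGroup 2 U) (hU : 2 ^ k ≤ Nat.card U) (hG : Nat.card G = 2 ^ k * r) (hr : ¬ 2 ∣ r)
    (hS : SqD U) : Good2 G := by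
  have : Fact (Nat.Prime 2) := ⟨Nat.prime_two⟩
  refine ⟨U, hp, ?_, hS⟩
  obtain ⟨n, hn⟩ := (IsPGroup.iff_card).1 hp
  have hdvd : Nat.card U ∣ Nat.card G := Subgroup.card_subgroup_dvd_card U
  rw [hn, hG] at hdvd
  have hcop : Nat.Coprime (2 ^ n) r :=
    ((Nat.Prime.coprime_iff_not_dvd Nat.prime_two).2 hr).pow_left n
  have h1 : 2 ^ n ∣ 2 ^ k := hcop.dvd_of_dvd_mul_right hdvd
  have h2 : n ≤ k := (Nat.pow_dvd_pow_iff_le_right (by norm_num)).1 h1
  rw [hn] at hU
  have h3 : k ≤ n := (Nat.pow_le_pow_iff_right (by norm_num)).1 hU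
  have hnk : n = k := le_antisymm h2 h3
  have hci := Subgroup.card_mul_index U
  rw [hn, hG, hnk] at hci
  have hidx : U.index = r := Nat.eq_of_mul_eq_mul_left (by positivity) hci
  rw [hidx]
  exact hr

/-- X6 -/
theorem good2_sylow {G : Type u} [Group G] [Finite G] (h : Good2 G) (P : Sylow 2 G) :
    ∀ x : (P : Subgroup G), x ^ 2 ∈ commutator (P : Subgroup G) := by
  have : Fact (Nat.Prime 2) := ⟨Nat.prime_two⟩
  obtain ⟨U, hp, hi, hS⟩ := h
  -- `U` is a Sylow 2-subgroup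
  let Q : Sylow 2 G := hp.toSylow hi
  have hQ : (Q : Subgroup G) = U := IsPGroup.toSylow_coe hp hi
  obtain ⟨g, hg⟩ := MulAction.exists_smul_eq G Q P
  have hPU : (P : Subgroup G) = U.map (MulAut.conj g).toMonoidHom := by
    rw [← hg, Sylow.coe_subgroup_smul, hQ]
    rfl
  have hSP : SqD (P : Subgroup G) := by
    rw [hPU]
    exact sqdx4_map _ U hS
  intro x
  have hx := hSP x.1 x.2
  have hmap : (commutator (P : Subgroup G)).map (P : Subgroup G).subtype = ⁅(P : Subgroup G), (P : Subgroup G)⁆ := by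
    rw [commutator_def, Subgroup.map_commutator, ← MonoidHom.range_eq_map, Subgroup.range_subtype]
  rw [← hmap] at hx
  obtain ⟨y, hy, hyx⟩ := hx
  have : y = x ^ 2 := Subtype.ext (by simpa using hyx)
  rw [← this]
  exact hy

/-- X10 -/
theorem good2_quot_card {S : Type u} [Group S] [Finite S] (N : Subgroup S) [N.Normal] (U : Subgroup S)
    (k r : ℕ) (hp : IsPGroup 2 U) (hU : 2 ^ k ≤ Nat.card U) (hZ : U ⊓ N = ⊥)
    (hM : Nat.card (S ⧸ N) = 2 ^ k * r) (hr : ¬ 2 ∣ r) (hS : SqD U) : Good2 (S ⧸ N) := by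
  refine sqdx10_of_card (U.map (QuotientGroup.mk' N)) k r (hp.map _) ?_ hM hr (sqdx4_map _ U hS)
  -- the restriction of `mk' N` to `U` is injective
  have hinj : Function.Injective
      (fun x : U => (⟨QuotientGroup.mk' N x.1, Subgroup.mem_map_of_mem _ x.2⟩ :
        U.map (QuotientGroup.mk' N))) := by
    intro x y hxy
    have h1 : QuotientGroup.mk' N x.1 = QuotientGroup.mk' N y.1 := congrArg Subtype.val hxy
    have h2 : x.1⁻¹ * y.1 ∈ N := by
      rw [← QuotientGroup.eq]; exact h1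
    have h3 : x.1⁻¹ * y.1 ∈ U ⊓ N := ⟨U.mul_mem (U.inv_mem x.2) y.2, h2⟩
    rw [hZ, Subgroup.mem_bot] at h3
    apply Subtype.ext
    exact inv_mul_eq_one.1 h3
  exact le_trans hU (Nat.card_le_card_of_injective _ hinj)

/-- own-name copy of X1. -/
theorem sqdx11_of_closure {G : Type u} [Group G] (U : Subgroup G) (S : Set G)
    (hU : U = Subgroup.closure S) (hS : ∀ s ∈ S, s ^ 2 ∈ ⁅U, U⁆) : SqD U := by
  have key : ∀ x ∈ Subgroup.closure S, x ∈ U ∧ x ^ 2 ∈ ⁅U, U⁆ := by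
    intro x hx'
    induction hx' using Subgroup.closure_induction with
    | mem s hs => exact ⟨hU ▸ Subgroup.subset_closure hs, hS s hs⟩
    | one => exact ⟨U.one_mem, by rw [one_pow]; exact Subgroup.one_mem _⟩
    | mul a b _ _ ha hb =>
      refine ⟨U.mul_mem ha.1 hb.1, ?_⟩
      have e : (a * b) ^ 2 = a ^ 2 * ⁅a⁻¹, b⁆ * b ^ 2 := by
        rw [commutatorElement_def, pow_two, pow_two, pow_two]; group
      rw [e]
      exact Subgroup.mul_mem _ (Subgroup.mul_mem _ ha.2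
        (Subgroup.commutator_mem_commutator (U.inv_mem ha.1) hb.1)) hb.2
    | inv a _ ha =>
      refine ⟨U.inv_mem ha.1, ?_⟩
      have e : (a⁻¹) ^ 2 = (a ^ 2)⁻¹ := by rw [inv_pow]
      rw [e]
      exact Subgroup.inv_mem _ ha.2
  intro x hx
  exact (key x (hU ▸ hx)).2

/-- X11 -/
theorem semi_good {G : Type u} [Group G] [Finite G] (N L : Subgroup G) (hLN : L ≤ Subgroup.normalizer (N : Set G))
    (hN : IsPGroup 2 N) (hL : IsPGroup 2 L) (hNL : N ⊓ L = ⊥)
    (hN2 : ∀ x ∈ N, x ^ 2 ∈ ⁅N ⊔ L, N ⊔ L⁆) (hL2 : ∀ x ∈ L, x ^ 2 ∈ ⁅N ⊔ L, N ⊔ L⁆) :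
    IsPGroup 2 ↥(N ⊔ L) ∧ Nat.card N * Nat.card L ≤ Nat.card ↥(N ⊔ L) ∧ SqD (N ⊔ L) := by
  have : Fact (Nat.Prime 2) := ⟨Nat.prime_two⟩
  refine ⟨?_, ?_, ?_⟩
  · have := IsPGroup.to_sup_of_normal_right' hL hN hLN
    rwa [sup_comm] at this
  · rw [← Nat.card_prod]
    have hinj : Function.Injective (fun p : N × L =>
        (⟨p.1.1 * p.2.1, Subgroup.mul_mem _ (Subgroup.mem_sup_left p.1.2) (Subgroup.mem_sup_right p.2.2)⟩ :
          ↥(N ⊔ L))) := by
      rintro ⟨n, l⟩ ⟨n', l'⟩ hxy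
      have h1 : n.1 * l.1 = n'.1 * l'.1 := congrArg Subtype.val hxy
      have h2 : n'.1⁻¹ * n.1 = l'.1 * l.1⁻¹ := by
        have : n'.1⁻¹ * (n.1 * l.1) * l.1⁻¹ = n'.1⁻¹ * (n'.1 * l'.1) * l.1⁻¹ := by rw [h1]
        simpa [mul_assoc] using this
      have h3 : n'.1⁻¹ * n.1 ∈ N ⊓ L :=
        ⟨N.mul_mem (N.inv_mem n'.2) n.2, by rw [h2]; exact L.mul_mem l'.2 (L.inv_mem l.2)⟩
      rw [hNL, Subgroup.mem_bot] at h3
      have hn : n = n' := Subtype.ext (inv_mul_eq_one.1 h3).symm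
      have hl : l = l' := by
        apply Subtype.ext
        rw [h3] at h2
        exact (mul_inv_eq_one.1 h2.symm).symm
      rw [hn, hl]
    exact Nat.card_le_card_of_injective _ hinj
  · apply sqdx11_of_closure (N ⊔ L) ((N : Set G) ∪ (L : Set G))
    · rw [Subgroup.closure_union, Subgroup.closure_eq, Subgroup.closure_eq]
    · rintro s (hs | hs)
      · exact hN2 s hs
      · exact hL2 s hs

end Cfsg.Agent.Lib.helper14.SQD
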