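import Mathlib
import Cfsg.Agent.Lib.Helper24.STCI1
import Cfsg.Agent.Lib.Helper20.STCR1
import Cfsg.Agent.Lib.Lead.STB.Defs
import Cfsg.Agent.Lib.Lead.STB.Defs3
import Cfsg.Agent.Lib.Lead.STB.Defs4

/-!
# Project STB (designer lead), row J2 `SysB.Rep.Y_fix_eq_one` (helper1): the CORE

Hypotheses = the statements of N7 `Yg_decomp2` (at `o`, `o'`) and J1 `Yg_fix_phi_eq_one` (at `o`).  Port of helper2's `STDJ2core`.
Everything else is self-contained, with own-name copies (prefix `stbj2_`) carrying the EXACT skeleton statements of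
R0 `TbL_mulVec`, `vecMul_TbL`, `vecMul_TbS`, R3 `M_one`, `M_mul`, `M_x`, `M_xs`, R4 `XQ_rowStab`, R6 `Yg_apply`, N1b `Yjj_le_Yg`, `Yjj_le_Lg`.
-/

set_option autoImplicit false

namespace Cfsg.Agent.Lib.Lead.STB

open Matrix Cfsg.Agent.Lib.helper15.St2 Cfsg.Agent.Lib.helper3.STC Cfsg.Agent.Lib.Lead.STD

section R0
variable {l : Type*} [Fintype l] [DecidableEq l] {K : Type*} [Field K]

theorem stbj2_single_mulVec {κ : Type*} [Fintype κ] [DecidableEq κ] (i j : κ) (c : K) (x : κ → K) :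
    Matrix.single i j c *ᵥ x = Pi.single i (c * x j) := by
  rw [Matrix.single_mulVec]
  rfl

theorem stbj2_vecMul_single {κ : Type*} [Fintype κ] [DecidableEq κ] (i j : κ) (c : K) (x : κ → K) :
    x ᵥ* Matrix.single i j c = Pi.single j (c * x i) := by
  ext m
  simp only [Matrix.vecMul, dotProduct, Matrix.single_apply, Pi.single_apply]
  by_cases hm : m = j
  · subst hm
    simp [mul_comm]
  · have : ∀ x, ¬ (i = x ∧ j = m) := fun x h => hm h.2.symm
    simp [hm, this]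

/-- own-name copy of R0 `TbL_mulVec` -/
theorem stbj2_TbL_mulVec (a b : l ⊕ l) (t : K) (v : Ix l → K) :
    TbL a b t *ᵥ v = v + Pi.single (Sum.inr a) (t * v (Sum.inr b)) - Pi.single (Sum.inr (ng b)) (t * v (Sum.inr (ng a))) := by
  unfold TbL
  rw [Matrix.sub_mulVec, Matrix.add_mulVec, Matrix.one_mulVec, stbj2_single_mulVec, stbj2_single_mulVec]

/-- own-name copy of R0 `vecMul_TbL` -/
theorem stbj2_vecMul_TbL (a b : l ⊕ l) (t : K) (v : Ix l → K) :
    v ᵥ* TbL a b t = v + Pi.single (Sum.inr b) (t * v (Sum.inr a)) - Pi.single (Sum.inr (ng a)) (t * v (Sum.inr (ng b))) := by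
  unfold TbL
  rw [Matrix.vecMul_sub, Matrix.vecMul_add, Matrix.vecMul_one, stbj2_vecMul_single, stbj2_vecMul_single]

/-- own-name copy of R0 `vecMul_TbS` -/
theorem stbj2_vecMul_TbS (a : l ⊕ l) (t : K) (v : Ix l → K) :
    v ᵥ* TbS a t = v + Pi.single (Sum.inr (ng a)) (t * v i0) - Pi.single i0 (2 * t * v (Sum.inr a)) -
      Pi.single (Sum.inr (ng a)) (t * t * v (Sum.inr a)) := by
  unfold TbS
  rw [Matrix.vecMul_sub, Matrix.vecMul_sub, Matrix.vecMul_add, Matrix.vecMul_one, stbj2_vecMul_single, stbj2_vecMul_single,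
    stbj2_vecMul_single]

/-- the coordinate `c` of the column `p` is the coordinate `p` of the row `c` -/
theorem stbj2_coord (M : Matrix (Ix l) (Ix l) K) (p c : Ix l) : (M *ᵥ evb p) c = (evb c ᵥ* M) p := by
  unfold evb
  rw [Matrix.mulVec_single_one, Matrix.single_one_vecMul]
  rfl

/-- the coordinate computation of J2 -/
theorem stbj2_coords {p r : l ⊕ l} (hrp : r ≠ p) (hrnp : r ≠ ng p)
    (v₀ : Ix l → K) (hp : v₀ (Sum.inr p) = 1) (hr : v₀ (Sum.inr r) = 0) (hnr : v₀ (Sum.inr (ng r)) = 0) (u u' : K)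
    (h : TbL r p u *ᵥ (TbL (ng r) p u' *ᵥ v₀) = Pi.single (Sum.inr p) 1) : u = 0 ∧ u' = 0 := by
  have f1 : p ≠ ng r := fun h => hrnp (by rw [h, ng_ng])
  have f3 : ng r ≠ r := ng_ne r
  have f4 : ng p ≠ r := fun h => hrnp h.symm
  have f5 : ng p ≠ ng r := fun h => hrp (ng_inj.1 h).symm
  have f6 : ng r ≠ p := fun h => f1 h.symm
  rw [stbj2_TbL_mulVec (ng r) p, stbj2_TbL_mulVec r p] at h
  have h1 := congrFun h (Sum.inr r)
  have h2 := congrFun h (Sum.inr (ng r))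
  simp only [Pi.add_apply, Pi.sub_apply, Pi.single_apply, Sum.inr.injEq, ng_ng, hp, hr, hnr, if_neg f3, if_neg f3.symm,
    if_neg f4.symm, if_neg f5.symm, if_neg f6, if_neg f6.symm, if_neg hrp,
    if_true, mul_one, mul_zero, add_zero, sub_zero, zero_add,
    ite_self] at h1 h2
  exact ⟨h1, h2⟩

end R0

namespace SysB

section B
variable {K : Type*} [Field K] {ι : Type*} {G : Type*} [Group G] (S : SysB K ι G)

/-- own-name copy of STD B1 `x_zero` -/
theorem stbj2_x_zero (a b : ι ⊕ ι) : S.x a b 0 = 1 := by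
  by_cases h1 : a = b
  · subst h1
    exact S.diag a 0
  by_cases h2 : a = ng b
  · subst h2
    have := S.opp (ng b) 0
    rwa [ng_ng] at this
  have := S.add a b h1 h2 0 0
  rw [add_zero] at this
  exact mul_eq_left.1 this

/-- monotonicity of `XQ` -/
theorem stbj2_XQ_mono {Q Q' : ι ⊕ ι → ι ⊕ ι → Prop} {Qs Qs' : ι ⊕ ι → Prop}
    (h : ∀ a b, a ≠ b → a ≠ ng b → Q a b → Q' a b) (hs : ∀ a, Qs a → Qs' a) :
    S.XQ Q Qs ≤ S.XQ Q' Qs' := by
  unfold XQ
  apply Subgroup.closure_mono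
  rintro g (⟨a, b, t, h1, h2, hQ, rfl⟩ | ⟨a, t, hQ, rfl⟩)
  · exact Or.inl ⟨a, b, t, h1, h2, h a b h1 h2 hQ, rfl⟩
  · exact Or.inr ⟨a, t, hs a hQ, rfl⟩

variable (o : ι ⊕ ι)

/-- own-name copy of N1b `Yjj_le_Yg` -/
theorem stbj2_Yjj_le_Yg (o' : ι ⊕ ι) : S.Yjj o o' ≤ S.Yg o :=
  S.stbj2_XQ_mono (fun _ _ _ _ h => h.1) (fun _ h => h)

/-- own-name copy of N1b `Yjj_le_Lg` -/
theorem stbj2_Yjj_le_Lg {o' : ι ⊕ ι} (ho' : o' ≠ o) (ho'' : o' ≠ ng o) : S.Yjj o o' ≤ S.Lg o' := by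
  apply S.stbj2_XQ_mono
  · rintro a b - - ⟨rfl, ha1, ha2⟩
    exact ⟨⟨ha1, ha2⟩, ⟨ho'.symm, fun h => ho'' (by rw [h, ng_ng])⟩⟩
  · rintro a rfl
    exact ⟨fun h => ho'' h.symm, fun h => ho' (ng_inj.1 h).symm⟩

end B

namespace Rep

variable {K : Type*} [Field K] {ι : Type*} {G : Type*} [Group G] {S : SysB K ι G}
  {l : Type*} [Fintype l] [DecidableEq l] (R : S.Rep l)

/-- own-name copy of R3 `M_one` -/
theorem stbj2_M_one : R.M 1 = 1 := by
  unfold Rep.M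
  rw [map_one]
  rfl

/-- own-name copy of R3 `M_mul` -/
theorem stbj2_M_mul (g g' : G) : R.M (g * g') = R.M g * R.M g' := by
  unfold Rep.M
  rw [map_mul]
  rfl

/-- own-name copy of R3 `M_x` -/
theorem stbj2_M_x {a b : ι ⊕ ι} (hab : a ≠ b) (hab' : a ≠ ng b) (t : K) :
    R.M (S.x a b t) = TbL (Em R.e a) (Em R.e b) t := R.hφ a b hab hab' t

/-- own-name copy of R3 `M_xs` -/
theorem stbj2_M_xs (a : ι ⊕ ι) (t : K) : R.M (S.xs a t) = TbS (Em R.e a) t := R.hφs a t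

theorem stbj2_M_mul_inv (g : G) : R.M g * R.M g⁻¹ = 1 := by
  rw [← stbj2_M_mul, mul_inv_cancel, stbj2_M_one]

/-- own-name copy of R4 `XQ_rowStab` -/
theorem stbj2_rowStab {Q : ι ⊕ ι → ι ⊕ ι → Prop} {Qs : ι ⊕ ι → Prop} {c : Ix l}
    (h : ∀ a b, a ≠ b → a ≠ ng b → Q a b → Eb R.e a ≠ c ∧ Eb R.e (ng b) ≠ c)
    (hs : ∀ a, Qs a → i0 ≠ c ∧ Eb R.e a ≠ c) :
    ∀ z ∈ S.XQ Q Qs, evb c ᵥ* R.M z = evb c := by
  intro z hz
  unfold XQ at hz
  induction hz using Subgroup.closure_induction with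
  | mem g hg =>
    rcases hg with ⟨a, b, t, hab, hab', hQ, rfl⟩ | ⟨a, t, hQ, rfl⟩
    · obtain ⟨h1, h2⟩ := h a b hab hab' hQ
      rw [stbj2_M_x R hab hab', stbj2_vecMul_TbL]
      have e1 : (evb c : Ix l → K) (Sum.inr (Em R.e a)) = 0 := by
        unfold evb
        rw [Pi.single_apply, if_neg h1]
      have e2 : (evb c : Ix l → K) (Sum.inr (ng (Em R.e b))) = 0 := by
        rw [← Em_ng]
        unfold evb
        rw [Pi.single_apply, if_neg h2]
      rw [e1, e2]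
      simp
    · obtain ⟨h1, h2⟩ := hs a hQ
      rw [stbj2_M_xs R, stbj2_vecMul_TbS]
      have e1 : (evb c : Ix l → K) i0 = 0 := by
        unfold evb
        rw [Pi.single_apply, if_neg h1]
      have e2 : (evb c : Ix l → K) (Sum.inr (Em R.e a)) = 0 := by
        unfold evb
        rw [Pi.single_apply, if_neg h2]
      rw [e1, e2]
      simp
  | one => rw [stbj2_M_one, Matrix.vecMul_one]
  | mul y y' _ _ ihy ihy' => rw [stbj2_M_mul, ← Matrix.vecMul_vecMul, ihy, ihy']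
  | inv y _ ihy =>
    have h1 : R.M y * R.M y⁻¹ = 1 := stbj2_M_mul_inv R y
    have := congrArg (fun v => v ᵥ* R.M y⁻¹) ihy
    simp only [Matrix.vecMul_vecMul, h1, Matrix.vecMul_one] at this
    exact this.symm

variable (o : ι ⊕ ι)

/-- own-name copy of R6 `Yg_apply` -/
theorem stbj2_Yg_apply {y : G} (hy : y ∈ S.Yg o) : (R.M y *ᵥ evb (Eb R.e o)) (Eb R.e o) = 1 := by
  have hrow : evb (Eb R.e o) ᵥ* R.M y = evb (Eb R.e o) :=
    stbj2_rowStab R (Q := fun _ b => b = o) (Qs := fun a => a = ng o) (by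
      intro a b hab _ hb
      subst hb
      exact ⟨fun h => hab (Em_injective R.e (Sum.inr_injective h)),
        fun h => ng_ne _ (Em_injective R.e (Sum.inr_injective h))⟩) (by
      rintro a rfl
      exact ⟨Sum.inl_ne_inr, fun h => ng_ne _ (Em_injective R.e (Sum.inr_injective h))⟩) y hy
  rw [stbj2_coord, hrow]
  unfold evb
  rw [Pi.single_eq_same]

/-- J2 core: hypotheses = the statements of N7 `Yg_decomp2` (at `o`, `o'`) and J1 `Yg_fix_phi_eq_one` (at `o`). -/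
theorem stbj2_core {o' : ι ⊕ ι} (ho' : o' ≠ o) (ho'' : o' ≠ ng o)
    (hN7 : ∀ y ∈ S.Yg o, ∃ u u' : K, ∃ y'' ∈ S.Yjj o o', y = S.x o' o u * S.x (ng o') o u' * y'')
    (hJ1 : ∀ y : G, y ∈ S.Yg o → R.M y *ᵥ evb (Eb R.e o) = evb (Eb R.e o) → R.φ y = 1)
    (IHo' : ∀ x ∈ S.Lg o', R.φ x = 1 → x = 1) {y : G} (hy : y ∈ S.Yg o)
    (h : R.M y *ᵥ evb (Eb R.e o) = evb (Eb R.e o)) : y = 1 := by
  obtain ⟨u, u', y'', hy'', rfl⟩ := hN7 y hy
  have hinj : Function.Injective (Eb R.e) := fun a b e => Em_injective R.e (Sum.inr_injective e)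
  have hrp : Em R.e o' ≠ Em R.e o := fun h => ho' (Em_injective R.e h)
  have hrnp : Em R.e o' ≠ ng (Em R.e o) := by
    rw [← Em_ng]
    exact fun h => ho'' (Em_injective R.e h)
  have hno : ng o' ≠ o := fun h => ho'' (by rw [← h, ng_ng])
  have hno' : ng o' ≠ ng o := fun h => ho' (ng_inj.1 h)
  have hp : (R.M y'' *ᵥ evb (Eb R.e o)) (Sum.inr (Em R.e o)) = 1 :=
    stbj2_Yg_apply R o (S.stbj2_Yjj_le_Yg o o' hy'')
  have hr : (R.M y'' *ᵥ evb (Eb R.e o)) (Sum.inr (Em R.e o')) = 0 := by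
    have hrow := stbj2_rowStab R (Q := fun a b => b = o ∧ (a ≠ o' ∧ a ≠ ng o')) (Qs := fun a => a = ng o)
      (c := Eb R.e o') ?_ ?_ y'' hy''
    · rw [stbj2_coord, hrow]
      unfold evb
      rw [Pi.single_apply, if_neg (fun h => ho' (hinj h).symm)]
    · rintro a b - - ⟨rfl, ha1, -⟩
      exact ⟨fun h => ha1 (hinj h), fun h => ho'' (hinj h).symm⟩
    · rintro a rfl
      exact ⟨Sum.inl_ne_inr, fun h => ho'' (hinj h).symm⟩
  have hnr : (R.M y'' *ᵥ evb (Eb R.e o)) (Sum.inr (ng (Em R.e o'))) = 0 := by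
    have hrow := stbj2_rowStab R (Q := fun a b => b = o ∧ (a ≠ o' ∧ a ≠ ng o')) (Qs := fun a => a = ng o)
      (c := Eb R.e (ng o')) ?_ ?_ y'' hy''
    · rw [← Em_ng, stbj2_coord, hrow]
      unfold evb
      rw [Pi.single_apply, if_neg (fun h => hno (hinj h).symm)]
    · rintro a b - - ⟨rfl, -, ha2⟩
      exact ⟨fun h => ha2 (hinj h), fun h => ho' (ng_inj.1 (hinj h)).symm⟩
    · rintro a rfl
      exact ⟨Sum.inl_ne_inr, fun h => ho' (ng_inj.1 (hinj h)).symm⟩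
  have h' := h
  rw [stbj2_M_mul, stbj2_M_mul, stbj2_M_x R ho' ho'', stbj2_M_x R hno hno', ← Matrix.mulVec_mulVec,
    ← Matrix.mulVec_mulVec, Em_ng] at h'
  obtain ⟨hu, hu'⟩ := stbj2_coords hrp hrnp _ hp hr hnr u u' h'
  subst hu hu'
  rw [S.stbj2_x_zero, S.stbj2_x_zero, one_mul, one_mul] at h ⊢
  exact IHo' y'' (S.stbj2_Yjj_le_Lg o ho' ho'' hy'') (hJ1 y'' (S.stbj2_Yjj_le_Yg o o' hy'') h)

end Rep

end SysB

end Cfsg.Agent.Lib.Lead.STB
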