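import Mathlib
import Cfsg.Agent.Lib.Lead.STB.Defs
import Cfsg.Agent.Lib.Lead.STB.Defs2
import Cfsg.Agent.Lib.Lead.STB.Defs3
import Cfsg.Agent.Lib.Lead.STB.Defs4
import Cfsg.Agent.Lib.Lead.STB.Sub
import Cfsg.Agent.Lib.Helper16.STBN7
import Cfsg.Agent.Lib.Helper16.STBJ1
import Cfsg.Agent.Lib.Helper1.STBJ2core

/-!
# Project STB (designer lead), part 3, row J2 (`SysB.Rep.Y_fix_eq_one`) (helper1), VERBATIM.
`stbj2_core` (`Helper1.STBJ2core`) on N7 `Yg_decomp2` (`Helper16.STBN7`) and J1 `Yg_fix_phi_eq_one` (`Helper16.STBJ1`).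
-/

set_option autoImplicit false

namespace Cfsg.Agent.Lib.Lead.STB

open Matrix Cfsg.Agent.Lib.helper15.St2 Cfsg.Agent.Lib.helper3.STC Cfsg.Agent.Lib.Lead.STD

universe v w

namespace SysB

namespace Rep

variable {K : Type*} [Field K] {ι : Type*} {G : Type*} [Group G] {S : SysB K ι G} {l : Type*} [Fintype l] [DecidableEq l] (R : S.Rep l)

variable (o : ι ⊕ ι)

/-- J2 [M-L]  rank at least two: an element of `Yg o` fixing `e_o` is trivial. -/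
theorem Y_fix_eq_one {o' : ι ⊕ ι} (ho' : o' ≠ o) (ho'' : o' ≠ ng o) (IHo' : ∀ x ∈ S.Lg o', R.φ x = 1 → x = 1) {y : G} (hy : y ∈ S.Yg o)
    (h : R.M y *ᵥ evb (Eb R.e o) = evb (Eb R.e o)) : y = 1 :=
  stbj2_core R o ho' ho'' (S.Yg_decomp2 o ho' ho'') (fun _ hy' h' => Yg_fix_phi_eq_one R o hy' h') IHo' hy h

end Rep

end SysB

end Cfsg.Agent.Lib.Lead.STB
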