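import Mathlib
import Cfsg.Agent.Lib.Lead.STB.Defs
import Cfsg.Agent.Lib.Lead.STB.Defs2
import Cfsg.Agent.Lib.Lead.STB.Defs3
import Cfsg.Agent.Lib.Lead.STB.Defs4
import Cfsg.Agent.Lib.Lead.STB.Sub

/-!
# Project STB (designer lead), row K2 `ker_trivial_aux` (helper1): the CORE

`stbk2_core` on the STATEMENTS of F18b `InD_all`, A2 `Phat_decomp`, A4 `Phat_decomp_one`, J2 `Y_fix_eq_one`, J2b `Y_fix_eq_one_one`,
J7 `Phat_ker`, J7b `Phat_ker_one`, J8 `ker_trivial` (model: `Helper11.STDK2core`).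
-/

set_option autoImplicit false

namespace Cfsg.Agent.Lib.Lead.STB

open Matrix Cfsg.Agent.Lib.helper15.St2 Cfsg.Agent.Lib.helper3.STC Cfsg.Agent.Lib.Lead.STD

universe v w

open SysB

/-- K2 on the statements of F18b, A2, A4, J2, J2b, J7, J7b, J8. -/
theorem stbk2_core {K : Type*} [Field K] [Finite K] {l : Type*} [Fintype l] [DecidableEq l]
    (hInD : ∀ (ι : Type v) [DecidableEq ι] [Finite ι] (G : Type w) [Group G] (S : SysB K ι G) (o : ι ⊕ ι),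
      S.XQ (fun _ _ => True) (fun _ => True) = ⊤ → ∀ g : G, S.InD o g)
    (hdec2 : ∀ (ι : Type v) [DecidableEq ι] (G : Type w) [Group G] (S : SysB K ι G) (o : ι ⊕ ι) {j : ι ⊕ ι},
      j ≠ o → j ≠ ng o → ∀ p ∈ S.Phat o, p ∈ S.ALTj o j)
    (hdec1 : ∀ (ι : Type v) [DecidableEq ι] (G : Type w) [Group G] (S : SysB K ι G) (o : ι ⊕ ι),
      (∀ i : ι, i = ab o) → ∀ p ∈ S.Phat o, p ∈ S.ALT o)
    (hYf2 : ∀ (ι : Type v) (G : Type w) [Group G] (S : SysB K ι G) (R : S.Rep l) (o : ι ⊕ ι) {o' : ι ⊕ ι},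
      o' ≠ o → o' ≠ ng o → (∀ x ∈ S.Lg o', R.φ x = 1 → x = 1) → ∀ {y : G}, y ∈ S.Yg o →
      R.M y *ᵥ evb (Eb R.e o) = evb (Eb R.e o) → y = 1)
    (hYf1 : ∀ (ι : Type v) (G : Type w) [Group G] (S : SysB K ι G) (R : S.Rep l) (o : ι ⊕ ι),
      (∀ i : ι, i = ab o) → ∀ {y : G}, y ∈ S.Yg o → R.M y *ᵥ evb (Eb R.e o) = evb (Eb R.e o) → y = 1)
    (hPk2 : ∀ (ι : Type v) [DecidableEq ι] (G : Type w) [Group G] (S : SysB K ι G) (R : S.Rep l) (o : ι ⊕ ι)
      {j : ι ⊕ ι}, j ≠ o → j ≠ ng o → (∀ p ∈ S.Phat o, p ∈ S.ALTj o j) →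
      (∀ y ∈ S.Yg o, R.M y *ᵥ evb (Eb R.e o) = evb (Eb R.e o) → y = 1) → (∀ x ∈ S.Lg o, R.φ x = 1 → x = 1) →
      ∀ {p : G}, p ∈ S.Phat o → R.φ p = 1 → p = 1)
    (hPk1 : ∀ (ι : Type v) [DecidableEq ι] (G : Type w) [Group G] (S : SysB K ι G) (R : S.Rep l) (o : ι ⊕ ι),
      S.Spin → (∀ i : ι, i = ab o) → (∀ p ∈ S.Phat o, p ∈ S.ALT o) →
      (∀ y ∈ S.Yg o, R.M y *ᵥ evb (Eb R.e o) = evb (Eb R.e o) → y = 1) →
      ∀ {p : G}, p ∈ S.Phat o → R.φ p = 1 → p = 1)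
    (hker : ∀ (ι : Type v) (G : Type w) [Group G] (S : SysB K ι G) (R : S.Rep l) (o : ι ⊕ ι),
      (∀ g, S.InD o g) → (∀ y ∈ S.Yg o, R.M y *ᵥ evb (Eb R.e o) = evb (Eb R.e o) → y = 1) →
      (∀ p ∈ S.Phat o, R.φ p = 1 → p = 1) → ∀ g : G, R.φ g = 1 → g = 1) :
    ∀ (m : ℕ) (ι : Type v) [Finite ι] (G : Type w) [Group G] (S : SysB K ι G) (R : S.Rep l),
      Nat.card ι = m → S.Spin → S.XQ (fun _ _ => True) (fun _ => True) = ⊤ → ∀ g, R.φ g = 1 → g = 1 := by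
  intro m
  induction m using Nat.strong_induction_on with
  | _ m ih =>
    intro ι _ G _ S R hcard hS hgen g hg
    classical
    rcases Nat.lt_or_ge m 1 with hm0 | hm1
    · -- rank zero
      have hm : m = 0 := by omega
      rw [hm] at hcard
      have : IsEmpty ι := (Nat.card_eq_zero.1 hcard).resolve_right (not_infinite_iff_finite.2 ‹_›)
      have hg' : g ∈ S.XQ (fun _ _ => True) (fun _ => True) := by rw [hgen]; exact Subgroup.mem_top g
      rw [S.XQ_eq_bot_of_isEmpty] at hg'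
      exact Subgroup.mem_bot.1 hg'
    rcases Nat.lt_or_ge m 2 with hm1' | hm2
    · -- rank one
      have hm : m = 1 := by omega
      rw [hm] at hcard
      obtain ⟨hsub, ⟨i₀⟩⟩ := Nat.card_eq_one_iff_unique.1 hcard
      have hι : ∀ i : ι, i = ab (Sum.inl i₀ : ι ⊕ ι) := fun i => Subsingleton.elim _ _
      have hYfix : ∀ y ∈ S.Yg (Sum.inl i₀),
          R.M y *ᵥ evb (Eb R.e (Sum.inl i₀)) = evb (Eb R.e (Sum.inl i₀)) → y = 1 := by
        intro y hy h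
        exact hYf1 ι G S R (Sum.inl i₀) hι hy h
      have hdec := hdec1 ι G S (Sum.inl i₀) hι
      have hPker : ∀ p ∈ S.Phat (Sum.inl i₀), R.φ p = 1 → p = 1 := by
        intro p hp h
        exact hPk1 ι G S R (Sum.inl i₀) hS hι hdec hYfix hp h
      exact hker ι G S R (Sum.inl i₀) (fun g => hInD ι G S (Sum.inl i₀) hgen g) hYfix hPker g hg
    · -- rank at least two
      have hnt : Nontrivial ι := by
        rw [← Finite.one_lt_card_iff_nontrivial, hcard]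
        omega
      obtain ⟨i₀, i₁, hi⟩ := exists_pair_ne ι
      have hsub : ∀ i : ι, ∀ x ∈ S.Lg (Sum.inl i), R.φ x = 1 → x = 1 := by
        intro i x hx hφx
        have hc : Nat.card {j // j ≠ i} = m - 1 := by
          have := Fintype.ofFinite ι
          rw [Nat.card_eq_fintype_card] at hcard ⊢
          rw [Fintype.card_subtype_compl, Fintype.card_subtype_eq, hcard]
        have := ih (m - 1) (by omega) {j // j ≠ i} (S.Lg (Sum.inl i)) (S.sub i) (R.sub i) hc (S.sub_spin i hS)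
          (S.sub_gen i) ⟨x, hx⟩ hφx
        exact congrArg Subtype.val this
      have hj : (Sum.inl i₁ : ι ⊕ ι) ≠ Sum.inl i₀ := fun e => hi (Sum.inl.inj e).symm
      have hj' : (Sum.inl i₁ : ι ⊕ ι) ≠ ng (Sum.inl i₀) := by
        intro e
        cases e
      have hYfix : ∀ y ∈ S.Yg (Sum.inl i₀),
          R.M y *ᵥ evb (Eb R.e (Sum.inl i₀)) = evb (Eb R.e (Sum.inl i₀)) → y = 1 := by
        intro y hy h
        exact hYf2 ι G S R (Sum.inl i₀) hj hj' (hsub i₁) hy h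
      have hdec := hdec2 ι G S (Sum.inl i₀) hj hj'
      have hPker : ∀ p ∈ S.Phat (Sum.inl i₀), R.φ p = 1 → p = 1 := by
        intro p hp h
        exact hPk2 ι G S R (Sum.inl i₀) hj hj' hdec hYfix (hsub i₀) hp h
      exact hker ι G S R (Sum.inl i₀) (fun g => hInD ι G S (Sum.inl i₀) hgen g) hYfix hPker g hg

end Cfsg.Agent.Lib.Lead.STB
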