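import Mathlib
import Cfsg.Agent.Lib.Lead.STB.Defs
import Cfsg.Agent.Lib.helper6.STDW14
import Cfsg.Agent.Lib.Helper16.STDX2

/-!
# Project STB (designer lead), row W12 core (helper1): the long Weyl elements are monomial

`stbw12_core`: `isMon_w` with the conclusions of W1 `cj_w_xs_disj`, W2 `cj_w_xs_b`, W3 `cj_w_xs_a cj_w_xs_nb cj_w_xs_na` (at the given `a b u`)
as hypotheses; `stbw12_dwd_mul_ng` is an own-name copy of W9 `dwd_mul_ng`.
-/

set_option autoImplicit false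

namespace Cfsg.Agent.Lib.Lead.STB

open Cfsg.Agent.Lib.helper15.St2 Cfsg.Agent.Lib.helper3.STC Cfsg.Agent.Lib.Lead.STD

universe v w

namespace SysB

variable {K : Type*} [Field K] {ι : Type*} {G : Type*} [Group G] (S : SysB K ι G)

variable [DecidableEq ι]

omit [Group G] in
/-- own-name copy of W9 `dwd_mul_ng` -/
theorem stbw12_dwd_mul_ng {a b : ι ⊕ ι} (hab : a ≠ b) (hab' : a ≠ ng b) (u : K) (hu : u ≠ 0) (k : ι ⊕ ι) :
    dwd a b u k * dwd a b u (ng k) = 1 := by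
  by_cases hka : k = a
  · subst hka
    rw [stdw14_dwd_a, stdw14_dwd_na hab hab']
    field_simp
  by_cases hkb : k = b
  · subst hkb
    rw [stdw14_dwd_b hab, stdw14_dwd_nb hab']
    field_simp
  by_cases hkb' : k = ng b
  · subst hkb'
    rw [stdw14_dwd_nb hab', ng_ng, stdw14_dwd_b hab]
    field_simp
  by_cases hka' : k = ng a
  · subst hka'
    rw [stdw14_dwd_na hab hab', ng_ng, stdw14_dwd_a]
    field_simp
  have h1 : ng k ≠ a := fun h => hka' (by rw [← h, ng_ng])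
  have h2 : ng k ≠ b := fun h => hkb' (by rw [← h, ng_ng])
  have h3 : ng k ≠ ng a := fun h => hka (ng_inj.mp h)
  have h4 : ng k ≠ ng b := fun h => hkb (ng_inj.mp h)
  rw [stdw14_dwd_of_ne hka hkb hka' hkb', stdw14_dwd_of_ne h1 h2 h3 h4, one_mul]

theorem stbw12_core {a b : ι ⊕ ι} (hab : a ≠ b) (hab' : a ≠ ng b) (u : K) (hu : u ≠ 0)
    (hW1 : ∀ c : ι ⊕ ι, c ≠ a → c ≠ b → c ≠ ng a → c ≠ ng b → ∀ t : K, cj (S.w a b u) (S.xs c t) = S.xs c t)
    (hW2 : ∀ t : K, cj (S.w a b u) (S.xs b t) = S.xs a (u * t))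
    (hW3a : ∀ t : K, cj (S.w a b u) (S.xs a t) = S.xs b (-(u⁻¹ * t)))
    (hW3nb : ∀ t : K, cj (S.w a b u) (S.xs (ng b) t) = S.xs (ng a) (u⁻¹ * t))
    (hW3na : ∀ t : K, cj (S.w a b u) (S.xs (ng a) t) = S.xs (ng b) (-(u * t))) :
    S.IsMon (S.w a b u) (sws a b) (dwd a b u) 1 := by
  refine ⟨S.toSysD.isMon_w hab hab' u hu, fun k => SysD.sws_ng hab hab' k, fun k => stbw12_dwd_mul_ng hab hab' u hu k,
    one_mul 1, ?_⟩
  intro k t
  by_cases hka : k = a
  · subst hka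
    rw [hW3a, SysD.sws_left hab hab', stdw14_dwd_a]
    congr 1
    ring
  by_cases hkb : k = b
  · subst hkb
    rw [hW2, SysD.sws_right hab hab', stdw14_dwd_b hab, mul_one]
  by_cases hkb' : k = ng b
  · subst hkb'
    rw [hW3nb, SysD.stdx2_sws_nright hab', stdw14_dwd_nb hab', mul_one]
  by_cases hka' : k = ng a
  · subst hka'
    rw [hW3na, SysD.stdx2_sws_nleft hab', stdw14_dwd_na hab hab']
    congr 1
    ring
  rw [hW1 k hka hkb hka' hkb', SysD.sws_of_ne hka hkb hka' hkb', stdw14_dwd_of_ne hka hkb hka' hkb', one_mul, one_mul]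

end SysB

end Cfsg.Agent.Lib.Lead.STB
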