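import Mathlib
import Cfsg.Agent.Lib.Lead.STB.Defs
import Cfsg.Agent.Lib.Helper1.STBW12core
import Cfsg.Agent.Lib.Helper25.STBW2
import Cfsg.Agent.Lib.Helper5.STBW3core
import Cfsg.Agent.Lib.helper23.STBB4

/-!
# Project STB (designer lead), row W12 (helper1), VERBATIM: `isMon_w` — the long Weyl elements are monomial

On `Helper1.STBW12core` (`stbw12_core`), W2 `cj_w_xs_b` (helper25, verbatim), helper5's W3 cores `stbw3_*_core` at W2, and an own-name copy
`stbw12_cj_w_xs_disj` of W1 (from B4 `cj_x_xs_comm`, helper23).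
-/

set_option autoImplicit false

namespace Cfsg.Agent.Lib.Lead.STB

open Cfsg.Agent.Lib.helper15.St2 Cfsg.Agent.Lib.helper3.STC Cfsg.Agent.Lib.Lead.STD

universe v w

namespace SysB

variable {K : Type*} [Field K] {ι : Type*} {G : Type*} [Group G] (S : SysB K ι G)

/-- own-name copy of W1 `cj_w_xs_disj` -/
theorem stbw12_cj_w_xs_disj {a b c : ι ⊕ ι} (hca : c ≠ a) (hcb : c ≠ b) (hca' : c ≠ ng a) (hcb' : c ≠ ng b) (u t : K) :
    cj (S.w a b u) (S.xs c t) = S.xs c t := by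
  have hac' : a ≠ ng c := fun h => hca' (by rw [h, ng_ng])
  have hbc' : b ≠ ng c := fun h => hcb' (by rw [h, ng_ng])
  have h1 : ∀ v : K, cj (S.x a b v) (S.xs c t) = S.xs c t := fun v => S.cj_x_xs_comm hcb.symm hac' t v
  have h2 : ∀ v : K, cj (S.x b a v) (S.xs c t) = S.xs c t := fun v => S.cj_x_xs_comm hca.symm hbc' t v
  show cj (S.x a b u * S.x b a (-u⁻¹) * S.x a b u) (S.xs c t) = S.xs c t
  rw [← cj_cj, ← cj_cj, h1, h2, h1]

variable [DecidableEq ι]

/-- W12 [M]  **the long Weyl elements are monomial** -/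
theorem isMon_w {a b : ι ⊕ ι} (hab : a ≠ b) (hab' : a ≠ ng b) (u : K) (hu : u ≠ 0) :
    S.IsMon (S.w a b u) (sws a b) (dwd a b u) 1 :=
  S.stbw12_core hab hab' u hu
    (fun _ h1 h2 h3 h4 t => S.stbw12_cj_w_xs_disj h1 h2 h3 h4 u t)
    (fun t => S.cj_w_xs_b hab hab' u t hu)
    (fun t => S.stbw3_a_core (fun {_ _} h h' u t hu => S.cj_w_xs_b h h' u t hu) hab hab' u t hu)
    (fun t => S.stbw3_nb_core (fun {_ _} h h' u t hu => S.cj_w_xs_b h h' u t hu) hab hab' u t hu)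
    (fun t => S.stbw3_na_core (fun {_ _} h h' u t hu => S.cj_w_xs_b h h' u t hu) hab hab' u t hu)

end SysB

end Cfsg.Agent.Lib.Lead.STB
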