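import Mathlib
import Cfsg.Agent.Lib.Lead.STB.Defs
import Cfsg.Agent.Lib.Lead.STB.Defs2
import Cfsg.Agent.Lib.Lead.STB.Defs3
import Cfsg.Agent.Lib.Lead.STB.Defs4
import Cfsg.Agent.Lib.Lead.STB.Sub
import Cfsg.Agent.Lib.Helper9.STBF8
import Cfsg.Agent.Lib.Helper16.STBF10
import Cfsg.Agent.Lib.Helper16.STBF10s
import Cfsg.Agent.Lib.helper15.STBF15
import Cfsg.Agent.Lib.Helper25.STBF17
import Cfsg.Agent.Lib.helper15.STBF17score
import Cfsg.Agent.Lib.Helper5.STBF17Ncore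
import Cfsg.Agent.Lib.helper4.STBF18core
import Cfsg.Agent.Lib.Helper29.STBA1
import Cfsg.Agent.Lib.Helper11.STBA3
import Cfsg.Agent.Lib.Helper1.STBJ2
import Cfsg.Agent.Lib.Helper5.STBJ2b
import Cfsg.Agent.Lib.Helper25.STBJ7
import Cfsg.Agent.Lib.Helper25.STBJ7b
import Cfsg.Agent.Lib.Helper16.STBJ4
import Cfsg.Agent.Lib.Helper1.STBK2core

/-!
# Project STB (designer lead), part 3, row K2 (`ker_trivial_aux`) (helper1), VERBATIM.
`stbk2_core` (`Helper1.STBK2core`) on A2 `Phat_decomp`, A4 `Phat_decomp_one`, J2 `Y_fix_eq_one`, J2b `Y_fix_eq_one_one`,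
J7 `Phat_ker`, J7b `Phat_ker_one`, J8 `ker_trivial`, and an OWN-NAME copy `SysB.stbk2_InD_all` of F18b `InD_all` (same statement), composed from the
landed cores of F17s / F17N / F18 / F18b (`helper15.STBF17score`, `Helper5.STBF17Ncore`, `helper4.STBF18core`) and the verbatim rows
F8 `IsMon_move(_s)`, F10 `lemA_all`, F10s `lemA_all_s`, F15 `InD_w`, F16 `InD_ws`, F17 `lemB`, so that K2 does not wait for the verbatim wrappers of F17s F17N F18 F18b.
-/

set_option autoImplicit false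
set_option linter.unusedVariables false

namespace Cfsg.Agent.Lib.Lead.STB

open Matrix Cfsg.Agent.Lib.helper15.St2 Cfsg.Agent.Lib.helper3.STC Cfsg.Agent.Lib.Lead.STD

universe v w

namespace SysB

variable {K : Type*} [Field K] {ι : Type*} [DecidableEq ι] {G : Type*} [Group G] (S : SysB K ι G)

section F
variable (o : ι ⊕ ι)

/-- own-name copy of F17s `lemB_s` -/
theorem stbk2_lemB_s [Finite K] [Finite ι] {k : ι ⊕ ι} (hk : k ≠ o) (hk' : k ≠ ng o) (a : ι ⊕ ι) (t : K) {y p : G}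
    (hy : y ∈ S.Yg o) (hp : p ∈ S.Phat o) : S.InD o (S.xs a t * (S.w o k 1 * y * p)) :=
  S.stbf17s_core o (fun a t _ _ hy hp => S.lemA_all_s o a t hy hp) (fun hk hk' _ hg => S.InD_w o hk hk' hg) hk hk' a t hy hp

/-- own-name copy of F17N `lemBN` -/
theorem stbk2_lemBN [Finite K] (a b : ι ⊕ ι) (t : K) {y p : G} (hy : y ∈ S.Yg o) (hp : p ∈ S.Phat o) :
    S.InD o (S.x a b t * (S.ws o 1 * y * p)) :=
  S.stbf17n_core o (fun hg _ _ hab t => S.IsMon_move hg hab t) (fun a b t _ _ hy hp => S.lemA_all o a b t hy hp)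
    (fun hg => S.InD_ws o hg) a b t hy hp

/-- own-name copy of F17N `lemBN_s` -/
theorem stbk2_lemBN_s [Finite K] [Finite ι] (a : ι ⊕ ι) (t : K) {y p : G} (hy : y ∈ S.Yg o) (hp : p ∈ S.Phat o) :
    S.InD o (S.xs a t * (S.ws o 1 * y * p)) :=
  S.stbf17n_s_core o (fun hg a t => S.IsMon_move_s hg a t) (fun a t _ _ hy hp => S.lemA_all_s o a t hy hp)
    (fun hg => S.InD_ws o hg) a t hy hp

/-- own-name copy of F18 `InD_mul` -/
theorem stbk2_InD_mul [Finite K] (a b : ι ⊕ ι) (t : K) {g : G} (hg : S.InD o g) : S.InD o (S.x a b t * g) :=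
  S.stbf18_mul o (fun a b t _ _ hy hp => S.lemA_all o a b t hy hp) (fun hk hk' a b t _ _ hy hp => S.lemB o hk hk' a b t hy hp)
    (fun a b t _ _ hy hp => S.stbk2_lemBN o a b t hy hp) a b t hg

/-- own-name copy of F18 `InD_mul_s` -/
theorem stbk2_InD_mul_s [Finite K] [Finite ι] (a : ι ⊕ ι) (t : K) {g : G} (hg : S.InD o g) : S.InD o (S.xs a t * g) :=
  S.stbf18_mul_s o (fun a t _ _ hy hp => S.lemA_all_s o a t hy hp) (fun hk hk' a t _ _ hy hp => S.stbk2_lemB_s o hk hk' a t hy hp)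
    (fun a t _ _ hy hp => S.stbk2_lemBN_s o a t hy hp) a t hg

/-- own-name copy of F18b `InD_all` -/
theorem stbk2_InD_all [Finite K] [Finite ι] (hgen : S.XQ (fun _ _ => True) (fun _ => True) = ⊤) (g : G) : S.InD o g :=
  S.stbf18_all o (fun a b t _ hg => S.stbk2_InD_mul o a b t hg) (fun a t _ hg => S.stbk2_InD_mul_s o a t hg) hgen g

end F

end SysB

open SysB

/-- K2 [M-L] -/
theorem ker_trivial_aux {K : Type*} [Field K] [Finite K] {l : Type*} [Fintype l] [DecidableEq l] :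
    ∀ (m : ℕ) (ι : Type v) [Finite ι] (G : Type w) [Group G] (S : SysB K ι G) (R : S.Rep l),
      Nat.card ι = m → S.Spin → S.XQ (fun _ _ => True) (fun _ => True) = ⊤ → ∀ g, R.φ g = 1 → g = 1 :=
  stbk2_core
    (fun ι _ _ G _ S o hgen g => S.stbk2_InD_all o hgen g)
    (fun ι _ G _ S o _ hj hj' => S.Phat_decomp o hj hj')
    (fun ι _ G _ S o hι => S.Phat_decomp_one o hι)
    (fun ι G _ S R o _ ho' ho'' IH _ hy h => R.Y_fix_eq_one o ho' ho'' IH hy h)
    (fun ι G _ S R o hι _ hy h => R.Y_fix_eq_one_one o hι hy h)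
    (fun ι _ G _ S R o _ hj hj' hdec hYfix IHo _ hp h => R.Phat_ker o hj hj' hdec hYfix IHo hp h)
    (fun ι _ G _ S R o hS hι hdec hYfix _ hp h => R.Phat_ker_one o hS hι hdec hYfix hp h)
    (fun ι G _ S R o hInD hYfix hPker g hg => R.ker_trivial o hInD hYfix hPker g hg)

end Cfsg.Agent.Lib.Lead.STB
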