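import Mathlib
import Cfsg.Agent.Lib.helper17.STM.Defs
import Cfsg.Agent.Lib.helper17.STM.Defs2
import Cfsg.Agent.Lib.Helper25.STMN6
import Cfsg.Agent.Lib.Helper9.STMN2p
import Cfsg.Agent.Lib.Helper21.STMF2b
import Cfsg.Agent.Lib.Helper5.STMF4core
import Cfsg.Agent.Lib.helper15.STMF7
import Cfsg.Agent.Lib.Helper9.STMF8
import Cfsg.Agent.Lib.Helper16.STMF10core
import Cfsg.Agent.Lib.Helper16.STMF11
import Cfsg.Agent.Lib.Helper21.STMF12
import Cfsg.Agent.Lib.Helper21.STMF14b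
import Cfsg.Agent.Lib.Helper21.STMW13
import Cfsg.Agent.Lib.helper23.STMF15core
import Cfsg.Agent.Lib.helper2.STMF17core
import Cfsg.Agent.Lib.Helper5.STMF17Ncore
import Cfsg.Agent.Lib.helper2.STMF18core
import Cfsg.Agent.Lib.Helper22.STMF18bcore

/-!
# Project STM (designer helper17; S2099 family): OWN-NAME copies (helper1) of the rows F4 F10 F10s F15 F17 F17s F17N F18 F18b of Skel2,
ending with `SysM.stmind_InD_all` (= the STATEMENT of F18b `InD_all`), composed from the landed cores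
(`Helper5.STMF4core`, `Helper16.STMF10core`, `helper23.STMF15core`, `helper2.STMF17core`, `Helper5.STMF17Ncore`, `helper2.STMF18core`, `Helper22.STMF18bcore`)
and the verbatim rows N6 `Yj_Pg`, N2p `Lg_cj_mem_Yg`, F2b `NP_h`, F7 `lemA_s`, F8 `IsMon_move(_s)`, F11 `ww_same`, F12 `ww_gen`, F13 `ww_opp`, F14b `w_ws`, F16 `InD_ws`, W13 `isMon_ws`,
so that K2 `ker_trivial_aux` (and K3, K4) need not wait for the chain of verbatim wrappers F4 → F10 → F15 → F17 → F18 → F18b.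
(Same device as `Helper1.STBK2` for STB.)
-/

set_option autoImplicit false
set_option linter.unusedVariables false
set_option linter.unusedSectionVars false

namespace Cfsg.Agent.Lib.helper17.STM

open Cfsg.Agent.Lib.helper15.St2 Cfsg.Agent.Lib.helper3.STC Cfsg.Agent.Lib.Lead.STD

universe v w

namespace SysM

variable {F : Type*} [Field F] {A B : F} [Fact (∀ r : F, r ^ 2 ≠ -B + A * r)] {ι : Type*} [DecidableEq ι] {G : Type*} [Group G] (S : SysM F A B ι G)

section F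
variable (o : ι ⊕ ι)

/-- own-name copy of F4 `lemA_long` -/
theorem stmind_lemA_long [Finite F] {j : ι ⊕ ι} (hj : j ≠ o) (hj' : j ≠ ng o) (t : F) {y p : G} (hy : y ∈ S.Yg o) (hp : p ∈ S.Phat o) :
    S.x o j t * (y * p) ∈ S.cell0 o ∨ S.x o j t * (y * p) ∈ S.cell o j :=
  S.stmf4_core o hj hj' (S.Yj_Pg o hj hj') (fun _ ht => (S.NP_h o hj hj' ht).2) t hy hp

/-- own-name copy of F10 `lemA_all` -/
theorem stmind_lemA_all [Finite F] (a b : ι ⊕ ι) (t : F) {y p : G} (hy : y ∈ S.Yg o) (hp : p ∈ S.Phat o) : S.InD o (S.x a b t * (y * p)) :=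
  S.stmf10_core o (S.Lg_cj_mem_Yg o) (fun hj hj' t _ _ hy hp => S.stmind_lemA_long o hj hj' t hy hp) a b t hy hp

/-- own-name copy of F10s `lemA_all_s` -/
theorem stmind_lemA_all_s [Finite F] [Finite ι] (a : ι ⊕ ι) (t : Kq F A B) {y p : G} (hy : y ∈ S.Yg o) (hp : p ∈ S.Phat o) :
    S.InD o (S.xs a t * (y * p)) :=
  S.stmf10s_core o (S.Lg_cj_mem_Yg o) (fun t _ _ hy hp => S.lemA_s o t hy hp) a t hy hp

/-- own-name copy of F15 `InD_w` -/
theorem stmind_InD_w [Finite F] {k : ι ⊕ ι} (hk : k ≠ o) (hk' : k ≠ ng o) {g : G} (hg : S.InD o g) : S.InD o (S.w o k 1 * g) :=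
  S.stmf15_core o (fun hk hk' => S.ww_same o hk hk') (fun hk hk' hj hj' hkj hkj' => S.ww_gen o hk hk' hj hj' hkj hkj')
    (fun hk hk' => S.ww_opp o hk hk') (fun hk hk' => S.w_ws o hk hk') hk hk' hg

/-- own-name copy of F17 `lemB` -/
theorem stmind_lemB [Finite F] {k : ι ⊕ ι} (hk : k ≠ o) (hk' : k ≠ ng o) (a b : ι ⊕ ι) (t : F) {y p : G} (hy : y ∈ S.Yg o) (hp : p ∈ S.Phat o) :
    S.InD o (S.x a b t * (S.w o k 1 * y * p)) :=
  S.stmf17_core o hk hk' a b t hy hp (fun a b t _ _ hy hp => S.stmind_lemA_all o a b t hy hp) (fun hg => S.stmind_InD_w o hk hk' hg)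

/-- own-name copy of F17s `lemB_s` -/
theorem stmind_lemB_s [Finite F] [Finite ι] {k : ι ⊕ ι} (hk : k ≠ o) (hk' : k ≠ ng o) (a : ι ⊕ ι) (t : Kq F A B) {y p : G}
    (hy : y ∈ S.Yg o) (hp : p ∈ S.Phat o) : S.InD o (S.xs a t * (S.w o k 1 * y * p)) :=
  S.stmf17s_core o hk hk' a t hy hp (fun a t _ _ hy hp => S.stmind_lemA_all_s o a t hy hp) (fun hg => S.stmind_InD_w o hk hk' hg)

/-- own-name copy of F17N `lemBN` -/
theorem stmind_lemBN [Finite F] (a b : ι ⊕ ι) (t : F) {y p : G} (hy : y ∈ S.Yg o) (hp : p ∈ S.Phat o) :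
    S.InD o (S.x a b t * (S.ws o 1 * y * p)) :=
  S.stmf17n_core o (fun hab t => S.IsMon_move (S.isMon_ws o 1 one_ne_zero) hab t)
    (fun a b t _ _ hy hp => S.stmind_lemA_all o a b t hy hp) (fun hg => S.InD_ws o hg) a b t hy hp

/-- own-name copy of F17N `lemBN_s` -/
theorem stmind_lemBN_s [Finite F] [Finite ι] (a : ι ⊕ ι) (t : Kq F A B) {y p : G} (hy : y ∈ S.Yg o) (hp : p ∈ S.Phat o) :
    S.InD o (S.xs a t * (S.ws o 1 * y * p)) :=
  S.stmf17n_s_core o (fun a t => S.IsMon_move_s (S.isMon_ws o 1 one_ne_zero) a t)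
    (fun a t _ _ hy hp => S.stmind_lemA_all_s o a t hy hp) (fun hg => S.InD_ws o hg) a t hy hp

/-- own-name copy of F18 `InD_mul` -/
theorem stmind_InD_mul [Finite F] (a b : ι ⊕ ι) (t : F) {g : G} (hg : S.InD o g) : S.InD o (S.x a b t * g) :=
  S.stmf18_mul o (fun a b t _ _ hy hp => S.stmind_lemA_all o a b t hy hp) (fun hk hk' a b t _ _ hy hp => S.stmind_lemB o hk hk' a b t hy hp)
    (fun a b t _ _ hy hp => S.stmind_lemBN o a b t hy hp) a b t hg

/-- own-name copy of F18 `InD_mul_s` -/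
theorem stmind_InD_mul_s [Finite F] [Finite ι] (a : ι ⊕ ι) (t : Kq F A B) {g : G} (hg : S.InD o g) : S.InD o (S.xs a t * g) :=
  S.stmf18_mul_s o (fun a t _ _ hy hp => S.stmind_lemA_all_s o a t hy hp) (fun hk hk' a t _ _ hy hp => S.stmind_lemB_s o hk hk' a t hy hp)
    (fun a t _ _ hy hp => S.stmind_lemBN_s o a t hy hp) a t hg

/-- own-name copy of F18b `InD_all` (same statement) -/
theorem stmind_InD_all [Finite F] [Finite ι] (hgen : S.XQ (fun _ _ => True) (fun _ => True) = ⊤) (g : G) : S.InD o g :=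
  S.stmf18b_core o (fun a b t _ hg => S.stmind_InD_mul o a b t hg) (fun a t _ hg => S.stmind_InD_mul_s o a t hg) hgen g

end F

end SysM

end Cfsg.Agent.Lib.helper17.STM
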