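import Mathlib
import Cfsg.Agent.Lib.Helper19.SU5.Defs
import Cfsg.Agent.Lib.Helper19.SU5.Defs2
import Cfsg.Agent.Lib.Helper27.STU.Defs2
import Cfsg.Agent.Lib.Helper19.MODMain

/-!
# Project SU5 (designer helper19), part 2, row Z12 (helper1), VERBATIM: `mod_spanU` — the model of block MOD is faithful and its frame spans
-/

set_option autoImplicit false

namespace Cfsg.Agent.Lib.Helper19.SU5

open Cfsg.Agent.Lib.helper17.SLP Cfsg.Agent.Lib.helper3.SP4 Cfsg.Agent.Lib.Helper22.SU4
open Cfsg.Agent.Lib.Helper27.STU (Lam XpM XmM XpS XmS SUm XpU XmU SysU)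
open Cfsg.Agent.Lib.helper3.STC (ng sws)

universe u v w

section ZM

open Cfsg.Agent.Lib.Helper19.MOD

variable {F : Type u} [Field F] [StarRing F] {n q m : ℕ} {od : Prop}

/-- Z12 [S-M]  the model of block MOD is faithful and its frame spans. -/
theorem mod_spanU (C : Ctx F n q m od) : Function.Injective (rep C).φ ∧ SpanV (rep C) := by
  constructor
  · intro g g' h
    apply Subtype.ext
    apply Matrix.SpecialLinearGroup.toLin'_injective
    exact h
  · intro f f' h h0
    apply LinearEquiv.ext
    intro x
    have hx := C.span x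
    rw [hx]
    simp only [map_add, map_sum, map_smul]
    have h' : ∀ a, f (C.fr a) = f' (C.fr a) := h
    have h0' : f C.dv = f' C.dv := h0
    simp only [h', h0']

end ZM

end Cfsg.Agent.Lib.Helper19.SU5
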