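import Mathlib
import Cfsg.Agent.Lib.Helper19.SU5.Defs
import Cfsg.Agent.Lib.Helper19.SU5.Defs2
import Cfsg.Agent.Lib.Helper27.STU.Defs2
import Cfsg.Agent.Lib.Helper16.STUR1
import Cfsg.Agent.Lib.Helper18.STUR5

/-!
# Project SU5 (designer helper19), part 2, row Z8 (helper1), VERBATIM: `monV_wlU` — the long Weyl element on the frame of a `Rep`

On STU R1/R3 (`Helper16.STUR1`) and R5 `phi_wl_fst`, `phi_wl_snd` (`Helper18.STUR5`).  Extra: `su5z8_phi_wl_dv`.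
-/

set_option autoImplicit false

namespace Cfsg.Agent.Lib.Helper19.SU5

open Cfsg.Agent.Lib.helper17.SLP Cfsg.Agent.Lib.helper3.SP4 Cfsg.Agent.Lib.Helper22.SU4
open Cfsg.Agent.Lib.Helper27.STU (Lam XpM XmM XpS XmS SUm XpU XmU SysU)
open Cfsg.Agent.Lib.helper3.STC (ng sws)

universe u v w

section ZV

variable {F : Type u} [Field F] [StarRing F] {od : Prop} {ι : Type v} [DecidableEq ι] {G₀ : Type w} [Group G₀]
  {S : SysU F od ι G₀} {V : Type*} [AddCommGroup V] [Module F V]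

omit [DecidableEq ι] in
/-- the long Weyl element on `dv` -/
theorem su5z8_phi_wl_dv (R : S.Rep V) (a : ι ⊕ ι) {ξ : Lam F od} (hc : ξ.c ≠ 0) :
    R.φ (S.wl a ξ) R.dv = (-(star ξ.c / ξ.c)) • R.dv := by
  have hc' : star ξ.c ≠ 0 := fun h => hc (by simpa using congrArg star h)
  have h1 := ξ.h
  have hng := R.phi_xl_ng (ng a) (Lam.mu ξ)
  rw [Cfsg.Agent.Lib.helper3.STC.ng_ng] at hng
  unfold SysU.wl
  rw [R.phi_mul_apply, R.phi_mul_apply, R.phi_xl_dv, map_add, map_smul, R.phi_xl_dv, hng, map_add, map_add, map_smul,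
    map_smul, map_sub, map_add, map_smul, map_smul, R.phi_xl_dv,
    R.phi_xl_fr a ξ (Cfsg.Agent.Lib.helper3.STC.ne_ng a), R.phi_xl_ng]
  simp only [Lam.mu_c, Lam.mu_v, Lam.nu_v, star_div₀, star_neg]
  have k1 : ξ.v + (-ξ.v / ξ.c) * ξ.c + (ξ.v * star ξ.c / ξ.c) * (1 + (star ξ.c)⁻¹ * ξ.c - (-star ξ.v / star ξ.c) * ξ.v) = 0 := by
    field_simp
    linear_combination (ξ.v) * h1
  have k2 : (-ξ.v / ξ.c) + (ξ.v * star ξ.c / ξ.c) * (star ξ.c)⁻¹ = 0 := by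
    field_simp
    ring
  have k3 : 1 - (-ξ.v / ξ.c) * star ξ.v - (ξ.v * star ξ.c / ξ.c) * ((star ξ.c)⁻¹ * star ξ.v + (-star ξ.v / star ξ.c)) =
      -(star ξ.c / ξ.c) := by
    field_simp
    linear_combination h1
  have hE : R.dv + ξ.v • R.fr a + (-ξ.v / ξ.c) • (R.fr (ng a) + ξ.c • R.fr a - star ξ.v • R.dv) +
      (ξ.v * star ξ.c / ξ.c) • (R.fr a + (star ξ.c)⁻¹ • (R.fr (ng a) + ξ.c • R.fr a - star ξ.v • R.dv) -
        (-star ξ.v / star ξ.c) • (R.dv + ξ.v • R.fr a)) =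
      (ξ.v + (-ξ.v / ξ.c) * ξ.c + (ξ.v * star ξ.c / ξ.c) * (1 + (star ξ.c)⁻¹ * ξ.c - (-star ξ.v / star ξ.c) * ξ.v)) • R.fr a +
        ((-ξ.v / ξ.c) + (ξ.v * star ξ.c / ξ.c) * (star ξ.c)⁻¹) • R.fr (ng a) +
        (1 - (-ξ.v / ξ.c) * star ξ.v - (ξ.v * star ξ.c / ξ.c) * ((star ξ.c)⁻¹ * star ξ.v + (-star ξ.v / star ξ.c))) • R.dv := by
    module
  rw [hE, k1, k2, k3, zero_smul, zero_smul, zero_add, zero_add]

/-- Z8 [M]  the long Weyl element on the frame: `fr a ↦ (star c)⁻¹ fr (ng a)`, `fr (ng a) ↦ c fr a`, `dv ↦ -(star c / c) dv`, the other `fr k` are fixed (`R.hxl` three times; `ξ.h`; cf. STU `phi_wl_fst`, `phi_wl_snd`, `phi_xl_fr`, `phi_xl_dv`). -/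
theorem monV_wlU (R : S.Rep V) (a : ι ⊕ ι) {ξ : Lam F od} (hc : ξ.c ≠ 0) :
    MonV R (S.wl a ξ) (Equiv.swap a (ng a)) (Cfsg.Agent.Lib.Helper27.STU.dwl a ξ)
      (Cfsg.Agent.Lib.Helper27.STU.d0l ξ) := by
  refine ⟨fun k => ?_, ?_⟩
  · by_cases hka : k = a
    · subst hka
      rw [Equiv.swap_apply_left]
      have e : Cfsg.Agent.Lib.Helper27.STU.dwl k ξ k = (star ξ.c)⁻¹ := by
        unfold Cfsg.Agent.Lib.Helper27.STU.dwl
        rw [if_pos rfl]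
      rw [e]
      exact R.phi_wl_fst k hc
    by_cases hka' : k = ng a
    · subst hka'
      rw [Equiv.swap_apply_right]
      have e : Cfsg.Agent.Lib.Helper27.STU.dwl a ξ (ng a) = ξ.c := by
        unfold Cfsg.Agent.Lib.Helper27.STU.dwl
        rw [if_neg hka, if_pos rfl]
      rw [e]
      exact R.phi_wl_snd a hc
    · rw [Equiv.swap_apply_of_ne_of_ne hka hka']
      have e : Cfsg.Agent.Lib.Helper27.STU.dwl a ξ k = 1 := by
        unfold Cfsg.Agent.Lib.Helper27.STU.dwl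
        rw [if_neg hka, if_neg hka']
      rw [e, one_smul]
      have hk2 : k ≠ ng (ng a) := by
        rw [Cfsg.Agent.Lib.helper3.STC.ng_ng]
        exact hka
      unfold SysU.wl
      rw [R.phi_mul_apply, R.phi_mul_apply, R.phi_xl_fr a _ hka', R.phi_xl_fr (ng a) _ hk2, R.phi_xl_fr a _ hka']
  · exact su5z8_phi_wl_dv R a hc

end ZV

end Cfsg.Agent.Lib.Helper19.SU5
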