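import Cfsg.Agent.Lib.Helper19.SW.Defs
import Cfsg.Agent.Lib.Helper9.SWB1

set_option autoImplicit false

namespace Cfsg.Agent.Lib.Helper19.SW

variable {G : Type*} [Group G] {Ω : Type*} [MulAction G Ω] {R : Ω → Ω → Prop} {a b : Ω}

section B2

theorem adjS_out (u : Ω) (w : SVtx Ω) : AdjS R ⟨u, true⟩ w ↔ w.out = false ∧ R u w.pt := by
  unfold AdjS
  simp

theorem adjS_in (u : Ω) (w : SVtx Ω) : AdjS R ⟨u, false⟩ w ↔ w.out = true ∧ R w.pt u := by
  unfold AdjS
  simp

theorem adjS_flip (v w : SVtx Ω) : AdjS (flip R) v w ↔ AdjS R v.twin w.twin := by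
  obtain ⟨vp, vo⟩ := v
  obtain ⟨wp, wo⟩ := w
  unfold AdjS SVtx.twin flip
  cases vo <;> cases wo <;> simp

theorem b2_twin_twin (v : SVtx Ω) : v.twin.twin = v := by
  obtain ⟨vp, vo⟩ := v
  unfold SVtx.twin
  simp

theorem b2_twin_pt (v : SVtx Ω) : v.twin.pt = v.pt := rfl

theorem b2_adjS_symm (v w : SVtx Ω) (h : AdjS R v w) : AdjS R w v := by
  unfold AdjS at h ⊢
  rcases h with ⟨h1, h2, h3⟩ | ⟨h1, h2, h3⟩
  · exact Or.inr ⟨h2, h1, h3⟩
  · exact Or.inl ⟨h2, h1, h3⟩

theorem b2_adjS_irrefl (v : SVtx Ω) : ¬ AdjS R v v := by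
  unfold AdjS
  rintro (⟨h1, h2, _⟩ | ⟨h1, h2, _⟩)
  · rw [h1] at h2
    exact Bool.noConfusion h2
  · rw [h1] at h2
    exact Bool.noConfusion h2

theorem b2_stab (v : SVtx Ω) :
    MulAction.stabilizer G v = MulAction.stabilizer G v.pt := SVtx.stabilizer_eq v

theorem Ts_S (v w : SVtx Ω) : Ts G v w = Ts G v.pt w.pt := by
  unfold Ts
  rw [b2_stab, b2_stab]

theorem b2_Ts_comm (u w : Ω) : Ts G u w = Ts G w u := by
  unfold Ts
  exact inf_comm _ _

theorem b2_nbr_out (u : Ω) :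
    {w : SVtx Ω | AdjS R ⟨u, true⟩ w} = (fun x : Ω => (⟨x, false⟩ : SVtx Ω)) '' {x | R u x} := by
  ext w
  simp only [Set.mem_ofPred_eq, Set.mem_image]
  rw [adjS_out]
  constructor
  · rintro ⟨h1, h2⟩
    refine ⟨w.pt, h2, ?_⟩
    obtain ⟨wp, wo⟩ := w
    simp only at h1
    rw [h1]
  · rintro ⟨x, hx, rfl⟩
    exact ⟨rfl, hx⟩

theorem b2_nbr_in (u : Ω) :
    {w : SVtx Ω | AdjS R ⟨u, false⟩ w} = (fun x : Ω => (⟨x, true⟩ : SVtx Ω)) '' {x | R x u} := by
  ext w
  simp only [Set.mem_ofPred_eq, Set.mem_image]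
  rw [adjS_in]
  constructor
  · rintro ⟨h1, h2⟩
    refine ⟨w.pt, h2, ?_⟩
    obtain ⟨wp, wo⟩ := w
    simp only at h1
    rw [h1]
  · rintro ⟨x, hx, rfl⟩
    exact ⟨rfl, hx⟩

theorem b2_mk_inj (e : Bool) : Function.Injective (fun x : Ω => (⟨x, e⟩ : SVtx Ω)) := by
  intro x y h
  exact congrArg SVtx.pt h

theorem b2_Qs_true (u : Ω) : Qs G (AdjS R) (⟨u, true⟩ : SVtx Ω) = Qo G R u := by
  unfold Qs Qo
  rw [b2_stab]
  congr 1
  apply le_antisymm
  · refine le_iInf₂ fun w hw => ?_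
    have h1 : (⟨w, false⟩ : SVtx Ω) ∈ {w : SVtx Ω | AdjS R ⟨u, true⟩ w} := by
      simp only [Set.mem_ofPred_eq]
      rw [adjS_out]
      exact ⟨rfl, hw⟩
    have := iInf₂_le (f := fun (w : SVtx Ω) (_ : w ∈ {w : SVtx Ω | AdjS R ⟨u, true⟩ w}) =>
      MulAction.stabilizer G w) (⟨w, false⟩ : SVtx Ω) h1
    rw [b2_stab] at this
    exact this
  · refine le_iInf₂ fun w hw => ?_
    simp only [Set.mem_ofPred_eq] at hw
    rw [adjS_out] at hw
    rw [b2_stab]
    exact iInf₂_le (f := fun (x : Ω) (_ : x ∈ {x | R u x}) => MulAction.stabilizer G x) w.pt hw.2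

theorem b2_Qs_false (u : Ω) : Qs G (AdjS R) (⟨u, false⟩ : SVtx Ω) = Qo G (flip R) u := by
  unfold Qs Qo
  rw [b2_stab]
  congr 1
  apply le_antisymm
  · refine le_iInf₂ fun w hw => ?_
    have h1 : (⟨w, true⟩ : SVtx Ω) ∈ {w : SVtx Ω | AdjS R ⟨u, false⟩ w} := by
      simp only [Set.mem_ofPred_eq]
      rw [adjS_in]
      exact ⟨rfl, hw⟩
    have := iInf₂_le (f := fun (w : SVtx Ω) (_ : w ∈ {w : SVtx Ω | AdjS R ⟨u, false⟩ w}) =>
      MulAction.stabilizer G w) (⟨w, true⟩ : SVtx Ω) h1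
    rw [b2_stab] at this
    exact this
  · refine le_iInf₂ fun w hw => ?_
    simp only [Set.mem_ofPred_eq] at hw
    rw [adjS_in] at hw
    rw [b2_stab]
    exact iInf₂_le (f := fun (x : Ω) (_ : x ∈ {x | flip R u x}) => MulAction.stabilizer G x)
      w.pt hw.2

theorem Qs_S (S : SimsSetting G R a b) (v : SVtx Ω) : Qs G (AdjS R) v = Qo G R v.pt := by
  obtain ⟨u, e⟩ := v
  cases e
  · rw [b2_Qs_false, Qo_flip S]
  · rw [b2_Qs_true]

theorem b2_Zs_true (u : Ω) : Zs G (AdjS R) (⟨u, true⟩ : SVtx Ω) = Zp G R u := by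
  unfold Zs Zp
  apply le_antisymm
  · refine iSup₂_le fun w hw => ?_
    simp only [Set.mem_ofPred_eq] at hw
    rw [adjS_out] at hw
    rw [Ts_S]
    exact le_iSup₂ (f := fun (x : Ω) (_ : x ∈ {x | R u x}) => OZ (Ts G u x)) w.pt hw.2
  · refine iSup₂_le fun w hw => ?_
    have h1 : (⟨w, false⟩ : SVtx Ω) ∈ {w : SVtx Ω | AdjS R ⟨u, true⟩ w} := by
      simp only [Set.mem_ofPred_eq]
      rw [adjS_out]
      exact ⟨rfl, hw⟩
    have := le_iSup₂ (f := fun (w : SVtx Ω) (_ : w ∈ {w : SVtx Ω | AdjS R ⟨u, true⟩ w}) =>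
      OZ (Ts G (⟨u, true⟩ : SVtx Ω) w)) (⟨w, false⟩ : SVtx Ω) h1
    rw [Ts_S] at this
    exact this

theorem b2_Zs_false (u : Ω) : Zs G (AdjS R) (⟨u, false⟩ : SVtx Ω) = Zp G (flip R) u := by
  unfold Zs Zp
  apply le_antisymm
  · refine iSup₂_le fun w hw => ?_
    simp only [Set.mem_ofPred_eq] at hw
    rw [adjS_in] at hw
    rw [Ts_S]
    exact le_iSup₂ (f := fun (x : Ω) (_ : x ∈ {x | flip R u x}) => OZ (Ts G u x)) w.pt hw.2
  · refine iSup₂_le fun w hw => ?_
    have h1 : (⟨w, true⟩ : SVtx Ω) ∈ {w : SVtx Ω | AdjS R ⟨u, false⟩ w} := by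
      simp only [Set.mem_ofPred_eq]
      rw [adjS_in]
      exact ⟨rfl, hw⟩
    have := le_iSup₂ (f := fun (w : SVtx Ω) (_ : w ∈ {w : SVtx Ω | AdjS R ⟨u, false⟩ w}) =>
      OZ (Ts G (⟨u, false⟩ : SVtx Ω) w)) (⟨w, true⟩ : SVtx Ω) h1
    rw [Ts_S] at this
    exact this

theorem Zs_S (S : SimsSetting G R a b) (v : SVtx Ω) : Zs G (AdjS R) v = Zp G R v.pt := by
  obtain ⟨u, e⟩ := v
  cases e
  · rw [b2_Zs_false, Zp_flip S]
  · rw [b2_Zs_true]

theorem Cs_S (S : SimsSetting G R a b) (v : SVtx Ω) : Cs G (AdjS R) v = Cp G R v.pt := by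
  unfold Cs Cp
  rw [Zs_S S, b2_stab]

theorem rs_S (S : SimsSetting G R a b) (v w : SVtx Ω) :
    rs G (AdjS R) v w = rp G R v.pt w.pt := by
  unfold rs rp
  rw [Zs_S S, Ts_S]

theorem Cp_flip (S : SimsSetting G R a b) (u : Ω) : Cp G (flip R) u = Cp G R u := by
  unfold Cp
  rw [Zp_flip S]

theorem rp_flip (S : SimsSetting G R a b) (u w : Ω) : rp G (flip R) u w = rp G R u w := by
  unfold rp
  rw [Zp_flip S]

theorem pout_flip (S : SimsSetting G R a b) : Pout G (flip R) ↔ Pin G R := by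
  unfold Pout Pin
  constructor
  · intro h u w huw
    have := h w u huw
    rw [rp_flip S, Cp_flip S] at this
    exact this
  · intro h u w huw
    rw [rp_flip S, Cp_flip S]
    exact h w u huw

theorem pin_flip (S : SimsSetting G R a b) : Pin G (flip R) ↔ Pout G R := by
  unfold Pout Pin
  constructor
  · intro h u w huw
    have := h w u huw
    rw [rp_flip S, Cp_flip S] at this
    exact this
  · intro h u w huw
    rw [rp_flip S, Cp_flip S]
    exact h w u huw

theorem b2_conj_Ts (g : G) (u w : Ω) (x : G) :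
    g * x * g⁻¹ ∈ Ts G (g • u) (g • w) ↔ x ∈ Ts G u w := by
  unfold Ts
  simp only [Subgroup.mem_inf, MulAction.mem_stabilizer_iff]
  have key : ∀ y : Ω, (g * x * g⁻¹) • (g • y) = g • y ↔ x • y = y := by
    intro y
    rw [← mul_smul, mul_assoc, inv_mul_cancel, mul_one, mul_smul]
    exact (MulAction.injective g).eq_iff
  rw [key, key]

theorem b2_conj_OZ (g : G) (T T' : Subgroup G) (hT : ∀ x, g * x * g⁻¹ ∈ T' ↔ x ∈ T) (x : G) :
    g * x * g⁻¹ ∈ OZ T' ↔ x ∈ OZ T := by
  rw [mem_OZ, mem_OZ, hT]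
  constructor
  · rintro ⟨h1, h2, h3⟩
    refine ⟨h1, fun t ht => ?_, ?_⟩
    · have := h2 (g * t * g⁻¹) ((hT t).mpr ht)
      have e1 : g * t * g⁻¹ * (g * x * g⁻¹) = g * (t * x) * g⁻¹ := by group
      have e2 : g * x * g⁻¹ * (g * t * g⁻¹) = g * (x * t) * g⁻¹ := by group
      rw [e1, e2] at this
      exact mul_left_cancel (mul_right_cancel this)
    · have e : (g * x * g⁻¹) ^ 2 = g * x ^ 2 * g⁻¹ := by
        rw [pow_two, pow_two]
        group
      rw [e] at h3
      have : g * x ^ 2 * g⁻¹ = g * 1 * g⁻¹ := by rw [h3]; group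
      exact mul_left_cancel (mul_right_cancel this)
  · rintro ⟨h1, h2, h3⟩
    refine ⟨h1, fun t ht => ?_, ?_⟩
    · have ht' : g⁻¹ * t * g ∈ T := by
        rw [← hT]
        have : g * (g⁻¹ * t * g) * g⁻¹ = t := by group
        rw [this]
        exact ht
      have := h2 _ ht'
      calc t * (g * x * g⁻¹) = g * ((g⁻¹ * t * g) * x) * g⁻¹ := by group
        _ = g * (x * (g⁻¹ * t * g)) * g⁻¹ := by rw [this]
        _ = g * x * g⁻¹ * t := by group
    · have e : (g * x * g⁻¹) ^ 2 = g * x ^ 2 * g⁻¹ := by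
        rw [pow_two, pow_two]
        group
      rw [e, h3]
      group

theorem b2_noncentral (S : SimsSetting G R a b) {u w : Ω} (h : R u w) :
    ¬ MulAction.stabilizer G u ≤ Subgroup.centralizer (OZ (Ts G u w) : Set G) := by
  obtain ⟨g, hga, hgb⟩ := arc_trans S (R_base S) h
  intro hle
  apply S.noncentral
  intro x hx
  rw [Subgroup.mem_centralizer_iff]
  intro z hz
  have hx' : g * x * g⁻¹ ∈ MulAction.stabilizer G u := by
    rw [MulAction.mem_stabilizer_iff, ← hga, ← mul_smul, mul_assoc, inv_mul_cancel, mul_one,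
      mul_smul, MulAction.mem_stabilizer_iff.mp hx]
  have hz' : g * z * g⁻¹ ∈ OZ (Ts G u w) := by
    rw [← hga, ← hgb]
    exact (b2_conj_OZ g (Ts G a b) (Ts G (g • a) (g • b)) (b2_conj_Ts g a b) z).mpr hz
  have := (Subgroup.mem_centralizer_iff.mp (hle hx')) _ hz'
  have e1 : g * z * g⁻¹ * (g * x * g⁻¹) = g * (z * x) * g⁻¹ := by group
  have e2 : g * x * g⁻¹ * (g * z * g⁻¹) = g * (x * z) * g⁻¹ := by group
  rw [e1, e2] at this
  exact mul_left_cancel (mul_right_cancel this)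

theorem b2_s3 (S : SimsSetting G R a b) {u w : Ω} (h : R u w) :
    ∃ t ∈ Ts G u w, ∃ w', R u w' ∧ t • w' ≠ w' := by
  obtain ⟨g, hga, hgb⟩ := arc_trans S (R_base S) h
  obtain ⟨t, ht, w', hw', hne⟩ := S.s3
  refine ⟨g * t * g⁻¹, ?_, g • w', ?_, ?_⟩
  · rw [← hga, ← hgb]
    exact (b2_conj_Ts g a b t).mpr ht
  · rw [← hga]
    exact (R_smul_iff S g a w').mpr hw'
  · rw [← mul_smul, mul_assoc, inv_mul_cancel, mul_one, mul_smul]
    intro h'
    exact hne ((MulAction.injective g) h')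

theorem b2_conj_Qo (S : SimsSetting G R a b) (g : G) (u : Ω) (x : G) :
    g * x * g⁻¹ ∈ Qo G R (g • u) ↔ x ∈ Qo G R u := by
  unfold Qo
  simp only [Subgroup.mem_inf, Subgroup.mem_iInf, MulAction.mem_stabilizer_iff, Set.mem_ofPred_eq]
  have key : ∀ y : Ω, (g * x * g⁻¹) • (g • y) = g • y ↔ x • y = y := by
    intro y
    rw [← mul_smul, mul_assoc, inv_mul_cancel, mul_one, mul_smul]
    exact (MulAction.injective g).eq_iff
  rw [key]
  constructor
  · rintro ⟨h1, h2⟩
    refine ⟨h1, fun w hw => ?_⟩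
    exact (key w).mp (h2 (g • w) ((R_smul_iff S g u w).mpr hw))
  · rintro ⟨h1, h2⟩
    refine ⟨h1, fun w hw => ?_⟩
    have hw' : R u (g⁻¹ • w) := by
      rw [← R_smul_iff S g u (g⁻¹ • w), smul_inv_smul]
      exact hw
    have := (key (g⁻¹ • w)).mpr (h2 _ hw')
    rw [smul_inv_smul] at this
    exact this

theorem b2_selfc (S : SimsSetting G R a b) (u : Ω) :
    MulAction.stabilizer G u ⊓ Subgroup.centralizer (Qo G R u : Set G) ≤ Qo G R u := by
  obtain ⟨g, hg⟩ := pt_trans S a u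
  intro x hx
  rw [Subgroup.mem_inf] at hx
  have hx1 : g⁻¹ * x * g ∈ MulAction.stabilizer G a := by
    rw [MulAction.mem_stabilizer_iff, mul_smul, mul_smul, hg,
      MulAction.mem_stabilizer_iff.mp hx.1, ← hg, inv_smul_smul]
  have hx2 : g⁻¹ * x * g ∈ Subgroup.centralizer (Qo G R a : Set G) := by
    rw [Subgroup.mem_centralizer_iff]
    intro q hq
    have hq' : g * q * g⁻¹ ∈ Qo G R u := by
      rw [← hg]
      exact (b2_conj_Qo S g a q).mpr hq
    have := (Subgroup.mem_centralizer_iff.mp hx.2) _ hq'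
    calc q * (g⁻¹ * x * g) = g⁻¹ * ((g * q * g⁻¹) * x) * g := by group
      _ = g⁻¹ * (x * (g * q * g⁻¹)) * g := by rw [this]
      _ = g⁻¹ * x * g * q := by group
  have := S.selfc (Subgroup.mem_inf.mpr ⟨hx1, hx2⟩)
  have h2 := (b2_conj_Qo S g a (g⁻¹ * x * g)).mpr this
  rw [hg] at h2
  have e : g * (g⁻¹ * x * g) * g⁻¹ = x := by group
  rw [e] at h2
  exact h2

theorem ls3 (S : SimsSetting G R a b) : LS3 G (AdjS R) := by
  have S' : SimsSetting G (flip R) b a := setting_flip S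
  have : Finite G := S.fin
  refine ⟨b2_adjS_symm, b2_adjS_irrefl, ?_, ?_, ?_, ?_, ?_, ?_, ?_, ?_, ?_⟩
  · intro g v w h
    unfold AdjS at h ⊢
    rcases h with ⟨h1, h2, h3⟩ | ⟨h1, h2, h3⟩
    · exact Or.inl ⟨h1, h2, (R_smul_iff S g _ _).mpr h3⟩
    · exact Or.inr ⟨h1, h2, (R_smul_iff S g _ _).mpr h3⟩
  · intro v
    obtain ⟨u, e⟩ := v
    cases e
    · rw [b2_nbr_in, Set.ncard_image_of_injective _ (b2_mk_inj true)]
      exact in3_all S u
    · rw [b2_nbr_out, Set.ncard_image_of_injective _ (b2_mk_inj false)]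
      exact out3_all S u
  · intro v
    infer_instance
  · intro v w w' hw hw'
    obtain ⟨u, e⟩ := v
    cases e
    · rw [adjS_in] at hw hw'
      obtain ⟨g, hg, hgw⟩ := in_trans S hw.2 hw'.2
      refine ⟨g, ?_, ?_⟩
      · rw [b2_stab]
        exact hg
      · obtain ⟨wp, wo⟩ := w
        obtain ⟨wp', wo'⟩ := w'
        simp only at hw hw' hgw
        rw [SVtx.smul_def]
        simp only
        rw [hgw, hw.1, hw'.1]
    · rw [adjS_out] at hw hw'
      obtain ⟨g, hg, hgw⟩ := out_trans S hw.2 hw'.2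
      refine ⟨g, ?_, ?_⟩
      · rw [b2_stab]
        exact hg
      · obtain ⟨wp, wo⟩ := w
        obtain ⟨wp', wo'⟩ := w'
        simp only at hw hw' hgw
        rw [SVtx.smul_def]
        simp only
        rw [hgw, hw.1, hw'.1]
  · intro v w hvw
    rw [Ts_S]
    obtain ⟨u, e⟩ := v
    cases e
    · rw [adjS_in] at hvw
      rw [b2_Ts_comm]
      exact two_all S hvw.2
    · rw [adjS_out] at hvw
      exact two_all S hvw.2
  · intro v w hvw
    obtain ⟨u, e⟩ := v
    cases e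
    · rw [adjS_in] at hvw
      obtain ⟨t, ht, w', hw', hne⟩ := b2_s3 S' (u := u) (w := w.pt) hvw.2
      refine ⟨t, ?_, ⟨w', true⟩, ?_, ?_⟩
      · rw [Ts_S]
        exact ht
      · rw [adjS_in]
        exact ⟨rfl, hw'⟩
      · intro h
        exact hne (congrArg SVtx.pt h)
    · rw [adjS_out] at hvw
      obtain ⟨t, ht, w', hw', hne⟩ := b2_s3 S hvw.2
      refine ⟨t, ?_, ⟨w', false⟩, ?_, ?_⟩
      · rw [Ts_S]
        exact ht
      · rw [adjS_out]
        exact ⟨rfl, hw'⟩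
      · intro h
        exact hne (congrArg SVtx.pt h)
  · intro v
    rw [Qs_S S, b2_stab]
    exact b2_selfc S v.pt
  · intro v w hvw
    rw [Ts_S, b2_stab]
    obtain ⟨u, e⟩ := v
    cases e
    · rw [adjS_in] at hvw
      exact b2_noncentral S' (u := u) (w := w.pt) hvw.2
    · rw [adjS_out] at hvw
      exact b2_noncentral S hvw.2
  · intro v w hvw X hX hXv hXw
    rw [b2_stab] at hXv hXw
    rw [Ts_S] at hX
    have hne : v.pt ≠ w.pt := by
      intro h
      obtain ⟨u, e⟩ := v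
      cases e
      · rw [adjS_in] at hvw
        simp only at h
        rw [h] at hvw
        exact R_irrefl S _ hvw.2
      · rw [adjS_out] at hvw
        simp only at h
        rw [h] at hvw
        exact R_irrefl S _ hvw.2
    have htop := Gs_sup_eq_top S hne
    have hnorm : X.Normal := by
      constructor
      intro x hx g
      have hg : g ∈ MulAction.stabilizer G v.pt ⊔ MulAction.stabilizer G w.pt := by
        rw [htop]
        exact Subgroup.mem_top g
      have hN : MulAction.stabilizer G v.pt ⊔ MulAction.stabilizer G w.pt ≤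
          Subgroup.normalizer (X : Set G) := by
        refine sup_le ?_ ?_
        · intro k hk
          rw [Subgroup.mem_normalizer_iff]
          intro y
          constructor
          · intro hy
            exact hXv k hk y hy
          · intro hy
            have := hXv k⁻¹ (Subgroup.inv_mem _ hk) _ hy
            have e : k⁻¹ * (k * y * k⁻¹) * k⁻¹⁻¹ = y := by group
            rw [e] at this
            exact this
        · intro k hk
          rw [Subgroup.mem_normalizer_iff]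
          intro y
          constructor
          · intro hy
            exact hXw k hk y hy
          · intro hy
            have := hXw k⁻¹ (Subgroup.inv_mem _ hk) _ hy
            have e : k⁻¹ * (k * y * k⁻¹) * k⁻¹⁻¹ = y := by group
            rw [e] at this
            exact this
      exact (Subgroup.mem_normalizer_iff.mp (hN hg) x).mp hx
    exact corefree_all S v.pt X hnorm (hX.trans inf_le_left)

theorem b2_below_flip (S : SimsSetting G R a b) {n : ℕ} (hb : Below G (AdjS R) n) :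
    Below G (AdjS (flip R)) n := by
  have S' : SimsSetting G (flip R) b a := setting_flip S
  intro q m hm hq
  have hq' : IsWalk (AdjS R) (fun i => (q i).twin) m := by
    intro i hi
    exact (adjS_flip _ _).mp (hq i hi)
  have := hb (fun i => (q i).twin) m hm hq'
  rw [Zs_S S, Qs_S S] at this
  rw [Zs_S S', Qs_S S', Zp_flip S, Qo_flip S]
  exact this

theorem isCritical_flip (S : SimsSetting G R a b) {p : ℕ → SVtx Ω} {n : ℕ}
    (hc : IsCritical G (AdjS R) p n) : IsCritical G (AdjS (flip R)) (fun i => (p i).twin) n := by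
  have S' : SimsSetting G (flip R) b a := setting_flip S
  obtain ⟨hw, hb, hn⟩ := hc
  refine ⟨?_, b2_below_flip S hb, ?_⟩
  · intro i hi
    rw [adjS_flip, b2_twin_twin, b2_twin_twin]
    exact hw i hi
  · rw [Zs_S S, Qs_S S] at hn
    rw [Zs_S S', Qs_S S', Zp_flip S, Qo_flip S]
    exact hn

theorem isCritical_twin (S : SimsSetting G R a b) (hsymm : ∀ u w, R u w → R w u)
    {p : ℕ → SVtx Ω} {n : ℕ} (hc : IsCritical G (AdjS R) p n) :
    IsCritical G (AdjS R) (fun i => (p i).twin) n := by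
  have hR : flip R = R := by
    funext u w
    exact propext ⟨fun h => hsymm _ _ h, fun h => hsymm _ _ h⟩
  have := isCritical_flip S hc
  rw [hR] at this
  exact this

end B2

end Cfsg.Agent.Lib.Helper19.SW
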