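import Cfsg.Agent.Lib.Helper19.SW.Defs
import Cfsg.Agent.Lib.Helper27.SWA2
import Cfsg.Agent.Lib.helper15.SWA4
import Cfsg.Agent.Lib.Helper24.SWA5
import Cfsg.Agent.Lib.Helper1.SWB2

set_option autoImplicit false

namespace Cfsg.Agent.Lib.Helper19.SW

variable {G : Type*} [Group G] {Ω : Type*} [MulAction G Ω] {R : Ω → Ω → Prop} {a b : Ω}

section B3

theorem b3_exists_out (S : SimsSetting G R a b) (u : Ω) : ∃ w, R u w := by
  have h3 := out3_all S u
  have hne : {w | R u w}.Nonempty := by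
    rw [← Set.ncard_pos (Set.finite_of_ncard_ne_zero (by rw [h3]; norm_num))]
    rw [h3]
    norm_num
  exact hne

theorem b3_exists_in (S : SimsSetting G R a b) (u : Ω) : ∃ w, R w u := by
  have h3 := in3_all S u
  have hne : {w | R w u}.Nonempty := by
    rw [← Set.ncard_pos (Set.finite_of_ncard_ne_zero (by rw [h3]; norm_num))]
    rw [h3]
    norm_num
  exact hne

theorem b3_quad_twin (S : SimsSetting G R a b) (v : SVtx Ω) (hq : Quad G (AdjS R) v) :
    Quad G (AdjS R) v.twin := by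
  obtain ⟨w, hvw, hidx⟩ := hq
  obtain ⟨u, e⟩ := v
  have hZ : Zs G (AdjS R) (SVtx.twin ⟨u, e⟩) = Zs G (AdjS R) ⟨u, e⟩ := by
    rw [Zs_S S, Zs_S S]
    rfl
  cases e
  · rw [adjS_in] at hvw
    obtain ⟨w', hw', hT⟩ := succ_exists S hvw.2
    refine ⟨⟨w', false⟩, ?_, ?_⟩
    · show AdjS R ⟨u, true⟩ ⟨w', false⟩
      rw [adjS_out]
      exact ⟨rfl, hw'⟩
    · rw [hZ, Ts_S]
      rw [Ts_S] at hidx
      show (OZ (Ts G u w')).relIndex _ = 2
      rw [hT, b2_Ts_comm w.pt u]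
      exact hidx
  · rw [adjS_out] at hvw
    obtain ⟨u', hu', hT⟩ := pred_exists S hvw.2
    refine ⟨⟨u', true⟩, ?_, ?_⟩
    · show AdjS R ⟨u, false⟩ ⟨u', true⟩
      rw [adjS_in]
      exact ⟨rfl, hu'⟩
    · rw [hZ, Ts_S]
      rw [Ts_S] at hidx
      show (OZ (Ts G u u')).relIndex _ = 2
      rw [b2_Ts_comm u u', hT]
      exact hidx

theorem quad_S (S : SimsSetting G R a b) (v : SVtx Ω) : Quad G (AdjS R) v := by
  have hL := ls3 S
  obtain ⟨p, n, hc⟩ := exists_critical hL (⟨a, true⟩ : SVtx Ω)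
  have h0 := crit_quad hL hc
  obtain ⟨g, hg⟩ := pt_trans S (p 0).pt v.pt
  have h1 : Quad G (AdjS R) (g • p 0) := quad_smul hL g (p 0) h0
  by_cases he : (p 0).out = v.out
  · have : g • p 0 = v := by
      obtain ⟨vp, vo⟩ := v
      rw [SVtx.smul_def]
      simp only at hg he
      rw [hg, he]
    rw [this] at h1
    exact h1
  · have : (g • p 0).twin = v := by
      obtain ⟨vp, vo⟩ := v
      rw [SVtx.smul_def]
      unfold SVtx.twin
      simp only at hg he ⊢
      rw [hg]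
      congr 1
      cases hp : (p 0).out <;> cases vo <;> simp_all
    rw [← this]
    exact b3_quad_twin S _ h1

theorem card_Cp_le (S : SimsSetting G R a b) (u : Ω) : Nat.card (Cp G R u) ≤ 2 := by
  have hL := ls3 S
  obtain ⟨w, hw⟩ := b3_exists_out S u
  have hq : Quad G (AdjS R) (⟨w, false⟩ : SVtx Ω) := quad_S S _
  have hadj : AdjS R (⟨w, false⟩ : SVtx Ω) ⟨u, true⟩ := by
    rw [adjS_in]
    exact ⟨rfl, hw⟩
  have := card_Cs_le hL hq hadj
  rw [Cs_S S] at this
  exact this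

theorem card_Cp_eq (S : SimsSetting G R a b) (u u' : Ω) :
    Nat.card (Cp G R u) = Nat.card (Cp G R u') := by
  have hL := ls3 S
  obtain ⟨g, hg⟩ := pt_trans S u u'
  have := card_Cs_smul hL g (⟨u, true⟩ : SVtx Ω)
  rw [Cs_S S, Cs_S S] at this
  simp only [SVtx.smul_pt] at this
  rw [hg] at this
  exact this.symm

end B3

end Cfsg.Agent.Lib.Helper19.SW
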