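import Mathlib
import Cfsg.Agent.Lib.Helper10.SZC.Defs

/-!
# Project SZC, row F1: the class sum over the conjugates of a TI subgroup.
-/

set_option autoImplicit false
open scoped ComplexConjugate

namespace Cfsg.Agent.Lib.Helper10.SZC

section
variable {G : Type*} [Group G] [Fintype G]

open Classical in
/-- the number of `x` conjugating a fixed `g ≠ 1` into the TI subgroup `T` is `|N|` (if there is one). -/
theorem h1_szcF1_count (T N : Subgroup G)
    (hnorm : ∀ n ∈ N, ∀ t ∈ T, n * t * n⁻¹ ∈ T)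
    (hti : ∀ g : G, g ∉ N → ∀ t ∈ T, t ≠ 1 → g * t * g⁻¹ ∉ T)
    (g : G) (hg : g ≠ 1) (x₀ : G) (hx₀ : x₀ * g * x₀⁻¹ ∈ T) :
    (∑ x : G, if x * g * x⁻¹ ∈ T then (1 : ℂ) else 0) = (Nat.card N : ℂ) := by
  have ht0 : x₀ * g * x₀⁻¹ ≠ 1 := by
    intro h
    apply hg
    have : g = x₀⁻¹ * (x₀ * g * x₀⁻¹) * x₀ := by group
    rw [this, h]
    group
  have hiff : ∀ x : G, (x * g * x⁻¹ ∈ T) ↔ (x * x₀⁻¹ ∈ N) := by
    intro x
    have hrew : x * g * x⁻¹ = (x * x₀⁻¹) * (x₀ * g * x₀⁻¹) * (x * x₀⁻¹)⁻¹ := by group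
    constructor
    · intro h
      by_contra hn
      exact hti _ hn _ hx₀ ht0 (hrew ▸ h)
    · intro h
      rw [hrew]
      exact hnorm _ h _ hx₀
  simp only [hiff]
  rw [← Equiv.sum_comp (Equiv.mulRight x₀)]
  have : ∀ y : G, (if (Equiv.mulRight x₀) y * x₀⁻¹ ∈ N then (1 : ℂ) else 0) =
      if y ∈ N then (1 : ℂ) else 0 := by
    intro y
    have : (Equiv.mulRight x₀) y * x₀⁻¹ = y := by simp
    rw [this]
  simp only [this]
  rw [Finset.sum_ite, Finset.sum_const_zero, add_zero, Finset.sum_const, nsmul_eq_mul, mul_one]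
  congr 1
  rw [Nat.card_eq_fintype_card, Fintype.card_subtype]

open Classical in
/-- F1 -/
theorem ti_class_sum (T N : Subgroup G) (hle : T ≤ N)
    (hnorm : ∀ n ∈ N, ∀ t ∈ T, n * t * n⁻¹ ∈ T)
    (hti : ∀ g : G, g ∉ N → ∀ t ∈ T, t ≠ 1 → g * t * g⁻¹ ∉ T)
    (f : G → ℂ) (hf : Cfsg.IsClassFunction G f) :
    ∑ g : G, (if g ≠ 1 ∧ ∃ x : G, x * g * x⁻¹ ∈ T then f g else 0) =
      (N.index : ℂ) * sumNI T f := by
  have hN0 : (Nat.card N : ℂ) ≠ 0 := by exact_mod_cast (Nat.card_pos (α := N)).ne'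
  -- step A
  have hA : ∀ g : G, (Nat.card N : ℂ) * (if g ≠ 1 ∧ ∃ x : G, x * g * x⁻¹ ∈ T then f g else 0) =
      ∑ x : G, if (x * g * x⁻¹ ∈ T ∧ x * g * x⁻¹ ≠ 1) then f (x * g * x⁻¹) else 0 := by
    intro g
    by_cases hc : g ≠ 1 ∧ ∃ x : G, x * g * x⁻¹ ∈ T
    · obtain ⟨hg, x₀, hx₀⟩ := hc
      rw [if_pos ⟨hg, x₀, hx₀⟩, ← h1_szcF1_count T N hnorm hti g hg x₀ hx₀, Finset.sum_mul]
      apply Finset.sum_congr rfl
      intro x _
      have hne : x * g * x⁻¹ ≠ 1 := by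
        intro h
        apply hg
        have : g = x⁻¹ * (x * g * x⁻¹) * x := by group
        rw [this, h]
        group
      by_cases hx : x * g * x⁻¹ ∈ T
      · rw [if_pos hx, if_pos ⟨hx, hne⟩, one_mul, hf]
      · rw [if_neg hx, if_neg (fun h => hx h.1), zero_mul]
    · rw [if_neg hc, mul_zero]
      symm
      apply Finset.sum_eq_zero
      intro x _
      rw [if_neg]
      rintro ⟨h1, h2⟩
      apply hc
      refine ⟨?_, x, h1⟩
      intro hg
      apply h2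
      rw [hg]
      group
  -- step B
  have hB : ∑ g : G, ∑ x : G, (if (x * g * x⁻¹ ∈ T ∧ x * g * x⁻¹ ≠ 1) then f (x * g * x⁻¹) else 0) =
      (Nat.card G : ℂ) * sumNI T f := by
    rw [Finset.sum_comm]
    have : ∀ x : G, ∑ g : G, (if (x * g * x⁻¹ ∈ T ∧ x * g * x⁻¹ ≠ 1) then f (x * g * x⁻¹) else 0) =
        sumNI T f := by
      intro x
      unfold sumNI
      exact Equiv.sum_comp (MulAut.conj x).toEquiv (fun t => if t ∈ T ∧ t ≠ 1 then f t else 0)
    simp only [this, Finset.sum_const, Finset.card_univ, nsmul_eq_mul, Nat.card_eq_fintype_card]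
  have hidx : (Nat.card G : ℂ) = (N.index : ℂ) * (Nat.card N : ℂ) := by
    rw [← Subgroup.index_mul_card N]
    push_cast
    ring
  have hmain : (Nat.card N : ℂ) * ∑ g : G, (if g ≠ 1 ∧ ∃ x : G, x * g * x⁻¹ ∈ T then f g else 0) =
      (Nat.card N : ℂ) * ((N.index : ℂ) * sumNI T f) := by
    rw [Finset.mul_sum]
    simp only [hA]
    rw [hB, hidx]
    ring
  exact mul_left_cancel₀ hN0 hmain

end

end Cfsg.Agent.Lib.Helper10.SZC
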