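import Mathlib
import Cfsg.Agent.Lib.Helper10.SZC.Defs
import Cfsg.Agent.Lib.Helper1.SZCF1
import Cfsg.Agent.Lib.Helper13.SZCA1

/-!
# Project SZC, row F2: the partition of `G` into the conjugates of `Q`, `K`, `A false`, `A true`.
-/

set_option autoImplicit false
open scoped ComplexConjugate

namespace Cfsg.Agent.Lib.Helper10.SZC

section
variable {G : Type*} [Group G] [Fintype G]

/-- an element conjugate into two subgroups of coprime orders is trivial. -/
theorem h1_szcF2_coprime (T₁ T₂ : Subgroup G) (hc : Nat.Coprime (Nat.card T₁) (Nat.card T₂))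
    (g x y : G) (hx : x * g * x⁻¹ ∈ T₁) (hy : y * g * y⁻¹ ∈ T₂) : g = 1 := by
  have hconj : ∀ z : G, orderOf (z * g * z⁻¹) = orderOf g := fun z =>
    MulEquiv.orderOf_eq (MulAut.conj z) g
  have h1 : orderOf g ∣ Nat.card T₁ := by
    have := Subgroup.orderOf_dvd_natCard T₁ hx
    rwa [hconj] at this
  have h2 : orderOf g ∣ Nat.card T₂ := by
    have := Subgroup.orderOf_dvd_natCard T₂ hy
    rwa [hconj] at this
  have h3 : orderOf g ∣ 1 := by
    have := Nat.dvd_gcd h1 h2
    rwa [hc] at this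
  exact orderOf_eq_one_iff.1 (Nat.dvd_one.1 h3)

variable {q r : ℕ}

open Classical in
/-- the pointwise decomposition. -/
theorem h1_szcF2_pointwise (D : SzcData G q r) (f : G → ℂ) (hf : Cfsg.IsClassFunction G f)
    (hK : ∀ k ∈ D.K, k ≠ 1 → f k = 0) (g : G) :
    f g = (if g = 1 then f 1 else 0) +
      (if g ≠ 1 ∧ ∃ x : G, x * g * x⁻¹ ∈ D.Q then f g else 0) +
      (if g ≠ 1 ∧ ∃ x : G, x * g * x⁻¹ ∈ D.A false then f g else 0) +
      (if g ≠ 1 ∧ ∃ x : G, x * g * x⁻¹ ∈ D.A true then f g else 0) := by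
  obtain ⟨_, _, _, _, _, hcop, hcopQ, _⟩ := arith D.hq D.hr
  have hQA : ∀ i, Nat.Coprime (Nat.card D.Q) (Nat.card (D.A i)) := by
    intro i
    rw [D.card_Q, D.card_A i]
    exact (Nat.Coprime.coprime_mul_right_right (hcopQ i)).symm
  have hAA : Nat.Coprime (Nat.card (D.A false)) (Nat.card (D.A true)) := by
    rw [D.card_A, D.card_A]
    exact hcop
  by_cases hg : g = 1
  · subst hg
    simp
  · rw [if_neg hg]
    by_cases h0 : f g = 0
    · simp [h0]
    · obtain ⟨x, hx⟩ := D.cover g hg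
      have hne : ∀ x : G, x * g * x⁻¹ ≠ 1 := by
        intro x h
        apply hg
        have : g = x⁻¹ * (x * g * x⁻¹) * x := by group
        rw [this, h]
        group
      rcases hx with hx | hx | hx | hx
      · -- in Q
        have hf' : ¬ (g ≠ 1 ∧ ∃ y : G, y * g * y⁻¹ ∈ D.A false) := by
          rintro ⟨_, y, hy⟩
          exact hg (h1_szcF2_coprime _ _ (hQA false) g x y hx hy)
        have ht' : ¬ (g ≠ 1 ∧ ∃ y : G, y * g * y⁻¹ ∈ D.A true) := by
          rintro ⟨_, y, hy⟩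
          exact hg (h1_szcF2_coprime _ _ (hQA true) g x y hx hy)
        rw [if_pos ⟨hg, x, hx⟩, if_neg hf', if_neg ht']
        ring
      · -- in K: f g = 0
        exfalso
        apply h0
        rw [← hf g x]
        exact hK _ hx (hne x)
      · -- in A false
        have hQ' : ¬ (g ≠ 1 ∧ ∃ y : G, y * g * y⁻¹ ∈ D.Q) := by
          rintro ⟨_, y, hy⟩
          exact hg (h1_szcF2_coprime _ _ (hQA false) g y x hy hx)
        have ht' : ¬ (g ≠ 1 ∧ ∃ y : G, y * g * y⁻¹ ∈ D.A true) := by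
          rintro ⟨_, y, hy⟩
          exact hg (h1_szcF2_coprime _ _ hAA g x y hx hy)
        rw [if_neg hQ', if_pos ⟨hg, x, hx⟩, if_neg ht']
        ring
      · -- in A true
        have hQ' : ¬ (g ≠ 1 ∧ ∃ y : G, y * g * y⁻¹ ∈ D.Q) := by
          rintro ⟨_, y, hy⟩
          exact hg (h1_szcF2_coprime _ _ (hQA true) g y x hy hx)
        have hf' : ¬ (g ≠ 1 ∧ ∃ y : G, y * g * y⁻¹ ∈ D.A false) := by
          rintro ⟨_, y, hy⟩
          exact hg (h1_szcF2_coprime _ _ hAA g y x hy hx)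
        rw [if_neg hQ', if_neg hf', if_pos ⟨hg, x, hx⟩]
        ring

/-- the index of the Borel subgroup. -/
theorem h1_szcF2_index (D : SzcData G q r) : D.H.index = q ^ 2 + 1 := by
  have h := Subgroup.index_mul_card D.H
  rw [D.card_H, D.card_G] at h
  have hq := D.hq
  have hpos : 0 < q ^ 2 * (q - 1) := by
    apply Nat.mul_pos
    · positivity
    · omega
  have : D.H.index * (q ^ 2 * (q - 1)) = (q ^ 2 + 1) * (q ^ 2 * (q - 1)) := by
    rw [h]
    ring
  exact Nat.eq_of_mul_eq_mul_right hpos this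

/-- F2 -/
theorem partition_sum (D : SzcData G q r) (f : G → ℂ) (hf : Cfsg.IsClassFunction G f)
    (hK : ∀ k ∈ D.K, k ≠ 1 → f k = 0) :
    ∑ g : G, f g = f 1 + ((q ^ 2 + 1 : ℕ) : ℂ) * sumNI D.Q f +
      ((D.N false).index : ℂ) * sumNI (D.A false) f +
      ((D.N true).index : ℂ) * sumNI (D.A true) f := by
  classical
  rw [Finset.sum_congr rfl (fun g _ => h1_szcF2_pointwise D f hf hK g)]
  rw [Finset.sum_add_distrib, Finset.sum_add_distrib, Finset.sum_add_distrib]
  have e1 := ti_class_sum D.Q D.H D.Q_le D.Q_norm D.Q_ti f hf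
  have e2 := ti_class_sum (D.A false) (D.N false) (D.tor false).le (D.tor false).norm
    (D.tor false).ti f hf
  have e3 := ti_class_sum (D.A true) (D.N true) (D.tor true).le (D.tor true).norm
    (D.tor true).ti f hf
  have e0 : ∑ g : G, (if g = 1 then f 1 else 0) = f 1 := by
    rw [Finset.sum_ite_eq' Finset.univ (1 : G) (fun _ => f 1)]
    simp
  have eq1 : ∑ g : G, (if g ≠ 1 ∧ ∃ x : G, x * g * x⁻¹ ∈ D.Q then f g else 0) =
      (D.H.index : ℂ) * sumNI D.Q f := by
    convert e1 using 2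
  have eq2 : ∑ g : G, (if g ≠ 1 ∧ ∃ x : G, x * g * x⁻¹ ∈ D.A false then f g else 0) =
      ((D.N false).index : ℂ) * sumNI (D.A false) f := by
    convert e2 using 2
  have eq3 : ∑ g : G, (if g ≠ 1 ∧ ∃ x : G, x * g * x⁻¹ ∈ D.A true then f g else 0) =
      ((D.N true).index : ℂ) * sumNI (D.A true) f := by
    convert e3 using 2
  rw [e0, eq1, eq2, eq3, h1_szcF2_index D]

end

end Cfsg.Agent.Lib.Helper10.SZC
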