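import Mathlib
import Cfsg.Agent.Lib.Helper10.SZC.Defs
import Cfsg.Agent.Lib.Helper1.SZCF2
import Cfsg.Agent.Lib.Helper13.SZCA1
import Cfsg.Agent.Lib.helper6.SZCP4
import Cfsg.Agent.Lib.helper7.Clifford
import Cfsg.Agent.Lib.Helper25.CharBasic
import Cfsg.Agent.Lib.Helper25.CharLinear

/-!
# Project SZC, row F3: the degree formula for cuspidal characters.
-/

set_option autoImplicit false
open scoped ComplexConjugate

namespace Cfsg.Agent.Lib.Helper10.SZC

section
variable {G : Type*} [Group G] [Fintype G]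

/-- own-name copy of the statement of P5: a cuspidal class function sums to `- χ 1` over `Q ∖ 1`. -/
theorem h1_szcF3_cusp_sum_Q (Q : Subgroup G) (χ : G → ℂ) (hcl : Cfsg.IsClassFunction G χ)
    (hχ : Cusp Q χ) : sumNI Q χ = - χ 1 := by
  classical
  haveI : Fintype ↥Q := Fintype.ofFinite _
  have h0 := szcP4_sum_Q Q χ hcl hχ
  rw [← Cfsg.Agent.Lib.helper7.h7_sum_subgroup Q (fun y => χ y)] at h0
  unfold sumNI
  have hsplit : ∀ g : G, (if g ∈ Q then χ g else 0) =
      (if g ∈ Q ∧ g ≠ 1 then χ g else 0) + (if g = 1 then χ 1 else 0) := by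
    intro g
    by_cases hg1 : g = 1
    · subst hg1
      simp [Q.one_mem]
    · by_cases hgQ : g ∈ Q
      · simp [hgQ, hg1]
      · simp [hgQ, hg1]
  rw [Finset.sum_congr rfl (fun g _ => hsplit g), Finset.sum_add_distrib,
    Finset.sum_ite_eq' Finset.univ (1 : G) (fun _ => χ 1)] at h0
  simp only [Finset.mem_univ, if_true] at h0
  linear_combination h0

/-- a cuspidal irreducible character sums to zero over `G`. -/
theorem h1_szcF3_sum_zero (Q : Subgroup G) (χ : Cfsg.IrrCharacter G)
    (hχ : Cusp Q (χ : G → ℂ)) : ∑ g : G, (χ : G → ℂ) g = 0 := by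
  classical
  haveI : Fintype ↥Q := Fintype.ofFinite _
  have hcl := Cfsg.Agent.Lib.helper7.h7_irr_isClassFunction χ.2
  have hne : χ ≠ Cfsg.Agent.Lib.Helper25.trivIrr G := by
    intro h
    have h0 := szcP4_sum_Q Q (χ : G → ℂ) hcl hχ
    rw [h] at h0
    simp only [Cfsg.Agent.Lib.Helper25.trivIrr_apply, Finset.sum_const, Finset.card_univ,
      nsmul_eq_mul, mul_one] at h0
    have : (Fintype.card ↥Q : ℂ) ≠ 0 := by exact_mod_cast Fintype.card_ne_zero
    exact this h0
  have h1 := Cfsg.Agent.Lib.Helper25.irr_classInner χ (Cfsg.Agent.Lib.Helper25.trivIrr G)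
  rw [if_neg hne] at h1
  unfold Cfsg.classInner at h1
  have hG : ((Nat.card G : ℂ))⁻¹ ≠ 0 := by
    apply inv_ne_zero
    exact_mod_cast Nat.card_pos.ne'
  have h2 := (mul_eq_zero.mp h1).resolve_left hG
  simpa using h2

variable {q r : ℕ}

/-- the indices of the torus normalisers. -/
theorem h1_szcF3_index (D : SzcData G q r) (i : Bool) :
    ((D.N i).index : ℂ) * 4 = ((q ^ 2 * (q - 1) : ℕ) : ℂ) * (aN q r (!i) : ℂ) := by
  obtain ⟨_, _, _, _, hprod, _, _, _, h5, _⟩ := arith D.hq D.hr
  have h := Subgroup.index_mul_card (D.N i)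
  rw [(D.tor i).card, D.card_A i, D.card_G, ← hprod] at h
  have hpos : 0 < aN q r i := by have := h5 i; omega
  have hnat : (D.N i).index * 4 = q ^ 2 * (q - 1) * aN q r (!i) := by
    have : ((D.N i).index * 4) * aN q r i = (q ^ 2 * (q - 1) * aN q r (!i)) * aN q r i := by
      cases i
      · simp only [Bool.not_false]
        calc ((D.N false).index * 4) * aN q r false
            = (D.N false).index * (4 * aN q r false) := by ring
          _ = q ^ 2 * (q - 1) * (aN q r false * aN q r true) := h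
          _ = (q ^ 2 * (q - 1) * aN q r true) * aN q r false := by ring
      · simp only [Bool.not_true]
        calc ((D.N true).index * 4) * aN q r true
            = (D.N true).index * (4 * aN q r true) := by ring
          _ = q ^ 2 * (q - 1) * (aN q r false * aN q r true) := h
          _ = (q ^ 2 * (q - 1) * aN q r false) * aN q r true := by ring
    exact Nat.eq_of_mul_eq_mul_right hpos this
  exact_mod_cast hnat

/-- F3 -/
theorem cusp_degree (D : SzcData G q r) (χ : Cfsg.IrrCharacter G)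
    (hχ : Cusp D.Q (χ : G → ℂ)) :
    4 * (χ : G → ℂ) 1 = ((q - 1 : ℕ) : ℂ) *
      ((aN q r true : ℂ) * sumNI (D.A false) (χ : G → ℂ) +
       (aN q r false : ℂ) * sumNI (D.A true) (χ : G → ℂ)) := by
  have hcl := Cfsg.Agent.Lib.helper7.h7_irr_isClassFunction χ.2
  have hpart := partition_sum D (χ : G → ℂ) hcl (fun k hk hk1 => cusp_vanish_K D χ hχ k hk hk1)
  rw [h1_szcF3_sum_zero D.Q χ hχ, h1_szcF3_cusp_sum_Q D.Q (χ : G → ℂ) hcl hχ] at hpart
  have hf := h1_szcF3_index D false
  have ht := h1_szcF3_index D true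
  simp only [Bool.not_false, Bool.not_true] at hf ht
  have hq := D.hq
  have hq0 : ((q ^ 2 : ℕ) : ℂ) ≠ 0 := by
    have : 0 < q ^ 2 := by positivity
    exact_mod_cast this.ne'
  push_cast at hpart hf ht hq0 ⊢
  -- multiply `hpart` by 4 and cancel `q ^ 2`
  have key : (q : ℂ) ^ 2 * (4 * (χ : G → ℂ) 1) = (q : ℂ) ^ 2 * (((q - 1 : ℕ) : ℂ) *
      ((aN q r true : ℂ) * sumNI (D.A false) (χ : G → ℂ) +
       (aN q r false : ℂ) * sumNI (D.A true) (χ : G → ℂ))) := by
    linear_combination (4 : ℂ) * hpart + sumNI (D.A false) (χ : G → ℂ) * hf +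
      sumNI (D.A true) (χ : G → ℂ) * ht
  exact mul_left_cancel₀ hq0 key

end

end Cfsg.Agent.Lib.Helper10.SZC
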