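import Mathlib
import Cfsg.Agent.Lib.Helper10.SZC.Defs
import Cfsg.Agent.Lib.Helper1.SZCF3
import Cfsg.Agent.Lib.Helper13.SZCA1
import Cfsg.Agent.Lib.Helper24.Cdc1
import Cfsg.Agent.Lib.Helper25.CharAbelian

/-!
# Project SZC, row S9 (no_shape2): core on the statements of S4, S5, S6.
-/

set_option autoImplicit false
open scoped ComplexConjugate

namespace Cfsg.Agent.Lib.Helper10.SZC

section
variable {G : Type*} [Group G] [Fintype G] {q r : ℕ}

/-- S9 core: `hS4`, `hS5`, `hS6` are the statements of rows S4 (V_card), S5 (V_cusp), S6 (sumNI_V). -/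
theorem h1_szcS9_core (D : SzcData G q r)
    (hS4 : ∀ i : Bool, 4 * (Vset D i).card = aN q r i - 1 ∧
      Disjoint (Vset D false) (Vset D true) ∧ (Vall D).card = q / 2)
    (hS5 : ∀ v : Cfsg.IrrCharacter G → ℤ, v ∈ Vall D → ∀ χ : Cfsg.IrrCharacter G, v χ ≠ 0 →
      Cusp D.Q (χ : G → ℂ))
    (hS6 : ∀ (i : Bool) (χ : Cfsg.IrrCharacter G), Cusp D.Q (χ : G → ℂ) →
      sumNI (D.A i) (χ : G → ℂ) = ((sgn i * 4 * ∑ v ∈ Vset D i, v χ : ℤ) : ℂ))
    (h4 : (Vall D).card = 4) : ¬ Shape2 (Vall D) := by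
  classical
  intro hsh
  obtain ⟨x, e, vv, hxinj, he, hvinj, hmem, hzero, hval, hout⟩ := hsh
  obtain ⟨hev_r, hev_q, h4r, hrq, hprod, _, _, _, _, _, hdiff⟩ := arith D.hq D.hr
  have hq8 : q = 8 := by
    have h := (hS4 false).2.2
    rw [h4] at h
    obtain ⟨k, hk⟩ := hev_q
    omega
  have hr4 : r = 4 := by
    have h := D.hr
    rw [hq8] at h
    have h' : r ^ 2 = 4 ^ 2 := by rw [h]; norm_num
    exact Nat.pow_left_injective (by norm_num : (2 : ℕ) ≠ 0) h'
  have haf : aN q r false = 13 := by rw [hq8, hr4]; simp [aN]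
  have hat : aN q r true = 5 := by rw [hq8, hr4]; simp [aN]
  have hcf : (Vset D false).card = 3 := by
    have h := (hS4 false).1
    rw [haf] at h
    omega
  have hct : (Vset D true).card = 1 := by
    have h := (hS4 true).1
    rw [hat] at h
    omega
  have hdisj := (hS4 false).2.1
  -- the unique vector of `Vset D true`
  obtain ⟨w, hw⟩ := Finset.card_eq_one.mp hct
  have hwV : w ∈ Vall D := by
    unfold Vall
    rw [Finset.mem_union, hw]
    right
    exact Finset.mem_singleton_self w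
  obtain ⟨k0, hk0⟩ := (hmem w).mp hwV
  subst hk0
  -- the other three vectors lie in `Vset D false`
  have hothers : ∀ j : Fin 4, j ≠ k0 → vv j ∈ Vset D false := by
    intro j hj
    have hjV : vv j ∈ Vall D := (hmem (vv j)).mpr ⟨j, rfl⟩
    unfold Vall at hjV
    rcases Finset.mem_union.mp hjV with h | h
    · exact h
    · rw [hw, Finset.mem_singleton] at h
      exact absurd (hvinj h) hj
  have hVf : Vset D false = (Finset.univ.erase k0).image vv := by
    symm
    apply Finset.eq_of_subset_of_card_le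
    · intro v hv
      obtain ⟨j, hj, rfl⟩ := Finset.mem_image.mp hv
      exact hothers j (Finset.ne_of_mem_erase hj)
    · rw [Finset.card_image_of_injective _ hvinj, Finset.card_erase_of_mem (Finset.mem_univ k0), hcf]
      simp
  -- the character `χ = x k0`
  set χ : Cfsg.IrrCharacter G := x k0 with hχdef
  have hek : e k0 ≠ 0 := by
    rcases he k0 with h | h <;> rw [h] <;> norm_num
  -- another index
  obtain ⟨j0, hj0⟩ : ∃ j : Fin 4, j ≠ k0 := by
    by_cases h : k0 = 0
    · exact ⟨1, by rw [h]; decide⟩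
    · exact ⟨0, fun h' => h h'.symm⟩
  have hcusp : Cusp D.Q (χ : G → ℂ) := by
    apply hS5 (vv j0) ((hmem (vv j0)).mpr ⟨j0, rfl⟩) χ
    rw [hval j0 k0 (fun h => hj0 h.symm)]
    exact hek
  have hst : sumNI (D.A true) (χ : G → ℂ) = 0 := by
    rw [hS6 true χ hcusp, hw, Finset.sum_singleton, hzero k0]
    simp
  have hsf : sumNI (D.A false) (χ : G → ℂ) = ((12 * e k0 : ℤ) : ℂ) := by
    rw [hS6 false χ hcusp, hVf, Finset.sum_image (fun a _ b _ h => hvinj h)]
    have : ∑ j ∈ Finset.univ.erase k0, vv j χ = 3 * e k0 := by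
      rw [Finset.sum_congr rfl (fun j hj => hval j k0 (fun h => (Finset.ne_of_mem_erase hj) h.symm)),
        Finset.sum_const, Finset.card_erase_of_mem (Finset.mem_univ k0)]
      simp
    rw [this]
    simp only [sgn]
    norm_num
    ring
  have hdeg := cusp_degree D χ hcusp
  rw [hst, hsf, hat, haf, hq8] at hdeg
  obtain ⟨hd1, hdpos⟩ := Cfsg.Agent.Lib.Helper25.charDegree_irr χ
  have hdvd := Cfsg.Agent.Lib.Helper24.cdc_degree_dvd χ
  rw [D.card_G, hq8] at hdvd
  rw [← hd1] at hdeg
  set d := Cfsg.charDegree (χ : G → ℂ) with hd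
  have hdz : (4 : ℤ) * (d : ℤ) = 7 * (5 * (12 * e k0)) := by
    have : ((4 * (d : ℤ) : ℤ) : ℂ) = ((7 * (5 * (12 * e k0)) : ℤ) : ℂ) := by
      push_cast
      push_cast at hdeg
      linear_combination hdeg
    exact_mod_cast this
  rcases he k0 with h | h
  · rw [h] at hdz
    have hd105 : d = 105 := by omega
    rw [hd105] at hdvd
    revert hdvd
    decide
  · rw [h] at hdz
    omega

end

end Cfsg.Agent.Lib.Helper10.SZC
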