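import Mathlib
import Cfsg.Agent.Lib.Helper10.SZC.Defs
import Cfsg.Agent.Lib.Helper10.SZCT2
import Cfsg.Agent.Lib.helper7.Induction
import Cfsg.Agent.Lib.Helper11.LinChar

/-!
# Project SZC, row T7: the Gram matrix of the torus characters `phi A l`.
-/

set_option autoImplicit false
open scoped ComplexConjugate

namespace Cfsg.Agent.Lib.Helper10.SZC

section
variable {G : Type*} [Group G] [Fintype G]

/-- conjugation by `n⁻¹` (for `n ∈ N`) as an endomorphism of the torus `A`. -/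
def h1_szcT7_cj {A N : Subgroup G} (hT : Torus A N) (n : ↥N) : ↥A →* ↥A where
  toFun a := ⟨(n : G)⁻¹ * (a : G) * (n : G), by
    have := hT.norm ((n : G)⁻¹) (N.inv_mem n.2) a a.2
    rwa [inv_inv] at this⟩
  map_one' := by
    apply Subtype.ext
    simp
  map_mul' a b := by
    apply Subtype.ext
    simp only [Subgroup.coe_mul]
    group

theorem h1_szcT7_cj_bij {A N : Subgroup G} (hT : Torus A N) (n : ↥N) :
    Function.Bijective (h1_szcT7_cj hT n) := by
  refine ⟨?_, ?_⟩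
  · intro a b hab
    have h := congrArg Subtype.val hab
    simp only [h1_szcT7_cj, MonoidHom.coe_mk, OneHom.coe_mk] at h
    apply Subtype.ext
    have : (a : G) = (n : G) * ((n : G)⁻¹ * (a : G) * (n : G)) * (n : G)⁻¹ := by group
    rw [this, h]
    group
  · intro b
    refine ⟨⟨(n : G) * (b : G) * (n : G)⁻¹, hT.norm n n.2 b b.2⟩, ?_⟩
    apply Subtype.ext
    simp only [h1_szcT7_cj, MonoidHom.coe_mk, OneHom.coe_mk]
    group

/-- the TI formula for `phi A l` on `A`. -/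
theorem h1_szcT7_phi_on_A {A N : Subgroup G} (hT : Torus A N) [Fintype ↥N] (l : ↥A →* ℂˣ)
    (a : ↥A) :
    phi A l (a : G) = (Nat.card A : ℂ)⁻¹ *
      ∑ n : ↥N, (1 - ((l (h1_szcT7_cj hT n a) : ℂˣ) : ℂ)) := by
  classical
  unfold phi Cfsg.indFun
  congr 1
  have hx : ∀ x : G, Cfsg.extendByZero A (fun a : ↥A => 1 - ((l a : ℂˣ) : ℂ)) (x⁻¹ * (a : G) * x) =
      if x ∈ N then Cfsg.extendByZero A (fun a : ↥A => 1 - ((l a : ℂˣ) : ℂ)) (x⁻¹ * (a : G) * x)
      else 0 := by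
    intro x
    by_cases hxN : x ∈ N
    · rw [if_pos hxN]
    · rw [if_neg hxN]
      by_cases ha1 : (a : G) = 1
      · have : x⁻¹ * (a : G) * x = ((1 : ↥A) : G) := by
          rw [ha1]
          simp
        rw [this, Cfsg.Agent.Lib.helper7.h7_extendByZero_coe]
        simp
      · apply Cfsg.Agent.Lib.helper7.h7_extendByZero_not_mem
        have hxi : x⁻¹ ∉ N := fun h => hxN (by simpa using N.inv_mem h)
        have := hT.ti x⁻¹ hxi a a.2 ha1
        rwa [inv_inv] at this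
  rw [Finset.sum_congr rfl (fun x _ => hx x)]
  rw [Cfsg.Agent.Lib.helper7.h7_sum_subgroup N
    (fun x => Cfsg.extendByZero A (fun a : ↥A => 1 - ((l a : ℂˣ) : ℂ)) (x⁻¹ * (a : G) * x))]
  apply Finset.sum_congr rfl
  intro n _
  have : (n : G)⁻¹ * (a : G) * (n : G) = ((h1_szcT7_cj hT n a : ↥A) : G) := rfl
  rw [this, Cfsg.Agent.Lib.helper7.h7_extendByZero_coe]

/-- the inner sum over `A`. -/
theorem h1_szcT7_inner_sum {A : Subgroup G} [Fintype ↥A] (η l' : ↥A →* ℂˣ) (hη : η ≠ 1)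
    (hl' : l' ≠ 1) [Decidable (η = l')] :
    ∑ a : ↥A, (1 - ((η a : ℂˣ) : ℂ)) * (1 - conj ((l' a : ℂˣ) : ℂ)) =
      (Nat.card A : ℂ) + (Nat.card A : ℂ) * (if η = l' then 1 else 0) := by
  have hA0 : (Nat.card A : ℂ) ≠ 0 := by exact_mod_cast (Nat.card_pos (α := A)).ne'
  have h1 : ∑ a : ↥A, ((η a : ℂˣ) : ℂ) = 0 := Cfsg.Agent.Lib.Helper11.sum_linChar_eq_zero η hη
  have h2 : ∑ a : ↥A, conj ((l' a : ℂˣ) : ℂ) = 0 := by
    rw [← map_sum, Cfsg.Agent.Lib.Helper11.sum_linChar_eq_zero l' hl', map_zero]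
  have h3 : ∑ a : ↥A, ((η a : ℂˣ) : ℂ) * conj ((l' a : ℂˣ) : ℂ) =
      (Nat.card A : ℂ) * (if η = l' then 1 else 0) := by
    have := Cfsg.Agent.Lib.Helper11.classInner_linFun η l'
    unfold Cfsg.classInner at this
    simp only [Cfsg.Agent.Lib.Helper11.linFun_apply] at this
    rw [← this]
    field_simp
  have hexp : ∀ a : ↥A, (1 - ((η a : ℂˣ) : ℂ)) * (1 - conj ((l' a : ℂˣ) : ℂ)) =
      1 - ((η a : ℂˣ) : ℂ) - conj ((l' a : ℂˣ) : ℂ) +
        ((η a : ℂˣ) : ℂ) * conj ((l' a : ℂˣ) : ℂ) := by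
    intro a
    ring
  simp only [hexp]
  rw [Finset.sum_add_distrib, Finset.sum_sub_distrib, Finset.sum_sub_distrib, h1, h2, h3,
    Finset.sum_const, Finset.card_univ, nsmul_eq_mul, mul_one, Nat.card_eq_fintype_card]
  ring

/-- T7 -/
theorem phi_gram {A N : Subgroup G} (hT : Torus A N) (l l' : ↥A →* ℂˣ) (hl : l ≠ 1)
    (hl' : l' ≠ 1) :
    (Nat.card A : ℂ) * (Cfsg.classInner (phi A l) (phi A l') - 4) =
      (Nat.card {n : ↥N // ∀ a : ↥A,
        l' ⟨(n : G) * (a : G) * (n : G)⁻¹, hT.norm n n.2 a a.2⟩ = l a} : ℂ) := by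
  classical
  haveI : Fintype ↥A := Fintype.ofFinite _
  haveI : Fintype ↥N := Fintype.ofFinite _
  have hA0 : (Nat.card A : ℂ) ≠ 0 := by exact_mod_cast (Nat.card_pos (α := A)).ne'
  -- twisted characters are nontrivial
  have hη : ∀ n : ↥N, l.comp (h1_szcT7_cj hT n) ≠ 1 := by
    intro n h
    apply hl
    ext a
    obtain ⟨b, rfl⟩ := (h1_szcT7_cj_bij hT n).2 a
    have := DFunLike.congr_fun h b
    simpa using this
  -- the condition
  have hcond : ∀ n : ↥N, (l.comp (h1_szcT7_cj hT n) = l') ↔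
      (∀ a : ↥A, l' ⟨(n : G) * (a : G) * (n : G)⁻¹, hT.norm n n.2 a a.2⟩ = l a) := by
    intro n
    constructor
    · intro h a
      rw [← h]
      simp only [MonoidHom.comp_apply]
      congr 1
      apply Subtype.ext
      simp only [h1_szcT7_cj, MonoidHom.coe_mk, OneHom.coe_mk]
      group
    · intro h
      ext a
      simp only [MonoidHom.comp_apply]
      have := h (h1_szcT7_cj hT n a)
      rw [← this]
      congr 2
      apply Subtype.ext
      simp only [h1_szcT7_cj, MonoidHom.coe_mk, OneHom.coe_mk]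
      group
  -- Frobenius reciprocity (T4)
  rw [phi_inner A l' (phi A l) (Cfsg.Agent.Lib.helper7.h7_indFun_isClassFunction A _)]
  -- TI formula
  simp only [h1_szcT7_phi_on_A hT l]
  -- swap the sums
  have hswap : ∑ a : ↥A, ((Nat.card A : ℂ)⁻¹ *
      ∑ n : ↥N, (1 - ((l (h1_szcT7_cj hT n a) : ℂˣ) : ℂ))) * (1 - conj ((l' a : ℂˣ) : ℂ)) =
      (Nat.card A : ℂ)⁻¹ * ∑ n : ↥N, ∑ a : ↥A,
        (1 - (((l.comp (h1_szcT7_cj hT n)) a : ℂˣ) : ℂ)) * (1 - conj ((l' a : ℂˣ) : ℂ)) := by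
    rw [Finset.sum_comm, Finset.mul_sum]
    apply Finset.sum_congr rfl
    intro a _
    rw [mul_assoc, Finset.sum_mul]
    rfl
  rw [hswap]
  simp only [h1_szcT7_inner_sum _ l' (hη _) hl']
  rw [Finset.sum_add_distrib, Finset.sum_const, Finset.card_univ, nsmul_eq_mul, ← Finset.mul_sum]
  have hcount : ∑ n : ↥N, (if l.comp (h1_szcT7_cj hT n) = l' then (1 : ℂ) else 0) =
      (Nat.card {n : ↥N // ∀ a : ↥A,
        l' ⟨(n : G) * (a : G) * (n : G)⁻¹, hT.norm n n.2 a a.2⟩ = l a} : ℂ) := by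
    simp only [hcond]
    rw [Finset.sum_ite, Finset.sum_const_zero, add_zero, Finset.sum_const, nsmul_eq_mul, mul_one,
      Nat.card_eq_fintype_card, Fintype.card_subtype]
  rw [hcount]
  have hN : (Fintype.card ↥N : ℂ) = 4 * (Nat.card A : ℂ) := by
    rw [← Nat.card_eq_fintype_card, hT.card]
    push_cast
    ring
  rw [hN]
  field_simp
  ring

end

end Cfsg.Agent.Lib.Helper10.SZC
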