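import Mathlib
import Cfsg.Agent.Lib.Helper10.SZC.Defs
import Cfsg.Agent.Lib.Helper1.SZCT7

/-!
# Project SZC, rows T8 (phi_norm) and T9 (phi_gram_cases).
-/

set_option autoImplicit false
open scoped ComplexConjugate

namespace Cfsg.Agent.Lib.Helper10.SZC

section
variable {G : Type*} [Group G] [Fintype G]

/-- own-name copy of the statement of T6 (`dual_free`): an element of `N` fixing a nontrivial
linear character of `A` lies in `A`. -/
theorem h1_szcT8_dual_free {A N : Subgroup G} (hT : Torus A N) (l : ↥A →* ℂˣ) (hl : l ≠ 1)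
    (n : G) (hn : n ∈ N)
    (hfix : ∀ a : ↥A, l ⟨n * (a : G) * n⁻¹, hT.norm n hn a a.2⟩ = l a) : n ∈ A := by
  by_contra hnA
  apply hl
  -- the commutator map `a ↦ n a n⁻¹ a⁻¹`
  let c : ↥A → ↥A := fun a => ⟨n * (a : G) * n⁻¹, hT.norm n hn a a.2⟩ * a⁻¹
  have hcinj : Function.Injective c := by
    intro a b hab
    have h := congrArg Subtype.val hab
    simp only [c, Subgroup.coe_mul, Subgroup.coe_inv] at h
    -- n a n⁻¹ a⁻¹ = n b n⁻¹ b⁻¹, so b⁻¹ a commutes with n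
    have hcomm : n * ((b : G)⁻¹ * (a : G)) = ((b : G)⁻¹ * (a : G)) * n := by
      have hab' : (a : G) * (b : G)⁻¹ = (b : G)⁻¹ * (a : G) :=
        hT.comm _ a.2 _ (A.inv_mem b.2)
      have h2 : n * (a : G) * n⁻¹ = n * (b : G) * n⁻¹ * (b : G)⁻¹ * (a : G) := by
        calc n * (a : G) * n⁻¹ = (n * (a : G) * n⁻¹ * (a : G)⁻¹) * (a : G) := by group
          _ = (n * (b : G) * n⁻¹ * (b : G)⁻¹) * (a : G) := by rw [h]
      have h3 : n * ((b : G)⁻¹ * (a : G)) * n⁻¹ = (b : G)⁻¹ * (a : G) := by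
        calc n * ((b : G)⁻¹ * (a : G)) * n⁻¹ = (n * (b : G) * n⁻¹)⁻¹ * (n * (a : G) * n⁻¹) := by group
          _ = (n * (b : G) * n⁻¹)⁻¹ * (n * (b : G) * n⁻¹ * (b : G)⁻¹ * (a : G)) := by rw [h2]
          _ = (b : G)⁻¹ * (a : G) := by group
      calc n * ((b : G)⁻¹ * (a : G)) = (n * ((b : G)⁻¹ * (a : G)) * n⁻¹) * n := by group
        _ = ((b : G)⁻¹ * (a : G)) * n := by rw [h3]
    have h1 := hT.free n hn hnA _ (A.mul_mem (A.inv_mem b.2) a.2) hcomm
    apply Subtype.ext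
    have : (a : G) = (b : G) * ((b : G)⁻¹ * (a : G)) := by group
    rw [this, h1, mul_one]
  have hcsurj : Function.Surjective c := Finite.surjective_of_injective hcinj
  ext a
  obtain ⟨b, rfl⟩ := hcsurj a
  simp only [c, map_mul, map_inv, hfix b, mul_inv_cancel, MonoidHom.one_apply]

/-- induction from `A` does not see conjugation by the normalising element `n`. -/
theorem h1_szcT8_indFun_conj {A N : Subgroup G} (hT : Torus A N) (θ θ' : ↥A → ℂ) (n : G)
    (hn : n ∈ N)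
    (h : ∀ a : ↥A, θ' a = θ ⟨n * (a : G) * n⁻¹, hT.norm n hn a a.2⟩) :
    Cfsg.indFun A θ' = Cfsg.indFun A θ := by
  classical
  funext g
  unfold Cfsg.indFun
  congr 1
  have hext : ∀ y : G, Cfsg.extendByZero A θ' y = Cfsg.extendByZero A θ (n * y * n⁻¹) := by
    intro y
    by_cases hy : y ∈ A
    · have hy' : n * y * n⁻¹ ∈ A := hT.norm n hn y hy
      rw [Cfsg.Agent.Lib.helper7.h7_extendByZero_mem A θ' y hy,
        Cfsg.Agent.Lib.helper7.h7_extendByZero_mem A θ _ hy', h ⟨y, hy⟩]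
    · have hy' : n * y * n⁻¹ ∉ A := by
        intro h'
        apply hy
        have := hT.norm n⁻¹ (N.inv_mem hn) _ h'
        have e : n⁻¹ * (n * y * n⁻¹) * n⁻¹⁻¹ = y := by group
        rwa [e] at this
      rw [Cfsg.Agent.Lib.helper7.h7_extendByZero_not_mem A θ' y hy,
        Cfsg.Agent.Lib.helper7.h7_extendByZero_not_mem A θ _ hy']
  simp only [hext]
  rw [← Equiv.sum_comp (Equiv.mulRight n⁻¹)
    (fun x => Cfsg.extendByZero A θ (x⁻¹ * g * x))]
  apply Finset.sum_congr rfl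
  intro x _
  congr 1
  simp only [Equiv.coe_mulRight]
  group

/-- T8 -/
theorem phi_norm {A N : Subgroup G} (hT : Torus A N) (l : ↥A →* ℂˣ) (hl : l ≠ 1) :
    Cfsg.classInner (phi A l) (phi A l) = 5 := by
  classical
  have hA0 : (Nat.card A : ℂ) ≠ 0 := by exact_mod_cast (Nat.card_pos (α := A)).ne'
  have h7 := phi_gram hT l l hl hl
  have hcount : Nat.card {n : ↥N // ∀ a : ↥A,
      l ⟨(n : G) * (a : G) * (n : G)⁻¹, hT.norm n n.2 a a.2⟩ = l a} = Nat.card A := by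
    apply Nat.card_congr
    refine ⟨fun n => ⟨(n.1 : G), h1_szcT8_dual_free hT l hl n.1 n.1.2 n.2⟩,
      fun a => ⟨⟨(a : G), hT.le a.2⟩, ?_⟩, ?_, ?_⟩
    · intro b
      congr 1
      apply Subtype.ext
      show (a : G) * (b : G) * (a : G)⁻¹ = (b : G)
      rw [hT.comm _ a.2 _ b.2]
      group
    · intro n
      rfl
    · intro a
      rfl
  rw [hcount] at h7
  have h8 : Cfsg.classInner (phi A l) (phi A l) - 4 = 1 := by
    have := mul_left_cancel₀ hA0 (h7.trans (mul_one _).symm)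
    exact this
  linear_combination h8

/-- T9 -/
theorem phi_gram_cases {A N : Subgroup G} (hT : Torus A N) (l l' : ↥A →* ℂˣ) (hl : l ≠ 1)
    (hl' : l' ≠ 1) :
    phi A l = phi A l' ∨ Cfsg.classInner (phi A l) (phi A l') = 4 := by
  classical
  have hA0 : (Nat.card A : ℂ) ≠ 0 := by exact_mod_cast (Nat.card_pos (α := A)).ne'
  have h7 := phi_gram hT l l' hl hl'
  by_cases hex : ∃ n : ↥N, ∀ a : ↥A,
      l' ⟨(n : G) * (a : G) * (n : G)⁻¹, hT.norm n n.2 a a.2⟩ = l a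
  · left
    obtain ⟨n, hn⟩ := hex
    unfold phi
    apply h1_szcT8_indFun_conj hT _ _ (n : G) n.2
    intro a
    rw [hn a]
  · right
    have hempty : IsEmpty {n : ↥N // ∀ a : ↥A,
        l' ⟨(n : G) * (a : G) * (n : G)⁻¹, hT.norm n n.2 a a.2⟩ = l a} :=
      ⟨fun n => hex ⟨n.1, n.2⟩⟩
    have h0 : Nat.card {n : ↥N // ∀ a : ↥A,
        l' ⟨(n : G) * (a : G) * (n : G)⁻¹, hT.norm n n.2 a a.2⟩ = l a} = 0 :=
      @Nat.card_of_isEmpty _ hempty
    rw [h0, Nat.cast_zero] at h7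
    have := (mul_eq_zero.1 h7).resolve_left hA0
    linear_combination this

end

end Cfsg.Agent.Lib.Helper10.SZC
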