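import Mathlib

set_option autoImplicit false

namespace Cfsg.Agent.Lib.Helper1

open scoped Pointwise
open MulOpposite MulAction

variable {G : Type*} [Group G]

/-- The class in `QuotientDiff` of a complement, seen as a transversal. -/
noncomputable def quotientDiffOfCompl (A : Subgroup G) [IsMulCommutative A] [A.FiniteIndex]
    (K : Subgroup G) (hK : Subgroup.IsComplement' A K) : A.QuotientDiff :=
  Quotient.mk'' (⟨(K : Set G), hK.symm⟩ : A.LeftTransversal)

theorem le_stabilizer_quotientDiffOfCompl (A : Subgroup G) [A.Normal] [IsMulCommutative A]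
    [A.FiniteIndex] (K : Subgroup G) (hK : Subgroup.IsComplement' A K) :
    K ≤ stabilizer G (quotientDiffOfCompl A K hK) := by
  intro k hk
  rw [mem_stabilizer_iff]
  unfold quotientDiffOfCompl
  change Quotient.mk'' (op k⁻¹ • (⟨(K : Set G), hK.symm⟩ : A.LeftTransversal)) = _
  congr 1
  apply Subtype.ext
  change op k⁻¹ • (K : Set G) = (K : Set G)
  ext x
  rw [Set.mem_smul_set_iff_inv_smul_mem]
  simp only [MulOpposite.smul_eq_mul_unop, SetLike.mem_coe]
  constructor
  · intro h
    have := K.mul_mem h (K.inv_mem hk)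
    simpa using this
  · intro h
    have := K.mul_mem h hk
    simpa using this

theorem eq_stabilizer_quotientDiffOfCompl [Finite G] (A : Subgroup G) [A.Normal]
    [IsMulCommutative A] (hA : (Nat.card A).Coprime A.index)
    (K : Subgroup G) (hK : Subgroup.IsComplement' A K) :
    K = stabilizer G (quotientDiffOfCompl A K hK) := by
  apply Subgroup.eq_of_le_of_card_ge (le_stabilizer_quotientDiffOfCompl A K hK)
  have h1 := (Subgroup.isComplement'_stabilizer_of_coprime
    (α := quotientDiffOfCompl A K hK) hA).card_mul_card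
  have h2 := hK.card_mul_card
  have hpos : 0 < Nat.card A := Nat.card_pos
  nlinarith

theorem schur_conjugacy_abelian [Finite G] (A : Subgroup G) [A.Normal] [IsMulCommutative A]
    (hA : (Nat.card A).Coprime A.index)
    (H K : Subgroup G) (hH : Subgroup.IsComplement' A H) (hK : Subgroup.IsComplement' A K) :
    ∃ a ∈ A, MulAut.conj a • H = K := by
  obtain ⟨a, ha⟩ := Subgroup.exists_smul_eq hA (quotientDiffOfCompl A H hH)
    (quotientDiffOfCompl A K hK)
  refine ⟨a, a.2, ?_⟩
  rw [eq_stabilizer_quotientDiffOfCompl A hA K hK, ← ha]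
  conv_lhs => rw [eq_stabilizer_quotientDiffOfCompl A hA H hH]
  rw [Subgroup.smul_def, stabilizer_smul_eq_stabilizer_map_conj]
  rfl

end Cfsg.Agent.Lib.Helper1
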