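import Mathlib
import Cfsg.Prelude.Def_Transfer
import Cfsg.Agent.Lib.Helper1.StrongControl
import Cfsg.Agent.Lib.Helper21.OmegaLemma
import Cfsg.Agent.Lib.Helper21.FrobeniusNPC

set_option autoImplicit false

namespace Cfsg.Agent.Lib.Helper1

open scoped commutatorElement

universe u

variable {G : Type u} [Group G]

def conjCore (x : G) (E : Subgroup G) : Subgroup G where
  carrier := {d | ∀ k : ℕ, x ^ k * d * (x ^ k)⁻¹ ∈ E}
  one_mem' := fun k => by simp
  mul_mem' := by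
    intro a b ha hb k
    have e : x ^ k * (a * b) * (x ^ k)⁻¹ = (x ^ k * a * (x ^ k)⁻¹) * (x ^ k * b * (x ^ k)⁻¹) := by
      group
    rw [e]
    exact E.mul_mem (ha k) (hb k)
  inv_mem' := by
    intro a ha k
    have e : x ^ k * a⁻¹ * (x ^ k)⁻¹ = (x ^ k * a * (x ^ k)⁻¹)⁻¹ := by group
    rw [e]
    exact E.inv_mem (ha k)

theorem mem_conjCore {x : G} {E : Subgroup G} {d : G} :
    d ∈ conjCore x E ↔ ∀ k : ℕ, x ^ k * d * (x ^ k)⁻¹ ∈ E := Iff.rfl

theorem conjCore_le (x : G) (E : Subgroup G) : conjCore x E ≤ E := by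
  intro d hd
  have := hd 0
  simpa using this

theorem mem_normalizer_conjCore [Finite G] (x : G) (E : Subgroup G) :
    x ∈ Subgroup.normalizer ((conjCore x E : Subgroup G) : Set G) := by
  apply Cfsg.Agent.Lib.Helper18.mem_normalizer_of_conjSub_le
  rintro _ ⟨d, hd, rfl⟩
  intro k
  have e : x ^ k * (MulAut.conj x).toMonoidHom d * (x ^ k)⁻¹ = x ^ (k + 1) * d * (x ^ (k + 1))⁻¹ := by
    simp only [MulEquiv.coe_toMonoidHom, MulAut.conj_apply, pow_succ]
    group
  rw [e]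
  exact hd (k + 1)

theorem small_conj {p : ℕ} {a : G} (g : G) (h : a ^ p = 1 ∨ (p = 2 ∧ a ^ 4 = 1)) :
    (g * a * g⁻¹) ^ p = 1 ∨ (p = 2 ∧ (g * a * g⁻¹) ^ 4 = 1) := by
  rcases h with h | ⟨h2, h⟩
  · left; rw [conj_pow, h]; group
  · right; refine ⟨h2, ?_⟩; rw [conj_pow, h]; group

theorem small_zpow {p : ℕ} {a : G} (i : ℤ) (h : a ^ p = 1 ∨ (p = 2 ∧ a ^ 4 = 1)) :
    (a ^ i) ^ p = 1 ∨ (p = 2 ∧ (a ^ i) ^ 4 = 1) := by
  rcases h with h | ⟨h2, h⟩
  · left
    rw [← zpow_natCast, ← zpow_mul, mul_comm, zpow_mul, zpow_natCast, h, one_zpow]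
  · right
    refine ⟨h2, ?_⟩
    rw [← zpow_natCast, ← zpow_mul, mul_comm, zpow_mul, zpow_natCast, h, one_zpow]

theorem fc_centralizes [Finite G] {p : ℕ} [hp : Fact p.Prime] (P : Sylow p G)
    (hFC : ∀ a ∈ (P : Subgroup G), (a ^ p = 1 ∨ (p = 2 ∧ a ^ 4 = 1)) → ∀ g : G,
      g * a * g⁻¹ ∈ (P : Subgroup G) → ∃ y ∈ (P : Subgroup G), g * a * g⁻¹ = y * a * y⁻¹)
    (x : G) (hx : (orderOf x).Coprime p) :
    ∀ (n : ℕ) (D : Subgroup G), D ≤ (P : Subgroup G) → Nat.card D = n →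
      x ∈ Subgroup.normalizer (D : Set G) → x ∈ Subgroup.centralizer (D : Set G) := by
  intro n
  induction n using Nat.strong_induction_on with
  | _ n ih =>
    intro D hDP hn hxD
    by_cases hDbot : D = ⊥
    · rw [hDbot, Subgroup.mem_centralizer_iff]
      intro d hd
      rw [SetLike.mem_coe, Subgroup.mem_bot] at hd
      rw [hd]; simp
    have hPp : IsPGroup p (P : Subgroup G) := P.2
    haveI : Group.IsNilpotent (P : Subgroup G) := hPp.isNilpotent
    obtain ⟨c, hc⟩ := (Subgroup.isNilpotent_iff_lowerCentralSeries (P : Subgroup G)).mp inferInstance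
    have hex : ∃ m : ℕ, ¬ D ≤ (P : Subgroup G).lowerCentralSeries m := by
      refine ⟨c, ?_⟩
      rw [hc]
      intro h
      exact hDbot (le_bot_iff.mp h)
    classical
    obtain ⟨m, hm⟩ : ∃ m : ℕ, m = Nat.find hex := ⟨_, rfl⟩
    have hm1 : ¬ D ≤ (P : Subgroup G).lowerCentralSeries m := hm ▸ Nat.find_spec hex
    have hm0 : m ≠ 0 := by
      intro h0
      rw [h0, Subgroup.lowerCentralSeries_zero] at hm1
      exact hm1 hDP
    obtain ⟨j, hj⟩ : ∃ j : ℕ, m = j + 1 := Nat.exists_eq_succ_of_ne_zero hm0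
    have hDj : D ≤ (P : Subgroup G).lowerCentralSeries j := by
      by_contra h
      have := Nat.find_min hex (m := j) (by rw [← hm, hj]; exact Nat.lt_succ_self j)
      exact this h
    rw [hj] at hm1
    obtain ⟨Z, hZ⟩ : ∃ Z : Subgroup G,
        Z = conjCore x (D ⊓ (P : Subgroup G).lowerCentralSeries (j + 1)) := ⟨_, rfl⟩
    have hZD : Z ≤ D := by rw [hZ]; exact (conjCore_le _ _).trans inf_le_left
    have hZL : Z ≤ (P : Subgroup G).lowerCentralSeries (j + 1) := by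
      rw [hZ]; exact (conjCore_le _ _).trans inf_le_right
    have hZne : Z ≠ D := by
      intro h
      apply hm1
      rw [← h]; exact hZL
    have hZcard : Nat.card Z < n := by
      rw [← hn]
      by_contra hle
      push Not at hle
      exact hZne (Subgroup.eq_of_le_of_card_ge hZD hle)
    have hxZ : x ∈ Subgroup.normalizer (Z : Set G) := by
      rw [hZ]; exact mem_normalizer_conjCore x _
    have hZc := ih _ hZcard Z (hZD.trans hDP) rfl hxZ
    have hxk : ∀ k : ℕ, x ^ k ∈ Subgroup.normalizer (D : Set G) := fun k =>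
      Subgroup.pow_mem _ hxD k
    have key : ∀ a ∈ D, (a ^ p = 1 ∨ (p = 2 ∧ a ^ 4 = 1)) → ⁅x, a⁆ ∈ Z := by
      intro a ha hsmall
      rw [hZ, mem_conjCore]
      intro k
      obtain ⟨ak, hak⟩ : ∃ ak : G, ak = x ^ k * a * (x ^ k)⁻¹ := ⟨_, rfl⟩
      have hakD : ak ∈ D := by rw [hak]; exact conj_mem_of_mem_normalizer (hxk k) ha
      have haks : ak ^ p = 1 ∨ (p = 2 ∧ ak ^ 4 = 1) := by rw [hak]; exact small_conj _ hsmall
      have e : x ^ k * ⁅x, a⁆ * (x ^ k)⁻¹ = (x * ak * x⁻¹) * ak⁻¹ := by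
        rw [hak, commutatorElement_def]
        group
      rw [e]
      have h1 : x * ak * x⁻¹ ∈ D := conj_mem_of_mem_normalizer hxD hakD
      refine ⟨D.mul_mem h1 (D.inv_mem hakD), ?_⟩
      obtain ⟨y, hy, hyeq⟩ := hFC ak (hDP hakD) haks x (hDP h1)
      rw [hyeq, Subgroup.lowerCentralSeries_succ]
      have h2 : ⁅ak, y⁆ ∈ ⁅(P : Subgroup G).lowerCentralSeries j, (P : Subgroup G)⁆ :=
        Subgroup.commutator_mem_commutator (hDj hakD) hy
      have h3 := Subgroup.inv_mem _ h2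
      rw [commutatorElement_inv, commutatorElement_def] at h3
      exact h3
    have hZp : IsPGroup p Z := hPp.to_le (hZD.trans hDP)
    have hZcomm : ∀ z ∈ Z, x * z = z * x := fun z hz =>
      (Subgroup.mem_centralizer_iff.mp hZc z hz).symm
    apply Cfsg.Agent.Lib.Helper21.comm_of_comm_small x hx D (hPp.to_le hDP) hxD
    intro a ha hsmall
    have h1 : ∀ v ∈ Subgroup.zpowers a, ⁅x, v⁆ ∈ Z := by
      intro v hv
      obtain ⟨i, rfl⟩ := Subgroup.mem_zpowers_iff.mp hv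
      exact key _ (D.zpow_mem ha i) (small_zpow i hsmall)
    exact Cfsg.Agent.Lib.helper17.centralizes_of_stabilizes_chain hx hZp h1 hZcomm a
      (Subgroup.mem_zpowers a)

theorem npc_of_small_fusion [Finite G] {p : ℕ} [hp : Fact p.Prime] (P : Sylow p G)
    (hFC : ∀ a ∈ (P : Subgroup G), (a ^ p = 1 ∨ (p = 2 ∧ a ^ 4 = 1)) → ∀ g : G,
      g * a * g⁻¹ ∈ (P : Subgroup G) → ∃ y ∈ (P : Subgroup G), g * a * g⁻¹ = y * a * y⁻¹) :
    ∃ N : Subgroup G, N.Normal ∧ N.IsComplement' (P : Subgroup G) := by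
  apply Cfsg.Agent.Lib.Helper21.FrobHyp.exists_normal_complement _ P
  apply Cfsg.Agent.Lib.Helper21.frobHyp_of_sylow P
  intro Q hQP g hg hcop
  exact fc_centralizes P hFC g hcop _ Q hQP rfl hg

end Cfsg.Agent.Lib.Helper1
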