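import Mathlib
import Cfsg.Agent.Lib.Helper1.Residual
import Cfsg.Agent.Lib.Helper1.FocalLib
import Cfsg.Agent.Lib.Helper1.InternalSZ
import Cfsg.Agent.S0001
import Cfsg.Agent.Lib.Helper19.Frobenius

set_option autoImplicit false

namespace Cfsg.Agent.Lib.Helper1

open scoped commutatorElement Pointwise
open Cfsg.Agent.S0001

variable {G : Type*} [Group G]

theorem pResidual_pResidual (p : ℕ) : Cfsg.pResidual p ↥(Cfsg.pResidual p G) = ⊤ := by
  rw [eq_top_iff]
  rintro ⟨k, hk⟩ -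
  have hle : Cfsg.pResidual p G ≤
      (Cfsg.pResidual p ↥(Cfsg.pResidual p G)).map (Cfsg.pResidual p G).subtype := by
    conv_lhs => unfold Cfsg.pResidual
    rw [Subgroup.closure_le]
    intro g hg
    have hgK : g ∈ Cfsg.pResidual p G := mem_pResidual_of_coprime hg
    refine ⟨⟨g, hgK⟩, ?_, rfl⟩
    apply mem_pResidual_of_coprime
    have : orderOf (⟨g, hgK⟩ : Cfsg.pResidual p G) = orderOf g := Subgroup.orderOf_mk g hgK
    rw [this]
    exact hg
  obtain ⟨k', hk', hkk⟩ := hle hk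
  have : k' = ⟨k, hk⟩ := Subtype.ext hkk
  rw [← this]
  exact hk'

open scoped IsMulCommutative in
theorem sylow_le_commutator_of_pResidual_eq_top {X : Type*} [Group X] [Finite X] {p : ℕ}
    [hp : Fact p.Prime] (hX : Cfsg.pResidual p X = ⊤) (Q : Sylow p X) :
    (Q : Subgroup X) ≤ commutator X := by
  obtain ⟨a, m, hm, hcard⟩ := Nat.exists_eq_pow_mul_and_not_dvd
    (Nat.card_pos (α := Abelianization X)).ne' p hp.out.ne_one
  let ψ : X →* Abelianization X := (powMonoidHom m).comp Abelianization.of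
  have hψ : ∀ x, ψ x = (Abelianization.of x) ^ m := fun x => rfl
  have hPG : IsPGroup p (X ⧸ ψ.ker) := by
    have hr : IsPGroup p ψ.range := by
      rintro ⟨y, x, rfl⟩
      refine ⟨a, ?_⟩
      apply Subtype.ext
      change (ψ x) ^ p ^ a = 1
      rw [hψ, ← pow_mul, mul_comm, ← hcard]
      exact pow_card_eq_one'
    exact IsPGroup.of_equiv hr (QuotientGroup.quotientKerEquivRange ψ).symm
  have hker : ψ.ker = ⊤ := by
    rw [eq_top_iff, ← hX]
    exact pResidual_le_of_isPGroup_quotient ψ.ker hPG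
  intro x hx
  rw [← Abelianization.ker_of, MonoidHom.mem_ker]
  have h1 : (Abelianization.of x) ^ m = 1 := by
    have : x ∈ ψ.ker := by rw [hker]; exact Subgroup.mem_top x
    exact this
  obtain ⟨b, hb⟩ := Q.2 ⟨x, hx⟩
  have h2 : (Abelianization.of x) ^ (p ^ b) = 1 := by
    have h3 : x ^ (p ^ b) = 1 := by
      have := congrArg Subtype.val hb
      simpa using this
    rw [← map_pow, h3, map_one]
  have h4 : orderOf (Abelianization.of x) ∣ m := orderOf_dvd_of_pow_eq_one h1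
  have h5 : orderOf (Abelianization.of x) ∣ p ^ b := orderOf_dvd_of_pow_eq_one h2
  have hcop : Nat.Coprime m (p ^ b) :=
    Nat.Coprime.pow_right _ ((Nat.Prime.coprime_iff_not_dvd hp.out).mpr hm).symm
  exact orderOf_eq_one_iff.mp (Nat.eq_one_of_dvd_coprimes hcop h4 h5)

open Cfsg.Agent.Lib.Helper19 in
theorem exists_complement_of_abelian_sylow [Finite G] {p : ℕ} [hp : Fact p.Prime]
    (K : Subgroup G) [hKn : K.Normal] {j : ℕ} (hKj : K.index = p ^ j)
    (hres : Cfsg.pResidual p ↥K = ⊤) (Q : Sylow p K) (hQ : IsMulCommutative Q) :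
    ∃ T : Subgroup G, T.IsComplement' K := by
  classical
  have hQle : (Q : Subgroup K) ≤ commutator K := sylow_le_commutator_of_pResidual_eq_top hres Q
  have hfocal := commutator_inf_sylow_eq_of_comm Q hQ
  have hQeq : (Q : Subgroup K) =
      ⁅(Q : Subgroup K), Subgroup.normalizer ((Q : Subgroup K) : Set K)⁆ := by
    rw [← hfocal, inf_eq_right.mpr hQle]
  obtain ⟨Q₁, hQ₁⟩ : ∃ Q₁ : Subgroup G, Q₁ = (Q : Subgroup K).map K.subtype := ⟨_, rfl⟩
  have hQ₁K : Q₁ ≤ K := by rw [hQ₁]; exact Subgroup.map_subtype_le _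
  obtain ⟨L, hL⟩ : ∃ L : Subgroup G, L = Subgroup.normalizer (Q₁ : Set G) := ⟨_, rfl⟩
  obtain ⟨M, hM⟩ : ∃ M : Subgroup G, M = K ⊓ L := ⟨_, rfl⟩
  have hML : M ≤ L := by rw [hM]; exact inf_le_right
  have hMK : M ≤ K := by rw [hM]; exact inf_le_left
  have hQ₁L : Q₁ ≤ L := by rw [hL]; exact Subgroup.le_normalizer
  have hQ₁M : Q₁ ≤ M := by rw [hM]; exact le_inf hQ₁K hQ₁L
  have hMQ₁ : M ≤ Subgroup.normalizer (Q₁ : Set G) := by rw [← hL]; exact hML
  have hconjQ : ∀ l ∈ L, ∀ q ∈ Q₁, l * q * l⁻¹ ∈ Q₁ := by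
    intro l hl q hq
    rw [hL] at hl
    exact (Subgroup.mem_normalizer_iff.mp hl q).mp hq
  have hQ₁c : IsMulCommutative Q₁ := by
    rw [hQ₁]
    refine ⟨⟨?_⟩⟩
    rintro ⟨_, a, ha, rfl⟩ ⟨_, b, hb, rfl⟩
    apply Subtype.ext
    have := mul_comm' (⟨a, ha⟩ : (Q : Subgroup K)) ⟨b, hb⟩
    have h2 := congrArg Subtype.val (congrArg Subtype.val this)
    exact h2
  have hcardQ₁ : Nat.card Q₁ = Nat.card (Q : Subgroup K) := by
    rw [hQ₁, Subgroup.card_map_of_injective K.subtype_injective]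
  have hsubK : Q₁.subgroupOf K = (Q : Subgroup K) := by
    rw [hQ₁]
    exact Subgroup.comap_map_eq_self_of_injective K.subtype_injective _
  have hrelK : ¬ p ∣ Q₁.relIndex K := by
    unfold Subgroup.relIndex
    rw [hsubK]
    exact Q.not_dvd_index
  have hrelM : ¬ p ∣ Q₁.relIndex M := by
    intro h
    apply hrelK
    rw [← Subgroup.relIndex_mul_relIndex Q₁ M K hQ₁M hMK]
    exact dvd_mul_of_dvd_left h _
  obtain ⟨e, he⟩ := IsPGroup.iff_card.mp Q.2
  have hcop : (Nat.card Q₁).Coprime (Q₁.relIndex M) := by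
    rw [hcardQ₁, he]
    exact Nat.Coprime.pow_left _ ((Nat.Prime.coprime_iff_not_dvd hp.out).mpr hrelM)
  have hcomm : ⁅Q₁, M⁆ = Q₁ := by
    apply le_antisymm
    · rw [Subgroup.commutator_le]
      intro q hq m hm
      have h1 : m * q⁻¹ * m⁻¹ ∈ Q₁ := hconjQ m (hML hm) q⁻¹ (Q₁.inv_mem hq)
      have h2 : ⁅q, m⁆ = q * (m * q⁻¹ * m⁻¹) := by rw [commutatorElement_def]; group
      rw [h2]
      exact Q₁.mul_mem hq h1
    · have h1 : Q₁ = ⁅Q₁, (Subgroup.normalizer ((Q : Subgroup K) : Set K)).map K.subtype⁆ := by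
        conv_lhs => rw [hQ₁, hQeq, Subgroup.map_commutator]
        rw [← hQ₁]
      rw [h1]
      apply Subgroup.commutator_mono
      · rw [← h1]
      · rw [hM, hL, hQ₁]
        exact le_inf (Subgroup.map_subtype_le _) (Subgroup.le_normalizer_map _)
  have hCM : Q₁ ⊓ Subgroup.centralizer (M : Set G) = ⊥ := by
    have h1 := (abelian_hall_decomposition Q₁ M hQ₁M hMQ₁ hcop).1
    rw [hcomm] at h1
    rw [eq_bot_iff, ← h1]
    exact le_inf le_rfl inf_le_left
  obtain ⟨R, hRM, hQR, hQRsup, hcardR⟩ :=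
    exists_complement_of_coprime_relIndex Q₁ M hQ₁M hMQ₁ hcop
  have hcardM : Nat.card Q₁ * Nat.card R = Nat.card M := by
    rw [hcardR]
    have h1 := Subgroup.card_mul_index (Q₁.subgroupOf M)
    rw [card_subgroupOf_of_le hQ₁M] at h1
    exact h1
  have hQn : (Q₁.subgroupOf M).Normal :=
    (Subgroup.normal_subgroupOf_iff_le_normalizer hQ₁M).mpr hMQ₁
  have hQMc : IsMulCommutative (Q₁.subgroupOf M) := by
    refine ⟨⟨?_⟩⟩
    rintro ⟨a, ha⟩ ⟨b, hb⟩
    have := mul_comm' (⟨(a : G), Subgroup.mem_subgroupOf.mp ha⟩ : Q₁) ⟨(b : G), Subgroup.mem_subgroupOf.mp hb⟩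
    have h2 : (a : G) * (b : G) = (b : G) * (a : G) := congrArg Subtype.val this
    apply Subtype.ext
    apply Subtype.ext
    exact h2
  have hcopM : (Nat.card (Q₁.subgroupOf M)).Coprime (Q₁.subgroupOf M).index := by
    rw [card_subgroupOf_of_le hQ₁M]
    exact hcop
  have hcompl : ∀ R' : Subgroup G, R' ≤ M → Q₁ ⊓ R' = ⊥ → Nat.card R' = Nat.card R →
      Subgroup.IsComplement' (Q₁.subgroupOf M) (R'.subgroupOf M) := by
    intro R' hR'M hdis hc
    apply Subgroup.isComplement'_of_card_mul_and_disjoint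
    · rw [card_subgroupOf_of_le hQ₁M, card_subgroupOf_of_le hR'M, hc]
      exact hcardM
    · rw [Subgroup.disjoint_def]
      intro x hx1 hx2
      have : (x : G) ∈ Q₁ ⊓ R' := ⟨Subgroup.mem_subgroupOf.mp hx1, Subgroup.mem_subgroupOf.mp hx2⟩
      rw [hdis, Subgroup.mem_bot] at this
      exact Subtype.ext this
  obtain ⟨B, hB⟩ : ∃ B : Subgroup G, B = L ⊓ Subgroup.normalizer (R : Set G) := ⟨_, rfl⟩
  have hLK : ∀ l ∈ L, ∀ k ∈ K, l * k * l⁻¹ ∈ K := fun l _ k hk => hKn.conj_mem k hk l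
  have hLL : ∀ l ∈ L, ∀ k ∈ L, l * k * l⁻¹ ∈ L := fun l hl k hk =>
    L.mul_mem (L.mul_mem hl hk) (L.inv_mem hl)
  have hstep5 : ∀ l ∈ L, ∃ m ∈ M, ∃ b ∈ B, l = m * b := by
    intro l hl
    have hR'M : MulAut.conj l • R ≤ M := by
      intro x hx
      rw [mem_conj_smul_iff'] at hx
      have hx' := hRM hx
      rw [hM] at hx' ⊢
      have e : x = l * (l⁻¹ * x * l) * l⁻¹ := by group
      rw [e]
      exact ⟨hLK l hl _ hx'.1, hLL l hl _ hx'.2⟩
    have hdis : Q₁ ⊓ MulAut.conj l • R = ⊥ := by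
      rw [eq_bot_iff]
      rintro x ⟨hx1, hx2⟩
      have hx2' : x ∈ MulAut.conj l • R := hx2
      rw [mem_conj_smul_iff'] at hx2'
      have h1 : l⁻¹ * x * l ∈ Q₁ := by
        have := hconjQ l⁻¹ (L.inv_mem hl) x hx1
        rwa [inv_inv] at this
      have h2 : l⁻¹ * x * l ∈ Q₁ ⊓ R := ⟨h1, hx2'⟩
      rw [hQR, Subgroup.mem_bot] at h2
      rw [Subgroup.mem_bot]
      have e : x = l * (l⁻¹ * x * l) * l⁻¹ := by group
      rw [e, h2]
      group
    have hc1 := hcompl R hRM hQR rfl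
    have hc2 := hcompl (MulAut.conj l • R) hR'M hdis (card_conj R l)
    have hconj := conj_of_abelian (Q₁.subgroupOf M) hcopM _ _ hc1 hc2
    obtain ⟨m, hmM, hm⟩ := conj_of_subgroupOf R (MulAut.conj l • R) M hRM hR'M hconj
    refine ⟨m, hmM, m⁻¹ * l, ?_, by group⟩
    rw [hB]
    refine ⟨L.mul_mem (L.inv_mem (hML hmM)) hl, ?_⟩
    show m⁻¹ * l ∈ Subgroup.normalizer (R : Set G)
    rw [Subgroup.mem_normalizer_iff]
    intro x
    have hiff : ∀ y : G, m⁻¹ * y * m ∈ R ↔ l⁻¹ * y * l ∈ R := by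
      intro y
      rw [← mem_conj_smul_iff', ← mem_conj_smul_iff', hm]
    have e1 : l⁻¹ * (m * x * m⁻¹) * l = (m⁻¹ * l)⁻¹ * x * (m⁻¹ * l) := by group
    have e2 : m⁻¹ * (m * x * m⁻¹) * m = x := by group
    have h3 := hiff (m * x * m⁻¹)
    rw [e1, e2] at h3
    constructor
    · intro hx
      have h4 := hiff (l * x * l⁻¹)
      have e3 : l⁻¹ * (l * x * l⁻¹) * l = x := by group
      have e4 : m⁻¹ * (l * x * l⁻¹) * m = m⁻¹ * l * x * (m⁻¹ * l)⁻¹ := by group
      rw [e3, e4] at h4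
      exact h4.mpr hx
    · intro hx
      have h4 := hiff (l * x * l⁻¹)
      have e3 : l⁻¹ * (l * x * l⁻¹) * l = x := by group
      have e4 : m⁻¹ * (l * x * l⁻¹) * m = m⁻¹ * l * x * (m⁻¹ * l)⁻¹ := by group
      rw [e3, e4] at h4
      exact h4.mp hx
  have hfrat : L ⊔ K = ⊤ := by
    rw [hL, hQ₁]
    exact Sylow.normalizer_sup_eq_top Q
  have hstep6 : ∀ g : G, ∃ k ∈ K, ∃ b ∈ B, g = k * b := by
    intro g
    have hg : g ∈ (K : Set G) * (L : Set G) := by
      rw [← Subgroup.normal_mul, sup_comm, hfrat]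
      exact Set.mem_univ g
    obtain ⟨k, hk, l, hl, rfl⟩ := hg
    obtain ⟨m, hm, b, hb, rfl⟩ := hstep5 l hl
    exact ⟨k * m, K.mul_mem hk (hMK hm), b, hb, by group⟩
  have hstep7 : ¬ p ∣ Nat.card (B ⊓ K : Subgroup G) := by
    intro hdvd
    obtain ⟨x, hx⟩ := exists_prime_orderOf_dvd_card' (G := (B ⊓ K : Subgroup G)) p hdvd
    have hxo : orderOf (x : G) = p := by rw [Subgroup.orderOf_coe]; exact hx
    have hxB0 : (x : G) ∈ B := x.2.1
    have hxK : (x : G) ∈ K := x.2.2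
    have hxB : (x : G) ∈ L ⊓ Subgroup.normalizer (R : Set G) := hB.le hxB0
    have hxM : (x : G) ∈ M := by rw [hM]; exact ⟨hxK, hxB.1⟩
    have hxQ : (x : G) ∈ Q₁ := by
      have h1 : (QuotientGroup.mk (⟨(x : G), hxM⟩ : M) : M ⧸ Q₁.subgroupOf M) = 1 := by
        have h2 : (QuotientGroup.mk (⟨(x : G), hxM⟩ : M) : M ⧸ Q₁.subgroupOf M) ^ p = 1 := by
          rw [← QuotientGroup.mk_pow]
          have : (⟨(x : G), hxM⟩ : M) ^ p = 1 := by
            apply Subtype.ext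
            simp only [SubmonoidClass.mk_pow, OneMemClass.coe_one]
            rw [← hxo]
            exact pow_orderOf_eq_one _
          rw [this]
          rfl
        have h3 : (QuotientGroup.mk (⟨(x : G), hxM⟩ : M) : M ⧸ Q₁.subgroupOf M) ^
            (Q₁.subgroupOf M).index = 1 := by
          rw [Subgroup.index_eq_card]
          exact pow_card_eq_one'
        have h4 := orderOf_dvd_of_pow_eq_one h2
        have h5 := orderOf_dvd_of_pow_eq_one h3
        have hcop' : Nat.Coprime p (Q₁.subgroupOf M).index :=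
          (Nat.Prime.coprime_iff_not_dvd hp.out).mpr hrelM
        exact orderOf_eq_one_iff.mp (Nat.eq_one_of_dvd_coprimes hcop' h4 h5)
      have h6 := (QuotientGroup.eq_one_iff _).mp h1
      exact Subgroup.mem_subgroupOf.mp h6
    have hxR : (x : G) ∈ Subgroup.centralizer (R : Set G) := by
      apply Subgroup.mem_centralizer_iff.mpr
      intro r hr
      have h1 : (x : G) * r * (x : G)⁻¹ ∈ R := (Subgroup.mem_normalizer_iff.mp hxB.2 r).mp hr
      have h2 : (x : G) * r * (x : G)⁻¹ * r⁻¹ ∈ R := R.mul_mem h1 (R.inv_mem hr)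
      have h3 : (x : G) * r * (x : G)⁻¹ * r⁻¹ ∈ Q₁ := by
        have e : (x : G) * r * (x : G)⁻¹ * r⁻¹ = (x : G) * (r * (x : G)⁻¹ * r⁻¹) := by group
        rw [e]
        exact Q₁.mul_mem hxQ (hconjQ r (hML (hRM hr)) _ (Q₁.inv_mem hxQ))
      have h4 : (x : G) * r * (x : G)⁻¹ * r⁻¹ ∈ Q₁ ⊓ R := ⟨h3, h2⟩
      rw [hQR, Subgroup.mem_bot] at h4
      calc r * (x : G) = ((x : G) * r * (x : G)⁻¹ * r⁻¹)⁻¹ * ((x : G) * r) := by group
        _ = (x : G) * r := by rw [h4]; group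
    have h7 : (x : G) ∈ Subgroup.centralizer ((Q₁ ⊔ R : Subgroup G) : Set G) :=
      inf_centralizer_le_of_sup Q₁ R ⟨hxQ, hxR⟩
    rw [hQRsup] at h7
    have h8 : (x : G) ∈ Q₁ ⊓ Subgroup.centralizer (M : Set G) := ⟨hxQ, h7⟩
    rw [hCM, Subgroup.mem_bot] at h8
    rw [h8, orderOf_one] at hxo
    exact hp.out.one_lt.ne hxo
  have hBK : K ⊔ B = ⊤ := by
    rw [eq_top_iff]
    intro g _
    obtain ⟨k, hk, b, hb, rfl⟩ := hstep6 g
    exact Subgroup.mul_mem _ (Subgroup.mem_sup_left hk) (Subgroup.mem_sup_right hb)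
  have hidxB : K.relIndex B = p ^ j := by
    rw [← Subgroup.relIndex_sup_left (K := K) (H := B), hBK, Subgroup.relIndex_top_right, hKj]
  have hcardB : Nat.card B = Nat.card (B ⊓ K : Subgroup G) * p ^ j := by
    have h1 := Subgroup.card_mul_index ((B ⊓ K).subgroupOf B)
    rw [card_subgroupOf_of_le (inf_le_left : B ⊓ K ≤ B)] at h1
    have h2 : ((B ⊓ K).subgroupOf B).index = p ^ j := by
      change (B ⊓ K).relIndex B = p ^ j
      rw [Subgroup.inf_relIndex_left, hidxB]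
    rw [h2] at h1
    exact h1.symm
  obtain ⟨P₁⟩ : Nonempty (Sylow p B) := inferInstance
  have hcardP₁ : Nat.card (P₁ : Subgroup B) = p ^ j := by
    have hf0 : (Nat.card (B ⊓ K : Subgroup G)).factorization p = 0 :=
      Nat.factorization_eq_zero_of_not_dvd hstep7
    rw [Sylow.card_eq_multiplicity, hcardB,
      Nat.factorization_mul Nat.card_pos.ne' (pow_ne_zero _ hp.out.ne_zero),
      Finsupp.add_apply, hf0, zero_add, hp.out.factorization_pow, Finsupp.single_eq_same]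
  refine ⟨(P₁ : Subgroup B).map B.subtype, ?_⟩
  apply Subgroup.isComplement'_of_card_mul_and_disjoint
  · rw [Subgroup.card_map_of_injective B.subtype_injective, hcardP₁, ← hKj, mul_comm,
      Subgroup.card_mul_index]
  · rw [Subgroup.disjoint_def]
    rintro x ⟨x', hx', rfl⟩ hxK
    have h1 : (B.subtype x') ∈ B ⊓ K := ⟨x'.2, hxK⟩
    have h2 : orderOf (B.subtype x') ∣ Nat.card (B ⊓ K : Subgroup G) :=
      Subgroup.orderOf_dvd_natCard _ h1
    have h3 : orderOf (B.subtype x') ∣ p ^ j := by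
      rw [← hcardP₁]
      have : orderOf (B.subtype x') = orderOf (⟨x', hx'⟩ : (P₁ : Subgroup B)) := by
        rw [← Subgroup.orderOf_coe (⟨x', hx'⟩ : (P₁ : Subgroup B))]
        exact Subgroup.orderOf_coe x'
      rw [this]
      exact orderOf_dvd_natCard _
    have hcop' : Nat.Coprime (Nat.card (B ⊓ K : Subgroup G)) (p ^ j) :=
      Nat.Coprime.pow_right _ ((Nat.Prime.coprime_iff_not_dvd hp.out).mpr hstep7).symm
    exact orderOf_eq_one_iff.mp (Nat.eq_one_of_dvd_coprimes hcop' h2 h3)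

end Cfsg.Agent.Lib.Helper1
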