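import Mathlib
import Cfsg.Agent.Lib.Helper10.TEM.Defs
import Cfsg.Agent.Lib.Helper19.TEMP0
import Cfsg.Agent.Lib.Helper19.TEMP1
import Cfsg.Agent.Lib.Helper16.TEMC2
import Cfsg.Agent.Lib.Helper21.TEMC5
import Cfsg.Agent.Lib.Helper26.TEMR1
import Cfsg.Agent.Lib.helper4.TEMR2

/-!
# Project TEM (S2191, designer helper10): row P4 (`dec_Q`), VERBATIM (helper1, second writer).
On P0 `Ub_nine` (`Helper19.TEMP0`), C2 `comm_pairs` (`Helper16.TEMC2`), C5 `Q_comm` (`Helper21.TEMC5`), R1 `rat_mul` (`Helper26.TEMR1`), R2 `rat_X` (`helper4.TEMR2`);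
does NOT need P3: the case `r = 71` of `one_rat` is proved here (`temp4_Z_rat`).
Extras: `temp4_perm` (generic: products can be permuted modulo a central subgroup containing the commutators), `temp4_step`, `temp4_one`, `temp4_two`.
-/

set_option autoImplicit false
set_option linter.unusedSimpArgs false

namespace Cfsg.Agent.Lib.Helper10.TEM

open Cfsg.Lie Cfsg.Lie.ChevalleyDatum Matrix
open Cfsg.Agent.Lib.helper8

universe u

variable {K : Type u} [Field K] {q : ℕ} {f : K ≃+* K} {M H : Subgroup (GG K)}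

/-- generic: modulo a central subgroup `Z` of `Q` containing the commutators of `Q`, a product of elements of `Q` can be permuted -/
theorem temp4_perm {G : Type*} [Group G] (Q Z : Subgroup G)
    (hcent : ∀ g ∈ Q, ∀ z ∈ Z, g * z = z * g)
    (hcomm : ∀ g ∈ Q, ∀ h ∈ Q, g * h * g⁻¹ * h⁻¹ ∈ Z)
    {l₁ l₂ : List G} (hp : l₁.Perm l₂) (h₁ : ∀ x ∈ l₁, x ∈ Q) :
    ∃ z ∈ Z, l₁.prod = l₂.prod * z := by
  induction hp with
  | nil => exact ⟨1, Z.one_mem, by simp⟩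
  | cons x _ ih =>
    obtain ⟨z, hz, e⟩ := ih (fun y hy => h₁ y (List.mem_cons_of_mem _ hy))
    exact ⟨z, hz, by rw [List.prod_cons, List.prod_cons, e, mul_assoc]⟩
  | swap x y l =>
    have hx : x ∈ Q := h₁ x (by simp)
    have hy : y ∈ Q := h₁ y (by simp)
    have hP : l.prod ∈ Q := Subgroup.list_prod_mem _ (fun z hz => h₁ z (by simp [hz]))
    have hc := hcomm y⁻¹ (Q.inv_mem hy) x⁻¹ (Q.inv_mem hx)
    rw [inv_inv, inv_inv] at hc
    refine ⟨y⁻¹ * x⁻¹ * y * x, hc, ?_⟩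
    have h3 := hcent _ hP _ hc
    simp only [List.prod_cons]
    calc y * (x * l.prod) = x * (y * ((y⁻¹ * x⁻¹ * y * x) * l.prod)) := by group
      _ = x * (y * (l.prod * (y⁻¹ * x⁻¹ * y * x))) := by rw [h3]
      _ = x * (y * l.prod) * (y⁻¹ * x⁻¹ * y * x) := by group
  | trans h12 _ ih1 ih2 =>
    obtain ⟨z, hz, e⟩ := ih1 h₁
    obtain ⟨z', hz', e'⟩ := ih2 (fun y hy => h₁ y (h12.mem_iff.mpr hy))
    exact ⟨z' * z, Z.mul_mem hz' hz, by rw [e, e', mul_assoc]⟩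

/-- one step of the block decomposition of a fixed element, with the fixed point condition on the coordinates -/
theorem temp4_step (hF : Frob q f) (i : ℕ) (g : GG K) (hg : g ∈ h8Ub chevE6 K posi i)
    (hfix : Sg f g = g) :
    ∃ t : ℕ → K, ∃ v ∈ h8Ub chevE6 K posi (i + 1), Sg f v = v ∧
      (∀ k ∈ h8Lb chevE6 posi i, h8tS h8tE6 h8eE6 f t k = t k) ∧
      h8Pb chevE6 hB (h8Lb chevE6 posi i) t ∈ twistedE6 K q ∧
      g = h8Pb chevE6 hB (h8Lb chevE6 posi i) t * v := by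
  obtain ⟨t, v, hv, rfl⟩ := h8Ub_step chevE6 hB hC hBN hO2 posi blk i g hg
  obtain ⟨h1, h2⟩ := h8Sig_fix_split chevE6 hB hC hBN hO2 posi blk blkRead h8sE6 h8tE6 h8pE6
    h8qE6 h8eE6 hAut f sigp i t v hv hfix
  have h3 := (h8Sig_fix_Pb_iff chevE6 hB hC hBN hO2 posi blk blkRead h8sE6 h8tE6 h8pE6
    h8qE6 h8eE6 hAut f sigp i t).mpr h1
  have h4 : h8Pb chevE6 hB (h8Lb chevE6 posi i) t ∈ chevE6.posUnipotent K := by
    apply temp1_Ub_le i
    exact h8Pb_mem_Ub chevE6 hB posi i _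
      (fun r hr => ⟨((h8Lb_mem chevE6 posi i r).mp hr).1,
        le_of_eq ((h8Lb_mem chevE6 posi i r).mp hr).2.symm⟩) t
  exact ⟨t, v, hv, h2, h1, U_fix hF _ h4 h3, rfl⟩

/-- the blocks `9 … 23` and the twisting data on them -/
theorem temp4_data :
    h8Lb chevE6 posi 9 = [46] ∧ h8Lb chevE6 posi 10 = [47] ∧ h8Lb chevE6 posi 11 = [48, 50] ∧
    h8Lb chevE6 posi 12 = [49, 61] ∧ h8Lb chevE6 posi 13 = [51] ∧ h8Lb chevE6 posi 14 = [52, 62] ∧
    h8Lb chevE6 posi 15 = [53] ∧ h8Lb chevE6 posi 16 = [54, 64] ∧ h8Lb chevE6 posi 17 = [63] ∧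
    h8Lb chevE6 posi 18 = [55, 67] ∧ h8Lb chevE6 posi 19 = [65] ∧ h8Lb chevE6 posi 20 = [66, 68] ∧
    h8Lb chevE6 posi 21 = [69] ∧ h8Lb chevE6 posi 22 = [70] ∧ h8Lb chevE6 posi 23 = [71] := by
  decide +kernel

theorem temp4_tw : (∀ r ∈ [46, 47, 51, 53, 63, 65, 69, 70, 71], h8tE6 r = r ∧ h8eE6 r = 1) ∧
    ∀ p ∈ [(48, 50), (49, 61), (52, 62), (54, 64), (55, 67), (66, 68)],
      h8sE6 p.1 = p.2 ∧ h8tE6 p.2 = p.1 := by
  decide +kernel

/-- a fixed one-root block -/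
theorem temp4_one (hF : Frob q f) (r : ℕ) (hr : r ∈ [46, 47, 51, 53, 63, 65, 69, 70, 71]) (t : ℕ → K)
    (h : ∀ k ∈ [r], h8tS h8tE6 h8eE6 f t k = t k) :
    h8Pb chevE6 hB [r] t = X r (t r) ∧ (t r) ^ q = t r := by
  obtain ⟨h1, h2⟩ := temp4_tw.1 r hr
  have h3 := h r (List.mem_singleton_self r)
  unfold h8tS at h3
  rw [h1, h2, Int.cast_one, one_mul, hF.pow] at h3
  refine ⟨?_, h3⟩
  rw [h8Pb_cons, h8Pb_nil, mul_one]
  rfl

/-- a fixed two-root block -/
theorem temp4_two (hF : Frob q f) (r r' : ℕ)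
    (hr : (r, r') ∈ [(48, 50), (49, 61), (52, 62), (54, 64), (55, 67), (66, 68)]) (t : ℕ → K)
    (h : ∀ k ∈ [r, r'], h8tS h8tE6 h8eE6 f t k = t k) :
    h8Pb chevE6 hB [r, r'] t = XS q r (t r) := by
  obtain ⟨h1, h2⟩ := temp4_tw.2 (r, r') hr
  have h3 := h r' (by simp)
  unfold h8tS at h3
  simp only at h1 h2
  rw [h2, hF.pow] at h3
  rw [h8Pb_cons, h8Pb_cons, h8Pb_nil, mul_one]
  unfold XS X
  rw [h1, h3]

/-- the elements of the root subgroup of `71` -/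
theorem temp4_Z_form (g : GG K) (hg : g ∈ UPsi K [71]) : ∃ s : K, g = X 71 s := by
  have h71 : (71 : ℕ) < chevE6.nroots := (root_data 71 (by norm_num)).1
  unfold UPsi at hg
  induction hg using Subgroup.closure_induction with
  | mem x hx =>
    obtain ⟨r, hr, t, rfl⟩ := hx
    rw [List.mem_singleton] at hr
    subst hr
    exact ⟨t, rfl⟩
  | one => exact ⟨0, by unfold X; rw [h8xU_zero]⟩
  | mul x y _ _ hx hy =>
    obtain ⟨a, rfl⟩ := hx
    obtain ⟨b, rfl⟩ := hy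
    exact ⟨a + b, by unfold X; rw [h8xU_add chevE6 hB 71 h71]⟩
  | inv x _ hx =>
    obtain ⟨a, rfl⟩ := hx
    exact ⟨-a, by unfold X; rw [h8xU_inv]⟩

/-- the case `r = 71` of P3 `one_rat` -/
theorem temp4_Z_rat (hF : Frob q f) (g : GG K) (hg : g ∈ UPsi K [71]) (hg1 : g ∈ twistedE6 K q) :
    Rat q g := by
  have h71 : (71 : ℕ) < chevE6.nroots := (root_data 71 (by norm_num)).1
  obtain ⟨s, rfl⟩ := temp4_Z_form g hg
  have hfix := sig_fix hF _ hg1
  rw [Sg_X f 71 (by norm_num) s] at hfix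
  have hd : h8sE6 71 = 71 ∧ h8eE6 71 = 1 := by decide +kernel
  rw [hd.1, hd.2, Int.cast_one, one_mul] at hfix
  have hs : f s = s := h8xU_inj_t chevE6 hB hA hW 71 h71 _ _ hfix
  exact rat_X hF 71 s (by rw [← hF.pow, hs])

-- ROW P4  [M-H]
theorem dec_Q (hF : Frob q f) (u : GG K) (hu : u ∈ UPsi K Psi1 ⊓ twistedE6 K q) :
    ∃ t : ℕ → K, ∃ ℓ : GG K, ℓ ∈ UPsi K Psi1 ∧ ℓ ∈ twistedE6 K q ∧ Rat q ℓ ∧ u = QS q t * ℓ := by
  obtain ⟨d9, d10, d11, d12, d13, d14, d15, d16, d17, d18, d19, d20, d21, d22, d23⟩ := temp4_data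
  have hu9 : u ∈ h8Ub chevE6 K posi 9 := by rw [Ub_nine]; exact hu.1
  have hfix : Sg f u = u := sig_fix hF u hu.2
  obtain ⟨t9, g10, hg10, hf10, c9, p9, rfl⟩ := temp4_step hF 9 u hu9 hfix
  obtain ⟨t10, g11, hg11, hf11, c10, p10, rfl⟩ := temp4_step hF 10 g10 hg10 hf10
  obtain ⟨t11, g12, hg12, hf12, c11, p11, rfl⟩ := temp4_step hF 11 g11 hg11 hf11
  obtain ⟨t12, g13, hg13, hf13, c12, p12, rfl⟩ := temp4_step hF 12 g12 hg12 hf12
  obtain ⟨t13, g14, hg14, hf14, c13, p13, rfl⟩ := temp4_step hF 13 g13 hg13 hf13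
  obtain ⟨t14, g15, hg15, hf15, c14, p14, rfl⟩ := temp4_step hF 14 g14 hg14 hf14
  obtain ⟨t15, g16, hg16, hf16, c15, p15, rfl⟩ := temp4_step hF 15 g15 hg15 hf15
  obtain ⟨t16, g17, hg17, hf17, c16, p16, rfl⟩ := temp4_step hF 16 g16 hg16 hf16
  obtain ⟨t17, g18, hg18, hf18, c17, p17, rfl⟩ := temp4_step hF 17 g17 hg17 hf17
  obtain ⟨t18, g19, hg19, hf19, c18, p18, rfl⟩ := temp4_step hF 18 g18 hg18 hf18
  obtain ⟨t19, g20, hg20, hf20, c19, p19, rfl⟩ := temp4_step hF 19 g19 hg19 hf19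
  obtain ⟨t20, g21, hg21, hf21, c20, p20, rfl⟩ := temp4_step hF 20 g20 hg20 hf20
  obtain ⟨t21, g22, hg22, hf22, c21, p21, rfl⟩ := temp4_step hF 21 g21 hg21 hf21
  obtain ⟨t22, g23, hg23, hf23, c22, p22, rfl⟩ := temp4_step hF 22 g22 hg22 hf22
  obtain ⟨t23, g24, hg24, hf24, c23, p23, rfl⟩ := temp4_step hF 23 g23 hg23 hf23
  have hg24' : g24 = 1 := by
    rw [h8Ub_top chevE6 posi 24 posi_lt, Subgroup.mem_bot] at hg24
    exact hg24
  subst hg24'
  rw [d9] at c9 p9; rw [d10] at c10 p10; rw [d11] at c11 p11; rw [d12] at c12 p12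
  rw [d13] at c13 p13; rw [d14] at c14 p14; rw [d15] at c15 p15; rw [d16] at c16 p16
  rw [d17] at c17 p17; rw [d18] at c18 p18; rw [d19] at c19 p19; rw [d20] at c20 p20
  rw [d21] at c21 p21; rw [d22] at c22 p22; rw [d23] at c23 p23
  rw [d9, d10, d11, d12, d13, d14, d15, d16, d17, d18, d19, d20, d21, d22, d23]
  obtain ⟨e9, k9⟩ := temp4_one hF 46 (by simp) t9 c9
  obtain ⟨e10, k10⟩ := temp4_one hF 47 (by simp) t10 c10
  have e11 := temp4_two hF 48 50 (by simp) t11 c11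
  have e12 := temp4_two hF 49 61 (by simp) t12 c12
  obtain ⟨e13, k13⟩ := temp4_one hF 51 (by simp) t13 c13
  have e14 := temp4_two hF 52 62 (by simp) t14 c14
  obtain ⟨e15, k15⟩ := temp4_one hF 53 (by simp) t15 c15
  have e16 := temp4_two hF 54 64 (by simp) t16 c16
  obtain ⟨e17, k17⟩ := temp4_one hF 63 (by simp) t17 c17
  have e18 := temp4_two hF 55 67 (by simp) t18 c18
  obtain ⟨e19, k19⟩ := temp4_one hF 65 (by simp) t19 c19
  have e20 := temp4_two hF 66 68 (by simp) t20 c20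
  obtain ⟨e21, k21⟩ := temp4_one hF 69 (by simp) t21 c21
  obtain ⟨e22, k22⟩ := temp4_one hF 70 (by simp) t22 c22
  obtain ⟨e23, k23⟩ := temp4_one hF 71 (by simp) t23 c23
  rw [e9] at p9; rw [e10] at p10; rw [e11] at p11; rw [e12] at p12; rw [e13] at p13
  rw [e14] at p14; rw [e15] at p15; rw [e16] at p16; rw [e17] at p17; rw [e18] at p18
  rw [e19] at p19; rw [e20] at p20; rw [e21] at p21; rw [e22] at p22; rw [e23] at p23
  rw [e9, e10, e11, e12, e13, e14, e15, e16, e17, e18, e19, e20, e21, e22, e23, mul_one]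
  -- the fifteen factors
  set a : ℕ → GG K := fun i => match i with
    | 0 => X 46 (t9 46) | 1 => X 47 (t10 47) | 2 => XS q 48 (t11 48) | 3 => XS q 49 (t12 49)
    | 4 => X 51 (t13 51) | 5 => XS q 52 (t14 52) | 6 => X 53 (t15 53) | 7 => XS q 54 (t16 54)
    | 8 => X 63 (t17 63) | 9 => XS q 55 (t18 55) | 10 => X 65 (t19 65) | 11 => XS q 66 (t20 66)
    | 12 => X 69 (t21 69) | 13 => X 70 (t22 70) | _ => X 71 (t23 71) with ha
  -- membership of the factors in `UPsi K Psi1`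
  have hXQ : ∀ r ∈ Psi1, ∀ s : K, X r s ∈ UPsi K Psi1 := fun r hr s => temp0_X_mem Psi1 r hr s
  have hSQ : ∀ p ∈ [(48, 50), (49, 61), (52, 62), (54, 64), (55, 67), (66, 68)], ∀ s : K,
      XS q p.1 s ∈ UPsi K Psi1 := by
    intro p hp s
    obtain ⟨h1, -⟩ := temp4_tw.2 p hp
    unfold XS
    rw [h1]
    have hmem : ∀ p ∈ [(48, 50), (49, 61), (52, 62), (54, 64), (55, 67), (66, 68)],
        p.1 ∈ Psi1 ∧ p.2 ∈ Psi1 := by decide
    exact Subgroup.mul_mem _ (hXQ _ (hmem p hp).1 _) (hXQ _ (hmem p hp).2 _)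
  have haQ : ∀ i, a i ∈ UPsi K Psi1 := by
    intro i
    rw [ha]
    rcases i with _ | _ | _ | _ | _ | _ | _ | _ | _ | _ | _ | _ | _ | _ | i
    · exact hXQ 46 (by decide) _
    · exact hXQ 47 (by decide) _
    · exact hSQ (48, 50) (by simp) _
    · exact hSQ (49, 61) (by simp) _
    · exact hXQ 51 (by decide) _
    · exact hSQ (52, 62) (by simp) _
    · exact hXQ 53 (by decide) _
    · exact hSQ (54, 64) (by simp) _
    · exact hXQ 63 (by decide) _
    · exact hSQ (55, 67) (by simp) _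
    · exact hXQ 65 (by decide) _
    · exact hSQ (66, 68) (by simp) _
    · exact hXQ 69 (by decide) _
    · exact hXQ 70 (by decide) _
    · exact hXQ 71 (by decide) _
  have haG : ∀ i, a i ∈ twistedE6 K q := by
    intro i
    rw [ha]
    rcases i with _ | _ | _ | _ | _ | _ | _ | _ | _ | _ | _ | _ | _ | _ | i
    · exact p9
    · exact p10
    · exact p11
    · exact p12
    · exact p13
    · exact p14
    · exact p15
    · exact p16
    · exact p17
    · exact p18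
    · exact p19
    · exact p20
    · exact p21
    · exact p22
    · exact p23
  -- permute
  have hcent : ∀ g ∈ UPsi K Psi1, ∀ z ∈ UPsi K [71], g * z = z * g := by
    intro g hg z hz
    have hle : UPsi K [71] ≤ Subgroup.centralizer {g} := by
      unfold UPsi
      rw [Subgroup.closure_le]
      rintro x ⟨r, hr, c, rfl⟩
      rw [List.mem_singleton] at hr
      subst hr
      rw [SetLike.mem_coe, Subgroup.mem_centralizer_singleton_iff]
      exact ((comm_pairs Psi1 71 (by simp [commPairs]) g hg c).eq).symm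
    have := hle hz
    rw [Subgroup.mem_centralizer_singleton_iff] at this
    exact this.symm
  have hperm : ([0, 1, 2, 3, 4, 5, 6, 7, 8, 9, 10, 11, 12, 13, 14] : List ℕ).Perm
      [2, 3, 5, 7, 9, 11, 0, 1, 4, 6, 8, 10, 12, 13, 14] := by decide
  obtain ⟨z, hz, e⟩ := temp4_perm (UPsi K Psi1) (UPsi K [71]) hcent
    (fun g hg h hh => Q_comm g hg h hh) (hperm.map a)
    (fun x hx => by
      rw [List.mem_map] at hx
      obtain ⟨i, -, rfl⟩ := hx
      exact haQ i)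
  simp only [List.map_cons, List.map_nil, List.prod_cons, List.prod_nil, mul_one] at e
  have hzQ : z ∈ UPsi K Psi1 := by
    have hle : UPsi K [71] ≤ UPsi K Psi1 := by
      unfold UPsi
      apply Subgroup.closure_mono
      rintro x ⟨r, hr, c, rfl⟩
      rw [List.mem_singleton] at hr
      subst hr
      exact ⟨71, by decide, c, rfl⟩
    exact hle hz
  -- the long part
  set L : GG K := a 0 * (a 1 * (a 4 * (a 6 * (a 8 * (a 10 * (a 12 * (a 13 * a 14))))))) with hL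
  have hLQ : L ∈ UPsi K Psi1 := by
    rw [hL]
    exact Subgroup.mul_mem _ (haQ 0) (Subgroup.mul_mem _ (haQ 1) (Subgroup.mul_mem _ (haQ 4)
      (Subgroup.mul_mem _ (haQ 6) (Subgroup.mul_mem _ (haQ 8) (Subgroup.mul_mem _ (haQ 10)
      (Subgroup.mul_mem _ (haQ 12) (Subgroup.mul_mem _ (haQ 13) (haQ 14))))))))
  have hLG : L ∈ twistedE6 K q := by
    rw [hL]
    exact Subgroup.mul_mem _ (haG 0) (Subgroup.mul_mem _ (haG 1) (Subgroup.mul_mem _ (haG 4)
      (Subgroup.mul_mem _ (haG 6) (Subgroup.mul_mem _ (haG 8) (Subgroup.mul_mem _ (haG 10)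
      (Subgroup.mul_mem _ (haG 12) (Subgroup.mul_mem _ (haG 13) (haG 14))))))))
  have hLR : Rat q L := by
    rw [hL, ha]
    exact rat_mul hF (rat_X hF _ _ k9) (rat_mul hF (rat_X hF _ _ k10) (rat_mul hF (rat_X hF _ _ k13)
      (rat_mul hF (rat_X hF _ _ k15) (rat_mul hF (rat_X hF _ _ k17) (rat_mul hF (rat_X hF _ _ k19)
      (rat_mul hF (rat_X hF _ _ k21) (rat_mul hF (rat_X hF _ _ k22) (rat_X hF _ _ k23))))))))
  set S : GG K := a 2 * (a 3 * (a 5 * (a 7 * (a 9 * a 11)))) with hS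
  have hSG : S ∈ twistedE6 K q := by
    rw [hS]
    exact Subgroup.mul_mem _ (haG 2) (Subgroup.mul_mem _ (haG 3) (Subgroup.mul_mem _ (haG 5)
      (Subgroup.mul_mem _ (haG 7) (Subgroup.mul_mem _ (haG 9) (haG 11)))))
  -- the product of all factors
  have hprod : a 0 * (a 1 * (a 2 * (a 3 * (a 4 * (a 5 * (a 6 * (a 7 * (a 8 * (a 9 * (a 10 *
      (a 11 * (a 12 * (a 13 * a 14))))))))))))) = S * (L * z) := by
    rw [e, hS, hL]
    simp only [mul_assoc]
  have hUG : a 0 * (a 1 * (a 2 * (a 3 * (a 4 * (a 5 * (a 6 * (a 7 * (a 8 * (a 9 * (a 10 *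
      (a 11 * (a 12 * (a 13 * a 14))))))))))))) ∈ twistedE6 K q :=
    Subgroup.mul_mem _ (haG 0) (Subgroup.mul_mem _ (haG 1) (Subgroup.mul_mem _ (haG 2)
      (Subgroup.mul_mem _ (haG 3) (Subgroup.mul_mem _ (haG 4) (Subgroup.mul_mem _ (haG 5)
      (Subgroup.mul_mem _ (haG 6) (Subgroup.mul_mem _ (haG 7) (Subgroup.mul_mem _ (haG 8)
      (Subgroup.mul_mem _ (haG 9) (Subgroup.mul_mem _ (haG 10) (Subgroup.mul_mem _ (haG 11)
      (Subgroup.mul_mem _ (haG 12) (Subgroup.mul_mem _ (haG 13) (haG 14))))))))))))))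
  have hzG : z ∈ twistedE6 K q := by
    have h1 : z = L⁻¹ * (S⁻¹ * (S * (L * z))) := by group
    rw [h1, ← hprod]
    exact Subgroup.mul_mem _ (Subgroup.inv_mem _ hLG) (Subgroup.mul_mem _ (Subgroup.inv_mem _ hSG) hUG)
  have hzR : Rat q z := temp4_Z_rat hF z hz hzG
  refine ⟨fun r => match r with
    | 48 => t11 48 | 49 => t12 49 | 52 => t14 52 | 54 => t16 54 | 55 => t18 55 | _ => t20 66,
    L * z, Subgroup.mul_mem _ hLQ hzQ, Subgroup.mul_mem _ hLG hzG, rat_mul hF hLR hzR, ?_⟩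
  have hQS : QS q (fun r => match r with
    | 48 => t11 48 | 49 => t12 49 | 52 => t14 52 | 54 => t16 54 | 55 => t18 55 | _ => t20 66) = S := by
    rw [hS, ha]
    unfold QS
    simp only [mul_assoc]
  rw [hQS, ← hprod, ha]
  simp only [mul_assoc]

end Cfsg.Agent.Lib.Helper10.TEM
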