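import Mathlib
import Cfsg.Agent.Lib.helper3.T2E.Defs
import Cfsg.Agent.Lib.Helper19.TEMP1
import Cfsg.Agent.Lib.Helper1.TEMP4
import Cfsg.Agent.Lib.helper15.TEMG3

/-!
# T2E (S2108, designer helper3), row D12b (helper1), VERBATIM vs `helper3/T2E/SkelD.lean.txt`: `U1_gen`,
`U ∩ G¹` is generated by the positive twisted root elements.  Block decomposition over the 24 blocks of helper10's `posi`
(`temp4_step` of `Helper1.TEMP4`), every fixed block product is `X r s`, `s ∈ k`, or `XS q r t`.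
-/

set_option autoImplicit false

namespace Cfsg.Agent.Lib.helper3.T2E

open Cfsg.Lie Cfsg.Lie.ChevalleyDatum Matrix
open Cfsg.Agent.Lib.helper8 Cfsg.Agent.Lib.Helper10.TEM Cfsg.Agent.Lib.helper7.Ce
  Cfsg.Agent.Lib.helper15.St2

universe u

variable {K : Type u} [Field K] {q : ℕ} {f : K ≃+* K}

/-- the 24 blocks: one fixed root, or an orbit `{r, σ r}` -/
theorem t2ed12bh1_data : ∀ i < 24,
    (∃ r < 72, 36 ≤ r ∧ h8Lb chevE6 posi i = [r] ∧ h8tE6 r = r ∧ h8eE6 r = 1 ∧ h8sE6 r = r) ∨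
    (∃ r < 72, 36 ≤ r ∧ h8Lb chevE6 posi i = [r, h8sE6 r] ∧ h8tE6 (h8sE6 r) = r ∧ h8sE6 r ≠ r) := by
  decide +kernel

/-- a fixed block product is a positive twisted root element -/
theorem t2ed12bh1_block (hF : Frob q f) (i : ℕ) (hi : i < 24) (t : ℕ → K)
    (h : ∀ k ∈ h8Lb chevE6 posi i, h8tS h8tE6 h8eE6 f t k = t k) :
    h8Pb chevE6 hB (h8Lb chevE6 posi i) t ∈ Subgroup.closure
      {g : GG K | ∃ r, 36 ≤ r ∧ r < 72 ∧ ∃ t : K, Adm q r t ∧ g = XT q r t} := by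
  rcases t2ed12bh1_data i hi with ⟨r, hr, h36, hL, h1, h2, h3⟩ | ⟨r, hr, h36, hL, h1, h3⟩
  · rw [hL] at h ⊢
    have h4 := h r (List.mem_singleton_self r)
    unfold h8tS at h4
    rw [h1, h2, Int.cast_one, one_mul, hF.pow] at h4
    apply Subgroup.subset_closure
    refine ⟨r, h36, hr, t r, fun _ => h4, ?_⟩
    rw [h8Pb_cons, h8Pb_nil, mul_one]
    unfold XT
    rw [if_pos h3]
    rfl
  · rw [hL] at h ⊢
    have h4 := h (h8sE6 r) (by simp)
    unfold h8tS at h4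
    rw [h1, hF.pow] at h4
    apply Subgroup.subset_closure
    refine ⟨r, h36, hr, t r, fun h' => absurd h' h3, ?_⟩
    rw [h8Pb_cons, h8Pb_cons, h8Pb_nil, mul_one]
    unfold XT
    rw [if_neg h3]
    unfold XS X
    rw [h4]

/-- downward induction over the filtration -/
theorem t2ed12bh1_ind (hF : Frob q f) : ∀ n i : ℕ, i + n = 24 → ∀ g ∈ h8Ub chevE6 K posi i, Sg f g = g →
    g ∈ Subgroup.closure {g : GG K | ∃ r, 36 ≤ r ∧ r < 72 ∧ ∃ t : K, Adm q r t ∧ g = XT q r t}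
  | 0, i, hi, g, hg, _ => by
    have hi' : i = 24 := by omega
    subst hi'
    rw [h8Ub_top chevE6 posi 24 posi_lt] at hg
    rw [Subgroup.mem_bot.1 hg]
    exact Subgroup.one_mem _
  | n + 1, i, hi, g, hg, hfix => by
    obtain ⟨t, v, hv, hfv, hcoord, _, rfl⟩ := temp4_step hF i g hg hfix
    exact Subgroup.mul_mem _ (t2ed12bh1_block hF i (by omega) t hcoord)
      (t2ed12bh1_ind hF n (i + 1) (by omega) v hv hfv)

-- ROW D12b
theorem U1_gen (hF : Frob q f) :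
    U1 K q = Subgroup.closure
      {g : GG K | ∃ r, 36 ≤ r ∧ r < 72 ∧ ∃ t : K, Adm q r t ∧ g = XT q r t} := by
  apply le_antisymm
  · intro u hu
    have hu0 : u ∈ h8Ub chevE6 K posi 0 := by
      rw [h8Ub_zero chevE6 posi]
      exact hu.1
    exact t2ed12bh1_ind hF 24 0 (by norm_num) u hu0 (sig_fix hF u hu.2)
  · rw [Subgroup.closure_le]
    rintro g ⟨r, h36, hr, t, ht, rfl⟩
    have hpos : chevE6.IsPosRoot r := (root_data r hr).2.2.2.2.2.2.2.2.1.2 h36
    unfold XT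
    by_cases hσ : h8sE6 r = r
    · rw [if_pos hσ]
      exact ⟨temg3_X_mem_U r hpos t, X_mem_G1 hF r hr hσ t (ht hσ)⟩
    · rw [if_neg hσ]
      refine ⟨?_, XS_mem_G1 hF r hr hσ t⟩
      unfold XS
      exact Subgroup.mul_mem _ (temg3_X_mem_U r hpos t) (temg3_X_mem_U _ (sigp r hpos).1 _)

end Cfsg.Agent.Lib.helper3.T2E
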