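import Mathlib
import Cfsg.Agent.Lib.helper3.T2E.Defs
import Cfsg.Agent.Lib.Helper18.TEMA4

/-!
# T2E (S2108, designer helper3), row D13a (helper1), VERBATIM vs `helper3/T2E/SkelD.lean.txt`: `comm_LL`.
Extras: `t2ed13h1_cm_core` (group theory), `t2ed13h1_cm` (the one-term commutator relation of `E₆` in `cm` form, from helper18's `tema4_pair`).
-/

set_option autoImplicit false

namespace Cfsg.Agent.Lib.helper3.T2E

open Cfsg.Lie Cfsg.Lie.ChevalleyDatum Matrix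
open Cfsg.Agent.Lib.helper8 Cfsg.Agent.Lib.Helper10.TEM Cfsg.Agent.Lib.helper7.Ce
  Cfsg.Agent.Lib.helper15.St2

universe u

variable {K : Type u} [Field K] {q : ℕ} {f : K ≃+* K}

/-- `y x = x y z` with `z` commuting with `x` and `y` gives `[x, y] = z⁻¹` -/
theorem t2ed13h1_cm_core {G : Type*} [Group G] (x y z : G) (h : y * x = x * y * z) (hx : Commute z x) (hy : Commute z y) :
    cm x y = z⁻¹ := by
  unfold cm
  have h1 : x * y = y * x * z⁻¹ := by rw [h, mul_inv_cancel_right]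
  have hx' : x * z⁻¹ = z⁻¹ * x := (hx.inv_left).eq.symm
  have hy' : y * z⁻¹ = z⁻¹ * y := (hy.inv_left).eq.symm
  calc x * y * x⁻¹ * y⁻¹ = y * x * z⁻¹ * x⁻¹ * y⁻¹ := by rw [h1]
    _ = y * (x * z⁻¹) * x⁻¹ * y⁻¹ := by group
    _ = y * (z⁻¹ * x) * x⁻¹ * y⁻¹ := by rw [hx']
    _ = (y * z⁻¹) * y⁻¹ := by group
    _ = z⁻¹ * y * y⁻¹ := by rw [hy']
    _ = z⁻¹ := by group

theorem t2ed13h1_X_inv (r : ℕ) (t : K) : (X r t)⁻¹ = X r (-t) := by
  unfold X
  rw [h8xU_inv]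

/-- the one-term commutator relation in `cm` form -/
theorem t2ed13h1_cm {a b c : ℕ} (ha : a < 72) (hb : b < 72) (hc : c < 72) (hab : b ≠ a) (habn : b ≠ 71 - a) (ε : ℤ)
    (hct : chevE6.commTerms a b = [(c, ε, 1, 1)])
    (hca : chevE6.commTerms c a = []) (hca1 : a ≠ c) (hca2 : a ≠ 71 - c)
    (hcb : chevE6.commTerms c b = []) (hcb1 : b ≠ c) (hcb2 : b ≠ 71 - c) (t u : K) :
    cm (X a t) (X b u) = X c (((ε : ℤ) : K) * (t * u)) := by
  have h := tema4_pair (K := K) ha hb hab habn ε hct t u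
  rw [t2ed13h1_cm_core (X a t) (X b u) _ h (tema4_commute hc ha hca1 hca2 hca _ _) (tema4_commute hc hb hcb1 hcb2 hcb _ _),
    t2ed13h1_X_inv]
  congr 1
  ring

-- ROW D13a
theorem comm_LL : ∃ ε : K, (ε = 1 ∨ ε = -1) ∧ ∀ t u : K, cm (X 46 t) (X 39 u) = X 47 (ε * (t * u)) := by
  refine ⟨(((-1 : ℤ) : ℤ) : K), Or.inr (by simp), fun t u => ?_⟩
  exact t2ed13h1_cm (by norm_num) (by norm_num) (by norm_num) (by norm_num) (by norm_num) (-1) (by decide +kernel)
    (by decide +kernel) (by norm_num) (by norm_num) (by decide +kernel) (by norm_num) (by norm_num) t u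

end Cfsg.Agent.Lib.helper3.T2E
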