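import Mathlib
import Cfsg.Agent.Lib.helper3.T2E.Defs
import Cfsg.Agent.Lib.Helper18.TEMA4
import Cfsg.Agent.Lib.Helper1.T2ED13a

/-!
# T2E (S2108, designer helper3), row D13b (helper1), VERBATIM vs `helper3/T2E/SkelD.lean.txt`: `comm_SS`.
-/

set_option autoImplicit false

namespace Cfsg.Agent.Lib.helper3.T2E

open Cfsg.Lie Cfsg.Lie.ChevalleyDatum Matrix
open Cfsg.Agent.Lib.helper8 Cfsg.Agent.Lib.Helper10.TEM Cfsg.Agent.Lib.helper7.Ce
  Cfsg.Agent.Lib.helper15.St2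

universe u

variable {K : Type u} [Field K] {q : ℕ} {f : K ≃+* K}

/-- `[x₁ x₂, y₁ y₂] = [x₂, y₂] [x₁, y₁]` if the mixed pairs commute and `[x₂, y₂]` commutes with `y₁`, `x₁` -/
theorem t2ed13h1_cm22 {G : Type*} [Group G] (x1 x2 y1 y2 c1 c2 : G) (h12 : Commute x1 y2) (h21 : Commute x2 y1)
    (hc1 : cm x1 y1 = c1) (hc2 : cm x2 y2 = c2) (hc2y1 : Commute c2 y1) (hc2x1 : Commute c2 x1) :
    cm (x1 * x2) (y1 * y2) = c2 * c1 := by
  rw [cm_mul_left, cm_mul_right x2, cm_mul_right x1, cm_eq_one_iff.2 h21.eq, cm_eq_one_iff.2 h12.eq, hc1, hc2]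
  have e1 : y1 * c2 * y1⁻¹ = c2 := by rw [← hc2y1.eq, mul_inv_cancel_right]
  have e2 : x1 * c2 * x1⁻¹ = c2 := by rw [← hc2x1.eq, mul_inv_cancel_right]
  rw [one_mul, e1, e2, mul_one, mul_inv_cancel, mul_one]

theorem t2ed13bh1_data : h8sE6 56 = 36 ∧ h8eE6 56 = 1 ∧ h8sE6 42 = 37 ∧ h8eE6 42 = 1 ∧ h8sE6 57 = 38 ∧ h8eE6 57 = -1 ∧
    chevE6.commTerms 56 42 = [(57, -1, 1, 1)] ∧ chevE6.commTerms 36 37 = [(38, 1, 1, 1)] ∧
    chevE6.commTerms 57 56 = [] ∧ chevE6.commTerms 57 42 = [] ∧ chevE6.commTerms 38 36 = [] ∧ chevE6.commTerms 38 37 = [] ∧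
    chevE6.commTerms 56 37 = [] ∧ chevE6.commTerms 36 42 = [] ∧ chevE6.commTerms 38 42 = [] ∧ chevE6.commTerms 38 56 = [] ∧
    chevE6.commTerms 57 38 = [] := by
  decide +kernel

-- ROW D13b
theorem comm_SS (hF : Frob q f) : ∃ ε : K, (ε = 1 ∨ ε = -1) ∧
    ∀ t u : K, cm (XS q 56 t) (XS q 42 u) = XS q 57 (ε * (t * u)) := by
  obtain ⟨s56, e56, s42, e42, s57, e57, c1, c2, k1, k2, k3, k4, k5, k6, k7, k8, k9⟩ := t2ed13bh1_data
  refine ⟨-1, Or.inr rfl, fun t u => ?_⟩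
  unfold XS
  rw [s56, e56, s42, e42, s57, e57]
  have hc1 := t2ed13h1_cm (K := K) (a := 56) (b := 42) (c := 57) (by norm_num) (by norm_num) (by norm_num) (by norm_num) (by norm_num) (-1) c1
    k1 (by norm_num) (by norm_num) k2 (by norm_num) (by norm_num) t u
  have hc2 := t2ed13h1_cm (K := K) (a := 36) (b := 37) (c := 38) (by norm_num) (by norm_num) (by norm_num) (by norm_num) (by norm_num) 1 c2
    k3 (by norm_num) (by norm_num) k4 (by norm_num) (by norm_num) (((1 : ℤ) : K) * t ^ q) (((1 : ℤ) : K) * u ^ q)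
  rw [t2ed13h1_cm22 _ _ _ _ _ _
    (tema4_commute (by norm_num) (by norm_num) (by norm_num) (by norm_num) k5 _ _)
    (tema4_commute (by norm_num) (by norm_num) (by norm_num) (by norm_num) k6 _ _) hc1 hc2
    (tema4_commute (by norm_num) (by norm_num) (by norm_num) (by norm_num) k7 _ _)
    (tema4_commute (by norm_num) (by norm_num) (by norm_num) (by norm_num) k8 _ _)]
  rw [← (tema4_commute (K := K) (r := 57) (s := 38) (by norm_num) (by norm_num) (by norm_num) (by norm_num) k9 _ _).eq]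
  have hneg : (-1 * (t * u)) ^ q = -(t ^ q * u ^ q) := by
    rw [mul_pow, hF.neg, mul_pow]; ring
  rw [hneg]
  congr 2
  · push_cast; ring
  · push_cast; ring

end Cfsg.Agent.Lib.helper3.T2E
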