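import Mathlib
import Cfsg.Agent.Lib.helper3.T2E.Defs
import Cfsg.Agent.Lib.Helper18.TEMA4
import Cfsg.Agent.Lib.Helper1.T2ED13a

/-!
# T2E (S2108, designer helper3), row D13d (helper1), VERBATIM vs `helper3/T2E/SkelD.lean.txt`: `comm_LS`.
-/

set_option autoImplicit false
set_option linter.unusedVariables false

namespace Cfsg.Agent.Lib.helper3.T2E

open Cfsg.Lie Cfsg.Lie.ChevalleyDatum Matrix
open Cfsg.Agent.Lib.helper8 Cfsg.Agent.Lib.Helper10.TEM Cfsg.Agent.Lib.helper7.Ce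
  Cfsg.Agent.Lib.helper15.St2

universe u

variable {K : Type u} [Field K] {q : ℕ} {f : K ≃+* K}

theorem t2ed13dh1_data : h8sE6 42 = 37 ∧ h8eE6 42 = 1 ∧ h8sE6 43 = 40 ∧ h8eE6 43 = -1 ∧
    chevE6.commTerms 39 42 = [(43, 1, 1, 1)] ∧ chevE6.commTerms 39 37 = [(40, -1, 1, 1)] ∧
    chevE6.commTerms 40 42 = [(44, 1, 1, 1)] ∧
    chevE6.commTerms 43 39 = [] ∧ chevE6.commTerms 43 42 = [] ∧ chevE6.commTerms 40 39 = [] ∧ chevE6.commTerms 40 37 = [] ∧
    chevE6.commTerms 44 42 = [] := by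
  decide +kernel

/-- `y s = s y z` with `z` commuting with `y` gives `y s y⁻¹ = s z` -/
theorem t2ed13dh1_conj {G : Type*} [Group G] (y s z : G) (h : y * s = s * y * z) (hz : Commute z y) :
    y * s * y⁻¹ = s * z := by
  rw [h, mul_assoc s, ← hz.eq, ← mul_assoc, mul_inv_cancel_right]

-- ROW D13d
theorem comm_LS (hF : Frob q f) : ∃ ε ε' : K, (ε = 1 ∨ ε = -1) ∧ (ε' = 1 ∨ ε' = -1) ∧
    ∀ t u : K, t ^ q = t →
      cm (X 39 t) (XS q 42 u) = XS q 43 (ε * (t * u)) * X 44 (ε' * (t * (u * u ^ q))) := by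
  obtain ⟨s42, e42, s43, e43, c1, c2, c3, k1, k2, k3, k4, k5⟩ := t2ed13dh1_data
  refine ⟨1, 1, Or.inl rfl, Or.inl rfl, fun t u ht => ?_⟩
  unfold XS
  rw [s42, e42, s43, e43]
  have hc1 := t2ed13h1_cm (K := K) (a := 39) (b := 42) (c := 43) (by norm_num) (by norm_num) (by norm_num) (by norm_num) (by norm_num) 1 c1
    k1 (by norm_num) (by norm_num) k2 (by norm_num) (by norm_num) t u
  have hc2 := t2ed13h1_cm (K := K) (a := 39) (b := 37) (c := 40) (by norm_num) (by norm_num) (by norm_num) (by norm_num) (by norm_num) (-1) c2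
    k3 (by norm_num) (by norm_num) k4 (by norm_num) (by norm_num) t (((1 : ℤ) : K) * u ^ q)
  rw [cm_mul_right, hc1, hc2]
  have hp := tema4_pair (K := K) (a := 40) (b := 42) (c := 44) (by norm_num) (by norm_num) (by norm_num) (by norm_num) 1 c3
    (((-1 : ℤ) : K) * (t * (((1 : ℤ) : K) * u ^ q))) u
  rw [t2ed13dh1_conj _ _ _ hp (tema4_commute (by norm_num) (by norm_num) (by norm_num) (by norm_num) k5 _ _)]
  have hpow : (1 * (t * u)) ^ q = t * u ^ q := by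
    rw [one_mul, mul_pow, ht]
  rw [hpow, ← mul_assoc]
  have a1 : ((1 : ℤ) : K) * (t * u) = 1 * (t * u) := by push_cast; ring
  have a2 : ((-1 : ℤ) : K) * (t * (((1 : ℤ) : K) * u ^ q)) = ((-1 : ℤ) : K) * (t * u ^ q) := by push_cast; ring
  have a3 : ((1 : ℤ) : K) * -(((-1 : ℤ) : K) * (t * (((1 : ℤ) : K) * u ^ q))) * u = 1 * (t * (u * u ^ q)) := by
    push_cast; ring
  rw [a3, a2, a1]

end Cfsg.Agent.Lib.helper3.T2E
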