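import Mathlib
import Cfsg.Agent.Lib.helper3.T2E.Defs3
import Cfsg.Agent.Lib.helper8.ChevTwE6H16
import Cfsg.Agent.Lib.Helper28.T2ER2core

/-!
# T2E (S2108, designer helper3), row R1 (helper1, second writer): CORE of `rel_LL` on the statements of D13a `comm_LL`,
C3 `CLm_pairs` at `(39, 47)` and a separating torus element (`χ₄₆ = 1`, `χ₃₉ ≠ 1`, `χ₃₉ ∈ k`); the abstract lemma is
helper28's `t2er2h28_abs`, applied over the fixed field `kF f`.
-/

set_option autoImplicit false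
set_option linter.unusedVariables false

namespace Cfsg.Agent.Lib.helper3.T2E

open Cfsg.Lie Cfsg.Lie.ChevalleyDatum Matrix
open Cfsg.Agent.Lib.helper8 Cfsg.Agent.Lib.Helper10.TEM Cfsg.Agent.Lib.helper7.Ce
  Cfsg.Agent.Lib.helper15.St2

universe u

variable {K : Type u} [Field K] {q : ℕ} {f : K ≃+* K} {Γ : Type u} [Group Γ]
  {π : Γ →* ↥(twistedE6 K q)}

/-- [R1] core -/
theorem t2er1h1_core (hF : Frob q f) (hπ : IsCE π) {L : ℕ → K → Γ}
    (hL : ∀ r < 72, IsRootLift q π r (L r))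
    (hD13a : ∃ ε : K, (ε = 1 ∨ ε = -1) ∧ ∀ t u : K, cm (X 46 t) (X 39 u) = (X 47 (ε * (t * u)) : GG K))
    (hC3 : ∀ t u, Adm q 39 t → Adm q 47 u → CLm π (XT q 39 t) (XT q 47 u))
    (hsep : ∃ h ∈ T1 K q, h8chi chevE6 hB h 46 = 1 ∧ h8chi chevE6 hB h 39 ≠ 1 ∧
      (h8chi chevE6 hB h 39) ^ q = h8chi chevE6 hB h 39 ∧
      h8chi chevE6 hB h 47 = h8chi chevE6 hB h 46 * h8chi chevE6 hB h 39) :
    ∃ ε : K, (ε = 1 ∨ ε = -1) ∧ ∀ t u : K, t ^ q = t → u ^ q = u →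
      cm (L 46 t) (L 39 u) = L 47 (ε * (t * u)) := by
  obtain ⟨ε, hε, hrel⟩ := hD13a
  refine ⟨ε, hε, ?_⟩
  have f46 : h8sE6 46 = 46 := by decide
  have f39 : h8sE6 39 = 39 := by decide
  have f47 : h8sE6 47 = 47 := by decide
  have l46 := hL 46 (by norm_num)
  have l39 := hL 39 (by norm_num)
  have l47 := hL 47 (by norm_num)
  have hk : ∀ t : ↥(kF f), (t : K) ^ q = (t : K) := fun t => by
    have h := t.2
    change f (t : K) = (t : K) at h
    rw [hF.pow] at h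
    exact h
  have m46 : ∀ t : ↥(kF f), pm π (L 46 t) = X 46 (t : K) := fun t => by
    rw [l46.map t (fun _ => hk t)]; unfold XT; rw [if_pos f46]
  have m39 : ∀ t : ↥(kF f), pm π (L 39 t) = X 39 (t : K) := fun t => by
    rw [l39.map t (fun _ => hk t)]; unfold XT; rw [if_pos f39]
  have m47 : ∀ t : ↥(kF f), pm π (L 47 t) = X 47 (t : K) := fun t => by
    rw [l47.map t (fun _ => hk t)]; unfold XT; rw [if_pos f47]
  -- `ε` as an element of `k`
  obtain ⟨εk, hεk⟩ : ∃ εk : ↥(kF f), (εk : K) = ε := by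
    rcases hε with h | h
    · exact ⟨1, by rw [h]; rfl⟩
    · exact ⟨-1, by rw [h]; rfl⟩
  have hz : ∀ (s t : ↥(kF f)) (g : Γ),
      (cm (L 46 (s : K)) (L 39 (t : K)) * (L 47 ((εk * (s * t) : ↥(kF f)) : K))⁻¹) * g =
      g * (cm (L 46 (s : K)) (L 39 (t : K)) * (L 47 ((εk * (s * t) : ↥(kF f)) : K))⁻¹) := by
    intro s t g
    apply t2er2h28_ker hπ
    rw [map_mul, map_inv, map_cm, m46, m39, m47, hrel]
    have : ((εk * (s * t) : ↥(kF f)) : K) = ε * ((s : K) * (t : K)) := by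
      rw [← hεk]; rfl
    rw [this, mul_inv_cancel]
  obtain ⟨h, hh, h46, h39, h39q, h47⟩ := hsep
  obtain ⟨γ, hγ⟩ := hπ.surj ⟨h, hh.2⟩
  have hpm : pm π γ = h := by
    show ((π γ : ↥(twistedE6 K q)) : GG K) = h
    rw [hγ]
  have hdiag : pm π γ ∈ chevE6.diagonalSubgroup K := by rw [hpm]; exact hh.1
  -- the scalar `χ₃₉ h` as an element of `k`
  have hcmem : h8chi chevE6 hB h 39 ∈ kF f := by
    show f (h8chi chevE6 hB h 39) = h8chi chevE6 hB h 39
    rw [hF.pow]; exact h39q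
  have key := t2er2h28_abs (Γ' := Γ) (F := ↥(kF f)) (fun s => L 46 (s : K)) (fun t => L 39 (t : K))
    (fun v => L 47 (v : K)) εk
    (fun s t => l39.add s t (fun _ => hk s) (fun _ => hk t))
    (fun s t => l47.add s t (fun _ => hk s) (fun _ => hk t)) hz
    (fun t v => hC3 t v (fun _ => hk t) (fun _ => hk v) (L 39 t) (L 47 v)
      (l39.map t (fun _ => hk t)) (l47.map v (fun _ => hk v)))
    ⟨h8chi chevE6 hB h 39, hcmem⟩ (fun hc => h39 (congrArg Subtype.val hc)) ?_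
  · intro t u ht hu
    have ht' : t ∈ kF f := by show f t = t; rw [hF.pow]; exact ht
    have hu' : u ∈ kF f := by show f u = u; rw [hF.pow]; exact hu
    have := key ⟨t, ht'⟩ ⟨u, hu'⟩
    have e : ((εk * (⟨t, ht'⟩ * ⟨u, hu'⟩) : ↥(kF f)) : K) = ε * (t * u) := by
      rw [← hεk]; rfl
    simp only [] at this
    rw [e] at this
    exact this
  · intro s t
    have hcen := hz s t γ⁻¹
    have e1 : cm (L 46 (s : K)) (L 39 (t : K)) * (L 47 ((εk * (s * t) : ↥(kF f)) : K))⁻¹ =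
        γ * (cm (L 46 (s : K)) (L 39 (t : K)) * (L 47 ((εk * (s * t) : ↥(kF f)) : K))⁻¹) * γ⁻¹ := by
      rw [mul_assoc, hcen]; group
    show cm (L 46 (s : K)) (L 39 ((⟨h8chi chevE6 hB h 39, hcmem⟩ * t : ↥(kF f)) : K)) *
        (L 47 ((εk * (s * (⟨h8chi chevE6 hB h 39, hcmem⟩ * t)) : ↥(kF f)) : K))⁻¹ =
      cm (L 46 (s : K)) (L 39 (t : K)) * (L 47 ((εk * (s * t) : ↥(kF f)) : K))⁻¹
    rw [e1, t2er2h28_conj, l46.tor γ hdiag s (fun _ => hk s), l39.tor γ hdiag t (fun _ => hk t),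
      l47.tor γ hdiag _ (fun _ => hk _), hpm, h47, h46, one_mul, one_mul]
    congr 3
    show (εk : K) * ((s : K) * (h8chi chevE6 hB h 39 * (t : K))) =
      h8chi chevE6 hB h 39 * ((εk : K) * ((s : K) * (t : K)))
    ring

/-- the separating torus element `HT q 42 c`, `c ≠ 0`, `c * c ^ q ≠ 1`, from the statements of S0, D10b, D10c, D9 -/
theorem t2er1h1_sep (hF : Frob q f)
    (hS0 : ∃ c : K, c ≠ 0 ∧ c * c ^ q ≠ 1)
    (hmem : ∀ r : ℕ, r < 72 → ∀ c : K, c ≠ 0 → Adm q r c → HT q r c ∈ T1 K q)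
    (hchi : ∀ r : ℕ, r < 72 → ∀ c : K, c ≠ 0 → ∀ s : ℕ, s < 72 →
      h8chi chevE6 hB (HT q r c) s =
        if h8sE6 r = r then c ^ (h8K chevE6 r s)
        else c ^ (h8K chevE6 r s) * (c ^ q) ^ (h8K chevE6 (h8sE6 r) s))
    (hadd : ∀ h : GG K, h ∈ chevE6.diagonalSubgroup K → ∀ a b c : ℕ, a < 72 → b < 72 → c < 72 →
      (∀ i < 6, (chevE6.coroot.getD c #[]).getD i 0 =
        (chevE6.coroot.getD a #[]).getD i 0 + (chevE6.coroot.getD b #[]).getD i 0) →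
      h8chi chevE6 hB h c = h8chi chevE6 hB h a * h8chi chevE6 hB h b) :
    ∃ h ∈ T1 K q, h8chi chevE6 hB h 46 = 1 ∧ h8chi chevE6 hB h 39 ≠ 1 ∧
      (h8chi chevE6 hB h 39) ^ q = h8chi chevE6 hB h 39 ∧
      h8chi chevE6 hB h 47 = h8chi chevE6 hB h 46 * h8chi chevE6 hB h 39 := by
  obtain ⟨c, hc0, hc1⟩ := hS0
  have n42 : h8sE6 42 ≠ 42 := by decide
  have hT : HT q 42 c ∈ T1 K q := hmem 42 (by norm_num) c hc0 (fun h => absurd h n42)
  have hqq : (c ^ q) ^ q = c := by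
    have := hF.inv c
    rw [hF.pow, hF.pow] at this
    exact this
  have e39 : h8chi chevE6 hB (HT q 42 c) 39 = c⁻¹ * (c ^ q)⁻¹ := by
    rw [hchi 42 (by norm_num) c hc0 39 (by norm_num), if_neg n42]
    have h1 : h8K chevE6 42 39 = -1 := by decide
    have h2 : h8K chevE6 (h8sE6 42) 39 = -1 := by decide
    rw [h1, h2, _root_.zpow_neg, zpow_one, _root_.zpow_neg, zpow_one]
  refine ⟨HT q 42 c, hT, ?_, ?_, ?_, ?_⟩
  · rw [hchi 42 (by norm_num) c hc0 46 (by norm_num), if_neg n42]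
    have h1 : h8K chevE6 42 46 = 0 := by decide
    have h2 : h8K chevE6 (h8sE6 42) 46 = 0 := by decide
    rw [h1, h2, zpow_zero, zpow_zero, one_mul]
  · rw [e39, ← mul_inv]
    intro h
    exact hc1 (inv_eq_one.1 h)
  · rw [e39, mul_pow, inv_pow, inv_pow, hqq, mul_comm]
  · apply hadd (HT q 42 c) hT.1 46 39 47 (by norm_num) (by norm_num) (by norm_num)
    decide

end Cfsg.Agent.Lib.helper3.T2E
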