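import Mathlib
import Cfsg.Agent.Lib.helper3.T2E.Defs3

/-!
# T2E (S2108, designer helper3), row R5 (helper1): CORE of `wrel_reps` on the STATEMENTS of R1 R2 R3 R4 (for the given family `L`) and C3.
-/

set_option autoImplicit false
set_option linter.unusedVariables false

namespace Cfsg.Agent.Lib.helper3.T2E

open Cfsg.Lie Cfsg.Lie.ChevalleyDatum Matrix
open Cfsg.Agent.Lib.helper8 Cfsg.Agent.Lib.Helper10.TEM Cfsg.Agent.Lib.helper7.Ce
  Cfsg.Agent.Lib.helper15.St2

universe u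

variable {K : Type u} [Field K] {q : ℕ} {f : K ≃+* K} {Γ : Type u} [Group Γ]
  {π : Γ →* ↥(twistedE6 K q)}

theorem t2er5h1_fix : h8sE6 46 = 46 ∧ h8sE6 39 = 39 ∧ h8sE6 47 = 47 ∧ h8sE6 44 = 44 := by decide +kernel

theorem t2er5h1_cones : InCone 46 39 47 ∧ InCone 39 46 47 ∧ InCone 56 42 57 ∧ InCone 42 56 57 ∧ InCone 42 40 44 ∧ InCone 40 42 44 ∧
    InCone 39 42 43 ∧ InCone 39 42 44 ∧ InCone 42 39 43 ∧ InCone 42 39 44 := by decide +kernel

/-- `ε = ±1` is fixed by the Frobenius -/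
theorem t2er5h1_eps (hF : Frob q f) {ε : K} (hε : ε = 1 ∨ ε = -1) : ε ^ q = ε := by
  rcases hε with rfl | rfl
  · exact one_pow q
  · exact hF.neg

theorem t2er5h1_add_pow (hF : Frob q f) (a b : K) : (a + b) ^ q = a ^ q + b ^ q := by
  rw [← hF.pow, ← hF.pow, ← hF.pow, map_add]

/-- `cm b a` lies in a subgroup if `cm a b` does -/
theorem t2er5h1_swap {G : Type*} [Group G] {S : Subgroup G} {a b : G} (h : cm a b ∈ S) : cm b a ∈ S := by
  rw [← cm_inv_swap]
  exact S.inv_mem h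

/-- commuting lifts: the weak relation holds trivially -/
theorem t2er5h1_comm {L : ℕ → K → Γ} (hL : ∀ r < 72, IsRootLift q π r (L r)) (a b : ℕ) (ha : a < 72) (hb : b < 72)
    (h : ∀ t u, Adm q a t → Adm q b u → CLm π (XT q a t) (XT q b u)) : WRel q L a b ∧ WRel q L b a := by
  have key : ∀ t u, Adm q a t → Adm q b u → L a t * L b u = L b u * L a t := fun t u ht hu =>
    h t u ht hu (L a t) (L b u) ((hL a ha).map t ht) ((hL b hb).map u hu)
  constructor
  · intro t u ht hu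
    rw [cm_eq_one_iff.2 (key t u ht hu)]
    exact Subgroup.one_mem _
  · intro u t hu ht
    rw [cm_eq_one_iff.2 (key t u ht hu).symm]
    exact Subgroup.one_mem _

/-- the CORE of R5 -/
theorem t2er5h1_core (hF : Frob q f) {L : ℕ → K → Γ} (hL : ∀ r < 72, IsRootLift q π r (L r))
    (hR1 : ∃ ε : K, (ε = 1 ∨ ε = -1) ∧ ∀ t u : K, t ^ q = t → u ^ q = u →
      cm (L 46 t) (L 39 u) = L 47 (ε * (t * u)))
    (hR2 : ∃ ε : K, (ε = 1 ∨ ε = -1) ∧ ∀ t u : K, cm (L 56 t) (L 42 u) = L 57 (ε * (t * u)))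
    (hR3 : ∃ ε : K, (ε = 1 ∨ ε = -1) ∧
      ∀ t u : K, cm (L 42 t) (L 40 u) = L 44 (ε * (t * u + (t * u) ^ q)))
    (hR4 : ∃ ε ε' : K, (ε = 1 ∨ ε = -1) ∧ (ε' = 1 ∨ ε' = -1) ∧ ∀ t u : K, t ^ q = t →
      cm (L 39 t) (L 42 u) = L 43 (ε * (t * u)) * L 44 (ε' * (t * (u * u ^ q))))
    (hC3 : ∀ a b : ℕ, (a, b) ∈ [(42, 44), (40, 44), (46, 47), (39, 47), (56, 57), (42, 57), (39, 43), (39, 44),
      (44, 43), (39, 56)] → ∀ t u, Adm q a t → Adm q b u → CLm π (XT q a t) (XT q b u)) :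
    ∀ p ∈ repPairs, WRel q L p.1 p.2 := by
  obtain ⟨f46, f39, f47, f44⟩ := t2er5h1_fix
  obtain ⟨c1, c1', c2, c2', c3, c3', c4, c5, c4', c5'⟩ := t2er5h1_cones
  have hinv : ∀ t : K, (t ^ q) ^ q = t := fun t => by
    have := hF.inv t
    rw [hF.pow, hF.pow] at this
    exact this
  -- (46, 39)
  have w1 : WRel q L 46 39 := by
    obtain ⟨ε, hε, h⟩ := hR1
    intro t u ht hu
    rw [h t u (ht f46) (hu f39)]
    apply Subgroup.subset_closure
    refine ⟨47, c1, _, ?_, rfl⟩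
    intro _
    rw [mul_pow, mul_pow, t2er5h1_eps hF hε, ht f46, hu f39]
  have w1' : WRel q L 39 46 := by
    obtain ⟨ε, hε, h⟩ := hR1
    intro u t hu ht
    apply t2er5h1_swap
    rw [h t u (ht f46) (hu f39)]
    apply Subgroup.subset_closure
    refine ⟨47, c1', _, ?_, rfl⟩
    intro _
    rw [mul_pow, mul_pow, t2er5h1_eps hF hε, ht f46, hu f39]
  -- (56, 42)
  have n57 : h8sE6 57 ≠ 57 := by decide +kernel
  have n43 : h8sE6 43 ≠ 43 := by decide +kernel
  have w2 : WRel q L 56 42 := by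
    obtain ⟨ε, hε, h⟩ := hR2
    intro t u ht hu
    rw [h t u]
    apply Subgroup.subset_closure
    exact ⟨57, c2, _, fun h' => absurd h' n57, rfl⟩
  have w2' : WRel q L 42 56 := by
    obtain ⟨ε, hε, h⟩ := hR2
    intro u t hu ht
    apply t2er5h1_swap
    rw [h t u]
    apply Subgroup.subset_closure
    exact ⟨57, c2', _, fun h' => absurd h' n57, rfl⟩
  -- (42, 40)
  have a44 : ∀ (ε : K), (ε = 1 ∨ ε = -1) → ∀ w : K, Adm q 44 (ε * (w + w ^ q)) := by
    intro ε hε w _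
    rw [mul_pow, t2er5h1_add_pow hF, t2er5h1_eps hF hε, hinv, add_comm]
  have w3 : WRel q L 42 40 := by
    obtain ⟨ε, hε, h⟩ := hR3
    intro t u ht hu
    rw [h t u]
    apply Subgroup.subset_closure
    exact ⟨44, c3, _, a44 ε hε _, rfl⟩
  have w3' : WRel q L 40 42 := by
    obtain ⟨ε, hε, h⟩ := hR3
    intro u t hu ht
    apply t2er5h1_swap
    rw [h t u]
    apply Subgroup.subset_closure
    exact ⟨44, c3', _, a44 ε hε _, rfl⟩
  -- (39, 42)
  have a44' : ∀ (ε : K), (ε = 1 ∨ ε = -1) → ∀ t u : K, t ^ q = t → Adm q 44 (ε * (t * (u * u ^ q))) := by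
    intro ε hε t u ht _
    rw [mul_pow, mul_pow, mul_pow, t2er5h1_eps hF hε, hinv, ht, mul_comm (u ^ q) u]
  have w4 : WRel q L 39 42 := by
    obtain ⟨ε, ε', hε, hε', h⟩ := hR4
    intro t u ht hu
    rw [h t u (ht f39)]
    apply Subgroup.mul_mem
    · apply Subgroup.subset_closure
      exact ⟨43, c4, _, fun h' => absurd h' n43, rfl⟩
    · apply Subgroup.subset_closure
      exact ⟨44, c5, _, a44' ε' hε' t u (ht f39), rfl⟩
  have w4' : WRel q L 42 39 := by
    obtain ⟨ε, ε', hε, hε', h⟩ := hR4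
    intro u t hu ht
    apply t2er5h1_swap
    rw [h t u (ht f39)]
    apply Subgroup.mul_mem
    · apply Subgroup.subset_closure
      exact ⟨43, c4', _, fun h' => absurd h' n43, rfl⟩
    · apply Subgroup.subset_closure
      exact ⟨44, c5', _, a44' ε' hε' t u (ht f39), rfl⟩
  -- the commuting pairs
  have k1 := t2er5h1_comm hL 46 47 (by norm_num) (by norm_num) (hC3 46 47 (by simp))
  have k2 := t2er5h1_comm hL 39 44 (by norm_num) (by norm_num) (hC3 39 44 (by simp))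
  have k3 := t2er5h1_comm hL 42 44 (by norm_num) (by norm_num) (hC3 42 44 (by simp))
  have k4 := t2er5h1_comm hL 39 56 (by norm_num) (by norm_num) (hC3 39 56 (by simp))
  have k5 := t2er5h1_comm hL 56 57 (by norm_num) (by norm_num) (hC3 56 57 (by simp))
  intro p hp
  unfold repPairs at hp
  simp only [List.mem_cons, List.mem_nil_iff, or_false] at hp
  rcases hp with rfl | rfl | rfl | rfl | rfl | rfl | rfl | rfl | rfl | rfl | rfl | rfl | rfl | rfl | rfl | rfl | rfl | rfl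
  · exact w1
  · exact w1'
  · exact w2
  · exact w2'
  · exact w3
  · exact w3'
  · exact w4
  · exact w4'
  · exact k1.1
  · exact k1.2
  · exact k2.1
  · exact k2.2
  · exact k3.2
  · exact k3.1
  · exact k4.1
  · exact k4.2
  · exact k5.1
  · exact k5.2

end Cfsg.Agent.Lib.helper3.T2E
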