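import Mathlib
import Cfsg.Agent.Lib.helper3.T2E.Defs3
import Cfsg.Agent.Lib.Helper16.TEMC6
import Cfsg.Agent.Lib.Helper12.TEMG1
import Cfsg.Agent.Lib.Helper1.T2ER5core

/-!
# T2E (S2108, designer helper3), row R7 (helper1): CORE of `wrel_step` on the STATEMENTS of U5 `family_equi` (for the given family `L`) and R6 `cone_wk`.
-/

set_option autoImplicit false
set_option linter.unusedVariables false

namespace Cfsg.Agent.Lib.helper3.T2E

open Cfsg.Lie Cfsg.Lie.ChevalleyDatum Matrix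
open Cfsg.Agent.Lib.helper8 Cfsg.Agent.Lib.Helper10.TEM Cfsg.Agent.Lib.helper7.Ce
  Cfsg.Agent.Lib.helper15.St2

universe u

variable {K : Type u} [Field K] {q : ℕ} {f : K ≃+* K} {Γ : Type u} [Group Γ]
  {π : Γ →* ↥(twistedE6 K q)}

/-- the simple reflections of the twisted Weyl group on the root indices: involutions commuting with `σ` -/
theorem t2er7h1_data : ∀ k < 4, (∀ i ∈ orbW k, i < 6) ∧
    ∀ r < 72, wk k r < 72 ∧ h8sE6 (wk k r) = wk k (h8sE6 r) ∧ wk k (wk k r) = r := by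
  decide +kernel

/-- the CORE of R7 -/
theorem t2er7h1_core (hF : Frob q f) (hπ : IsCE π) {L : ℕ → K → Γ}
    (hU5 : ∀ γ : Γ, pm π γ ∈ chevE6.monomialSubgroup K → ∀ r < 72, ∀ r' < 72, ∀ κ : K,
      (∀ t, pm π γ * X r t * (pm π γ)⁻¹ = X r' (κ * t)) →
        ∀ t, Adm q r t → γ * L r t * γ⁻¹ = L r' (κ * t))
    (hR6 : ∀ k < 4, ∀ a < 72, ∀ b < 72, ∀ c, InCone a b c → InCone (wk k a) (wk k b) (wk k c))
    (k : ℕ) (hk : k < 4) (a b : ℕ) (ha : a < 72) (hb : b < 72) (h : WRel q L a b) :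
    WRel q L (wk k a) (wk k b) := by
  obtain ⟨hw, hdat⟩ := t2er7h1_data k hk
  obtain ⟨γ, hγ⟩ := hπ.surj ⟨nW (orbW k), temg1_orbW_mem hF k⟩
  have hpm : pm π γ = nW (orbW k) := by
    unfold pm
    rw [MonoidHom.comp_apply, hγ]
    rfl
  have hmon : pm π γ ∈ chevE6.monomialSubgroup K := by
    rw [hpm]
    exact h8nWU_mem_N chevE6 hB hA (orbW k) (by rw [temc6_rank]; exact hw)
  have htr : ∀ r < 72, ∃ κ : K, (κ = 1 ∨ κ = -1) ∧ ∀ t, Adm q r t → γ * L r t * γ⁻¹ = L (wk k r) (κ * t) := by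
    intro r hr
    obtain ⟨κ, hκ, h1, _⟩ := nW_X (K := K) (orbW k) hw r hr
    refine ⟨κ, hκ, fun t ht => ?_⟩
    exact hU5 γ hmon r hr (wk k r) (hdat r hr).1 κ (fun t => by rw [hpm]; exact h1 t) t ht
  have hadm : ∀ r < 72, ∀ κ : K, (κ = 1 ∨ κ = -1) → ∀ t, Adm q (wk k r) t → Adm q r (κ * t) := by
    intro r hr κ hκ t ht hfix
    have hfix' : h8sE6 (wk k r) = wk k r := by rw [(hdat r hr).2.1, hfix]
    rw [mul_pow, t2er5h1_eps hF hκ, ht hfix']
  have hadm' : ∀ r < 72, ∀ κ : K, (κ = 1 ∨ κ = -1) → ∀ t, Adm q r t → Adm q (wk k r) (κ * t) := by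
    intro r hr κ hκ t ht hfix
    have h1 : wk k (h8sE6 r) = wk k r := by rw [← (hdat r hr).2.1, hfix]
    have h2 : h8sE6 r = r := by
      have h3 := congrArg (wk k) h1
      rw [(hdat (h8sE6 r) (root_data r hr).2.2.1).2.2, (hdat r hr).2.2] at h3
      exact h3
    rw [mul_pow, t2er5h1_eps hF hκ, ht h2]
  obtain ⟨κa, hκa, hta⟩ := htr a ha
  obtain ⟨κb, hκb, htb⟩ := htr b hb
  intro t' u' ht' hu'
  have hκκ : ∀ κ : K, (κ = 1 ∨ κ = -1) → ∀ x : K, κ * (κ * x) = x := by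
    rintro κ (rfl | rfl) x <;> simp
  have e1 := hta (κa * t') (hadm a ha κa hκa t' ht')
  have e2 := htb (κb * u') (hadm b hb κb hκb u' hu')
  rw [hκκ κa hκa] at e1
  rw [hκκ κb hκb] at e2
  rw [← e1, ← e2]
  have hcj : cm (γ * L a (κa * t') * γ⁻¹) (γ * L b (κb * u') * γ⁻¹) =
      γ * cm (L a (κa * t')) (L b (κb * u')) * γ⁻¹ := by
    unfold cm
    group
  rw [hcj]
  have hmem := h (κa * t') (κb * u') (hadm a ha κa hκa t' ht') (hadm b hb κb hκb u' hu')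
  have hconj : ∀ g ∈ Subgroup.closure {g : Γ | ∃ c, InCone a b c ∧ ∃ v, Adm q c v ∧ g = L c v},
      γ * g * γ⁻¹ ∈ Subgroup.closure {g : Γ | ∃ c, InCone (wk k a) (wk k b) c ∧ ∃ v, Adm q c v ∧ g = L c v} := by
    intro g hg
    induction hg using Subgroup.closure_induction with
    | mem x hx =>
      obtain ⟨c, hc, v, hv, rfl⟩ := hx
      obtain ⟨κc, hκc, htc⟩ := htr c hc.1
      rw [htc v hv]
      exact Subgroup.subset_closure ⟨wk k c, hR6 k hk a ha b hb c hc, κc * v, hadm' c hc.1 κc hκc v hv, rfl⟩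
    | one =>
      rw [mul_one, mul_inv_cancel]
      exact Subgroup.one_mem _
    | mul x y _ _ hx hy =>
      have e : γ * (x * y) * γ⁻¹ = (γ * x * γ⁻¹) * (γ * y * γ⁻¹) := by group
      rw [e]
      exact Subgroup.mul_mem _ hx hy
    | inv x _ hx =>
      have e : γ * x⁻¹ * γ⁻¹ = (γ * x * γ⁻¹)⁻¹ := by group
      rw [e]
      exact Subgroup.inv_mem _ hx
  exact hconj _ hmem

end Cfsg.Agent.Lib.helper3.T2E
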