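import Mathlib
import Cfsg.Agent.Lib.helper17.T3.Defs
import Cfsg.Agent.Lib.Helper19.T3A.Defs
import Cfsg.Agent.Lib.Helper19.T3A.Comb

/-!
# T3A row U0 (helper1): trivialities on a Steinberg system of type `³D₄` (VERBATIM vs `Helper19/T3A/Skel.lean.txt`),
plus generic extras `t3au0h1_*` used by the rows U1-U4: the root groups as homomorphisms, "closure induction for normalization"
and "`closure (X ∪ V) = X * V` if `X` normalizes `V`".
-/

set_option autoImplicit false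

namespace Cfsg.Agent.Lib.helper17.T3

open Cfsg.Agent.Lib.helper15.St2 Cfsg.Agent.Lib.helper7.Ce Cfsg.Agent.Lib.Helper19.T3A

variable {F K : Type*} [Field F] [Field K] [Algebra F K]

namespace SysT

variable {C : Cub F K} {Γ : Type*} [Group Γ] (Q : SysT C Γ)

-- ROW U0
theorem xs_zero (k : ZMod 6) : Q.xs k 0 = 1 := by
  have h := Q.adds k 0 0
  rw [add_zero] at h
  exact mul_left_cancel (a := Q.xs k 0) (by rw [h, mul_one])

theorem xl_zero (k : ZMod 6) : Q.xl k 0 = 1 := by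
  have h := Q.addl k 0 0
  rw [add_zero] at h
  exact mul_left_cancel (a := Q.xl k 0) (by rw [h, mul_one])

theorem xs_neg (k : ZMod 6) (t : K) : Q.xs k (-t) = (Q.xs k t)⁻¹ := by
  apply eq_inv_of_mul_eq_one_right
  rw [Q.adds, add_neg_cancel, Q.xs_zero]

theorem xl_neg (k : ZMod 6) (c : F) : Q.xl k (-c) = (Q.xl k c)⁻¹ := by
  apply eq_inv_of_mul_eq_one_right
  rw [Q.addl, add_neg_cancel, Q.xl_zero]

theorem xs_mem_UU {Ps Pl : ZMod 6 → Prop} {k : ZMod 6} (hk : Ps k) (t : K) : Q.xs k t ∈ Q.UU Ps Pl :=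
  Subgroup.subset_closure (Or.inl ⟨k, t, hk, rfl⟩)

theorem xl_mem_UU {Ps Pl : ZMod 6 → Prop} {k : ZMod 6} (hk : Pl k) (c : F) : Q.xl k c ∈ Q.UU Ps Pl :=
  Subgroup.subset_closure (Or.inr ⟨k, c, hk, rfl⟩)

theorem UU_mono {Ps Pl Ps' Pl' : ZMod 6 → Prop} (hs : ∀ k, Ps k → Ps' k) (hl : ∀ k, Pl k → Pl' k) : Q.UU Ps Pl ≤ Q.UU Ps' Pl' := by
  apply Subgroup.closure_mono
  rintro g (⟨k, t, hk, rfl⟩ | ⟨k, c, hk, rfl⟩)
  · exact Or.inl ⟨k, t, hs k hk, rfl⟩
  · exact Or.inr ⟨k, c, hl k hk, rfl⟩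

theorem hs_one (k : ZMod 6) : Q.hs k 1 = 1 := by
  unfold hs
  exact mul_inv_cancel _

theorem hl_one (k : ZMod 6) : Q.hl k 1 = 1 := by
  unfold hl
  exact mul_inv_cancel _

theorem ws_eq (k : ZMod 6) (t : K) : Q.ws k t = Q.hs k t * Q.ws k 1 := by
  unfold hs
  rw [inv_mul_cancel_right]

theorem wl_eq (k : ZMod 6) (c : F) : Q.wl k c = Q.hl k c * Q.wl k 1 := by
  unfold hl
  rw [inv_mul_cancel_right]

/-! ## extras -/

/-- the short root group as a homomorphism -/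
def t3au0h1_xsHom (k : ZMod 6) : Multiplicative K →* Γ where
  toFun t := Q.xs k (Multiplicative.toAdd t)
  map_one' := Q.xs_zero k
  map_mul' _ _ := (Q.adds k _ _).symm

/-- the long root group as a homomorphism -/
def t3au0h1_xlHom (k : ZMod 6) : Multiplicative F →* Γ where
  toFun c := Q.xl k (Multiplicative.toAdd c)
  map_one' := Q.xl_zero k
  map_mul' _ _ := (Q.addl k _ _).symm

/-- the short root group `{xs k t}` -/
def t3au0h1_XS (k : ZMod 6) : Subgroup Γ := (Q.t3au0h1_xsHom k).range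

/-- the long root group `{xl k c}` -/
def t3au0h1_XL (k : ZMod 6) : Subgroup Γ := (Q.t3au0h1_xlHom k).range

theorem t3au0h1_mem_XS (k : ZMod 6) (x : Γ) : x ∈ Q.t3au0h1_XS k ↔ ∃ t : K, x = Q.xs k t := by
  unfold t3au0h1_XS
  rw [MonoidHom.mem_range]
  constructor
  · rintro ⟨t, rfl⟩
    exact ⟨Multiplicative.toAdd t, rfl⟩
  · rintro ⟨t, rfl⟩
    exact ⟨Multiplicative.ofAdd t, rfl⟩

theorem t3au0h1_mem_XL (k : ZMod 6) (x : Γ) : x ∈ Q.t3au0h1_XL k ↔ ∃ c : F, x = Q.xl k c := by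
  unfold t3au0h1_XL
  rw [MonoidHom.mem_range]
  constructor
  · rintro ⟨t, rfl⟩
    exact ⟨Multiplicative.toAdd t, rfl⟩
  · rintro ⟨t, rfl⟩
    exact ⟨Multiplicative.ofAdd t, rfl⟩

/-- `cj x y = cm x y * y` -/
theorem t3au0h1_cj_eq_cm (x y : Γ) : cj x y = cm x y * y := by
  unfold cj cm
  group

/-- `cj x y = y` for commuting elements -/
theorem t3au0h1_cj_of_comm {x y : Γ} (h : x * y = y * x) : cj x y = y := by
  unfold cj
  rw [h, mul_inv_cancel_right]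

/-- closure induction for "`x` normalizes `UU Ps Pl`" (into a possibly different subgroup `V`) -/
theorem t3au0h1_cj_mem_of_gens (x : Γ) (Ps Pl : ZMod 6 → Prop) (V : Subgroup Γ)
    (hs : ∀ k t, Ps k → cj x (Q.xs k t) ∈ V) (hl : ∀ k c, Pl k → cj x (Q.xl k c) ∈ V) :
    ∀ v ∈ Q.UU Ps Pl, cj x v ∈ V := by
  intro v hv
  unfold UU at hv
  induction hv using Subgroup.closure_induction with
  | mem g hg =>
    rcases hg with ⟨k, t, hk, rfl⟩ | ⟨k, c, hk, rfl⟩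
    · exact hs k t hk
    · exact hl k c hk
  | one => rw [cj_one]; exact V.one_mem
  | mul a b _ _ ha hb => rw [cj_mul]; exact V.mul_mem ha hb
  | inv a _ ha => rw [cj_inv]; exact V.inv_mem ha

/-- if the subgroup `X` normalizes the subgroup `V` and every generator lies in `X` or in `V`, then the closure is `X * V` -/
theorem t3au0h1_closure_mul (X V : Subgroup Γ) (S : Set Γ) (hS : ∀ g ∈ S, g ∈ X ∨ g ∈ V)
    (hn : ∀ x ∈ X, ∀ v ∈ V, cj x v ∈ V) : ∀ u ∈ Subgroup.closure S, ∃ x ∈ X, ∃ v ∈ V, u = x * v := by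
  intro u hu
  induction hu using Subgroup.closure_induction with
  | mem g hg =>
    rcases hS g hg with h | h
    · exact ⟨g, h, 1, V.one_mem, (mul_one g).symm⟩
    · exact ⟨1, X.one_mem, g, h, (one_mul g).symm⟩
  | one => exact ⟨1, X.one_mem, 1, V.one_mem, (mul_one 1).symm⟩
  | mul a b _ _ ha hb =>
    obtain ⟨x, hx, v, hv, rfl⟩ := ha
    obtain ⟨x', hx', v', hv', rfl⟩ := hb
    refine ⟨x * x', X.mul_mem hx hx', cj x'⁻¹ v * v', V.mul_mem (hn _ (X.inv_mem hx') _ hv) hv', ?_⟩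
    unfold cj
    group
  | inv a _ ha =>
    obtain ⟨x, hx, v, hv, rfl⟩ := ha
    refine ⟨x⁻¹, X.inv_mem hx, cj x v⁻¹, hn _ hx _ (V.inv_mem hv), ?_⟩
    unfold cj
    group

/-- the same in the order `V * X` -/
theorem t3au0h1_closure_mul' (X V : Subgroup Γ) (S : Set Γ) (hS : ∀ g ∈ S, g ∈ X ∨ g ∈ V)
    (hn : ∀ x ∈ X, ∀ v ∈ V, cj x v ∈ V) : ∀ u ∈ Subgroup.closure S, ∃ v ∈ V, ∃ x ∈ X, u = v * x := by
  intro u hu
  obtain ⟨x, hx, v, hv, rfl⟩ := t3au0h1_closure_mul X V S hS hn u hu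
  refine ⟨cj x v, hn x hx v hv, x, hx, ?_⟩
  unfold cj
  group

end SysT

end Cfsg.Agent.Lib.helper17.T3
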