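import Mathlib
import Cfsg.Agent.Lib.helper17.T3.Defs
import Cfsg.Agent.Lib.Helper19.T3A.Defs
import Cfsg.Agent.Lib.Helper19.T3A.Comb
import Cfsg.Agent.Lib.Helper1.T3AU0

/-!
# T3A row U3 (helper1): the root groups of `± s` (VERBATIM vs `Helper19/T3A/Skel.lean.txt`).
Extras: `t3au3h1_UU_single_S`, `t3au3h1_UU_single_L` (a `UU` with a single root is the root group).
-/

set_option autoImplicit false

namespace Cfsg.Agent.Lib.helper17.T3

open Cfsg.Agent.Lib.helper15.St2 Cfsg.Agent.Lib.helper7.Ce Cfsg.Agent.Lib.Helper19.T3A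

variable {F K : Type*} [Field F] [Field K] [Algebra F K]

namespace SysT

variable {C : Cub F K} {Γ : Type*} [Group Γ] (Q : SysT C Γ)

/-- a `UU` with the single short root `k₀` -/
theorem t3au3h1_UU_single_S (Ps Pl : ZMod 6 → Prop) (k₀ : ZMod 6) (hs : ∀ k, Ps k ↔ k = k₀) (hl : ∀ k, ¬ Pl k) (x : Γ) :
    x ∈ Q.UU Ps Pl ↔ ∃ t : K, x = Q.xs k₀ t := by
  constructor
  · intro hx
    rw [← Q.t3au0h1_mem_XS]
    have hle : Q.UU Ps Pl ≤ Q.t3au0h1_XS k₀ := by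
      unfold UU
      rw [Subgroup.closure_le]
      rintro g (⟨k, t, hk, rfl⟩ | ⟨k, c, hk, rfl⟩)
      · rw [(hs k).1 hk]
        exact (Q.t3au0h1_mem_XS k₀ _).2 ⟨t, rfl⟩
      · exact absurd hk (hl k)
    exact hle hx
  · rintro ⟨t, rfl⟩
    exact Q.xs_mem_UU ((hs k₀).2 rfl) t

/-- a `UU` with the single long root `k₀` -/
theorem t3au3h1_UU_single_L (Ps Pl : ZMod 6 → Prop) (k₀ : ZMod 6) (hs : ∀ k, ¬ Ps k) (hl : ∀ k, Pl k ↔ k = k₀) (x : Γ) :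
    x ∈ Q.UU Ps Pl ↔ ∃ c : F, x = Q.xl k₀ c := by
  constructor
  · intro hx
    rw [← Q.t3au0h1_mem_XL]
    have hle : Q.UU Ps Pl ≤ Q.t3au0h1_XL k₀ := by
      unfold UU
      rw [Subgroup.closure_le]
      rintro g (⟨k, t, hk, rfl⟩ | ⟨k, c, hk, rfl⟩)
      · exact absurd hk (hs k)
      · rw [(hl k).1 hk]
        exact (Q.t3au0h1_mem_XL k₀ _).2 ⟨c, rfl⟩
    exact hle hx
  · rintro ⟨c, rfl⟩
    exact Q.xl_mem_UU ((hl k₀).2 rfl) c

-- ROW U3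
theorem mem_Xs_true (x : Γ) : x ∈ Q.Xs true ↔ ∃ t : K, x = Q.xs 0 t := by
  unfold Xs
  exact Q.t3au3h1_UU_single_S _ _ 0 (fun k => by simp) (fun k => by simp) x

theorem mem_Xs_false (x : Γ) : x ∈ Q.Xs false ↔ ∃ c : F, x = Q.xl 2 c := by
  unfold Xs
  exact Q.t3au3h1_UU_single_L _ _ 2 (fun k => by simp) (fun k => by simp) x

theorem mem_Ys_true (x : Γ) : x ∈ Q.Ys true ↔ ∃ t : K, x = Q.xs 3 t := by
  unfold Ys
  exact Q.t3au3h1_UU_single_S _ _ 3 (fun k => by simp) (fun k => by simp) x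

theorem mem_Ys_false (x : Γ) : x ∈ Q.Ys false ↔ ∃ c : F, x = Q.xl 5 c := by
  unfold Ys
  exact Q.t3au3h1_UU_single_L _ _ 5 (fun k => by simp) (fun k => by simp) x

end SysT

end Cfsg.Agent.Lib.helper17.T3
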