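import Mathlib
import Cfsg.Agent.Lib.helper17.T3.Defs
import Cfsg.Agent.Lib.Helper19.T3A.Defs
import Cfsg.Agent.Lib.Helper19.T3A.Comb
import Cfsg.Agent.Lib.Helper1.T3AU0
import Cfsg.Agent.Lib.Helper1.T3AU3

/-!
# T3A row U1 (helper1): the root group `X_s` normalizes `U_s` (VERBATIM vs `Helper19/T3A/Skel.lean.txt`).
-/

set_option autoImplicit false

namespace Cfsg.Agent.Lib.helper17.T3

open Cfsg.Agent.Lib.helper15.St2 Cfsg.Agent.Lib.helper7.Ce Cfsg.Agent.Lib.Helper19.T3A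

variable {F K : Type*} [Field F] [Field K] [Algebra F K]

namespace SysT

variable {C : Cub F K} {Γ : Type*} [Group Γ] (Q : SysT C Γ)

theorem t3au1h1_e01 : (0 : ZMod 6) + 1 = 1 := by decide
theorem t3au1h1_e02 : (0 : ZMod 6) + 2 = 2 := by decide
theorem t3au1h1_e11 : (1 : ZMod 6) + 1 = 2 := by decide

/-- `X_a = S_0` normalizes `U_a` -/
theorem t3au1h1_true (t : K) : ∀ v ∈ Q.Us true, cj (Q.xs 0 t) v ∈ Q.Us true := by
  have mS1 : ∀ u, Q.xs 1 u ∈ Q.Us true := fun u => Q.xs_mem_UU (by decide) u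
  have mS2 : ∀ u, Q.xs 2 u ∈ Q.Us true := fun u => Q.xs_mem_UU (by decide) u
  have mL0 : ∀ c, Q.xl 0 c ∈ Q.Us true := fun c => Q.xl_mem_UU (by decide) c
  have mL1 : ∀ c, Q.xl 1 c ∈ Q.Us true := fun c => Q.xl_mem_UU (by decide) c
  have mL2 : ∀ c, Q.xl 2 c ∈ Q.Us true := fun c => Q.xl_mem_UU (by decide) c
  apply Q.t3au0h1_cj_mem_of_gens (Q.xs 0 t) (usS true) (usL true) (Q.Us true)
  · rintro k u ⟨(rfl | rfl | rfl), h2⟩
    · exact absurd rfl (h2 rfl)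
    · rw [t3au0h1_cj_eq_cm]
      have h := Q.ss1 0 t u
      rw [t3au1h1_e01] at h
      rw [h]
      exact (Q.Us true).mul_mem (mL0 _) (mS1 _)
    · rw [t3au0h1_cj_eq_cm]
      have h := Q.ss2 0 t u
      rw [t3au1h1_e01, t3au1h1_e02] at h
      rw [h]
      exact (Q.Us true).mul_mem ((Q.Us true).mul_mem ((Q.Us true).mul_mem (mL0 _) (mS1 _)) (mL1 _)) (mS2 _)
  · rintro k c ⟨(rfl | rfl | rfl), -⟩
    · rw [t3au0h1_cj_of_comm (Q.c_sl0 0 t c)]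
      exact mL0 _
    · have h := Q.c_sl1 0 t c
      rw [t3au1h1_e01] at h
      rw [t3au0h1_cj_of_comm h]
      exact mL1 _
    · rw [t3au0h1_cj_eq_cm]
      have h := Q.sl 0 t c
      rw [t3au1h1_e01, t3au1h1_e02] at h
      rw [h]
      exact (Q.Us true).mul_mem ((Q.Us true).mul_mem ((Q.Us true).mul_mem ((Q.Us true).mul_mem (mL0 _) (mS1 _)) (mL1 _)) (mS2 _)) (mL2 _)

/-- `X_b = L_2` normalizes `U_b` -/
theorem t3au1h1_false (c : F) : ∀ v ∈ Q.Us false, cj (Q.xl 2 c) v ∈ Q.Us false := by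
  have mS0 : ∀ u, Q.xs 0 u ∈ Q.Us false := fun u => Q.xs_mem_UU (by decide) u
  have mS1 : ∀ u, Q.xs 1 u ∈ Q.Us false := fun u => Q.xs_mem_UU (by decide) u
  have mS2 : ∀ u, Q.xs 2 u ∈ Q.Us false := fun u => Q.xs_mem_UU (by decide) u
  have mL0 : ∀ c, Q.xl 0 c ∈ Q.Us false := fun c => Q.xl_mem_UU (by decide) c
  have mL1 : ∀ c, Q.xl 1 c ∈ Q.Us false := fun c => Q.xl_mem_UU (by decide) c
  apply Q.t3au0h1_cj_mem_of_gens (Q.xl 2 c) (usS false) (usL false) (Q.Us false)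
  · rintro k u ⟨(rfl | rfl | rfl), -⟩
    · rw [t3au0h1_cj_eq_cm, ← cm_inv_swap]
      have h := Q.sl 0 u c
      rw [t3au1h1_e01, t3au1h1_e02] at h
      rw [h]
      exact (Q.Us false).mul_mem ((Q.Us false).inv_mem
        ((Q.Us false).mul_mem ((Q.Us false).mul_mem ((Q.Us false).mul_mem (mL0 _) (mS1 _)) (mL1 _)) (mS2 _))) (mS0 _)
    · have h := Q.c_sl1 1 u c
      rw [t3au1h1_e11] at h
      rw [t3au0h1_cj_of_comm h.symm]
      exact mS1 _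
    · rw [t3au0h1_cj_of_comm (Q.c_sl0 2 u c).symm]
      exact mS2 _
  · rintro k d ⟨(rfl | rfl | rfl), h2⟩
    · rw [t3au0h1_cj_eq_cm, ← cm_inv_swap]
      have h := Q.ll 0 d c
      rw [t3au1h1_e01, t3au1h1_e02] at h
      rw [h]
      exact (Q.Us false).mul_mem ((Q.Us false).inv_mem (mL1 _)) (mL0 _)
    · have h := Q.c_ll1 1 d c
      rw [t3au1h1_e11] at h
      rw [t3au0h1_cj_of_comm h.symm]
      exact mL1 _
    · exact absurd rfl (h2 rfl)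

-- ROW U1
theorem Xs_normalizes_Us (s : Bool) : ∀ x ∈ Q.Xs s, ∀ v ∈ Q.Us s, cj x v ∈ Q.Us s := by
  cases s
  · intro x hx
    obtain ⟨c, rfl⟩ := (Q.mem_Xs_false x).1 hx
    exact Q.t3au1h1_false c
  · intro x hx
    obtain ⟨t, rfl⟩ := (Q.mem_Xs_true x).1 hx
    exact Q.t3au1h1_true t

end SysT

end Cfsg.Agent.Lib.helper17.T3
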