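import Mathlib
import Cfsg.Agent.Lib.helper17.T3.Defs
import Cfsg.Agent.Lib.Helper19.T3A.Defs
import Cfsg.Agent.Lib.Helper19.T3A.Comb
import Cfsg.Agent.Lib.Helper1.T3AU0
import Cfsg.Agent.Lib.Helper1.T3AU3
import Cfsg.Agent.Lib.Helper1.T3AU1

/-!
# T3A row U2 (helper1): `U = U_s X_s` (VERBATIM vs `Helper19/T3A/Skel.lean.txt`).
-/

set_option autoImplicit false

namespace Cfsg.Agent.Lib.helper17.T3

open Cfsg.Agent.Lib.helper15.St2 Cfsg.Agent.Lib.helper7.Ce Cfsg.Agent.Lib.Helper19.T3A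

variable {F K : Type*} [Field F] [Field K] [Algebra F K]

namespace SysT

variable {C : Cub F K} {Γ : Type*} [Group Γ] (Q : SysT C Γ)

-- ROW U2
theorem U_eq_Us_mul_Xs (s : Bool) : ∀ u ∈ Q.U, ∃ v ∈ Q.Us s, ∃ x ∈ Q.Xs s, u = v * x := by
  intro u hu
  unfold U UU at hu
  refine t3au0h1_closure_mul' (Q.Xs s) (Q.Us s) _ ?_ (Q.Xs_normalizes_Us s) u hu
  rintro g (⟨k, t, hk, rfl⟩ | ⟨k, c, hk, rfl⟩)
  · rcases pos_cases_S s k hk with h | h
    · exact Or.inr (Q.xs_mem_UU h t)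
    · exact Or.inl (Q.xs_mem_UU (Ps := fun j => s = true ∧ j = 0) h t)
  · rcases pos_cases_L s k hk with h | h
    · exact Or.inr (Q.xl_mem_UU h c)
    · exact Or.inl (Q.xl_mem_UU (Pl := fun j => s = false ∧ j = 2) h c)

theorem Us_le_U (s : Bool) : Q.Us s ≤ Q.U :=
  Q.UU_mono (usS_pos s) (usL_pos s)

theorem Xs_le_U (s : Bool) : Q.Xs s ≤ Q.U := by
  apply Q.UU_mono
  · rintro k ⟨-, rfl⟩
    exact Or.inl rfl
  · rintro k ⟨-, rfl⟩
    exact Or.inr (Or.inr rfl)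

end SysT

end Cfsg.Agent.Lib.helper17.T3
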