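import Mathlib
import Cfsg.Agent.Lib.helper17.T3.Defs
import Cfsg.Agent.Lib.Helper19.T3A.Defs
import Cfsg.Agent.Lib.Helper19.T3A.Comb
import Cfsg.Agent.Lib.Helper1.T3AU0
import Cfsg.Agent.Lib.Helper1.T3AU3
import Cfsg.Agent.Lib.Helper1.T3AU1

/-!
# T3A row U4 (helper1): the normal form `u = xs 0 * xl 0 * xs 1 * xl 1 * xs 2 * xl 2` of the elements of `U` (VERBATIM vs `Helper19/T3A/Skel.lean.txt`).
Five times "`closure (X ∪ V) = X * V` for a root group `X` normalizing `V`" (`t3au0h1_closure_mul`).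
-/

set_option autoImplicit false

namespace Cfsg.Agent.Lib.helper17.T3

open Cfsg.Agent.Lib.helper15.St2 Cfsg.Agent.Lib.helper7.Ce Cfsg.Agent.Lib.Helper19.T3A

variable {F K : Type*} [Field F] [Field K] [Algebra F K]

namespace SysT

variable {C : Cub F K} {Γ : Type*} [Group Γ] (Q : SysT C Γ)

/-- `V₂ = ⟨S_1, S_2, L_1, L_2⟩` -/
def t3au4h1_V2 : Subgroup Γ := Q.UU (fun j => j = 1 ∨ j = 2) (fun j => j = 1 ∨ j = 2)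

/-- `V₃ = ⟨S_2, L_1, L_2⟩` -/
def t3au4h1_V3 : Subgroup Γ := Q.UU (fun j => j = 2) (fun j => j = 1 ∨ j = 2)

/-- `V₄ = ⟨S_2, L_2⟩` -/
def t3au4h1_V4 : Subgroup Γ := Q.UU (fun j => j = 2) (fun j => j = 2)

/-- step 1: `U = S_0 * U_a` -/
theorem t3au4h1_step1 : ∀ u ∈ Q.U, ∃ s0 : K, ∃ v ∈ Q.Us true, u = Q.xs 0 s0 * v := by
  intro u hu
  unfold U UU at hu
  have key : ∃ x ∈ Q.t3au0h1_XS 0, ∃ v ∈ Q.Us true, u = x * v := by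
    refine t3au0h1_closure_mul (Q.t3au0h1_XS 0) (Q.Us true) _ ?_ ?_ u hu
    · rintro g (⟨k, t, hk, rfl⟩ | ⟨k, c, hk, rfl⟩)
      · rcases pos_cases_S true k hk with h | ⟨-, rfl⟩
        · exact Or.inr (Q.xs_mem_UU h t)
        · exact Or.inl ((Q.t3au0h1_mem_XS 0 _).2 ⟨t, rfl⟩)
      · rcases pos_cases_L true k hk with h | ⟨h, -⟩
        · exact Or.inr (Q.xl_mem_UU h c)
        · exact absurd h (by decide)
    · intro x hx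
      obtain ⟨t, rfl⟩ := (Q.t3au0h1_mem_XS 0 x).1 hx
      exact Q.t3au1h1_true t
  obtain ⟨x, hx, v, hv, rfl⟩ := key
  obtain ⟨s0, rfl⟩ := (Q.t3au0h1_mem_XS 0 x).1 hx
  exact ⟨s0, v, hv, rfl⟩

/-- step 2: `U_a = L_0 * V₂` -/
theorem t3au4h1_step2 : ∀ u ∈ Q.Us true, ∃ l0 : F, ∃ v ∈ Q.t3au4h1_V2, u = Q.xl 0 l0 * v := by
  intro u hu
  unfold Us UU at hu
  have key : ∃ x ∈ Q.t3au0h1_XL 0, ∃ v ∈ Q.t3au4h1_V2, u = x * v := by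
    refine t3au0h1_closure_mul (Q.t3au0h1_XL 0) (Q.t3au4h1_V2) _ ?_ ?_ u hu
    · rintro g (⟨k, t, ⟨(rfl | rfl | rfl), h2⟩, rfl⟩ | ⟨k, c, ⟨(rfl | rfl | rfl), -⟩, rfl⟩)
      · exact absurd rfl (h2 rfl)
      · exact Or.inr (Q.xs_mem_UU (Ps := fun j => j = 1 ∨ j = 2) (Or.inl rfl) t)
      · exact Or.inr (Q.xs_mem_UU (Ps := fun j => j = 1 ∨ j = 2) (Or.inr rfl) t)
      · exact Or.inl ((Q.t3au0h1_mem_XL 0 _).2 ⟨c, rfl⟩)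
      · exact Or.inr (Q.xl_mem_UU (Pl := fun j => j = 1 ∨ j = 2) (Or.inl rfl) c)
      · exact Or.inr (Q.xl_mem_UU (Pl := fun j => j = 1 ∨ j = 2) (Or.inr rfl) c)
    · intro x hx
      obtain ⟨c, rfl⟩ := (Q.t3au0h1_mem_XL 0 x).1 hx
      apply Q.t3au0h1_cj_mem_of_gens (Q.xl 0 c) _ _ (Q.t3au4h1_V2)
      · rintro k u (rfl | rfl)
        · have h := Q.c_ls1 0 c u
          rw [t3au1h1_e01] at h
          rw [t3au0h1_cj_of_comm h]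
          exact Q.xs_mem_UU (Ps := fun j => j = 1 ∨ j = 2) (Or.inl rfl) u
        · have h := Q.c_ls2 0 c u
          rw [t3au1h1_e02] at h
          rw [t3au0h1_cj_of_comm h]
          exact Q.xs_mem_UU (Ps := fun j => j = 1 ∨ j = 2) (Or.inr rfl) u
      · rintro k d (rfl | rfl)
        · have h := Q.c_ll1 0 c d
          rw [t3au1h1_e01] at h
          rw [t3au0h1_cj_of_comm h]
          exact Q.xl_mem_UU (Pl := fun j => j = 1 ∨ j = 2) (Or.inl rfl) d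
        · rw [t3au0h1_cj_eq_cm]
          have h := Q.ll 0 c d
          rw [t3au1h1_e01, t3au1h1_e02] at h
          rw [h]
          exact (Q.t3au4h1_V2).mul_mem (Q.xl_mem_UU (Pl := fun j => j = 1 ∨ j = 2) (Or.inl rfl) _)
            (Q.xl_mem_UU (Pl := fun j => j = 1 ∨ j = 2) (Or.inr rfl) _)
  obtain ⟨x, hx, v, hv, rfl⟩ := key
  obtain ⟨l0, rfl⟩ := (Q.t3au0h1_mem_XL 0 x).1 hx
  exact ⟨l0, v, hv, rfl⟩

/-- step 3: `V₂ = S_1 * V₃` -/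
theorem t3au4h1_step3 : ∀ u ∈ Q.t3au4h1_V2, ∃ s1 : K, ∃ v ∈ Q.t3au4h1_V3, u = Q.xs 1 s1 * v := by
  intro u hu
  unfold t3au4h1_V2 UU at hu
  have key : ∃ x ∈ Q.t3au0h1_XS 1, ∃ v ∈ Q.t3au4h1_V3, u = x * v := by
    refine t3au0h1_closure_mul (Q.t3au0h1_XS 1) (Q.t3au4h1_V3) _ ?_ ?_ u hu
    · rintro g (⟨k, t, (rfl | rfl), rfl⟩ | ⟨k, c, (rfl | rfl), rfl⟩)
      · exact Or.inl ((Q.t3au0h1_mem_XS 1 _).2 ⟨t, rfl⟩)
      · exact Or.inr (Q.xs_mem_UU (Ps := fun j => j = 2) rfl t)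
      · exact Or.inr (Q.xl_mem_UU (Pl := fun j => j = 1 ∨ j = 2) (Or.inl rfl) c)
      · exact Or.inr (Q.xl_mem_UU (Pl := fun j => j = 1 ∨ j = 2) (Or.inr rfl) c)
    · intro x hx
      obtain ⟨t, rfl⟩ := (Q.t3au0h1_mem_XS 1 x).1 hx
      apply Q.t3au0h1_cj_mem_of_gens (Q.xs 1 t) _ _ (Q.t3au4h1_V3)
      · rintro k u rfl
        rw [t3au0h1_cj_eq_cm]
        have h := Q.ss1 1 t u
        rw [t3au1h1_e11] at h
        rw [h]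
        exact (Q.t3au4h1_V3).mul_mem (Q.xl_mem_UU (Pl := fun j => j = 1 ∨ j = 2) (Or.inl rfl) _)
          (Q.xs_mem_UU (Ps := fun j => j = 2) rfl _)
      · rintro k d (rfl | rfl)
        · rw [t3au0h1_cj_of_comm (Q.c_sl0 1 t d)]
          exact Q.xl_mem_UU (Pl := fun j => j = 1 ∨ j = 2) (Or.inl rfl) d
        · have h := Q.c_sl1 1 t d
          rw [t3au1h1_e11] at h
          rw [t3au0h1_cj_of_comm h]
          exact Q.xl_mem_UU (Pl := fun j => j = 1 ∨ j = 2) (Or.inr rfl) d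
  obtain ⟨x, hx, v, hv, rfl⟩ := key
  obtain ⟨s1, rfl⟩ := (Q.t3au0h1_mem_XS 1 x).1 hx
  exact ⟨s1, v, hv, rfl⟩

/-- step 4: `V₃ = L_1 * V₄` -/
theorem t3au4h1_step4 : ∀ u ∈ Q.t3au4h1_V3, ∃ l1 : F, ∃ v ∈ Q.t3au4h1_V4, u = Q.xl 1 l1 * v := by
  intro u hu
  unfold t3au4h1_V3 UU at hu
  have key : ∃ x ∈ Q.t3au0h1_XL 1, ∃ v ∈ Q.t3au4h1_V4, u = x * v := by
    refine t3au0h1_closure_mul (Q.t3au0h1_XL 1) (Q.t3au4h1_V4) _ ?_ ?_ u hu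
    · rintro g (⟨k, t, rfl, rfl⟩ | ⟨k, c, (rfl | rfl), rfl⟩)
      · exact Or.inr (Q.xs_mem_UU (Ps := fun j => j = 2) rfl t)
      · exact Or.inl ((Q.t3au0h1_mem_XL 1 _).2 ⟨c, rfl⟩)
      · exact Or.inr (Q.xl_mem_UU (Pl := fun j => j = 2) rfl c)
    · intro x hx
      obtain ⟨c, rfl⟩ := (Q.t3au0h1_mem_XL 1 x).1 hx
      apply Q.t3au0h1_cj_mem_of_gens (Q.xl 1 c) _ _ (Q.t3au4h1_V4)
      · rintro k u rfl
        have h := Q.c_ls1 1 c u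
        rw [t3au1h1_e11] at h
        rw [t3au0h1_cj_of_comm h]
        exact Q.xs_mem_UU (Ps := fun j => j = 2) rfl u
      · rintro k d rfl
        have h := Q.c_ll1 1 c d
        rw [t3au1h1_e11] at h
        rw [t3au0h1_cj_of_comm h]
        exact Q.xl_mem_UU (Pl := fun j => j = 2) rfl d
  obtain ⟨x, hx, v, hv, rfl⟩ := key
  obtain ⟨l1, rfl⟩ := (Q.t3au0h1_mem_XL 1 x).1 hx
  exact ⟨l1, v, hv, rfl⟩

/-- step 5: `V₄ = S_2 * L_2` -/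
theorem t3au4h1_step5 : ∀ u ∈ Q.t3au4h1_V4, ∃ (s2 : K) (l2 : F), u = Q.xs 2 s2 * Q.xl 2 l2 := by
  intro u hu
  unfold t3au4h1_V4 UU at hu
  have key : ∃ x ∈ Q.t3au0h1_XS 2, ∃ v ∈ Q.t3au0h1_XL 2, u = x * v := by
    refine t3au0h1_closure_mul (Q.t3au0h1_XS 2) (Q.t3au0h1_XL 2) _ ?_ ?_ u hu
    · rintro g (⟨k, t, rfl, rfl⟩ | ⟨k, c, rfl, rfl⟩)
      · exact Or.inl ((Q.t3au0h1_mem_XS 2 _).2 ⟨t, rfl⟩)
      · exact Or.inr ((Q.t3au0h1_mem_XL 2 _).2 ⟨c, rfl⟩)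
    · intro x hx v hv
      obtain ⟨t, rfl⟩ := (Q.t3au0h1_mem_XS 2 x).1 hx
      obtain ⟨c, rfl⟩ := (Q.t3au0h1_mem_XL 2 v).1 hv
      rw [t3au0h1_cj_of_comm (Q.c_sl0 2 t c)]
      exact (Q.t3au0h1_mem_XL 2 _).2 ⟨c, rfl⟩
  obtain ⟨x, hx, v, hv, rfl⟩ := key
  obtain ⟨s2, rfl⟩ := (Q.t3au0h1_mem_XS 2 x).1 hx
  obtain ⟨l2, rfl⟩ := (Q.t3au0h1_mem_XL 2 v).1 hv
  exact ⟨s2, l2, rfl⟩

-- ROW U4
theorem U_normal_form : ∀ u ∈ Q.U, ∃ (s0 : K) (l0 : F) (s1 : K) (l1 : F) (s2 : K) (l2 : F), u = Q.uprod s0 l0 s1 l1 s2 l2 := by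
  intro u hu
  obtain ⟨s0, v1, hv1, rfl⟩ := Q.t3au4h1_step1 u hu
  obtain ⟨l0, v2, hv2, rfl⟩ := Q.t3au4h1_step2 v1 hv1
  obtain ⟨s1, v3, hv3, rfl⟩ := Q.t3au4h1_step3 v2 hv2
  obtain ⟨l1, v4, hv4, rfl⟩ := Q.t3au4h1_step4 v3 hv3
  obtain ⟨s2, l2, rfl⟩ := Q.t3au4h1_step5 v4 hv4
  refine ⟨s0, l0, s1, l1, s2, l2, ?_⟩
  unfold uprod
  simp only [mul_assoc]

end SysT

end Cfsg.Agent.Lib.helper17.T3
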