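import Mathlib
import Cfsg.Agent.Lib.helper23.TD4V.Defs
import Cfsg.Agent.Lib.helper4.TD4VG
import Cfsg.Agent.Lib.Helper11.TD4VL0

/-!
# Project TD4V (designer helper23), rows CB (`cov_big`) and E8 (`reduce`): cores on the statements of the cited rows,
written by helper1.
-/

set_option autoImplicit false

namespace Cfsg.Agent.Lib.helper23.TD4V

open Cfsg.Lie Cfsg.Lie.ChevalleyDatum Matrix
open Cfsg.Agent.Lib.helper8 Cfsg.Agent.Lib.helper8.TD4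
open Cfsg.Agent.Lib.helper23.P4V

universe u v

section C

variable {F K : Type u} [Field F] [Field K] [Fintype F] [Fintype K]
  (j : F →+* K) (q : ℕ) (t τ : K) (c θ : F)

/-- CB with the statements of F1 (`t ≠ 0`, `c ≠ 0`, `c * θ ≠ 0`), I2 (`iota_mul`) and F6 (`absorb`, `absorb_m`) as hypotheses. -/
theorem td4vcb_core (ht : t ≠ 0) (hc0 : c ≠ 0) (htr : c * θ ≠ 0) (hc : j c = Nm q t)
    (hI2 : ∀ (A B : GL (Fin 2) F) (t s : K), t ≠ 0 → s ≠ 0 → j (A : M2 F).det = Nm q t →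
      iota j q (A * B) (t * s) = iota j q A t * iota j q B s)
    (hF6 : ∀ (A1 : GL (Fin 2) F), (A1 : M2 F).trace = c * θ → (A1 : M2 F).det = c →
      ∀ u ∈ Q K q, CjG q (x0 hB q t τ) (iota j q A1 t * u))
    (hF6m : ∀ (A1 : GL (Fin 2) F), (A1 : M2 F).trace = c * θ → (A1 : M2 F).det = c →
      ∀ v ∈ Qm K q, CjG q (x0 hB q t τ) (v * iota j q A1 t))
    (v' : GG K) (hv : v' ∈ Qm K q) (u' : GG K)
    (hu : u' ∈ Q K q) (M : GL (Fin 2) F) (hM : InSig c (M : M2 F)) :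
    CovG q (x0 hB q t τ) (v' * iota j q M (t * t) * u') := by
  obtain ⟨A₁, A₂, htr1, hdet1, htr2, hdet2, hprod⟩ := insig_prod' (c * θ) c htr hc0 (M : M2 F) hM
  have hd1 : A₁.det ≠ 0 := by rw [hdet1]; exact hc0
  have hd2 : A₂.det ≠ 0 := by rw [hdet2]; exact hc0
  have hMeq : M = mk2 A₁ hd1 * mk2 A₂ hd2 := by
    apply Units.ext
    rw [Units.val_mul, mk2_val, mk2_val, hprod]
  have h1 : iota j q M (t * t) = iota j q (mk2 A₁ hd1) t * iota j q (mk2 A₂ hd2) t := by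
    rw [hMeq]
    apply hI2 _ _ _ _ ht ht
    rw [mk2_val, hdet1, hc]
  have hy := hF6m (mk2 A₁ hd1) (by rw [mk2_val]; exact htr1) (by rw [mk2_val]; exact hdet1) v' hv
  have hz := hF6 (mk2 A₂ hd2) (by rw [mk2_val]; exact htr2) (by rw [mk2_val]; exact hdet2) u' hu
  have := CovG.of_mul q hy hz
  rw [h1]
  have e : v' * (iota j q (mk2 A₁ hd1) t * iota j q (mk2 A₂ hd2) t) * u' =
      v' * iota j q (mk2 A₁ hd1) t * (iota j q (mk2 A₂ hd2) t * u') := by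
    simp only [mul_assoc]
  rw [e]
  exact this

/-- E8 with the statements of E7, E5, Q4, Q5 as hypotheses. -/
theorem td4ve8_core
    (hE7 : ∀ g : GG K, g ∈ twistedD4 K q → g ≠ 1 → ∃ y ∈ twistedD4 K q, y * g * y⁻¹ ∉ Pp j q)
    (hE5 : ∀ g : GG K, g ∈ twistedD4 K q →
      g ∈ Pp j q ∨ ∃ p ∈ Pp j q, ∃ p' ∈ Pp j q,
        (∃ r : K, r ≠ 0 ∧ g = p * Xma q r * p') ∨
        (∃ r : F, r ≠ 0 ∧ g = p * X 1 (j r) * p') ∨
        (∃ r1 : K, r1 ≠ 0 ∧ ∃ r2 : F, r2 ≠ 0 ∧ g = p * (Xma q r1 * X 0 (j r2)) * p'))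
    (hQ4 : ∀ g : GG K, g ∈ Pp j q →
      ∃ (A : GL (Fin 2) F) (t : K), t ≠ 0 ∧ j (A : M2 F).det = Nm q t ∧ ∃ u ∈ Q K q,
        g = iota j q A t * u)
    (hQ5 : Pp j q ≤ twistedD4 K q)
    (g : GG K) (hg : g ∈ twistedD4 K q) (h1 : g ≠ 1) :
    ∃ y ∈ twistedD4 K q, ∃ (A : GL (Fin 2) F) (t' : K), t' ≠ 0 ∧ j (A : M2 F).det = Nm q t' ∧
      ∃ u ∈ Q K q,
        (∃ r : K, r ≠ 0 ∧ y * g * y⁻¹ = Xma q r * iota j q A t' * u) ∨
        (∃ r : F, r ≠ 0 ∧ y * g * y⁻¹ = X 1 (j r) * iota j q A t' * u) ∨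
        (∃ r1 : K, r1 ≠ 0 ∧ ∃ r2 : F, r2 ≠ 0 ∧
          y * g * y⁻¹ = Xma q r1 * X 0 (j r2) * iota j q A t' * u) := by
  obtain ⟨y₀, hy₀, hnot⟩ := hE7 g hg h1
  have hg' : y₀ * g * y₀⁻¹ ∈ twistedD4 K q :=
    Subgroup.mul_mem _ (Subgroup.mul_mem _ hy₀ hg) (Subgroup.inv_mem _ hy₀)
  rcases hE5 _ hg' with hP | ⟨p, hp, p', hp', hsh⟩
  · exact absurd hP hnot
  · obtain ⟨A, t', ht', hA, u, hu, hpp⟩ := hQ4 (p' * p) (Subgroup.mul_mem _ hp' hp)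
    have hpG : p ∈ twistedD4 K q := hQ5 hp
    refine ⟨p⁻¹ * y₀, Subgroup.mul_mem _ (Subgroup.inv_mem _ hpG) hy₀, A, t', ht', hA, u, hu, ?_⟩
    have key : ∀ v : GG K, y₀ * g * y₀⁻¹ = p * v * p' →
        (p⁻¹ * y₀) * g * (p⁻¹ * y₀)⁻¹ = v * (iota j q A t' * u) := by
      intro v hv
      rw [← hpp]
      calc (p⁻¹ * y₀) * g * (p⁻¹ * y₀)⁻¹ = p⁻¹ * (y₀ * g * y₀⁻¹) * p := by group
        _ = p⁻¹ * (p * v * p') * p := by rw [hv]
        _ = v * (p' * p) := by group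
    rcases hsh with ⟨r, hr, he⟩ | ⟨r, hr, he⟩ | ⟨r1, hr1, r2, hr2, he⟩
    · left
      refine ⟨r, hr, ?_⟩
      rw [key _ he]; simp only [mul_assoc]
    · right; left
      refine ⟨r, hr, ?_⟩
      rw [key _ he]; simp only [mul_assoc]
    · right; right
      refine ⟨r1, hr1, r2, hr2, ?_⟩
      rw [key _ he]; simp only [mul_assoc]

end C

end Cfsg.Agent.Lib.helper23.TD4V
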