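import Mathlib
import Cfsg.Agent.Lib.helper23.TD4V.Defs
import Cfsg.Agent.Lib.Helper1.TD4VCBcore
import Cfsg.Agent.Lib.Helper18.TD4VF1
import Cfsg.Agent.Lib.Helper5.TD4VI2
import Cfsg.Agent.Lib.Helper10.TD4VF6

/-!
# TD4V row CB (`cov_big`), verbatim: `td4vcb_core` on the landed F1 (Helper18), I2 (Helper5), F6 (Helper10).
-/

set_option autoImplicit false
set_option linter.unusedSectionVars false

namespace Cfsg.Agent.Lib.helper23.TD4V

open Cfsg.Lie Cfsg.Lie.ChevalleyDatum Matrix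
open Cfsg.Agent.Lib.helper8 Cfsg.Agent.Lib.helper8.TD4
open Cfsg.Agent.Lib.helper23.P4V

universe u v

section C

variable {F K : Type u} {E : Type v} [Field F] [Field K] [Field E] [Fintype F] [Fintype K] [Fintype E]
  (j : F →+* K) (ι : K →+* E) (q : ℕ) (t τ : K) (m : E) (c θ : F)

/-- **CB** [M]. -/
theorem cov_big (hX : Ctx j ι q t τ m c θ) (v' : GG K) (hv : v' ∈ Qm K q) (u' : GG K)
    (hu : u' ∈ Q K q) (M : GL (Fin 2) F) (hM : InSig c (M : M2 F)) :
    CovG q (x0 hB q t τ) (v' * iota j q M (t * t) * u') :=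
  td4vcb_core j q t τ c θ (Ctx.t_ne j ι q t τ m c θ hX) (Ctx.c_ne j ι q t τ m c θ hX)
    (Ctx.tr_ne j ι q t τ m c θ hX) hX.hc
    (fun A B t' s ht' hs h => iota_mul j q A B t' s ht' hs h)
    (fun A1 htr hdet u hu => absorb j ι q t τ m c θ hX A1 htr hdet u hu)
    (fun A1 htr hdet v hv => absorb_m j ι q t τ m c θ hX A1 htr hdet v hv)
    v' hv u' hu M hM

end C

end Cfsg.Agent.Lib.helper23.TD4V
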