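import Mathlib
import Cfsg.Agent.Lib.helper23.TD4V.Defs
import Cfsg.Agent.Lib.Helper1.TD4VCBcore
import Cfsg.Agent.Lib.Helper16.TD4VE7
import Cfsg.Agent.Lib.Helper25.TD4VE5
import Cfsg.Agent.Lib.Helper5.TD4VQ4
import Cfsg.Agent.Lib.Helper9.TD4VI4

/-!
# TD4V row E8 (`reduce`), verbatim: `td4ve8_core` on the landed E7 (Helper16), E5 (Helper25), Q4 (Helper5), Q5 (Helper9).
-/

set_option autoImplicit false
set_option linter.unusedSectionVars false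

namespace Cfsg.Agent.Lib.helper23.TD4V

open Cfsg.Lie Cfsg.Lie.ChevalleyDatum Matrix
open Cfsg.Agent.Lib.helper8 Cfsg.Agent.Lib.helper8.TD4
open Cfsg.Agent.Lib.helper23.P4V

universe u

section E

variable {F K : Type u} [Field F] [Field K] [Fintype F] [Fintype K] (j : F →+* K) (q : ℕ)

/-- **E8** [M]. -/
theorem reduce (hq : IsPrimePow q) (hF : Fintype.card F = q) (hK : Fintype.card K = q ^ 3)
    (g : GG K) (hg : g ∈ twistedD4 K q) (h1 : g ≠ 1) :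
    ∃ y ∈ twistedD4 K q, ∃ (A : GL (Fin 2) F) (t' : K), t' ≠ 0 ∧ j (A : M2 F).det = Nm q t' ∧
      ∃ u ∈ Q K q,
        (∃ r : K, r ≠ 0 ∧ y * g * y⁻¹ = Xma q r * iota j q A t' * u) ∨
        (∃ r : F, r ≠ 0 ∧ y * g * y⁻¹ = X 1 (j r) * iota j q A t' * u) ∨
        (∃ r1 : K, r1 ≠ 0 ∧ ∃ r2 : F, r2 ≠ 0 ∧
          y * g * y⁻¹ = Xma q r1 * X 0 (j r2) * iota j q A t' * u) :=
  td4ve8_core j q
    (fun g hg h1 => exists_conj_not_mem_Pp j q hq hF hK g hg h1)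
    (fun g hg => dc_form j q hq hF hK g hg)
    (fun g hg => Pp_dec j q hq hF hK g hg)
    (Pp_le_G j q hq hF hK) g hg h1

end E

end Cfsg.Agent.Lib.helper23.TD4V
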