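import Cfsg.Agent.Lib.helper7.TO.Basic

set_option autoImplicit false

namespace Cfsg.Agent.Lib.helper7.TO

open Matrix Cfsg.Agent.Lib.helper7.TP Cfsg.Agent.Lib.Helper28.SympAbs
open scoped Kronecker

variable {a b : ℕ} {F : Type*} [Field F]

theorem tocommha_key (C : Ctx a b F) (h h' : Matrix.GeneralLinearGroup (Fin a × Fin b) F)
    (u x₁ x₂ : Fin a → F) (hx₁ : C.f₁ x₁ u = 0) (hx₂ : C.f₁ x₂ u = 0)
    (ζ ζs κ ζ' ζs' κ' : Matrix (Fin b) (Fin b) F)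
    (hh : C.IsHA h ζ ζs κ u x₁) (hh' : C.IsHA h' ζ' ζs' κ' u x₂) (x : Fin a → F) (y : Fin b → F) :
    (h : Matrix (Fin a × Fin b) (Fin a × Fin b) F) *ᵥ
      ((h' : Matrix (Fin a × Fin b) (Fin a × Fin b) F) *ᵥ ten x y) =
    ERm (C.f₁ x₂ x₁ • (ζ * ζs' + ζ' * ζs)) u (C.fl₁ u) *ᵥ
      ((h' : Matrix (Fin a × Fin b) (Fin a × Fin b) F) *ᵥ
        ((h : Matrix (Fin a × Fin b) (Fin a × Fin b) F) *ᵥ ten x y)) := by
  have hux₁ : C.f₁ u x₁ = 0 := by rw [C.hf₁.skew, hx₁, neg_zero]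
  have hux₂ : C.f₁ u x₂ = 0 := by rw [C.hf₁.skew, hx₂, neg_zero]
  have huu : C.f₁ u u = 0 := C.hf₁.alternating u
  have h12 : C.f₁ x₁ x₂ = - C.f₁ x₂ x₁ := C.hf₁.skew x₁ x₂
  have hA : ∀ (x : Fin a → F) (y : Fin b → F),
      (h : Matrix (Fin a × Fin b) (Fin a × Fin b) F) *ᵥ ten x y =
      ten x y + C.f₁ x x₁ • ten u (ζ *ᵥ y) + C.f₁ x u • ten x₁ (ζs *ᵥ y) +
        C.f₁ x u • ten u (κ *ᵥ y) := hh
  have hA' : ∀ (x : Fin a → F) (y : Fin b → F),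
      (h' : Matrix (Fin a × Fin b) (Fin a × Fin b) F) *ᵥ ten x y =
      ten x y + C.f₁ x x₂ • ten u (ζ' *ᵥ y) + C.f₁ x u • ten x₂ (ζs' *ᵥ y) +
        C.f₁ x u • ten u (κ' *ᵥ y) := hh'
  rw [ERm_mulVec]
  rw [hA' x y, hA x y]
  simp only [Matrix.mulVec_add, Matrix.mulVec_smul, hA, hA', ctrA_add, ctrA_smul, C.ctrA_fl₁_ten,
    hux₁, hux₂, huu, hx₁, hx₂, h12, zero_smul, add_zero, smul_zero, Matrix.smul_mulVec,
    Matrix.add_mulVec, ten_add_right, ten_smul_right, smul_add, smul_smul, ← Matrix.mulVec_mulVec]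
  funext p
  simp only [Pi.add_apply, Pi.smul_apply, smul_eq_mul, ten]
  ring

theorem commHA (C : Ctx a b F) (h h' : Matrix.GeneralLinearGroup (Fin a × Fin b) F)
    (u x₁ x₂ : Fin a → F) (hx₁ : C.f₁ x₁ u = 0) (hx₂ : C.f₁ x₂ u = 0)
    (ζ ζs κ ζ' ζs' κ' : Matrix (Fin b) (Fin b) F)
    (hh : C.IsHA h ζ ζs κ u x₁) (hh' : C.IsHA h' ζ' ζs' κ' u x₂) :
    ((h * h' * h⁻¹ * h'⁻¹ : Matrix.GeneralLinearGroup (Fin a × Fin b) F) :
      Matrix (Fin a × Fin b) (Fin a × Fin b) F) =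
      ERm (C.f₁ x₂ x₁ • (ζ * ζs' + ζ' * ζs)) u (C.fl₁ u) := by
  have hmat : (h : Matrix (Fin a × Fin b) (Fin a × Fin b) F) *
      (h' : Matrix (Fin a × Fin b) (Fin a × Fin b) F) =
      ERm (C.f₁ x₂ x₁ • (ζ * ζs' + ζ' * ζs)) u (C.fl₁ u) *
        ((h' : Matrix (Fin a × Fin b) (Fin a × Fin b) F) *
          (h : Matrix (Fin a × Fin b) (Fin a × Fin b) F)) := by
    apply mat_ext_ten
    intro x y
    rw [← Matrix.mulVec_mulVec, ← Matrix.mulVec_mulVec, ← Matrix.mulVec_mulVec]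
    exact tocommha_key C h h' u x₁ x₂ hx₁ hx₂ ζ ζs κ ζ' ζs' κ' hh hh' x y
  have hgrp : h * h' * h⁻¹ * h'⁻¹ * (h' * h) = h * h' := by group
  have h2 : ((h * h' * h⁻¹ * h'⁻¹ : Matrix.GeneralLinearGroup (Fin a × Fin b) F) :
      Matrix (Fin a × Fin b) (Fin a × Fin b) F) *
      ((h' * h : Matrix.GeneralLinearGroup (Fin a × Fin b) F) :
        Matrix (Fin a × Fin b) (Fin a × Fin b) F) =
      ERm (C.f₁ x₂ x₁ • (ζ * ζs' + ζ' * ζs)) u (C.fl₁ u) *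
      ((h' * h : Matrix.GeneralLinearGroup (Fin a × Fin b) F) :
        Matrix (Fin a × Fin b) (Fin a × Fin b) F) := by
    rw [← Units.val_mul, hgrp, Units.val_mul, Units.val_mul, hmat]
  exact (Units.mul_left_inj (h' * h)).mp h2

end Cfsg.Agent.Lib.helper7.TO
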