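import Cfsg.Agent.Lib.Helper1.TONTSAcore
import Cfsg.Agent.Lib.Helper20.TOALGXA
import Cfsg.Agent.Lib.Helper22.TOCOMMA

set_option autoImplicit false

namespace Cfsg.Agent.Lib.helper7.TO

open Matrix Cfsg.Agent.Lib.helper7.TP Cfsg.Agent.Lib.Helper28.SympAbs
open scoped Kronecker

variable {a b : ℕ} {F : Type*} [Field F]

theorem ntsA_of_unipA (C : Ctx a b F) (hb : 6 ≤ b)
    (M : Subgroup (Matrix.GeneralLinearGroup (Fin a × Fin b) F)) (hT : C.T1 ≤ M) (hG : M ≤ C.G)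
    (hU : C.UnipA M) : C.NtsA M :=
  tontsa_core C hb (fun X hsub hconj h1 h2 => alg_XA C.hf₂ hb X hsub hconj h1 h2)
    (fun h hh u x₁ hx₁ ζ hζ c => commA C h hh u x₁ hx₁ ζ hζ c) M hT hG hU

end Cfsg.Agent.Lib.helper7.TO
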