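import Cfsg.Agent.Lib.helper7.TO.Basic

set_option autoImplicit false

namespace Cfsg.Agent.Lib.helper7.TO

open Matrix Cfsg.Agent.Lib.helper7.TP Cfsg.Agent.Lib.Helper28.SympAbs
open scoped Kronecker

variable {a b : ℕ} {F : Type*} [Field F]

theorem tontsa_mul_mulVec (g g' : Matrix.GeneralLinearGroup (Fin a × Fin b) F)
    (v : Fin a × Fin b → F) :
    ((g * g' : Matrix.GeneralLinearGroup (Fin a × Fin b) F) :
      Matrix (Fin a × Fin b) (Fin a × Fin b) F) *ᵥ v =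
    (g : Matrix (Fin a × Fin b) (Fin a × Fin b) F) *ᵥ
      ((g' : Matrix (Fin a × Fin b) (Fin a × Fin b) F) *ᵥ v) := by
  rw [Units.val_mul, Matrix.mulVec_mulVec]

theorem tontsa_inv_apply (g : Matrix.GeneralLinearGroup (Fin a × Fin b) F)
    (v w : Fin a × Fin b → F)
    (h : (g : Matrix (Fin a × Fin b) (Fin a × Fin b) F) *ᵥ w = v) :
    ((g⁻¹ : Matrix.GeneralLinearGroup (Fin a × Fin b) F) :
      Matrix (Fin a × Fin b) (Fin a × Fin b) F) *ᵥ v = w := by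
  rw [← h, Matrix.mulVec_mulVec, ← Units.val_mul, inv_mul_cancel, Units.val_one, Matrix.one_mulVec]

theorem tontsa_HA_mul_inv (C : Ctx a b F) (h h' : Matrix.GeneralLinearGroup (Fin a × Fin b) F)
    (u x₁ : Fin a → F) (hx₁ : C.f₁ x₁ u = 0)
    (ζ ζs κ ζ' ζs' κ' : Matrix (Fin b) (Fin b) F)
    (hh : C.IsHA h ζ ζs κ u x₁) (hh' : C.IsHA h' ζ' ζs' κ' u x₁) :
    C.IsHA (h * h'⁻¹) (ζ - ζ') (ζs - ζs') (κ - κ') u x₁ := by
  have hux₁ : C.f₁ u x₁ = 0 := by rw [C.hf₁.skew, hx₁, neg_zero]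
  have huu : C.f₁ u u = 0 := C.hf₁.alternating u
  have h11 : C.f₁ x₁ x₁ = 0 := C.hf₁.alternating x₁
  have hA : ∀ (x : Fin a → F) (y : Fin b → F),
      (h : Matrix (Fin a × Fin b) (Fin a × Fin b) F) *ᵥ ten x y =
      ten x y + C.f₁ x x₁ • ten u (ζ *ᵥ y) + C.f₁ x u • ten x₁ (ζs *ᵥ y) +
        C.f₁ x u • ten u (κ *ᵥ y) := hh
  have hA' : ∀ (x : Fin a → F) (y : Fin b → F),
      (h' : Matrix (Fin a × Fin b) (Fin a × Fin b) F) *ᵥ ten x y =
      ten x y + C.f₁ x x₁ • ten u (ζ' *ᵥ y) + C.f₁ x u • ten x₁ (ζs' *ᵥ y) +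
        C.f₁ x u • ten u (κ' *ᵥ y) := hh'
  intro x y
  have hinv : ((h'⁻¹ : Matrix.GeneralLinearGroup (Fin a × Fin b) F) :
      Matrix (Fin a × Fin b) (Fin a × Fin b) F) *ᵥ ten x y =
      ten x y - C.f₁ x x₁ • ten u (ζ' *ᵥ y) - C.f₁ x u • ten x₁ (ζs' *ᵥ y) -
        C.f₁ x u • ten u (κ' *ᵥ y) := by
    apply tontsa_inv_apply
    simp only [Matrix.mulVec_sub, Matrix.mulVec_smul, hA', hux₁, huu, h11, hx₁, zero_smul,
      add_zero]
    abel
  rw [tontsa_mul_mulVec, hinv]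
  simp only [Matrix.mulVec_sub, Matrix.mulVec_smul, hA, hux₁, huu, h11, hx₁, zero_smul,
    add_zero, Matrix.sub_mulVec, ten_sub_right]
  funext p
  simp only [Pi.add_apply, Pi.sub_apply, Pi.smul_apply, smul_eq_mul, ten]
  ring

theorem tontsa_kA_inv (α : Matrix.GeneralLinearGroup (Fin a) F) :
    (kA a b F α)⁻¹ = kA a b F α⁻¹ := (map_inv (kA a b F) α).symm

theorem tontsa_kB_inv (β : Matrix.GeneralLinearGroup (Fin b) F) :
    (kB a b F β)⁻¹ = kB a b F β⁻¹ := (map_inv (kB a b F) β).symm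

theorem tontsa_gl_mul_inv_mulVec {n : ℕ} (α : Matrix.GeneralLinearGroup (Fin n) F)
    (x : Fin n → F) :
    (α : Matrix (Fin n) (Fin n) F) *ᵥ
      (((α⁻¹ : Matrix.GeneralLinearGroup (Fin n) F) : Matrix (Fin n) (Fin n) F) *ᵥ x) = x := by
  rw [Matrix.mulVec_mulVec, ← Units.val_mul, mul_inv_cancel, Units.val_one, Matrix.one_mulVec]

theorem tontsa_HA_conjA (C : Ctx a b F) (α : Matrix.GeneralLinearGroup (Fin a) F)
    (hα : ∀ x x' : Fin a → F, C.f₁ ((α : Matrix (Fin a) (Fin a) F) *ᵥ x)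
      ((α : Matrix (Fin a) (Fin a) F) *ᵥ x') = C.f₁ x x')
    (h : Matrix.GeneralLinearGroup (Fin a × Fin b) F) (ζ ζs κ : Matrix (Fin b) (Fin b) F)
    (u x₁ : Fin a → F) (hh : C.IsHA h ζ ζs κ u x₁) :
    C.IsHA (kA a b F α * h * (kA a b F α)⁻¹) ζ ζs κ ((α : Matrix (Fin a) (Fin a) F) *ᵥ u)
      ((α : Matrix (Fin a) (Fin a) F) *ᵥ x₁) := by
  have hA : ∀ (x : Fin a → F) (y : Fin b → F),
      (h : Matrix (Fin a × Fin b) (Fin a × Fin b) F) *ᵥ ten x y =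
      ten x y + C.f₁ x x₁ • ten u (ζ *ᵥ y) + C.f₁ x u • ten x₁ (ζs *ᵥ y) +
        C.f₁ x u • ten u (κ *ᵥ y) := hh
  intro x y
  have e1 : ∀ z : Fin a → F,
      C.f₁ (((α⁻¹ : Matrix.GeneralLinearGroup (Fin a) F) : Matrix (Fin a) (Fin a) F) *ᵥ x) z =
      C.f₁ x ((α : Matrix (Fin a) (Fin a) F) *ᵥ z) := by
    intro z
    rw [← hα, tontsa_gl_mul_inv_mulVec]
  rw [tontsa_mul_mulVec, tontsa_mul_mulVec, tontsa_kA_inv, kA_mulVec_ten, hA]
  simp only [Matrix.mulVec_add, Matrix.mulVec_smul, kA_mulVec_ten, tontsa_gl_mul_inv_mulVec, e1]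

theorem tontsa_HA_conjB (C : Ctx a b F) (β : Matrix.GeneralLinearGroup (Fin b) F)
    (h : Matrix.GeneralLinearGroup (Fin a × Fin b) F) (ζ ζs κ : Matrix (Fin b) (Fin b) F)
    (u x₁ : Fin a → F) (hh : C.IsHA h ζ ζs κ u x₁) :
    C.IsHA (kB a b F β * h * (kB a b F β)⁻¹)
      ((β : Matrix (Fin b) (Fin b) F) * ζ *
        ((β⁻¹ : Matrix.GeneralLinearGroup (Fin b) F) : Matrix (Fin b) (Fin b) F))
      ((β : Matrix (Fin b) (Fin b) F) * ζs *
        ((β⁻¹ : Matrix.GeneralLinearGroup (Fin b) F) : Matrix (Fin b) (Fin b) F))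
      ((β : Matrix (Fin b) (Fin b) F) * κ *
        ((β⁻¹ : Matrix.GeneralLinearGroup (Fin b) F) : Matrix (Fin b) (Fin b) F)) u x₁ := by
  have hA : ∀ (x : Fin a → F) (y : Fin b → F),
      (h : Matrix (Fin a × Fin b) (Fin a × Fin b) F) *ᵥ ten x y =
      ten x y + C.f₁ x x₁ • ten u (ζ *ᵥ y) + C.f₁ x u • ten x₁ (ζs *ᵥ y) +
        C.f₁ x u • ten u (κ *ᵥ y) := hh
  intro x y
  rw [tontsa_mul_mulVec, tontsa_mul_mulVec, tontsa_kB_inv, kB_mulVec_ten, hA]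
  simp only [Matrix.mulVec_add, Matrix.mulVec_smul, kB_mulVec_ten, Matrix.mulVec_mulVec,
    Matrix.mul_assoc, Units.mul_inv, Matrix.one_mulVec]

theorem tontsa_adjm_tvm {n : ℕ} {f : (Fin n → F) → (Fin n → F) → F}
    (hf : Cfsg.Geo.IsSymplecticForm f) (w : Fin n → F) (c : F) :
    adjm f (tvm f w c) = tvm f w (-c) := by
  symm
  apply adjm_unique hf
  intro x y
  rw [tvm_mulVec hf, tvm_mulVec hf, hf.bilinear.add_left, hf.bilinear.add_right,
    hf.bilinear.smul_left, hf.bilinear.smul_right, hf.skew w y]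
  ring

theorem tontsa_adjm_conj {n : ℕ} {f : (Fin n → F) → (Fin n → F) → F}
    (hf : Cfsg.Geo.IsSymplecticForm f) (w : Fin n → F) (c : F) (ζ : Matrix (Fin n) (Fin n) F) :
    adjm f (tvm f w c * ζ * tvm f w (-c)) = tvm f w c * adjm f ζ * tvm f w (-c) := by
  rw [adjm_mul hf, adjm_mul hf, tontsa_adjm_tvm hf, tontsa_adjm_tvm hf, neg_neg, Matrix.mul_assoc]

theorem tontsa_sk (C : Ctx a b F) (u x₀ : Fin a → F) (h0 : C.f₁ x₀ u = 0) :
    C.tvA (u + x₀) 1 * C.tvA u (-1) * C.tvA x₀ (-1) ∈ C.T1 ∧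
    C.IsHA (C.tvA (u + x₀) 1 * C.tvA u (-1) * C.tvA x₀ (-1)) 1 1 0 u x₀ := by
  refine ⟨mul_mem (mul_mem (C.tvA_mem_T1 _ _) (C.tvA_mem_T1 _ _)) (C.tvA_mem_T1 _ _), ?_⟩
  have hu0 : C.f₁ u x₀ = 0 := by rw [C.hf₁.skew, h0, neg_zero]
  have huu : C.f₁ u u = 0 := C.hf₁.alternating u
  have h00 : C.f₁ x₀ x₀ = 0 := C.hf₁.alternating x₀
  intro x y
  rw [tontsa_mul_mulVec, tontsa_mul_mulVec, C.tvA_mulVec_ten]
  simp only [Matrix.mulVec_add, Matrix.mulVec_smul, C.tvA_mulVec_ten, C.hf₁.bilinear.add_right,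
    hu0, huu, h00, h0, Matrix.one_mulVec, Matrix.zero_mulVec, ten_add_left, ten_zero_right]
  funext p
  simp only [Pi.add_apply, Pi.smul_apply, smul_eq_mul, ten, Pi.zero_apply]
  ring

theorem tontsa_perp (C : Ctx a b F) (u u' : Fin a → F) (huu' : C.f₁ u u' = 1)
    (X : Fin a × Fin b → F)
    (hX : ∀ x : Fin a → F, C.f₁ x u = 0 → ∀ y : Fin b → F, C.f X (ten x y) = 0) :
    X = ten u (ctrA (C.fl₁ u') X) := by
  have hu'u : C.f₁ u' u = -1 := by rw [C.hf₁.skew, huu']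
  have key : ∀ (x : Fin a → F) (y : Fin b → F),
      C.f (X - ten u (ctrA (C.fl₁ u') X)) (ten x y) = 0 := by
    intro x y
    have hx : ten x y = ten (x + C.f₁ x u • u') y - C.f₁ x u • ten u' y := by
      rw [ten_add_left, ten_smul_left]
      abel
    have hP : C.f₁ (x + C.f₁ x u • u') u = 0 := by
      rw [C.hf₁.bilinear.add_left, C.hf₁.bilinear.smul_left, hu'u]
      ring
    have hP' : C.f₁ u (x + C.f₁ x u • u') = 0 := by rw [C.hf₁.skew, hP, neg_zero]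
    rw [hx, C.f_sub_right, C.hf.smul_right, C.f_sub_left, C.f_sub_left, hX _ hP, C.f_ten, hP',
      C.f_ten_right_A X u' y, C.f_ten, huu']
    ring
  have hz : X - ten u (ctrA (C.fl₁ u') X) = 0 := by
    funext p
    obtain ⟨i, j⟩ := p
    have hc : ∀ x : Fin a → F,
        ctrA (C.fl₁ x) (X - ten u (ctrA (C.fl₁ u') X)) = 0 :=
      fun x => (C.perp_Aline_iff _ x).mp (fun y => key x y)
    by_contra hne
    have hcol : (fun i' => (X - ten u (ctrA (C.fl₁ u') X)) (i', j)) ≠ (0 : Fin a → F) := by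
      intro h0
      exact hne (congrFun h0 i)
    obtain ⟨x, hx⟩ := (C.hf₁.nondegenerate _ hcol).2
    apply hx
    have := congrFun (hc x) j
    rw [← C.fl₁_dot]
    simp only [ctrA, Pi.zero_apply] at this
    rw [dotProduct]
    rw [← this]
    apply Finset.sum_congr rfl
    intro i' _
    ring
  exact sub_eq_zero.mp hz

end Cfsg.Agent.Lib.helper7.TO
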