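import Cfsg.Agent.Lib.Helper1.TONTSAa
import Cfsg.Agent.Lib.Helper1.TOCOMMHA

set_option autoImplicit false

namespace Cfsg.Agent.Lib.helper7.TO

open Matrix Cfsg.Agent.Lib.helper7.TP Cfsg.Agent.Lib.Helper28.SympAbs
open scoped Kronecker

variable {a b : ℕ} {F : Type*} [Field F]

theorem tontsa_ex_x2 (C : Ctx a b F) (u x₁ : Fin a → F) (hu : u ≠ 0)
    (hx₁u : ∀ l : F, x₁ ≠ l • u) : ∃ x₂ : Fin a → F, C.f₁ x₂ u = 0 ∧ C.f₁ x₁ x₂ = 1 := by
  by_contra hcon
  push Not at hcon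
  have h0 : ∀ x : Fin a → F, C.f₁ x u = 0 → C.f₁ x₁ x = 0 := by
    intro x hx
    by_contra hne
    apply hcon ((C.f₁ x₁ x)⁻¹ • x)
    · rw [C.hf₁.bilinear.smul_left, hx, mul_zero]
    · rw [C.hf₁.bilinear.smul_right, inv_mul_cancel₀ hne]
  obtain ⟨v, hv⟩ := (C.hf₁.nondegenerate u hu).1
  have hv' : C.f₁ ((C.f₁ v u)⁻¹ • v) u = 1 := by
    rw [C.hf₁.bilinear.smul_left, inv_mul_cancel₀ hv]
  set v' := (C.f₁ v u)⁻¹ • v with hv'def
  have h1 : ∀ t : Fin a → F, C.f₁ x₁ t = C.f₁ t u * C.f₁ x₁ v' := by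
    intro t
    have ht : C.f₁ (t - C.f₁ t u • v') u = 0 := by
      rw [f_sub_left C.hf₁, C.hf₁.bilinear.smul_left, hv', mul_one, sub_self]
    have := h0 _ ht
    rw [f_sub_right C.hf₁, C.hf₁.bilinear.smul_right] at this
    linear_combination this
  have hz : x₁ - (-C.f₁ x₁ v') • u = 0 := by
    by_contra hne
    obtain ⟨t, ht⟩ := (C.hf₁.nondegenerate _ hne).2
    apply ht
    rw [f_sub_left C.hf₁, C.hf₁.bilinear.smul_left, h1 t, C.hf₁.skew u t]
    ring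
  exact hx₁u _ (sub_eq_zero.mp hz)

theorem tontsa_Zm (g : Matrix (Fin a × Fin b) (Fin a × Fin b) F) (φ : Fin a → F)
    (x : Fin a → F) :
    ∃ Z : Matrix (Fin b) (Fin b) F, ∀ y : Fin b → F,
      Z *ᵥ y = ctrA φ (g *ᵥ ten x y - ten x y) := by
  let L : (Fin b → F) →ₗ[F] (Fin b → F) :=
    { toFun := fun y => ctrA φ (g *ᵥ ten x y - ten x y)
      map_add' := by
        intro y y'
        show ctrA φ (g *ᵥ ten x (y + y') - ten x (y + y')) =
          ctrA φ (g *ᵥ ten x y - ten x y) + ctrA φ (g *ᵥ ten x y' - ten x y')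
        rw [ten_add_right, Matrix.mulVec_add, ← ctrA_add]
        congr 1
        abel
      map_smul' := by
        intro c y
        show ctrA φ (g *ᵥ ten x (c • y) - ten x (c • y)) =
          c • ctrA φ (g *ᵥ ten x y - ten x y)
        rw [ten_smul_right, Matrix.mulVec_smul, ← ctrA_smul, smul_sub] }
  exact ⟨LinearMap.toMatrix' L, fun y => by rw [LinearMap.toMatrix'_mulVec]; rfl⟩

theorem tontsa_mu (g : Matrix (Fin a × Fin b) (Fin a × Fin b) F) (φ : Fin a → F)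
    (y₀ : Fin b → F) (j₀ : Fin b) :
    ∃ r : Fin a → F, ∀ x : Fin a → F,
      r ⬝ᵥ x = ctrA φ (g *ᵥ ten x y₀ - ten x y₀) j₀ := by
  let L : (Fin a → F) →ₗ[F] F :=
    { toFun := fun x => ctrA φ (g *ᵥ ten x y₀ - ten x y₀) j₀
      map_add' := by
        intro x x'
        show ctrA φ (g *ᵥ ten (x + x') y₀ - ten (x + x') y₀) j₀ =
          ctrA φ (g *ᵥ ten x y₀ - ten x y₀) j₀ + ctrA φ (g *ᵥ ten x' y₀ - ten x' y₀) j₀
        rw [ten_add_left, Matrix.mulVec_add]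
        have h0 : g *ᵥ ten x y₀ + g *ᵥ ten x' y₀ - (ten x y₀ + ten x' y₀) =
            (g *ᵥ ten x y₀ - ten x y₀) + (g *ᵥ ten x' y₀ - ten x' y₀) := by abel
        rw [h0, ctrA_add]
        rfl
      map_smul' := by
        intro c x
        show ctrA φ (g *ᵥ ten (c • x) y₀ - ten (c • x) y₀) j₀ =
          c • ctrA φ (g *ᵥ ten x y₀ - ten x y₀) j₀
        rw [ten_smul_left, Matrix.mulVec_smul, ← smul_sub, ctrA_smul]
        rfl }
  refine ⟨fun i => L (fun j => if i = j then 1 else 0), fun x => ?_⟩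
  have h1 : L x = ctrA φ (g *ᵥ ten x y₀ - ten x y₀) j₀ := rfl
  rw [← h1, LinearMap.pi_apply_eq_sum_univ L x, dotProduct]
  apply Finset.sum_congr rfl
  intro i _
  rw [smul_eq_mul, mul_comm]

theorem tontsa_fixperp (C : Ctx a b F) (g : Matrix.GeneralLinearGroup (Fin a × Fin b) F)
    (hg : g ∈ C.G) (u u' : Fin a → F) (huu' : C.f₁ u u' = 1)
    (hfix : ∀ x : Fin a → F, C.f₁ x u = 0 → ∀ y : Fin b → F,
      (g : Matrix (Fin a × Fin b) (Fin a × Fin b) F) *ᵥ ten x y = ten x y) :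
    ∃ η : Matrix (Fin b) (Fin b) F,
      (g : Matrix (Fin a × Fin b) (Fin a × Fin b) F) = ERm η u (C.fl₁ u) := by
  have hu'u : C.f₁ u' u = -1 := by rw [C.hf₁.skew, huu']
  obtain ⟨Z, hZ⟩ := tontsa_Zm (g : Matrix (Fin a × Fin b) (Fin a × Fin b) F) (C.fl₁ u') u'
  have hR : ∀ y : Fin b → F,
      (g : Matrix (Fin a × Fin b) (Fin a × Fin b) F) *ᵥ ten u' y - ten u' y =
        ten u (Z *ᵥ y) := by
    intro y
    rw [hZ]
    apply tontsa_perp C u u' huu'
    intro x hx y'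
    rw [C.f_sub_left]
    conv_lhs => rw [← hfix x hx y']
    rw [C.G_f hg, hfix x hx y', sub_self]
  refine ⟨-Z, ?_⟩
  apply mat_ext_ten
  intro x y
  have hP : C.f₁ (x + C.f₁ x u • u') u = 0 := by
    rw [C.hf₁.bilinear.add_left, C.hf₁.bilinear.smul_left, hu'u]
    ring
  have hx : ten x y = ten (x + C.f₁ x u • u') y - C.f₁ x u • ten u' y := by
    rw [ten_add_left, ten_smul_left]
    abel
  have hgu' : (g : Matrix (Fin a × Fin b) (Fin a × Fin b) F) *ᵥ ten u' y =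
      ten u' y + ten u (Z *ᵥ y) := by
    rw [← hR y]
    abel
  rw [ERm_mulVec, C.ctrA_fl₁_ten, Matrix.mulVec_smul, Matrix.neg_mulVec, ten_smul_right,
    ten_neg_right]
  conv_lhs => rw [hx]
  rw [Matrix.mulVec_sub, Matrix.mulVec_smul, hfix _ hP, hgu', ten_add_left, ten_smul_left]
  funext p
  simp only [Pi.add_apply, Pi.sub_apply, Pi.smul_apply, Pi.neg_apply, smul_eq_mul]
  ring

end Cfsg.Agent.Lib.helper7.TO
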