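import Cfsg.Agent.Lib.Helper1.TONTSAb

set_option autoImplicit false

namespace Cfsg.Agent.Lib.helper7.TO

open Matrix Cfsg.Agent.Lib.helper7.TP Cfsg.Agent.Lib.Helper28.SympAbs
open scoped Kronecker

variable {a b : ℕ} {F : Type*} [Field F]

theorem tontsa_scalar (C : Ctx a b F)
    (hALG : ∀ X : Set (Matrix (Fin b) (Fin b) F),
      (∀ ζ ∈ X, ∀ ζ' ∈ X, ζ - ζ' ∈ X) →
      (∀ ζ ∈ X, ∀ (w : Fin b → F) (c : F), tvm C.f₂ w c * ζ * tvm C.f₂ w (-c) ∈ X) →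
      (∀ ζ ∈ X, ∃ s : F, ζ + adjm C.f₂ ζ = s • (1 : Matrix (Fin b) (Fin b) F)) →
      (∀ ζ ∈ X, ∀ ζ' ∈ X, ∃ s : F,
        ζ * adjm C.f₂ ζ' + ζ' * adjm C.f₂ ζ = s • (1 : Matrix (Fin b) (Fin b) F)) →
      ∀ ζ ∈ X, ∃ s : F, ζ = s • (1 : Matrix (Fin b) (Fin b) F))
    (hCOMMA : ∀ (h : Matrix.GeneralLinearGroup (Fin a × Fin b) F), h ∈ C.G →
      ∀ (u x₁ : Fin a → F), C.f₁ x₁ u = 0 → ∀ (ζ : Matrix (Fin b) (Fin b) F),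
      (∀ y : Fin b → F,
        (h : Matrix (Fin a × Fin b) (Fin a × Fin b) F) *ᵥ ten x₁ y = ten x₁ y + ten u (ζ *ᵥ y)) →
      ∀ c : F, C.IsHA (h * C.tvA x₁ c * h⁻¹ * (C.tvA x₁ c)⁻¹) (c • ζ) (c • C.adj₂ ζ)
        (c • (ζ * C.adj₂ ζ)) u x₁)
    (M : Subgroup (Matrix.GeneralLinearGroup (Fin a × Fin b) F)) (hT : C.T1 ≤ M) (hG : M ≤ C.G)
    (hU : C.UnipA M)
    (h : Matrix.GeneralLinearGroup (Fin a × Fin b) F) (hM : h ∈ M) (u x₁ : Fin a → F)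
    (hu : u ≠ 0) (hx₁ : C.f₁ x₁ u = 0) (hx₁u : ∀ l : F, x₁ ≠ l • u)
    (ζ : Matrix (Fin b) (Fin b) F)
    (hζ : ∀ y : Fin b → F,
      (h : Matrix (Fin a × Fin b) (Fin a × Fin b) F) *ᵥ ten x₁ y = ten x₁ y + ten u (ζ *ᵥ y)) :
    ∃ s : F, ζ = s • (1 : Matrix (Fin b) (Fin b) F) := by
  obtain ⟨x₂, hx₂, h12⟩ := tontsa_ex_x2 C u x₁ hu hx₁u
  have h21 : C.f₁ x₂ x₁ = -1 := by rw [C.hf₁.skew, h12]
  have hux₁ : C.f₁ u x₁ = 0 := by rw [C.hf₁.skew, hx₁, neg_zero]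
  have hux₂ : C.f₁ u x₂ = 0 := by rw [C.hf₁.skew, hx₂, neg_zero]
  let X : Set (Matrix (Fin b) (Fin b) F) :=
    {ζ | ∃ h' ∈ M, ∃ κ : Matrix (Fin b) (Fin b) F, C.IsHA h' ζ (C.adj₂ ζ) κ u x₁}
  have hsub : ∀ ζ ∈ X, ∀ ζ' ∈ X, ζ - ζ' ∈ X := by
    rintro ζ ⟨h', hh'M, κ, hh'⟩ ζ' ⟨h'', hh''M, κ', hh''⟩
    refine ⟨h' * h''⁻¹, M.mul_mem hh'M (M.inv_mem hh''M), κ - κ', ?_⟩
    have := tontsa_HA_mul_inv C h' h'' u x₁ hx₁ _ _ _ _ _ _ hh' hh''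
    have e : C.adj₂ (ζ - ζ') = C.adj₂ ζ - C.adj₂ ζ' := adjm_sub C.f₂ ζ ζ'
    rw [e]
    exact this
  have hconj : ∀ ζ ∈ X, ∀ (w : Fin b → F) (c : F), tvm C.f₂ w c * ζ * tvm C.f₂ w (-c) ∈ X := by
    rintro ζ ⟨h', hh'M, κ, hh'⟩ w c
    have hkM : kB a b F (tvg C.hf₂ w c) ∈ M := hT (C.kB_mem_T1 (tvg_mem_TT C.hf₂ w c))
    refine ⟨kB a b F (tvg C.hf₂ w c) * h' * (kB a b F (tvg C.hf₂ w c))⁻¹,
      M.mul_mem (M.mul_mem hkM hh'M) (M.inv_mem hkM), tvm C.f₂ w c * κ * tvm C.f₂ w (-c), ?_⟩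
    have := tontsa_HA_conjB C (tvg C.hf₂ w c) h' _ _ _ u x₁ hh'
    have e : C.adj₂ (tvm C.f₂ w c * ζ * tvm C.f₂ w (-c)) =
        tvm C.f₂ w c * C.adj₂ ζ * tvm C.f₂ w (-c) := tontsa_adjm_conj C.hf₂ w c ζ
    rw [e]
    exact this
  have h1 : ∀ ζ ∈ X, ∃ s : F, ζ + adjm C.f₂ ζ = s • (1 : Matrix (Fin b) (Fin b) F) := by
    rintro ζ ⟨h', hh'M, κ, hh'⟩
    obtain ⟨hkT, hk⟩ := tontsa_sk C u x₂ hx₂
    have hkM := hT hkT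
    set k := C.tvA (u + x₂) 1 * C.tvA u (-1) * C.tvA x₂ (-1) with hkdef
    have hgM : h' * k * h'⁻¹ * k⁻¹ ∈ M :=
      M.mul_mem (M.mul_mem (M.mul_mem hh'M hkM) (M.inv_mem hh'M)) (M.inv_mem hkM)
    have hmat := commHA C h' k u x₁ x₂ hx₁ hx₂ _ _ _ _ _ _ hh' hk
    obtain ⟨c, hc⟩ := hU _ hgM u _ hu hmat
    refine ⟨-c, ?_⟩
    rw [h21, Matrix.mul_one, Matrix.one_mul, neg_smul, one_smul] at hc
    have : ζ + adjm C.f₂ ζ = -(c • (1 : Matrix (Fin b) (Fin b) F)) := by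
      rw [← hc, neg_neg]
      rfl
    rw [this, neg_smul]
  have h2 : ∀ ζ ∈ X, ∀ ζ' ∈ X, ∃ s : F,
      ζ * adjm C.f₂ ζ' + ζ' * adjm C.f₂ ζ = s • (1 : Matrix (Fin b) (Fin b) F) := by
    rintro ζ ⟨h', hh'M, κ, hh'⟩ ζ' ⟨h'', hh''M, κ', hh''⟩
    have hαM : kA a b F (tvg C.hf₁ (x₂ - x₁) 1) ∈ M :=
      hT (C.kA_mem_T1 (tvg_mem_TT C.hf₁ (x₂ - x₁) 1))
    have hα : ∀ x x' : Fin a → F,
        C.f₁ ((tvg C.hf₁ (x₂ - x₁) 1 : Matrix (Fin a) (Fin a) F) *ᵥ x)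
          ((tvg C.hf₁ (x₂ - x₁) 1 : Matrix (Fin a) (Fin a) F) *ᵥ x') = C.f₁ x x' :=
      fun x x' => TT_apply C.hf₁ _ (tvg_mem_TT C.hf₁ (x₂ - x₁) 1) x x'
    have hcj := tontsa_HA_conjA C (tvg C.hf₁ (x₂ - x₁) 1) hα h'' _ _ _ u x₁ hh''
    have eu : (tvg C.hf₁ (x₂ - x₁) 1 : Matrix (Fin a) (Fin a) F) *ᵥ u = u := by
      rw [tvg_coe, tvm_mulVec C.hf₁, f_sub_right C.hf₁, hux₂, hux₁, sub_self, mul_zero, zero_smul,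
        add_zero]
    have ex : (tvg C.hf₁ (x₂ - x₁) 1 : Matrix (Fin a) (Fin a) F) *ᵥ x₁ = x₂ := by
      rw [tvg_coe, tvm_mulVec C.hf₁, f_sub_right C.hf₁, h12, C.hf₁.alternating, sub_zero, mul_one,
        one_smul]
      abel
    rw [eu, ex] at hcj
    set k := kA a b F (tvg C.hf₁ (x₂ - x₁) 1) * h'' * (kA a b F (tvg C.hf₁ (x₂ - x₁) 1))⁻¹
      with hkdef
    have hkM : k ∈ M := M.mul_mem (M.mul_mem hαM hh''M) (M.inv_mem hαM)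
    have hgM : h' * k * h'⁻¹ * k⁻¹ ∈ M :=
      M.mul_mem (M.mul_mem (M.mul_mem hh'M hkM) (M.inv_mem hh'M)) (M.inv_mem hkM)
    have hmat := commHA C h' k u x₁ x₂ hx₁ hx₂ _ _ _ _ _ _ hh' hcj
    obtain ⟨c, hc⟩ := hU _ hgM u _ hu hmat
    refine ⟨-c, ?_⟩
    rw [h21, neg_smul, one_smul] at hc
    have : ζ * adjm C.f₂ ζ' + ζ' * adjm C.f₂ ζ = -(c • (1 : Matrix (Fin b) (Fin b) F)) := by
      rw [← hc, neg_neg]
      rfl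
    rw [this, neg_smul]
  have hζX : ζ ∈ X := by
    have hc := hCOMMA h (hG hM) u x₁ hx₁ ζ hζ 1
    rw [one_smul, one_smul, one_smul] at hc
    have htM : C.tvA x₁ 1 ∈ M := hT (C.tvA_mem_T1 x₁ 1)
    exact ⟨_, M.mul_mem (M.mul_mem (M.mul_mem hM htM) (M.inv_mem hM)) (M.inv_mem htM), _, hc⟩
  exact hALG X hsub hconj h1 h2 ζ hζX

theorem tontsa_core (C : Ctx a b F) (hb : 6 ≤ b)
    (hALG : ∀ X : Set (Matrix (Fin b) (Fin b) F),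
      (∀ ζ ∈ X, ∀ ζ' ∈ X, ζ - ζ' ∈ X) →
      (∀ ζ ∈ X, ∀ (w : Fin b → F) (c : F), tvm C.f₂ w c * ζ * tvm C.f₂ w (-c) ∈ X) →
      (∀ ζ ∈ X, ∃ s : F, ζ + adjm C.f₂ ζ = s • (1 : Matrix (Fin b) (Fin b) F)) →
      (∀ ζ ∈ X, ∀ ζ' ∈ X, ∃ s : F,
        ζ * adjm C.f₂ ζ' + ζ' * adjm C.f₂ ζ = s • (1 : Matrix (Fin b) (Fin b) F)) →
      ∀ ζ ∈ X, ∃ s : F, ζ = s • (1 : Matrix (Fin b) (Fin b) F))
    (hCOMMA : ∀ (h : Matrix.GeneralLinearGroup (Fin a × Fin b) F), h ∈ C.G →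
      ∀ (u x₁ : Fin a → F), C.f₁ x₁ u = 0 → ∀ (ζ : Matrix (Fin b) (Fin b) F),
      (∀ y : Fin b → F,
        (h : Matrix (Fin a × Fin b) (Fin a × Fin b) F) *ᵥ ten x₁ y = ten x₁ y + ten u (ζ *ᵥ y)) →
      ∀ c : F, C.IsHA (h * C.tvA x₁ c * h⁻¹ * (C.tvA x₁ c)⁻¹) (c • ζ) (c • C.adj₂ ζ)
        (c • (ζ * C.adj₂ ζ)) u x₁)
    (M : Subgroup (Matrix.GeneralLinearGroup (Fin a × Fin b) F)) (hT : C.T1 ≤ M) (hG : M ≤ C.G)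
    (hU : C.UnipA M) : C.NtsA M := by
  intro h hM u hu hfix hperp
  obtain ⟨v, hv⟩ := (C.hf₁.nondegenerate u hu).2
  have huu' : C.f₁ u ((C.f₁ u v)⁻¹ • v) = 1 := by
    rw [C.hf₁.bilinear.smul_right, inv_mul_cancel₀ hv]
  set u' := (C.f₁ u v)⁻¹ • v with hu'def
  have hφu : C.fl₁ u' ⬝ᵥ u = 1 := by rw [C.fl₁_dot, huu']
  have hZ : ∀ x : Fin a → F, C.f₁ x u = 0 → ∃ Z : Matrix (Fin b) (Fin b) F,
      (∀ y : Fin b → F, Z *ᵥ y = ctrA (C.fl₁ u')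
        ((h : Matrix (Fin a × Fin b) (Fin a × Fin b) F) *ᵥ ten x y - ten x y)) ∧
      (∀ y : Fin b → F, (h : Matrix (Fin a × Fin b) (Fin a × Fin b) F) *ᵥ ten x y =
        ten x y + ten u (Z *ᵥ y)) := by
    intro x hx
    obtain ⟨Z, hZ⟩ := tontsa_Zm (h : Matrix (Fin a × Fin b) (Fin a × Fin b) F) (C.fl₁ u') x
    refine ⟨Z, hZ, fun y => ?_⟩
    obtain ⟨y', hy'⟩ := hperp x hx y
    rw [hZ, hy', add_sub_cancel_left, ctrA_ten, hφu, one_smul]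
  have hj : 0 < b := by omega
  let j₀ : Fin b := ⟨0, hj⟩
  let e₀ : Fin b → F := Pi.single j₀ 1
  obtain ⟨r, hr⟩ := tontsa_mu (h : Matrix (Fin a × Fin b) (Fin a × Fin b) F) (C.fl₁ u') e₀ j₀
  obtain ⟨x₀, hx₀⟩ := rho_surj C.hf₁ r
  have hux₀ : C.f₁ u x₀ = 0 := by
    rw [hx₀, hr, hfix, sub_self]
    simp [ctrA]
  have hx₀u : C.f₁ x₀ u = 0 := by rw [C.hf₁.skew, hux₀, neg_zero]
  have hlam : ∀ x : Fin a → F, C.f₁ x u = 0 → ∀ y : Fin b → F,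
      (h : Matrix (Fin a × Fin b) (Fin a × Fin b) F) *ᵥ ten x y =
        ten x y + C.f₁ x x₀ • ten u y := by
    intro x hx y
    obtain ⟨Z, hZ1, hZ2⟩ := hZ x hx
    have hs : ∃ s : F, Z = s • (1 : Matrix (Fin b) (Fin b) F) := by
      by_cases hxu : ∃ l : F, x = l • u
      · obtain ⟨l, rfl⟩ := hxu
        refine ⟨0, ?_⟩
        rw [zero_smul, Matrix.ext_iff_mulVec]
        intro y'
        rw [hZ1, ten_smul_left, Matrix.mulVec_smul, hfix, sub_self, Matrix.zero_mulVec]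
        funext j
        simp [ctrA]
      · push Not at hxu
        exact tontsa_scalar C hALG hCOMMA M hT hG hU h hM u x hu hx hxu Z hZ2
    obtain ⟨s, hs⟩ := hs
    have hsval : s = C.f₁ x x₀ := by
      rw [hx₀, hr, ← hZ1, hs, Matrix.smul_mulVec, Matrix.one_mulVec]
      simp [e₀]
    rw [hZ2, hs, Matrix.smul_mulVec, Matrix.one_mulVec, ten_smul_right, hsval]
  obtain ⟨hkT, hk⟩ := tontsa_sk C u x₀ hx₀u
  have hkM := hT hkT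
  set k := C.tvA (u + x₀) 1 * C.tvA u (-1) * C.tvA x₀ (-1) with hkdef
  have hk' : ∀ (x : Fin a → F) (y : Fin b → F),
      (k : Matrix (Fin a × Fin b) (Fin a × Fin b) F) *ᵥ ten x y =
      ten x y + C.f₁ x x₀ • ten u y + C.f₁ x u • ten x₀ y := by
    intro x y
    rw [hk x y, Matrix.one_mulVec, Matrix.zero_mulVec, ten_zero_right, smul_zero, add_zero]
  have hgM : k⁻¹ * h ∈ M := M.mul_mem (M.inv_mem hkM) hM
  have hgfix : ∀ x : Fin a → F, C.f₁ x u = 0 → ∀ y : Fin b → F,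
      ((k⁻¹ * h : Matrix.GeneralLinearGroup (Fin a × Fin b) F) :
        Matrix (Fin a × Fin b) (Fin a × Fin b) F) *ᵥ ten x y = ten x y := by
    intro x hx y
    rw [tontsa_mul_mulVec]
    apply tontsa_inv_apply
    rw [hk', hlam x hx y, hx, zero_smul, add_zero]
  obtain ⟨η, hη⟩ := tontsa_fixperp C (k⁻¹ * h) (hG hgM) u u' huu' hgfix
  obtain ⟨c, hc⟩ := hU _ hgM u η hu hη
  refine ⟨x₀, c, hx₀u, ?_⟩
  intro x y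
  have hh : h = k * (k⁻¹ * h) := by group
  conv_lhs => rw [hh]
  rw [tontsa_mul_mulVec, hη, ERm_mulVec, C.ctrA_fl₁_ten, hc]
  simp only [Matrix.mulVec_add, Matrix.mulVec_smul, Matrix.smul_mulVec, Matrix.one_mulVec,
    ten_smul_right, hk', hux₀, C.hf₁.alternating u, zero_smul, add_zero]

end Cfsg.Agent.Lib.helper7.TO
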