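import Cfsg.Agent.Lib.Helper1.TSSTAB2b

set_option autoImplicit false
set_option linter.unusedSectionVars false

namespace Cfsg.Agent.Lib.Helper21.TS

open Matrix
open scoped Kronecker
open Cfsg.Agent.Lib.helper7.TP

variable {b : ℕ} {F : Type*} [Field F]
  {J1 : Matrix (Fin 2) (Fin 2) F} {J2 : Matrix (Fin b) (Fin b) F}

theorem tsstab2_same (C : Ctx J1 J2) (hb : 1 ≤ b)
    (M : Subgroup (Matrix.GeneralLinearGroup (Fin 2 × Fin b) F)) (hT0 : T0 J1 J2 ≤ M)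
    (hMS : M ≤ SpV J1 J2) (hL : LamF J1 M)
    (g : Matrix.GeneralLinearGroup (Fin 2 × Fin b) F) (hgM : g ∈ M)
    (u : Fin 2 → F) (hu : u ≠ 0)
    (hst : ∀ y : Fin b → F, ∃ y' : Fin b → F,
      (g : Matrix (Fin 2 × Fin b) (Fin 2 × Fin b) F) *ᵥ ten u y = ten u y') :
    g ∈ K0 2 b F := by
  have huu : bf J1 u u = 0 := bf_self_alt C.alt C.two u
  obtain ⟨μ, hμ⟩ := tsstab_mu C g u hu hst
  obtain ⟨ν, hν0, h1, h2⟩ := tsstab_nu C hb M hT0 hMS hL g hgM u hu μ hμ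
  obtain ⟨v, hv⟩ := bf_nondeg C.det1 hu
  have h12 : bf J1 u ((bf J1 u v)⁻¹ • v) = 1 := by
    rw [bf_smul_right, inv_mul_cancel₀ hv]
  set u₂ := (bf J1 u v)⁻¹ • v with hu₂def
  have h21 : bf J1 (-u₂) u = 1 := by
    rw [bf_neg_left, bf_alt C.alt, h12, neg_neg]
  obtain ⟨t, htT, ht⟩ := tsstab2_t0 C u u₂ h12 μ ν hν0 h1 h2
  have htM := hT0 htT
  have hg'M : t⁻¹ * g ∈ M := M.mul_mem (M.inv_mem htM) hgM
  have hfix : ∀ x : Fin 2 → F, bf J1 x u = 0 → ∀ y : Fin b → F,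
      ((t⁻¹ * g : Matrix.GeneralLinearGroup (Fin 2 × Fin b) F) :
        Matrix (Fin 2 × Fin b) (Fin 2 × Fin b) F) *ᵥ ten x y = ten x y := by
    intro x hx y
    have hxu := tsstab2_perp C.alt C.two u u₂ x h12 hx
    rw [hxu, ten_smul_left, Matrix.mulVec_smul, helper7.TO.tontsa_mul_mulVec, hμ]
    congr 1
    apply helper7.TO.tontsa_inv_apply
    exact ht y
  obtain ⟨η, hη⟩ := tsnta_fixperp C (t⁻¹ * g) (hMS hg'M) u (-u₂) h21 hfix
  obtain ⟨c, hc⟩ := hL u η hu ⟨_, hg'M, hη⟩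
  have hg'K : t⁻¹ * g ∈ K0 2 b F := by
    rw [mem_K0]
    refine ⟨tvG J1 u huu c, 1, ?_⟩
    rw [hη, hc, XAm_scalar, tvG_coe, Units.val_one]
  have htK : t ∈ K0 2 b F := (Subgroup.mem_inf.mp htT).1
  have : g = t * (t⁻¹ * g) := by group
  rw [this]
  exact (K0 2 b F).mul_mem htK hg'K

theorem tsstab2_stabA (C : Ctx J1 J2) (hb : 1 ≤ b)
    (M : Subgroup (Matrix.GeneralLinearGroup (Fin 2 × Fin b) F)) (hT0 : T0 J1 J2 ≤ M)
    (hMS : M ≤ SpV J1 J2) (hL : LamF J1 M) : StabA M := by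
  intro g hgM u u' hu hu' hst
  obtain ⟨α, hα, hαu⟩ := sp_trans C.alt C.two C.det1 hu' hu
  have hkT : kronG α (1 : Matrix.GeneralLinearGroup (Fin b) F) ∈ T0 J1 J2 :=
    kronG_mem_T0 hα (Iso J2).one_mem
  have hkM := hT0 hkT
  have hst' : ∀ y : Fin b → F, ∃ y' : Fin b → F,
      ((kronG α (1 : Matrix.GeneralLinearGroup (Fin b) F) * g :
        Matrix.GeneralLinearGroup (Fin 2 × Fin b) F) :
        Matrix (Fin 2 × Fin b) (Fin 2 × Fin b) F) *ᵥ ten u y = ten u y' := by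
    intro y
    obtain ⟨y', hy'⟩ := hst y
    refine ⟨y', ?_⟩
    rw [helper7.TO.tontsa_mul_mulVec, hy', kronG_mulVec_ten, hαu, Units.val_one,
      Matrix.one_mulVec]
  have h1 := tsstab2_same C hb M hT0 hMS hL _ (M.mul_mem hkM hgM) u hu hst'
  have hkK : kronG α (1 : Matrix.GeneralLinearGroup (Fin b) F) ∈ K0 2 b F := kronG_mem_K0 α 1
  have : g = (kronG α (1 : Matrix.GeneralLinearGroup (Fin b) F))⁻¹ *
      (kronG α (1 : Matrix.GeneralLinearGroup (Fin b) F) * g) := by group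
  rw [this]
  exact (K0 2 b F).mul_mem ((K0 2 b F).inv_mem hkK) h1

end Cfsg.Agent.Lib.Helper21.TS
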