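import Cfsg.Agent.Lib.Helper27.TS2.Defs
import Cfsg.Agent.Lib.Helper1.TSSTAB2

set_option autoImplicit false
set_option linter.unusedSectionVars false
set_option linter.unusedVariables false

namespace Cfsg.Agent.Lib.Helper21.TS

open Matrix
open scoped Kronecker
open Cfsg.Agent.Lib.helper7.TP

variable {a b : ℕ} {F : Type*} [Field F]

variable {J1 : Matrix (Fin 2) (Fin 2) F} {J2 : Matrix (Fin b) (Fin b) F}
  {M : Subgroup (Matrix.GeneralLinearGroup (Fin 2 × Fin b) F)}

theorem ts2staba2_zero {n : Type*} [Fintype n] [DecidableEq n] [IsEmpty n]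
    (g : Matrix.GeneralLinearGroup n F) : g = 1 := by
  apply Units.ext
  ext i
  exact (IsEmpty.false i).elim

theorem stabA_two (C : Ctx J1 J2) (hT0 : T0 J1 J2 ≤ M) (hMS : M ≤ SpV J1 J2) (hL : LamF J1 M) :
    StabA M := by
  rcases Nat.eq_zero_or_pos b with hb0 | hb
  · subst hb0
    intro g hgM u u' hu hu' hst
    rw [ts2staba2_zero g]
    exact (K0 2 0 F).one_mem
  · exact tsstab2_stabA C hb M hT0 hMS hL

end Cfsg.Agent.Lib.Helper21.TS
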