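import Mathlib
import Cfsg.Prelude.Def_ClassicalGeometry
import Cfsg.Agent.Lib.Helper27.SPSQNEG

set_option autoImplicit false
set_option linter.unusedVariables false
set_option linter.unusedSectionVars false

namespace Cfsg.Agent.Lib.helper4.TSD

open Matrix
open scoped Kronecker

variable {F : Type*} [Field F]

theorem tsdcneg_two_ne_zero [Fintype F] (hodd : Odd (Fintype.card F)) : (2 : F) ≠ 0 := by
  intro h2
  have hchar : ringChar F = 2 := by
    have hdvd : ringChar F ∣ 2 := by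
      apply ringChar.dvd
      exact_mod_cast h2
    have hp : (ringChar F).Prime := CharP.char_is_prime F (ringChar F)
    exact (Nat.prime_dvd_prime_iff_eq hp Nat.prime_two).mp hdvd
  have heven : Fintype.card F % 2 = 0 := FiniteField.even_card_of_char_two hchar
  rcases hodd with ⟨k, hk⟩
  omega

theorem tsd_conj_neg [Fintype F] (hodd : Odd (Fintype.card F)) (d : ℕ)
    (x y : GL (Fin d ⊕ Fin d) F) (hx : x ∈ Cfsg.spGL d F) (hy : y ∈ Cfsg.spGL d F)
    (hx2 : (x : Matrix (Fin d ⊕ Fin d) (Fin d ⊕ Fin d) F) ^ 2 = -1)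
    (hy2 : (y : Matrix (Fin d ⊕ Fin d) (Fin d ⊕ Fin d) F) ^ 2 = -1) :
    ∃ g ∈ Cfsg.spGL d F, g⁻¹ * x * g = y := by
  have h2 := tsdcneg_two_ne_zero hodd
  rw [pow_two] at hx2 hy2
  exact Cfsg.Agent.Lib.Helper27.SpInv.sp_sqneg_conj h2 d x y hx hy hx2 hy2

end Cfsg.Agent.Lib.helper4.TSD
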