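import Cfsg.Agent.Lib.Helper1.TSNTAcore
import Cfsg.Agent.Lib.helper4.TSMAINA

set_option autoImplicit false
set_option linter.unusedSectionVars false

namespace Cfsg.Agent.Lib.Helper21.TS

open Matrix
open scoped Kronecker
open Cfsg.Agent.Lib.helper7.TP

variable {a b : ℕ} {F : Type*} [Field F]
  {J1 : Matrix (Fin a) (Fin a) F} {J2 : Matrix (Fin b) (Fin b) F}

theorem tsnta_selfAdj (C : Ctx J1 J2) (u : Fin a → F) (hu : u ≠ 0)
    (η : Matrix (Fin b) (Fin b) F) (g : Matrix.GeneralLinearGroup (Fin a × Fin b) F)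
    (hg : g ∈ SpV J1 J2)
    (hmat : (g : Matrix (Fin a × Fin b) (Fin a × Fin b) F) = XAm J1 u η) : SelfAdj J2 η := by
  rw [selfAdj_iff_bf]
  intro y y'
  obtain ⟨v, hv⟩ := bf_nondeg C.det1 hu
  have huu : bf J1 u u = 0 := bf_self_alt C.alt C.two u
  have hvv : bf J1 v v = 0 := bf_self_alt C.alt C.two v
  have hvu : bf J1 v u = -bf J1 u v := bf_alt C.alt v u
  have h1 := (mem_Iso_iff_bf _ g).mp hg (ten v y) (ten v y')
  rw [hmat, XAm_mulVec_ten, XAm_mulVec_ten] at h1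
  simp only [bf_add_left, bf_add_right, bf_smul_left, bf_smul_right, bf_JV_ten, huu, hvv, hvu,
    zero_mul, mul_zero, add_zero, zero_add] at h1
  have h2 : bf J1 u v * bf J1 u v * (bf J2 (η *ᵥ y) y' - bf J2 y (η *ᵥ y')) = 0 := by
    linear_combination h1
  rcases mul_eq_zero.mp h2 with h3 | h3
  · exact (hv (mul_self_eq_zero.mp h3)).elim
  · exact sub_eq_zero.mp h3

theorem lamF_of_NTp [Fintype F] (C : Ctx J1 J2) (hb : 3 ≤ b)
    (hex : 5 ≤ Fintype.card F ∨ 4 ≤ b)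
    {M : Subgroup (Matrix.GeneralLinearGroup (Fin a × Fin b) F)} (hT0 : T0 J1 J2 ≤ M)
    (hMS : M ≤ SpV J1 J2) (hNT : NTp J1 J2 M) : LamF J1 M := by
  intro u η hu hin
  by_contra hns
  push Not at hns
  obtain ⟨g, hg, hmat⟩ := hin
  have hsa : SelfAdj J2 η := tsnta_selfAdj C u hu η g (hMS hg) hmat
  have hη : η ∈ LamU J1 J2 M u := ⟨hsa, g, hg, hmat⟩
  have hall := main_A C hb hex hT0 hMS hu hη hns
  have hj : 0 < b := by omega
  let w : Fin b → F := Pi.single ⟨0, hj⟩ 1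
  have hw : w ≠ 0 := by
    intro h
    have := congrFun h ⟨0, hj⟩
    simp [w] at this
  exact hNT u w 1 hu hw one_ne_zero (hall (ten u w) 1)

theorem ntsA_of_NTp [Fintype F] (C : Ctx J1 J2) (hb : 3 ≤ b)
    (hex : 5 ≤ Fintype.card F ∨ 4 ≤ b)
    {M : Subgroup (Matrix.GeneralLinearGroup (Fin a × Fin b) F)} (hT0 : T0 J1 J2 ≤ M)
    (hMS : M ≤ SpV J1 J2) (hNT : NTp J1 J2 M) : NtsA J1 M :=
  ntsA_of_lamF C hb M hT0 hMS (lamF_of_NTp C hb hex hT0 hMS hNT)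

end Cfsg.Agent.Lib.Helper21.TS
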