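import Cfsg.Agent.Lib.Helper21.TS.XA
import Cfsg.Agent.Lib.helper4.TPNS

set_option autoImplicit false
set_option linter.unusedSectionVars false

namespace Cfsg.Agent.Lib.Helper21.TS

open Matrix
open scoped Kronecker
open Cfsg.Agent.Lib.helper7.TP

variable {ι : Type*} [Fintype ι] [DecidableEq ι] {b : ℕ} {F : Type*} [Field F]

noncomputable def adjM (J ζ : Matrix ι ι F) : Matrix ι ι F := J⁻¹ * ζᵀ * J

theorem adjM_bf {J : Matrix ι ι F} (hdet : J.det ≠ 0) (ζ : Matrix ι ι F) (x y : ι → F) :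
    bf J (ζ *ᵥ x) y = bf J x (adjM J ζ *ᵥ y) := by
  have hu : IsUnit J.det := isUnit_iff_ne_zero.mpr hdet
  rw [bf_mulVec_left, bf_mulVec_right, adjM, ← Matrix.mul_assoc, ← Matrix.mul_assoc,
    Matrix.mul_nonsing_inv J hu, Matrix.one_mul]

theorem adjM_unique {J : Matrix ι ι F} (hdet : J.det ≠ 0) (ζ ξ : Matrix ι ι F)
    (h : ∀ x y, bf J (ζ *ᵥ x) y = bf J x (ξ *ᵥ y)) : adjM J ζ = ξ := by
  have hu : IsUnit J.det := isUnit_iff_ne_zero.mpr hdet
  have h1 : ζᵀ * J = J * ξ := by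
    apply bf_ext
    intro x y
    rw [← bf_mulVec_left, ← bf_mulVec_right, h]
  rw [adjM, Matrix.mul_assoc, h1, ← Matrix.mul_assoc, Matrix.nonsing_inv_mul J hu, Matrix.one_mul]

theorem adjM_sub (J ζ ζ' : Matrix ι ι F) : adjM J (ζ - ζ') = adjM J ζ - adjM J ζ' := by
  rw [adjM, adjM, adjM, Matrix.transpose_sub, Matrix.mul_sub, Matrix.sub_mul]

theorem adjM_mul {J : Matrix ι ι F} (hdet : J.det ≠ 0) (ζ ζ' : Matrix ι ι F) :
    adjM J (ζ * ζ') = adjM J ζ' * adjM J ζ := by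
  apply adjM_unique hdet
  intro x y
  rw [← Matrix.mulVec_mulVec, adjM_bf hdet, adjM_bf hdet, Matrix.mulVec_mulVec]

theorem adjM_smul_one {J : Matrix ι ι F} (hdet : J.det ≠ 0) (c : F) :
    adjM J (c • (1 : Matrix ι ι F)) = c • (1 : Matrix ι ι F) := by
  apply adjM_unique hdet
  intro x y
  rw [Matrix.smul_mulVec, Matrix.one_mulVec, Matrix.smul_mulVec, Matrix.one_mulVec, bf_smul_left,
    bf_smul_right]

noncomputable def reflM (J : Matrix ι ι F) (x : ι → F) : Matrix ι ι F :=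
  1 - (2 / bf J x x) • opm J x x

theorem reflM_mulVec (J : Matrix ι ι F) (x y : ι → F) :
    reflM J x *ᵥ y = y - (2 / bf J x x * bf J x y) • x := by
  rw [reflM, Matrix.sub_mulVec, Matrix.one_mulVec, Matrix.smul_mulVec, opm_mulVec, smul_smul]

theorem reflM_bf {J : Matrix ι ι F} (hJ : Jᵀ = J) (x : ι → F) (hx : bf J x x ≠ 0) (y y' : ι → F) :
    bf J (reflM J x *ᵥ y) (reflM J x *ᵥ y') = bf J y y' := by
  rw [reflM_mulVec, reflM_mulVec, bf_sub_left, bf_sub_right, bf_sub_right, bf_smul_left,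
    bf_smul_left, bf_smul_right, bf_smul_right, bf_symm hJ y x]
  field_simp
  ring

theorem reflM_sq {J : Matrix ι ι F} (x : ι → F) (hx : bf J x x ≠ 0) :
    reflM J x * reflM J x = 1 := by
  rw [Matrix.ext_iff_mulVec]
  intro y
  rw [← Matrix.mulVec_mulVec, reflM_mulVec, reflM_mulVec, Matrix.one_mulVec, bf_sub_right,
    bf_smul_right]
  have : (2 / bf J x x * (bf J x y - 2 / bf J x x * bf J x y * bf J x x)) =
      -(2 / bf J x x * bf J x y) := by
    field_simp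
    ring
  rw [this, neg_smul]
  abel

theorem reflM_adj {J : Matrix ι ι F} (hJ : Jᵀ = J) (hdet : J.det ≠ 0) (x : ι → F) :
    adjM J (reflM J x) = reflM J x := by
  apply adjM_unique hdet
  intro y y'
  rw [reflM_mulVec, reflM_mulVec, bf_sub_left, bf_sub_right, bf_smul_left, bf_smul_right,
    bf_symm hJ y x]
  ring

noncomputable def reflG (J : Matrix ι ι F) (x : ι → F) (hx : bf J x x ≠ 0) :
    Matrix.GeneralLinearGroup ι F :=
  ⟨reflM J x, reflM J x, reflM_sq x hx, reflM_sq x hx⟩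

@[simp] theorem reflG_coe (J : Matrix ι ι F) (x : ι → F) (hx : bf J x x ≠ 0) :
    ((reflG J x hx : Matrix.GeneralLinearGroup ι F) : Matrix ι ι F) = reflM J x := rfl

theorem reflG_inv_coe (J : Matrix ι ι F) (x : ι → F) (hx : bf J x x ≠ 0) :
    (((reflG J x hx)⁻¹ : Matrix.GeneralLinearGroup ι F) : Matrix ι ι F) = reflM J x := rfl

theorem reflG_mem_Iso {J : Matrix ι ι F} (hJ : Jᵀ = J) (x : ι → F) (hx : bf J x x ≠ 0) :
    reflG J x hx ∈ Iso J := by
  rw [mem_Iso_iff_bf]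
  intro y y'
  rw [reflG_coe, reflM_bf hJ x hx]

theorem tsnta_ex_nonsing {J : Matrix ι ι F} (hJ : Jᵀ = J) (two : (2 : F) ≠ 0) (hJ0 : J ≠ 0) :
    ∃ e : ι → F, bf J e e ≠ 0 := by
  by_contra hcon
  push Not at hcon
  apply hJ0
  apply bf_ext
  intro x y
  have h1 := hcon (x + y)
  rw [bf_add_left, bf_add_right, bf_add_right, hcon x, hcon y, bf_symm hJ y x] at h1
  have h2 : (2 : F) * bf J x y = 0 := by linear_combination h1
  have h3 : bf J x y = 0 := by
    rcases mul_eq_zero.mp h2 with h | h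
    · exact (two h).elim
    · exact h
  rw [h3]
  simp [bf]

theorem tsnta_opm_eq_zero {J : Matrix ι ι F} (hdet : J.det ≠ 0) (z : ι → F)
    (h : opm J z z = 0) : z = 0 := by
  by_contra hz
  obtain ⟨y, hy⟩ := bf_nondeg hdet hz
  have h1 : opm J z z *ᵥ y = 0 := by rw [h, Matrix.zero_mulVec]
  rw [opm_mulVec] at h1
  rcases smul_eq_zero.mp h1 with h2 | h2
  · exact hy h2
  · exact hz h2

end Cfsg.Agent.Lib.Helper21.TS
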