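import Cfsg.Agent.Lib.Helper1.TSNTDefs
import Cfsg.Agent.Lib.Helper1.TSNTAalg
import Cfsg.Agent.Lib.Helper1.TONTSAb

set_option autoImplicit false
set_option linter.unusedSectionVars false

namespace Cfsg.Agent.Lib.Helper21.TS

open Matrix
open scoped Kronecker
open Cfsg.Agent.Lib.helper7.TP

variable {a b : ℕ} {F : Type*} [Field F]
  {J1 : Matrix (Fin a) (Fin a) F} {J2 : Matrix (Fin b) (Fin b) F}

def tsP (J1 : Matrix (Fin a) (Fin a) F) (x : Fin a → F) (v : Fin a × Fin b → F) : Fin b → F :=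
  helper7.TO.ctrA (x ᵥ* J1) v

theorem tsP_ten (J1 : Matrix (Fin a) (Fin a) F) (x x' : Fin a → F) (y : Fin b → F) :
    tsP J1 x (ten x' y) = bf J1 x x' • y := by
  rw [tsP, helper7.TO.ctrA_ten, bf, Matrix.dotProduct_mulVec]

theorem tsP_add (J1 : Matrix (Fin a) (Fin a) F) (x : Fin a → F) (v v' : Fin a × Fin b → F) :
    tsP J1 x (v + v') = tsP J1 x v + tsP J1 x v' := helper7.TO.ctrA_add _ v v'

theorem tsP_smul (J1 : Matrix (Fin a) (Fin a) F) (x : Fin a → F) (c : F)
    (v : Fin a × Fin b → F) : tsP J1 x (c • v) = c • tsP J1 x v := helper7.TO.ctrA_smul _ c v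

theorem tsP_sub (J1 : Matrix (Fin a) (Fin a) F) (x : Fin a → F) (v v' : Fin a × Fin b → F) :
    tsP J1 x (v - v') = tsP J1 x v - tsP J1 x v' := by
  have h := tsP_add J1 x (v - v') v'
  rw [sub_add_cancel] at h
  rw [h, add_sub_cancel_right]

theorem tsnta_bf_left (J1 : Matrix (Fin a) (Fin a) F) (J2 : Matrix (Fin b) (Fin b) F)
    (x : Fin a → F) (y : Fin b → F) (v : Fin a × Fin b → F) :
    bf (JV J1 J2) (ten x y) v = bf J2 y (tsP J1 x v) := by
  let L1 : (Fin a × Fin b → F) →ₗ[F] F :=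
    { toFun := fun v => bf (JV J1 J2) (ten x y) v
      map_add' := fun v v' => bf_add_right _ _ v v'
      map_smul' := fun c v => by
        show bf (JV J1 J2) (ten x y) (c • v) = c • bf (JV J1 J2) (ten x y) v
        rw [bf_smul_right, smul_eq_mul] }
  let L2 : (Fin a × Fin b → F) →ₗ[F] F :=
    { toFun := fun v => bf J2 y (tsP J1 x v)
      map_add' := fun v v' => by
        show bf J2 y (tsP J1 x (v + v')) = bf J2 y (tsP J1 x v) + bf J2 y (tsP J1 x v')
        rw [tsP_add, bf_add_right]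
      map_smul' := fun c v => by
        show bf J2 y (tsP J1 x (c • v)) = c • bf J2 y (tsP J1 x v)
        rw [tsP_smul, bf_smul_right, smul_eq_mul] }
  have hL : L1 = L2 := by
    apply helper7.TO.lin_ext_ten
    intro x' y'
    show bf (JV J1 J2) (ten x y) (ten x' y') = bf J2 y (tsP J1 x (ten x' y'))
    rw [bf_JV_ten, tsP_ten, bf_smul_right]
  exact congrArg (fun L : (Fin a × Fin b → F) →ₗ[F] F => L v) hL

theorem tsnta_XAm_mulVec (J1 : Matrix (Fin a) (Fin a) F) (u : Fin a → F)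
    (η : Matrix (Fin b) (Fin b) F) (v : Fin a × Fin b → F) :
    XAm J1 u η *ᵥ v = v + ten u (η *ᵥ tsP J1 u v) := by
  rw [XAm, Matrix.add_mulVec, Matrix.one_mulVec, opm, helper7.TO.vecMulVec_kron_mulVec, tsP]

theorem tsnta_bf_cancel {J2 : Matrix (Fin b) (Fin b) F} (hdet : J2.det ≠ 0) (z z' : Fin b → F)
    (h : ∀ y, bf J2 y z = bf J2 y z') : z = z' := by
  by_contra hne
  have hsub : z - z' ≠ 0 := sub_ne_zero.mpr hne
  obtain ⟨y, hy⟩ := bf_nondeg' hdet hsub
  apply hy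
  rw [bf_sub_right, h y, sub_self]

theorem tsnta_vec_zero {J1 : Matrix (Fin a) (Fin a) F} (hdet1 : J1.det ≠ 0)
    (Y : Fin a × Fin b → F) (h : ∀ x : Fin a → F, tsP J1 x Y = 0) : Y = 0 := by
  have hu : IsUnit J1.det := isUnit_iff_ne_zero.mpr hdet1
  funext p
  obtain ⟨i, j⟩ := p
  have h1 := congrFun (h ((Pi.single i 1 : Fin a → F) ᵥ* J1⁻¹)) j
  rw [tsP, Matrix.vecMul_vecMul, Matrix.nonsing_inv_mul J1 hu, Matrix.vecMul_one] at h1
  simp only [helper7.TO.ctrA, Pi.zero_apply] at h1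
  rw [Finset.sum_eq_single i] at h1
  · simpa using h1
  · intro k _ hk
    simp [hk]
  · intro hi
    exact absurd (Finset.mem_univ i) hi

theorem tsnta_perp (C : Ctx J1 J2) (u u' : Fin a → F) (huu' : bf J1 u' u = 1)
    (X : Fin a × Fin b → F)
    (hX : ∀ x : Fin a → F, bf J1 x u = 0 → ∀ y : Fin b → F, bf (JV J1 J2) (ten x y) X = 0) :
    X = ten u (tsP J1 u' X) := by
  have huu : bf J1 u u = 0 := bf_self_alt C.alt C.two u
  have key : ∀ (x : Fin a → F) (y : Fin b → F),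
      bf (JV J1 J2) (ten x y) (X - ten u (tsP J1 u' X)) = 0 := by
    intro x y
    have hx : ten x y = ten (x - bf J1 x u • u') y + bf J1 x u • ten u' y := by
      rw [helper7.TO.ten_sub_left, ten_smul_left]
      abel
    have hP : bf J1 (x - bf J1 x u • u') u = 0 := by
      rw [bf_sub_left, bf_smul_left, huu', mul_one, sub_self]
    rw [hx, bf_add_left, bf_smul_left, bf_sub_right, bf_sub_right, hX _ hP, bf_JV_ten, hP,
      tsnta_bf_left J1 J2 u' y X, bf_JV_ten, huu']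
    ring
  have hz : X - ten u (tsP J1 u' X) = 0 := by
    apply tsnta_vec_zero C.det1
    intro x
    apply tsnta_bf_cancel C.det2
    intro y
    rw [← tsnta_bf_left, key x y, bf_zero_right]
  exact sub_eq_zero.mp hz

theorem tsnta_iso_inv (J : Matrix (Fin a × Fin b) (Fin a × Fin b) F)
    (g : Matrix.GeneralLinearGroup (Fin a × Fin b) F) (hg : g ∈ Iso J)
    (v w : Fin a × Fin b → F) :
    bf J v (((g⁻¹ : Matrix.GeneralLinearGroup (Fin a × Fin b) F) :
      Matrix (Fin a × Fin b) (Fin a × Fin b) F) *ᵥ w) =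
    bf J ((g : Matrix (Fin a × Fin b) (Fin a × Fin b) F) *ᵥ v) w := by
  have h1 := (mem_Iso_iff_bf J g).mp hg v
    (((g⁻¹ : Matrix.GeneralLinearGroup (Fin a × Fin b) F) :
      Matrix (Fin a × Fin b) (Fin a × Fin b) F) *ᵥ w)
  rw [Matrix.mulVec_mulVec, ← Units.val_mul, mul_inv_cancel, Units.val_one, Matrix.one_mulVec] at h1
  exact h1.symm

theorem tsnta_fixperp (C : Ctx J1 J2) (g : Matrix.GeneralLinearGroup (Fin a × Fin b) F)
    (hg : g ∈ SpV J1 J2) (u u' : Fin a → F) (huu' : bf J1 u' u = 1)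
    (hfix : ∀ x : Fin a → F, bf J1 x u = 0 → ∀ y : Fin b → F,
      (g : Matrix (Fin a × Fin b) (Fin a × Fin b) F) *ᵥ ten x y = ten x y) :
    ∃ η : Matrix (Fin b) (Fin b) F,
      (g : Matrix (Fin a × Fin b) (Fin a × Fin b) F) = XAm J1 u η := by
  have huu : bf J1 u u = 0 := bf_self_alt C.alt C.two u
  have hu'u : bf J1 u u' = -1 := by rw [bf_alt C.alt, huu']
  obtain ⟨Z, hZ⟩ := helper7.TO.tontsa_Zm (g : Matrix (Fin a × Fin b) (Fin a × Fin b) F)
    (u' ᵥ* J1) u'
  have hR : ∀ y : Fin b → F,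
      (g : Matrix (Fin a × Fin b) (Fin a × Fin b) F) *ᵥ ten u' y - ten u' y =
        ten u (Z *ᵥ y) := by
    intro y
    rw [hZ]
    apply tsnta_perp C u u' huu'
    intro x hx y'
    rw [bf_sub_right]
    conv_lhs => rw [← hfix x hx y']
    rw [(mem_Iso_iff_bf _ g).mp hg, hfix x hx y', sub_self]
  refine ⟨-Z, ?_⟩
  apply helper7.TO.mat_ext_ten
  intro x y
  have hP : bf J1 (x - bf J1 x u • u') u = 0 := by
    rw [bf_sub_left, bf_smul_left, huu', mul_one, sub_self]
  have hx : ten x y = ten (x - bf J1 x u • u') y + bf J1 x u • ten u' y := by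
    rw [helper7.TO.ten_sub_left, ten_smul_left]
    abel
  have hgu' : (g : Matrix (Fin a × Fin b) (Fin a × Fin b) F) *ᵥ ten u' y =
      ten u' y + ten u (Z *ᵥ y) := by
    rw [← hR y]
    abel
  rw [XAm_mulVec_ten, Matrix.neg_mulVec, helper7.TO.ten_neg_right]
  conv_lhs => rw [hx]
  rw [Matrix.mulVec_add, Matrix.mulVec_smul, hfix _ hP, hgu', helper7.TO.ten_sub_left,
    ten_smul_left, bf_alt C.alt u x]
  funext p
  simp only [Pi.add_apply, Pi.sub_apply, Pi.smul_apply, Pi.neg_apply, smul_eq_mul]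
  ring

end Cfsg.Agent.Lib.Helper21.TS
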