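import Cfsg.Agent.Lib.Helper1.TSNTAalg

set_option autoImplicit false
set_option linter.unusedSectionVars false

namespace Cfsg.Agent.Lib.Helper21.TS

open Matrix
open scoped Kronecker
open Cfsg.Agent.Lib.helper7.TP

variable {b : ℕ} {F : Type*} [Field F]

theorem tsnta_D_formula {J : Matrix (Fin b) (Fin b) F} (hJ : Jᵀ = J) (two : (2 : F) ≠ 0)
    (N : Matrix (Fin b) (Fin b) F)
    (hN : ∀ y y', bf J (N *ᵥ y) y' = -bf J y (N *ᵥ y'))
    (x : Fin b → F) (hx : bf J x x ≠ 0) (y : Fin b → F) :
    (reflM J x * N * reflM J x - N) *ᵥ y =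
      (2 / bf J x x) • (bf J (N *ᵥ x) y • x - bf J x y • (N *ᵥ x)) := by
  have hxNx : bf J x (N *ᵥ x) = 0 := by
    have h1 := hN x x
    rw [bf_symm hJ (N *ᵥ x) x] at h1
    have h2 : (2 : F) * bf J x (N *ᵥ x) = 0 := by linear_combination h1
    rcases mul_eq_zero.mp h2 with h | h
    · exact (two h).elim
    · exact h
  have hxN : ∀ y', bf J x (N *ᵥ y') = -bf J (N *ᵥ x) y' := by
    intro y'
    rw [hN x y', neg_neg]
  have e1 : reflM J x *ᵥ y = y - (2 / bf J x x * bf J x y) • x := reflM_mulVec J x y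
  rw [Matrix.sub_mulVec, ← Matrix.mulVec_mulVec, ← Matrix.mulVec_mulVec, e1, Matrix.mulVec_sub,
    Matrix.mulVec_smul, reflM_mulVec, bf_sub_right, bf_smul_right, hxN y, hxNx]
  funext i
  simp only [Pi.sub_apply, Pi.smul_apply, smul_eq_mul, mul_zero, sub_zero]
  ring

theorem tsnta_alg (hb : 3 ≤ b) {J : Matrix (Fin b) (Fin b) F} (hJ : Jᵀ = J) (two : (2 : F) ≠ 0)
    (hdet : J.det ≠ 0) (X : Set (Matrix (Fin b) (Fin b) F))
    (hsub : ∀ ζ ∈ X, ∀ ζ' ∈ X, ζ - ζ' ∈ X)
    (hconj : ∀ ζ ∈ X, ∀ x : Fin b → F, bf J x x ≠ 0 → reflM J x * ζ * reflM J x ∈ X)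
    (h1 : ∀ ζ ∈ X, ∃ s : F, ζ + adjM J ζ = s • (1 : Matrix (Fin b) (Fin b) F))
    (h2 : ∀ ζ ∈ X, ∀ ζ' ∈ X, ∃ s : F,
      ζ * adjM J ζ' + ζ' * adjM J ζ = s • (1 : Matrix (Fin b) (Fin b) F)) :
    ∀ ζ ∈ X, ∃ s : F, ζ = s • (1 : Matrix (Fin b) (Fin b) F) := by
  intro ζ hζ
  obtain ⟨s, hs⟩ := h1 ζ hζ
  set c : F := s / 2 with hc
  set N : Matrix (Fin b) (Fin b) F := ζ - c • 1 with hNdef
  have hadjN : adjM J N = -N := by
    rw [hNdef, adjM_sub, adjM_smul_one hdet]
    have : adjM J ζ = s • (1 : Matrix (Fin b) (Fin b) F) - ζ := by rw [← hs]; abel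
    rw [this]
    have hs2 : s = c + c := by rw [hc]; field_simp; ring
    rw [hs2, add_smul]
    abel
  have hN : ∀ y y', bf J (N *ᵥ y) y' = -bf J y (N *ᵥ y') := by
    intro y y'
    rw [adjM_bf hdet, hadjN, Matrix.neg_mulVec, bf_neg_right]
  have hkey : ∀ x : Fin b → F, bf J x x ≠ 0 → N *ᵥ x = 0 := by
    intro x hx
    set z := N *ᵥ x with hz
    set t : F := 2 / bf J x x with ht
    have ht0 : t ≠ 0 := by rw [ht]; exact div_ne_zero two hx
    set D : Matrix (Fin b) (Fin b) F := reflM J x * ζ * reflM J x - ζ with hD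
    have hDX : D ∈ X := hsub _ (hconj ζ hζ x hx) _ hζ
    have hDN : D = reflM J x * N * reflM J x - N := by
      rw [hD, hNdef, Matrix.mul_sub, Matrix.sub_mul, Matrix.mul_smul, Matrix.smul_mul,
        Matrix.mul_one, reflM_sq x hx]
      abel
    have hDy : ∀ y, D *ᵥ y = t • (bf J z y • x - bf J x y • z) := by
      intro y
      rw [hDN, tsnta_D_formula hJ two N hN x hx y]
    have hadjD : adjM J D = -D := by
      rw [hDN, adjM_sub, adjM_mul hdet, adjM_mul hdet, reflM_adj hJ hdet, hadjN]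
      rw [Matrix.neg_mul, Matrix.mul_neg, Matrix.mul_assoc]
      abel
    obtain ⟨s', hs'⟩ := h2 D hDX D hDX
    rw [hadjD, Matrix.mul_neg] at hs'
    have hxz : bf J x z = 0 := by
      have h1 := hN x x
      rw [bf_symm hJ (N *ᵥ x) x] at h1
      have h2 : (2 : F) * bf J x (N *ᵥ x) = 0 := by linear_combination h1
      rcases mul_eq_zero.mp h2 with h | h
      · exact (two h).elim
      · exact h
    have hzx : bf J z x = 0 := by rw [bf_symm hJ, hxz]
    have hDD : ∀ y, (D * D) *ᵥ y =
        (t * t) • (-(bf J x x * bf J z y) • z - (bf J z z * bf J x y) • x) := by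
      intro y
      rw [← Matrix.mulVec_mulVec, hDy y, Matrix.mulVec_smul, Matrix.mulVec_sub,
        Matrix.mulVec_smul, Matrix.mulVec_smul, hDy x, hDy z, hzx, hxz]
      funext i
      simp only [Pi.sub_apply, Pi.smul_apply, smul_eq_mul, Pi.neg_apply, zero_mul, zero_sub,
        sub_zero, neg_mul]
      ring
    have hs'y : ∀ y, -((D * D) *ᵥ y) - (D * D) *ᵥ y = s' • y := by
      intro y
      have := congrArg (fun A : Matrix (Fin b) (Fin b) F => A *ᵥ y) hs'
      simp only [Matrix.add_mulVec, Matrix.neg_mulVec, Matrix.smul_mulVec, Matrix.one_mulVec] at this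
      rw [← this]
      abel
    obtain ⟨y₀, hy₀, hxy₀, hzy₀⟩ := tpns_common_ker hb (x ᵥ* J) (z ᵥ* J)
    have hxy₀' : bf J x y₀ = 0 := by
      rw [bf, Matrix.dotProduct_mulVec]; exact hxy₀
    have hzy₀' : bf J z y₀ = 0 := by
      rw [bf, Matrix.dotProduct_mulVec]; exact hzy₀
    have hs'0 : s' = 0 := by
      have h0 : (D * D) *ᵥ y₀ = 0 := by
        rw [hDD y₀, hxy₀', hzy₀']
        simp only [mul_zero, neg_zero, zero_smul, sub_zero, smul_zero]
      have := hs'y y₀
      rw [h0, neg_zero, sub_zero] at this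
      rcases smul_eq_zero.mp this.symm with h | h
      · exact h
      · exact (hy₀ h).elim
    have hDD0 : ∀ y, (D * D) *ᵥ y = 0 := by
      intro y
      have := hs'y y
      rw [hs'0, zero_smul] at this
      have h3 : (2 : F) • ((D * D) *ᵥ y) = 0 := by
        rw [two_smul]
        have h4 : (D * D) *ᵥ y + (D * D) *ᵥ y = -(-((D * D) *ᵥ y) - (D * D) *ᵥ y) := by abel
        rw [h4, this, neg_zero]
      rcases smul_eq_zero.mp h3 with h | h
      · exact (two h).elim
      · exact h
    have hx0 : x ≠ 0 := by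
      intro h
      apply hx
      rw [h, bf_zero_left]
    have hQz : bf J z z = 0 := by
      have h5 : (D * D) *ᵥ x = (-(t * t * (bf J z z * bf J x x))) • x := by
        rw [hDD x, hzx]
        funext i
        simp only [Pi.sub_apply, Pi.smul_apply, smul_eq_mul, mul_zero, neg_zero, zero_mul,
          zero_sub]
        ring
      rw [hDD0 x] at h5
      rcases smul_eq_zero.mp h5.symm with h | h
      · rcases mul_eq_zero.mp (neg_eq_zero.mp h) with h' | h'
        · exact (ht0 (mul_self_eq_zero.mp h')).elim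
        · rcases mul_eq_zero.mp h' with h'' | h''
          · exact h''
          · exact (hx h'').elim
      · exact (hx0 h).elim
    apply tsnta_opm_eq_zero hdet
    rw [Matrix.ext_iff_mulVec]
    intro y
    rw [opm_mulVec, Matrix.zero_mulVec]
    have h6 : (D * D) *ᵥ y = (-(t * t * (bf J x x * bf J z y))) • z := by
      rw [hDD y, hQz]
      funext i
      simp only [Pi.sub_apply, Pi.smul_apply, smul_eq_mul, zero_mul, sub_zero]
      ring
    rw [hDD0 y] at h6
    rcases smul_eq_zero.mp h6.symm with h | h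
    · rcases mul_eq_zero.mp (neg_eq_zero.mp h) with h' | h'
      · exact (ht0 (mul_self_eq_zero.mp h')).elim
      · rcases mul_eq_zero.mp h' with h'' | h''
        · exact (hx h'').elim
        · rw [h'', zero_smul]
    · rw [h, smul_zero]
  have hJ0 : J ≠ 0 := by
    intro h
    apply hdet
    rw [h]
    haveI : Nonempty (Fin b) := ⟨⟨0, by omega⟩⟩
    exact Matrix.det_zero
  obtain ⟨e, he⟩ := tsnta_ex_nonsing hJ two hJ0
  have hNe : N *ᵥ e = 0 := hkey e he
  have hall : ∀ x : Fin b → F, N *ᵥ x = 0 := by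
    intro x
    by_cases hx : bf J x x = 0
    · by_cases hp : bf J (x + e) (x + e) = 0
      · have hm : bf J (x - e) (x - e) ≠ 0 := by
          intro hm
          rw [bf_add_left, bf_add_right, bf_add_right, hx, bf_symm hJ e x] at hp
          rw [bf_sub_left, bf_sub_right, bf_sub_right, hx, bf_symm hJ e x] at hm
          have h3 : (2 : F) * bf J e e = 0 := by linear_combination hp + hm
          rcases mul_eq_zero.mp h3 with h | h
          · exact two h
          · exact he h
        have := hkey _ hm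
        rw [Matrix.mulVec_sub, hNe, sub_zero] at this
        exact this
      · have := hkey _ hp
        rw [Matrix.mulVec_add, hNe, add_zero] at this
        exact this
    · exact hkey x hx
  refine ⟨c, ?_⟩
  have hN0 : N = 0 := by
    rw [Matrix.ext_iff_mulVec]
    intro x
    rw [hall x, Matrix.zero_mulVec]
  rw [hNdef] at hN0
  exact sub_eq_zero.mp hN0

end Cfsg.Agent.Lib.Helper21.TS
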