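import Cfsg.Agent.Lib.Helper1.TSNTAa

set_option autoImplicit false
set_option linter.unusedSectionVars false

namespace Cfsg.Agent.Lib.Helper21.TS

open Matrix
open scoped Kronecker
open Cfsg.Agent.Lib.helper7.TP

variable {a b : ℕ} {F : Type*} [Field F]
  {J1 : Matrix (Fin a) (Fin a) F} {J2 : Matrix (Fin b) (Fin b) F}

theorem tsnta_kronG_inv_coe (α : Matrix.GeneralLinearGroup (Fin a) F)
    (β : Matrix.GeneralLinearGroup (Fin b) F) :
    (((kronG α β)⁻¹ : Matrix.GeneralLinearGroup (Fin a × Fin b) F) :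
      Matrix (Fin a × Fin b) (Fin a × Fin b) F) =
    ((α⁻¹ : Matrix.GeneralLinearGroup (Fin a) F) : Matrix (Fin a) (Fin a) F) ⊗ₖ
      ((β⁻¹ : Matrix.GeneralLinearGroup (Fin b) F) : Matrix (Fin b) (Fin b) F) := rfl

theorem tsnta_kronG_inv_ten (α : Matrix.GeneralLinearGroup (Fin a) F)
    (β : Matrix.GeneralLinearGroup (Fin b) F) (x : Fin a → F) (y : Fin b → F) :
    (((kronG α β)⁻¹ : Matrix.GeneralLinearGroup (Fin a × Fin b) F) :
      Matrix (Fin a × Fin b) (Fin a × Fin b) F) *ᵥ ten x y =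
    ten (((α⁻¹ : Matrix.GeneralLinearGroup (Fin a) F) : Matrix (Fin a) (Fin a) F) *ᵥ x)
      (((β⁻¹ : Matrix.GeneralLinearGroup (Fin b) F) : Matrix (Fin b) (Fin b) F) *ᵥ y) := by
  rw [tsnta_kronG_inv_coe, kron_mulVec_ten]

theorem tsnta_HA_mul_inv (C : Ctx J1 J2) (h h' : Matrix.GeneralLinearGroup (Fin a × Fin b) F)
    (u x₁ : Fin a → F) (hx₁ : bf J1 x₁ u = 0)
    (ζ ζs κ ζ' ζs' κ' : Matrix (Fin b) (Fin b) F)
    (hh : HA J1 h ζ ζs κ u x₁) (hh' : HA J1 h' ζ' ζs' κ' u x₁) :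
    HA J1 (h * h'⁻¹) (ζ - ζ') (ζs - ζs') (κ - κ') u x₁ := by
  have hux₁ : bf J1 u x₁ = 0 := by rw [bf_alt C.alt, hx₁, neg_zero]
  have huu : bf J1 u u = 0 := bf_self_alt C.alt C.two u
  have h11 : bf J1 x₁ x₁ = 0 := bf_self_alt C.alt C.two x₁
  have hA : ∀ (x : Fin a → F) (y : Fin b → F),
      (h : Matrix (Fin a × Fin b) (Fin a × Fin b) F) *ᵥ ten x y =
      ten x y + bf J1 x x₁ • ten u (ζ *ᵥ y) + bf J1 x u • ten x₁ (ζs *ᵥ y) +
        bf J1 x u • ten u (κ *ᵥ y) := hh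
  have hA' : ∀ (x : Fin a → F) (y : Fin b → F),
      (h' : Matrix (Fin a × Fin b) (Fin a × Fin b) F) *ᵥ ten x y =
      ten x y + bf J1 x x₁ • ten u (ζ' *ᵥ y) + bf J1 x u • ten x₁ (ζs' *ᵥ y) +
        bf J1 x u • ten u (κ' *ᵥ y) := hh'
  intro x y
  have hinv : ((h'⁻¹ : Matrix.GeneralLinearGroup (Fin a × Fin b) F) :
      Matrix (Fin a × Fin b) (Fin a × Fin b) F) *ᵥ ten x y =
      ten x y - bf J1 x x₁ • ten u (ζ' *ᵥ y) - bf J1 x u • ten x₁ (ζs' *ᵥ y) -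
        bf J1 x u • ten u (κ' *ᵥ y) := by
    apply helper7.TO.tontsa_inv_apply
    simp only [Matrix.mulVec_sub, Matrix.mulVec_smul, hA', hux₁, huu, h11, hx₁, zero_smul,
      add_zero]
    abel
  rw [helper7.TO.tontsa_mul_mulVec, hinv]
  simp only [Matrix.mulVec_sub, Matrix.mulVec_smul, hA, hux₁, huu, h11, hx₁, zero_smul,
    add_zero, Matrix.sub_mulVec, helper7.TO.ten_sub_right]
  funext p
  simp only [Pi.add_apply, Pi.sub_apply, Pi.smul_apply, smul_eq_mul, ten]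
  ring

theorem tsnta_gl_mul_inv_mulVec {n : ℕ} (α : Matrix.GeneralLinearGroup (Fin n) F)
    (x : Fin n → F) :
    (α : Matrix (Fin n) (Fin n) F) *ᵥ
      (((α⁻¹ : Matrix.GeneralLinearGroup (Fin n) F) : Matrix (Fin n) (Fin n) F) *ᵥ x) = x := by
  rw [Matrix.mulVec_mulVec, ← Units.val_mul, mul_inv_cancel, Units.val_one, Matrix.one_mulVec]

theorem tsnta_HA_conjA (α : Matrix.GeneralLinearGroup (Fin a) F) (hα : α ∈ Iso J1)
    (h : Matrix.GeneralLinearGroup (Fin a × Fin b) F) (ζ ζs κ : Matrix (Fin b) (Fin b) F)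
    (u x₁ : Fin a → F) (hh : HA J1 h ζ ζs κ u x₁) :
    HA J1 (kronG α (1 : Matrix.GeneralLinearGroup (Fin b) F) * h *
        (kronG α (1 : Matrix.GeneralLinearGroup (Fin b) F))⁻¹) ζ ζs κ
      ((α : Matrix (Fin a) (Fin a) F) *ᵥ u) ((α : Matrix (Fin a) (Fin a) F) *ᵥ x₁) := by
  have hA : ∀ (x : Fin a → F) (y : Fin b → F),
      (h : Matrix (Fin a × Fin b) (Fin a × Fin b) F) *ᵥ ten x y =
      ten x y + bf J1 x x₁ • ten u (ζ *ᵥ y) + bf J1 x u • ten x₁ (ζs *ᵥ y) +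
        bf J1 x u • ten u (κ *ᵥ y) := hh
  have hiso := (mem_Iso_iff_bf J1 α).mp hα
  intro x y
  have e1 : ∀ z : Fin a → F,
      bf J1 (((α⁻¹ : Matrix.GeneralLinearGroup (Fin a) F) : Matrix (Fin a) (Fin a) F) *ᵥ x) z =
      bf J1 x ((α : Matrix (Fin a) (Fin a) F) *ᵥ z) := by
    intro z
    rw [← hiso, tsnta_gl_mul_inv_mulVec]
  rw [helper7.TO.tontsa_mul_mulVec, helper7.TO.tontsa_mul_mulVec, tsnta_kronG_inv_ten, hA]
  simp only [Matrix.mulVec_add, Matrix.mulVec_smul, kronG_mulVec_ten, tsnta_gl_mul_inv_mulVec, e1,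
    inv_one, Units.val_one, Matrix.one_mulVec]

theorem tsnta_HA_conjB (β : Matrix.GeneralLinearGroup (Fin b) F)
    (h : Matrix.GeneralLinearGroup (Fin a × Fin b) F) (ζ ζs κ : Matrix (Fin b) (Fin b) F)
    (u x₁ : Fin a → F) (hh : HA J1 h ζ ζs κ u x₁) :
    HA J1 (kronG (1 : Matrix.GeneralLinearGroup (Fin a) F) β * h *
        (kronG (1 : Matrix.GeneralLinearGroup (Fin a) F) β)⁻¹)
      ((β : Matrix (Fin b) (Fin b) F) * ζ *
        ((β⁻¹ : Matrix.GeneralLinearGroup (Fin b) F) : Matrix (Fin b) (Fin b) F))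
      ((β : Matrix (Fin b) (Fin b) F) * ζs *
        ((β⁻¹ : Matrix.GeneralLinearGroup (Fin b) F) : Matrix (Fin b) (Fin b) F))
      ((β : Matrix (Fin b) (Fin b) F) * κ *
        ((β⁻¹ : Matrix.GeneralLinearGroup (Fin b) F) : Matrix (Fin b) (Fin b) F)) u x₁ := by
  have hA : ∀ (x : Fin a → F) (y : Fin b → F),
      (h : Matrix (Fin a × Fin b) (Fin a × Fin b) F) *ᵥ ten x y =
      ten x y + bf J1 x x₁ • ten u (ζ *ᵥ y) + bf J1 x u • ten x₁ (ζs *ᵥ y) +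
        bf J1 x u • ten u (κ *ᵥ y) := hh
  intro x y
  rw [helper7.TO.tontsa_mul_mulVec, helper7.TO.tontsa_mul_mulVec, tsnta_kronG_inv_ten, hA]
  simp only [Matrix.mulVec_add, Matrix.mulVec_smul, kronG_mulVec_ten, Matrix.mulVec_mulVec,
    Matrix.mul_assoc, Units.mul_inv, Matrix.one_mulVec, inv_one, Units.val_one]

theorem tsnta_sk (C : Ctx J1 J2) (u x₀ : Fin a → F) (h0 : bf J1 x₀ u = 0) :
    ∃ k : Matrix.GeneralLinearGroup (Fin a × Fin b) F, k ∈ T0 J1 J2 ∧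
      HA J1 k (1 : Matrix (Fin b) (Fin b) F) 1 0 u x₀ := by
  have hu0 : bf J1 u x₀ = 0 := by rw [bf_alt C.alt, h0, neg_zero]
  have huu : bf J1 u u = 0 := bf_self_alt C.alt C.two u
  have h00 : bf J1 x₀ x₀ = 0 := bf_self_alt C.alt C.two x₀
  have hss : bf J1 (u + x₀) (u + x₀) = 0 := bf_self_alt C.alt C.two (u + x₀)
  refine ⟨kronG (tvG J1 (u + x₀) hss (-1) * tvG J1 u huu 1 * tvG J1 x₀ h00 1) 1, ?_, ?_⟩
  · apply kronG_mem_T0
    · exact (Iso J1).mul_mem ((Iso J1).mul_mem (tvG_mem_Iso C.alt _ hss _)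
        (tvG_mem_Iso C.alt _ huu _)) (tvG_mem_Iso C.alt _ h00 _)
    · exact (Iso J2).one_mem
  · intro x y
    rw [kronG_mulVec_ten, Units.val_mul, Units.val_mul, tvG_coe, tvG_coe, tvG_coe,
      ← Matrix.mulVec_mulVec, ← Matrix.mulVec_mulVec, tvm_mulVec, tvm_mulVec, tvm_mulVec,
      Units.val_one, Matrix.one_mulVec, Matrix.zero_mulVec]
    simp only [bf_add_left, bf_add_right, bf_smul_right, hu0, huu, h00, h0, mul_zero, add_zero,
      zero_add, bf_alt C.alt u x, bf_alt C.alt x₀ x]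
    funext p
    simp only [Pi.add_apply, Pi.smul_apply, smul_eq_mul, ten, Pi.zero_apply]
    ring

theorem tsnta_commHA (C : Ctx J1 J2) (h h' : Matrix.GeneralLinearGroup (Fin a × Fin b) F)
    (u x₁ x₂ : Fin a → F) (hx₁ : bf J1 x₁ u = 0) (hx₂ : bf J1 x₂ u = 0)
    (ζ ζs κ ζ' ζs' κ' : Matrix (Fin b) (Fin b) F)
    (hh : HA J1 h ζ ζs κ u x₁) (hh' : HA J1 h' ζ' ζs' κ' u x₂) :
    ((h * h' * h⁻¹ * h'⁻¹ : Matrix.GeneralLinearGroup (Fin a × Fin b) F) :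
      Matrix (Fin a × Fin b) (Fin a × Fin b) F) =
      XAm J1 u (bf J1 x₁ x₂ • (ζ * ζs' + ζ' * ζs)) := by
  have hux₁ : bf J1 u x₁ = 0 := by rw [bf_alt C.alt, hx₁, neg_zero]
  have hux₂ : bf J1 u x₂ = 0 := by rw [bf_alt C.alt, hx₂, neg_zero]
  have huu : bf J1 u u = 0 := bf_self_alt C.alt C.two u
  have h21 : bf J1 x₂ x₁ = -bf J1 x₁ x₂ := bf_alt C.alt x₂ x₁
  have hA : ∀ (x : Fin a → F) (y : Fin b → F),
      (h : Matrix (Fin a × Fin b) (Fin a × Fin b) F) *ᵥ ten x y =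
      ten x y + bf J1 x x₁ • ten u (ζ *ᵥ y) + bf J1 x u • ten x₁ (ζs *ᵥ y) +
        bf J1 x u • ten u (κ *ᵥ y) := hh
  have hA' : ∀ (x : Fin a → F) (y : Fin b → F),
      (h' : Matrix (Fin a × Fin b) (Fin a × Fin b) F) *ᵥ ten x y =
      ten x y + bf J1 x x₂ • ten u (ζ' *ᵥ y) + bf J1 x u • ten x₂ (ζs' *ᵥ y) +
        bf J1 x u • ten u (κ' *ᵥ y) := hh'
  have hmat : (h : Matrix (Fin a × Fin b) (Fin a × Fin b) F) *
      (h' : Matrix (Fin a × Fin b) (Fin a × Fin b) F) =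
      XAm J1 u (bf J1 x₁ x₂ • (ζ * ζs' + ζ' * ζs)) *
        ((h' : Matrix (Fin a × Fin b) (Fin a × Fin b) F) *
          (h : Matrix (Fin a × Fin b) (Fin a × Fin b) F)) := by
    apply helper7.TO.mat_ext_ten
    intro x y
    rw [← Matrix.mulVec_mulVec, ← Matrix.mulVec_mulVec, ← Matrix.mulVec_mulVec, tsnta_XAm_mulVec]
    rw [hA' x y, hA x y]
    simp only [Matrix.mulVec_add, Matrix.mulVec_smul, hA, hA', tsP_add, tsP_smul, tsP_ten,
      hux₁, hux₂, huu, hx₁, hx₂, h21, bf_alt C.alt u x, zero_smul, add_zero, smul_zero,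
      Matrix.smul_mulVec,
      Matrix.add_mulVec, ten_add_right, ten_smul_right, smul_add, smul_smul,
      ← Matrix.mulVec_mulVec]
    funext p
    simp only [Pi.add_apply, Pi.smul_apply, smul_eq_mul, ten]
    ring
  have hgrp : h * h' * h⁻¹ * h'⁻¹ * (h' * h) = h * h' := by group
  have h2 : ((h * h' * h⁻¹ * h'⁻¹ : Matrix.GeneralLinearGroup (Fin a × Fin b) F) :
      Matrix (Fin a × Fin b) (Fin a × Fin b) F) *
      ((h' * h : Matrix.GeneralLinearGroup (Fin a × Fin b) F) :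
        Matrix (Fin a × Fin b) (Fin a × Fin b) F) =
      XAm J1 u (bf J1 x₁ x₂ • (ζ * ζs' + ζ' * ζs)) *
      ((h' * h : Matrix.GeneralLinearGroup (Fin a × Fin b) F) :
        Matrix (Fin a × Fin b) (Fin a × Fin b) F) := by
    rw [← Units.val_mul, hgrp, Units.val_mul, Units.val_mul, hmat]
  exact (Units.mul_left_inj (h' * h)).mp h2

end Cfsg.Agent.Lib.Helper21.TS
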