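import Cfsg.Agent.Lib.Helper1.TSNTAb
import Cfsg.Agent.Lib.Helper1.TSNTAalgb

set_option autoImplicit false
set_option linter.unusedSectionVars false

namespace Cfsg.Agent.Lib.Helper21.TS

open Matrix
open scoped Kronecker
open Cfsg.Agent.Lib.helper7.TP

variable {a b : ℕ} {F : Type*} [Field F]
  {J1 : Matrix (Fin a) (Fin a) F} {J2 : Matrix (Fin b) (Fin b) F}

theorem tsnta_adj_transfer (C : Ctx J1 J2) (h : Matrix.GeneralLinearGroup (Fin a × Fin b) F)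
    (hh : h ∈ SpV J1 J2) (u x₁ : Fin a → F) (ζ : Matrix (Fin b) (Fin b) F)
    (hζ : ∀ y : Fin b → F,
      (h : Matrix (Fin a × Fin b) (Fin a × Fin b) F) *ᵥ ten x₁ y = ten x₁ y + ten u (ζ *ᵥ y))
    (v : Fin a × Fin b → F) :
    tsP J1 x₁ (((h⁻¹ : Matrix.GeneralLinearGroup (Fin a × Fin b) F) :
      Matrix (Fin a × Fin b) (Fin a × Fin b) F) *ᵥ v) =
    tsP J1 x₁ v + adjM J2 ζ *ᵥ tsP J1 u v := by
  apply tsnta_bf_cancel C.det2
  intro y
  rw [← tsnta_bf_left J1 J2, tsnta_iso_inv (JV J1 J2) h hh, hζ y, bf_add_left, bf_add_right,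
    tsnta_bf_left J1 J2, tsnta_bf_left J1 J2, adjM_bf C.det2]

theorem tsnta_comma (C : Ctx J1 J2) (h : Matrix.GeneralLinearGroup (Fin a × Fin b) F)
    (hh : h ∈ SpV J1 J2) (u x₁ : Fin a → F) (hx₁ : bf J1 x₁ u = 0)
    (ζ : Matrix (Fin b) (Fin b) F)
    (hζ : ∀ y : Fin b → F,
      (h : Matrix (Fin a × Fin b) (Fin a × Fin b) F) *ᵥ ten x₁ y = ten x₁ y + ten u (ζ *ᵥ y)) :
    ∃ t : Matrix.GeneralLinearGroup (Fin a × Fin b) F, t ∈ T0 J1 J2 ∧
      HA J1 (h * t * h⁻¹ * t⁻¹) ζ (adjM J2 ζ) (ζ * adjM J2 ζ) u x₁ := by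
  have hux₁ : bf J1 u x₁ = 0 := by rw [bf_alt C.alt, hx₁, neg_zero]
  have h11 : bf J1 x₁ x₁ = 0 := bf_self_alt C.alt C.two x₁
  refine ⟨kronG (tvG J1 x₁ h11 (-1)) 1, ?_, ?_⟩
  · exact kronG_mem_T0 (tvG_mem_Iso C.alt _ h11 _) (Iso J2).one_mem
  · intro x y
    have ht : ∀ v : Fin a × Fin b → F,
        ((kronG (tvG J1 x₁ h11 (-1)) (1 : Matrix.GeneralLinearGroup (Fin b) F) :
          Matrix.GeneralLinearGroup (Fin a × Fin b) F) :
          Matrix (Fin a × Fin b) (Fin a × Fin b) F) *ᵥ v = v - ten x₁ (tsP J1 x₁ v) := by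
      intro v
      rw [kronG_coe, tvG_coe, Units.val_one, ← XAm_scalar, tsnta_XAm_mulVec, Matrix.smul_mulVec,
        Matrix.one_mulVec, neg_one_smul, helper7.TO.ten_neg_right]
      abel
    have htinv : (((kronG (tvG J1 x₁ h11 (-1)) (1 : Matrix.GeneralLinearGroup (Fin b) F))⁻¹ :
        Matrix.GeneralLinearGroup (Fin a × Fin b) F) :
        Matrix (Fin a × Fin b) (Fin a × Fin b) F) *ᵥ ten x y =
        ten x y + bf J1 x₁ x • ten x₁ y := by
      apply helper7.TO.tontsa_inv_apply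
      rw [ht, tsP_add, tsP_smul, tsP_ten, tsP_ten, h11, zero_smul, smul_zero, add_zero,
        ten_smul_right]
      abel
    rw [helper7.TO.tontsa_mul_mulVec, helper7.TO.tontsa_mul_mulVec, helper7.TO.tontsa_mul_mulVec,
      htinv, ht, tsnta_adj_transfer C h hh u x₁ ζ hζ, Matrix.mulVec_sub]
    have hgi : ∀ w, (h : Matrix (Fin a × Fin b) (Fin a × Fin b) F) *ᵥ
        (((h⁻¹ : Matrix.GeneralLinearGroup (Fin a × Fin b) F) :
          Matrix (Fin a × Fin b) (Fin a × Fin b) F) *ᵥ w) = w := by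
      intro w
      rw [Matrix.mulVec_mulVec, ← Units.val_mul, mul_inv_cancel, Units.val_one, Matrix.one_mulVec]
    rw [hgi, hζ]
    simp only [tsP_add, tsP_smul, tsP_ten, h11, hux₁, zero_smul, smul_zero, add_zero,
      Matrix.mulVec_add, Matrix.mulVec_smul, ten_add_right, ten_smul_right,
      ← Matrix.mulVec_mulVec, bf_alt C.alt u x, bf_alt C.alt x₁ x]
    funext p
    simp only [Pi.add_apply, Pi.sub_apply, Pi.smul_apply, smul_eq_mul, ten]
    ring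

theorem tsnta_ex_x2 (C : Ctx J1 J2) (u x₁ : Fin a → F) (hu : u ≠ 0)
    (hx₁u : ∀ l : F, x₁ ≠ l • u) : ∃ x₂ : Fin a → F, bf J1 x₂ u = 0 ∧ bf J1 x₁ x₂ = 1 := by
  by_contra hcon
  push Not at hcon
  have h0 : ∀ x : Fin a → F, bf J1 x u = 0 → bf J1 x₁ x = 0 := by
    intro x hx
    by_contra hne
    apply hcon ((bf J1 x₁ x)⁻¹ • x)
    · rw [bf_smul_left, hx, mul_zero]
    · rw [bf_smul_right, inv_mul_cancel₀ hne]
  obtain ⟨v, hv⟩ := bf_nondeg' C.det1 hu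
  have hv' : bf J1 ((bf J1 v u)⁻¹ • v) u = 1 := by
    rw [bf_smul_left, inv_mul_cancel₀ hv]
  set v' := (bf J1 v u)⁻¹ • v with hv'def
  have h1 : ∀ t : Fin a → F, bf J1 x₁ t = bf J1 t u * bf J1 x₁ v' := by
    intro t
    have ht : bf J1 (t - bf J1 t u • v') u = 0 := by
      rw [bf_sub_left, bf_smul_left, hv', mul_one, sub_self]
    have := h0 _ ht
    rw [bf_sub_right, bf_smul_right] at this
    linear_combination this
  have hz : x₁ - (-bf J1 x₁ v') • u = 0 := by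
    by_contra hne
    obtain ⟨t, ht⟩ := bf_nondeg C.det1 hne
    apply ht
    rw [bf_sub_left, bf_smul_left, h1 t, bf_alt C.alt u t]
    ring
  exact hx₁u _ (sub_eq_zero.mp hz)

end Cfsg.Agent.Lib.Helper21.TS
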