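import Cfsg.Agent.Lib.Helper1.TSNTAc

set_option autoImplicit false
set_option linter.unusedSectionVars false

namespace Cfsg.Agent.Lib.Helper21.TS

open Matrix
open scoped Kronecker
open Cfsg.Agent.Lib.helper7.TP

variable {a b : ℕ} {F : Type*} [Field F]
  {J1 : Matrix (Fin a) (Fin a) F} {J2 : Matrix (Fin b) (Fin b) F}

theorem tsnta_scalar (C : Ctx J1 J2) (hb : 3 ≤ b)
    (M : Subgroup (Matrix.GeneralLinearGroup (Fin a × Fin b) F)) (hT0 : T0 J1 J2 ≤ M)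
    (hMS : M ≤ SpV J1 J2) (hL : LamF J1 M)
    (h : Matrix.GeneralLinearGroup (Fin a × Fin b) F) (hM : h ∈ M) (u x₁ : Fin a → F)
    (hu : u ≠ 0) (hx₁ : bf J1 x₁ u = 0) (hx₁u : ∀ l : F, x₁ ≠ l • u)
    (ζ : Matrix (Fin b) (Fin b) F)
    (hζ : ∀ y : Fin b → F,
      (h : Matrix (Fin a × Fin b) (Fin a × Fin b) F) *ᵥ ten x₁ y = ten x₁ y + ten u (ζ *ᵥ y)) :
    ∃ s : F, ζ = s • (1 : Matrix (Fin b) (Fin b) F) := by
  obtain ⟨x₂, hx₂, h12⟩ := tsnta_ex_x2 C u x₁ hu hx₁u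
  have h21 : bf J1 x₂ x₁ = -1 := by rw [bf_alt C.alt, h12]
  have hux₁ : bf J1 u x₁ = 0 := by rw [bf_alt C.alt, hx₁, neg_zero]
  have hux₂ : bf J1 u x₂ = 0 := by rw [bf_alt C.alt, hx₂, neg_zero]
  let X : Set (Matrix (Fin b) (Fin b) F) :=
    {ζ | ∃ h' ∈ M, ∃ κ : Matrix (Fin b) (Fin b) F, HA J1 h' ζ (adjM J2 ζ) κ u x₁}
  have hsub : ∀ ζ ∈ X, ∀ ζ' ∈ X, ζ - ζ' ∈ X := by
    rintro ζ ⟨h', hh'M, κ, hh'⟩ ζ' ⟨h'', hh''M, κ', hh''⟩
    refine ⟨h' * h''⁻¹, M.mul_mem hh'M (M.inv_mem hh''M), κ - κ', ?_⟩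
    have := tsnta_HA_mul_inv C h' h'' u x₁ hx₁ _ _ _ _ _ _ hh' hh''
    rw [adjM_sub]
    exact this
  have hconj : ∀ ζ ∈ X, ∀ x : Fin b → F, bf J2 x x ≠ 0 →
      reflM J2 x * ζ * reflM J2 x ∈ X := by
    rintro ζ ⟨h', hh'M, κ, hh'⟩ x hx
    have hkM : kronG (1 : Matrix.GeneralLinearGroup (Fin a) F) (reflG J2 x hx) ∈ M :=
      hT0 (kronG_mem_T0 (Iso J1).one_mem (reflG_mem_Iso C.sym x hx))
    refine ⟨kronG 1 (reflG J2 x hx) * h' * (kronG 1 (reflG J2 x hx))⁻¹,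
      M.mul_mem (M.mul_mem hkM hh'M) (M.inv_mem hkM), reflM J2 x * κ * reflM J2 x, ?_⟩
    have := tsnta_HA_conjB (reflG J2 x hx) h' _ _ _ u x₁ hh'
    rw [reflG_coe, reflG_inv_coe] at this
    have e : adjM J2 (reflM J2 x * ζ * reflM J2 x) = reflM J2 x * adjM J2 ζ * reflM J2 x := by
      rw [adjM_mul C.det2, adjM_mul C.det2, reflM_adj C.sym C.det2, Matrix.mul_assoc]
    rw [e]
    exact this
  have h1 : ∀ ζ ∈ X, ∃ s : F, ζ + adjM J2 ζ = s • (1 : Matrix (Fin b) (Fin b) F) := by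
    rintro ζ ⟨h', hh'M, κ, hh'⟩
    obtain ⟨k, hkT, hk⟩ := tsnta_sk (J2 := J2) C u x₂ hx₂
    have hkM := hT0 hkT
    have hgM : h' * k * h'⁻¹ * k⁻¹ ∈ M :=
      M.mul_mem (M.mul_mem (M.mul_mem hh'M hkM) (M.inv_mem hh'M)) (M.inv_mem hkM)
    have hmat := tsnta_commHA C h' k u x₁ x₂ hx₁ hx₂ _ _ _ _ _ _ hh' hk
    obtain ⟨c, hc⟩ := hL u _ hu ⟨_, hgM, hmat⟩
    refine ⟨c, ?_⟩
    rw [h12, one_smul, Matrix.mul_one, Matrix.one_mul] at hc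
    exact hc
  have h2 : ∀ ζ ∈ X, ∀ ζ' ∈ X, ∃ s : F,
      ζ * adjM J2 ζ' + ζ' * adjM J2 ζ = s • (1 : Matrix (Fin b) (Fin b) F) := by
    rintro ζ ⟨h', hh'M, κ, hh'⟩ ζ' ⟨h'', hh''M, κ', hh''⟩
    have hvv : bf J1 (x₂ - x₁) (x₂ - x₁) = 0 := bf_self_alt C.alt C.two _
    have hαI : tvG J1 (x₂ - x₁) hvv (-1) ∈ Iso J1 := tvG_mem_Iso C.alt _ hvv _
    have hαM : kronG (tvG J1 (x₂ - x₁) hvv (-1)) (1 : Matrix.GeneralLinearGroup (Fin b) F) ∈ M :=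
      hT0 (kronG_mem_T0 hαI (Iso J2).one_mem)
    have hcj := tsnta_HA_conjA (tvG J1 (x₂ - x₁) hvv (-1)) hαI h'' _ _ _ u x₁ hh''
    have eu : (tvG J1 (x₂ - x₁) hvv (-1) : Matrix (Fin a) (Fin a) F) *ᵥ u = u := by
      rw [tvG_coe, tvm_mulVec, bf_sub_left, hx₂, hx₁, sub_self, mul_zero, zero_smul, add_zero]
    have ex : (tvG J1 (x₂ - x₁) hvv (-1) : Matrix (Fin a) (Fin a) F) *ᵥ x₁ = x₂ := by
      rw [tvG_coe, tvm_mulVec, bf_sub_left, h21, bf_self_alt C.alt C.two x₁, sub_zero]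
      have : (-1 : F) * -1 = 1 := by ring
      rw [this, one_smul]
      abel
    rw [eu, ex] at hcj
    set k := kronG (tvG J1 (x₂ - x₁) hvv (-1)) (1 : Matrix.GeneralLinearGroup (Fin b) F) * h'' *
      (kronG (tvG J1 (x₂ - x₁) hvv (-1)) (1 : Matrix.GeneralLinearGroup (Fin b) F))⁻¹ with hkdef
    have hkM : k ∈ M := M.mul_mem (M.mul_mem hαM hh''M) (M.inv_mem hαM)
    have hgM : h' * k * h'⁻¹ * k⁻¹ ∈ M :=
      M.mul_mem (M.mul_mem (M.mul_mem hh'M hkM) (M.inv_mem hh'M)) (M.inv_mem hkM)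
    have hmat := tsnta_commHA C h' k u x₁ x₂ hx₁ hx₂ _ _ _ _ _ _ hh' hcj
    obtain ⟨c, hc⟩ := hL u _ hu ⟨_, hgM, hmat⟩
    refine ⟨c, ?_⟩
    rw [h12, one_smul] at hc
    exact hc
  have hζX : ζ ∈ X := by
    obtain ⟨t, htT, ht⟩ := tsnta_comma C h (hMS hM) u x₁ hx₁ ζ hζ
    have htM := hT0 htT
    exact ⟨_, M.mul_mem (M.mul_mem (M.mul_mem hM htM) (M.inv_mem hM)) (M.inv_mem htM), _, ht⟩
  exact tsnta_alg hb C.sym C.two C.det2 X hsub hconj h1 h2 ζ hζX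

theorem ntsA_of_lamF (C : Ctx J1 J2) (hb : 3 ≤ b)
    (M : Subgroup (Matrix.GeneralLinearGroup (Fin a × Fin b) F)) (hT0 : T0 J1 J2 ≤ M)
    (hMS : M ≤ SpV J1 J2) (hL : LamF J1 M) : NtsA J1 M := by
  intro h hM u hu hfix hperp
  have huu : bf J1 u u = 0 := bf_self_alt C.alt C.two u
  obtain ⟨v, hv⟩ := bf_nondeg' C.det1 hu
  have huu' : bf J1 ((bf J1 v u)⁻¹ • v) u = 1 := by
    rw [bf_smul_left, inv_mul_cancel₀ hv]
  set u' := (bf J1 v u)⁻¹ • v with hu'def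
  have hφu : (u' ᵥ* J1) ⬝ᵥ u = 1 := by
    rw [← Matrix.dotProduct_mulVec]
    exact huu'
  have hZ : ∀ x : Fin a → F, bf J1 x u = 0 → ∃ Z : Matrix (Fin b) (Fin b) F,
      (∀ y : Fin b → F, Z *ᵥ y = helper7.TO.ctrA (u' ᵥ* J1)
        ((h : Matrix (Fin a × Fin b) (Fin a × Fin b) F) *ᵥ ten x y - ten x y)) ∧
      (∀ y : Fin b → F, (h : Matrix (Fin a × Fin b) (Fin a × Fin b) F) *ᵥ ten x y =
        ten x y + ten u (Z *ᵥ y)) := by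
    intro x hx
    obtain ⟨Z, hZ⟩ := helper7.TO.tontsa_Zm (h : Matrix (Fin a × Fin b) (Fin a × Fin b) F)
      (u' ᵥ* J1) x
    refine ⟨Z, hZ, fun y => ?_⟩
    obtain ⟨y', hy'⟩ := hperp x hx y
    rw [hZ, hy', add_sub_cancel_left, helper7.TO.ctrA_ten, hφu, one_smul]
  have hj : 0 < b := by omega
  let j₀ : Fin b := ⟨0, hj⟩
  let e₀ : Fin b → F := Pi.single j₀ 1
  obtain ⟨r, hr⟩ := helper7.TO.tontsa_mu (h : Matrix (Fin a × Fin b) (Fin a × Fin b) F)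
    (u' ᵥ* J1) e₀ j₀
  have hdu : IsUnit J1.det := isUnit_iff_ne_zero.mpr C.det1
  set x₀ : Fin a → F := J1⁻¹ *ᵥ r with hx₀def
  have hx₀ : ∀ x : Fin a → F, bf J1 x x₀ = r ⬝ᵥ x := by
    intro x
    rw [bf, hx₀def, Matrix.mulVec_mulVec, Matrix.mul_nonsing_inv J1 hdu, Matrix.one_mulVec,
      dotProduct_comm]
  have hux₀ : bf J1 u x₀ = 0 := by
    rw [hx₀, hr, hfix, sub_self]
    simp [helper7.TO.ctrA]
  have hx₀u : bf J1 x₀ u = 0 := by rw [bf_alt C.alt, hux₀, neg_zero]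
  have hlam : ∀ x : Fin a → F, bf J1 x u = 0 → ∀ y : Fin b → F,
      (h : Matrix (Fin a × Fin b) (Fin a × Fin b) F) *ᵥ ten x y =
        ten x y + bf J1 x x₀ • ten u y := by
    intro x hx y
    obtain ⟨Z, hZ1, hZ2⟩ := hZ x hx
    have hs : ∃ s : F, Z = s • (1 : Matrix (Fin b) (Fin b) F) := by
      by_cases hxu : ∃ l : F, x = l • u
      · obtain ⟨l, rfl⟩ := hxu
        refine ⟨0, ?_⟩
        rw [zero_smul, Matrix.ext_iff_mulVec]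
        intro y'
        rw [hZ1, ten_smul_left, Matrix.mulVec_smul, hfix, sub_self, Matrix.zero_mulVec]
        funext j
        simp [helper7.TO.ctrA]
      · push Not at hxu
        exact tsnta_scalar C hb M hT0 hMS hL h hM u x hu hx hxu Z hZ2
    obtain ⟨s, hs⟩ := hs
    have hsval : s = bf J1 x x₀ := by
      rw [hx₀, hr, ← hZ1, hs, Matrix.smul_mulVec, Matrix.one_mulVec]
      simp [e₀]
    rw [hZ2, hs, Matrix.smul_mulVec, Matrix.one_mulVec, ten_smul_right, hsval]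
  obtain ⟨k, hkT, hk⟩ := tsnta_sk (J2 := J2) C u x₀ hx₀u
  have hkM := hT0 hkT
  have hk' : ∀ (x : Fin a → F) (y : Fin b → F),
      (k : Matrix (Fin a × Fin b) (Fin a × Fin b) F) *ᵥ ten x y =
      ten x y + bf J1 x x₀ • ten u y + bf J1 x u • ten x₀ y := by
    intro x y
    rw [hk x y, Matrix.one_mulVec, Matrix.zero_mulVec, helper7.TO.ten_zero_right, smul_zero,
      add_zero]
  have hgM : k⁻¹ * h ∈ M := M.mul_mem (M.inv_mem hkM) hM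
  have hgfix : ∀ x : Fin a → F, bf J1 x u = 0 → ∀ y : Fin b → F,
      ((k⁻¹ * h : Matrix.GeneralLinearGroup (Fin a × Fin b) F) :
        Matrix (Fin a × Fin b) (Fin a × Fin b) F) *ᵥ ten x y = ten x y := by
    intro x hx y
    rw [helper7.TO.tontsa_mul_mulVec]
    apply helper7.TO.tontsa_inv_apply
    rw [hk', hlam x hx y, hx, zero_smul, add_zero]
  obtain ⟨η, hη⟩ := tsnta_fixperp C (k⁻¹ * h) (hMS hgM) u u' huu' hgfix
  obtain ⟨c, hc⟩ := hL u η hu ⟨_, hgM, hη⟩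
  refine ⟨x₀, -c, hx₀u, ?_⟩
  intro x y
  have hh : h = k * (k⁻¹ * h) := by group
  conv_lhs => rw [hh]
  rw [helper7.TO.tontsa_mul_mulVec, hη, XAm_mulVec_ten, hc]
  simp only [Matrix.mulVec_add, Matrix.mulVec_smul, Matrix.smul_mulVec, Matrix.one_mulVec,
    ten_smul_right, hk', hux₀, huu, zero_smul, add_zero, bf_alt C.alt u x]
  funext p
  simp only [Pi.add_apply, Pi.smul_apply, smul_eq_mul, Pi.neg_apply]
  ring

end Cfsg.Agent.Lib.Helper21.TS
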