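import Cfsg.Agent.Lib.Helper21.TS.XA

set_option autoImplicit false
set_option linter.unusedSectionVars false

namespace Cfsg.Agent.Lib.Helper21.TS

open Matrix
open scoped Kronecker
open Cfsg.Agent.Lib.helper7.TP

variable {a b : ℕ} {F : Type*} [Field F]

def HA (J1 : Matrix (Fin a) (Fin a) F) (h : Matrix.GeneralLinearGroup (Fin a × Fin b) F)
    (ζ ζs κ : Matrix (Fin b) (Fin b) F) (u x₁ : Fin a → F) : Prop :=
  ∀ (x : Fin a → F) (y : Fin b → F),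
    (h : Matrix (Fin a × Fin b) (Fin a × Fin b) F) *ᵥ ten x y =
      ten x y + bf J1 x x₁ • ten u (ζ *ᵥ y) + bf J1 x u • ten x₁ (ζs *ᵥ y) +
        bf J1 x u • ten u (κ *ᵥ y)

def LamF (J1 : Matrix (Fin a) (Fin a) F)
    (M : Subgroup (Matrix.GeneralLinearGroup (Fin a × Fin b) F)) : Prop :=
  ∀ (u : Fin a → F) (η : Matrix (Fin b) (Fin b) F), u ≠ 0 → InM M (XAm J1 u η) →
    ∃ c : F, η = c • (1 : Matrix (Fin b) (Fin b) F)

def NtsA (J1 : Matrix (Fin a) (Fin a) F)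
    (M : Subgroup (Matrix.GeneralLinearGroup (Fin a × Fin b) F)) : Prop :=
  ∀ h ∈ M, ∀ u : Fin a → F, u ≠ 0 →
    (∀ y : Fin b → F,
      (h : Matrix (Fin a × Fin b) (Fin a × Fin b) F) *ᵥ ten u y = ten u y) →
    (∀ x : Fin a → F, bf J1 x u = 0 → ∀ y : Fin b → F, ∃ y' : Fin b → F,
      (h : Matrix (Fin a × Fin b) (Fin a × Fin b) F) *ᵥ ten x y = ten x y + ten u y') →
    ∃ (x₀ : Fin a → F) (c₀ : F), bf J1 x₀ u = 0 ∧
      HA J1 h 1 1 (c₀ • (1 : Matrix (Fin b) (Fin b) F)) u x₀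

def StabA (M : Subgroup (Matrix.GeneralLinearGroup (Fin a × Fin b) F)) : Prop :=
  ∀ g ∈ M, ∀ u u' : Fin a → F, u ≠ 0 → u' ≠ 0 →
    (∀ y : Fin b → F, ∃ y' : Fin b → F,
      (g : Matrix (Fin a × Fin b) (Fin a × Fin b) F) *ᵥ ten u y = ten u' y') →
    g ∈ K0 a b F

end Cfsg.Agent.Lib.Helper21.TS
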