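import Cfsg.Agent.Lib.Helper1.TSNTAcore
import Cfsg.Agent.Lib.helper8.TSTRANSA

set_option autoImplicit false
set_option linter.unusedSectionVars false

namespace Cfsg.Agent.Lib.Helper21.TS

open Matrix
open scoped Kronecker
open Cfsg.Agent.Lib.helper7.TP

variable {a b : ℕ} {F : Type*} [Field F]
  {J1 : Matrix (Fin a) (Fin a) F} {J2 : Matrix (Fin b) (Fin b) F}

theorem tsstab_mu (C : Ctx J1 J2) (g : Matrix.GeneralLinearGroup (Fin a × Fin b) F)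
    (u : Fin a → F) (hu : u ≠ 0)
    (hst : ∀ y : Fin b → F, ∃ y' : Fin b → F,
      (g : Matrix (Fin a × Fin b) (Fin a × Fin b) F) *ᵥ ten u y = ten u y') :
    ∃ μ : Matrix (Fin b) (Fin b) F, ∀ y : Fin b → F,
      (g : Matrix (Fin a × Fin b) (Fin a × Fin b) F) *ᵥ ten u y = ten u (μ *ᵥ y) := by
  obtain ⟨v, hv⟩ := bf_nondeg' C.det1 hu
  have huu' : bf J1 ((bf J1 v u)⁻¹ • v) u = 1 := by
    rw [bf_smul_left, inv_mul_cancel₀ hv]
  set u' := (bf J1 v u)⁻¹ • v with hu'def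
  have hφu : (u' ᵥ* J1) ⬝ᵥ u = 1 := by
    rw [← Matrix.dotProduct_mulVec]
    exact huu'
  obtain ⟨Z, hZ⟩ := helper7.TO.tontsa_Zm (g : Matrix (Fin a × Fin b) (Fin a × Fin b) F)
    (u' ᵥ* J1) u
  refine ⟨Z + 1, fun y => ?_⟩
  obtain ⟨y', hy'⟩ := hst y
  have h1 : Z *ᵥ y = y' - y := by
    rw [hZ, hy', ← helper7.TO.ten_sub_right, helper7.TO.ctrA_ten, hφu, one_smul]
  rw [Matrix.add_mulVec, Matrix.one_mulVec, h1, hy']
  congr 1
  abel

theorem tsstab_mu_inj (g : Matrix.GeneralLinearGroup (Fin a × Fin b) F)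
    (u : Fin a → F) (hu : u ≠ 0) (μ : Matrix (Fin b) (Fin b) F)
    (hμ : ∀ y : Fin b → F,
      (g : Matrix (Fin a × Fin b) (Fin a × Fin b) F) *ᵥ ten u y = ten u (μ *ᵥ y))
    (y : Fin b → F) (hy : μ *ᵥ y = 0) : y = 0 := by
  have h1 : (g : Matrix (Fin a × Fin b) (Fin a × Fin b) F) *ᵥ ten u y = 0 := by
    rw [hμ, hy, helper7.TO.ten_zero_right]
  have h2 : ten u y = 0 := by
    have := helper7.TO.tontsa_inv_apply g _ _ h1
    rw [Matrix.mulVec_zero] at this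
    exact this.symm
  rcases helper7.TO.ten_eq_zero h2 with h3 | h3
  · exact (hu h3).elim
  · exact h3

theorem tsstab_tsP_inv (C : Ctx J1 J2) (g : Matrix.GeneralLinearGroup (Fin a × Fin b) F)
    (hg : g ∈ SpV J1 J2) (u : Fin a → F) (μ : Matrix (Fin b) (Fin b) F)
    (hμ : ∀ y : Fin b → F,
      (g : Matrix (Fin a × Fin b) (Fin a × Fin b) F) *ᵥ ten u y = ten u (μ *ᵥ y))
    (v : Fin a × Fin b → F) :
    tsP J1 u (((g⁻¹ : Matrix.GeneralLinearGroup (Fin a × Fin b) F) :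
      Matrix (Fin a × Fin b) (Fin a × Fin b) F) *ᵥ v) = adjM J2 μ *ᵥ tsP J1 u v := by
  apply tsnta_bf_cancel C.det2
  intro y
  rw [← tsnta_bf_left J1 J2, tsnta_iso_inv (JV J1 J2) g hg, hμ y, tsnta_bf_left J1 J2,
    adjM_bf C.det2]

theorem tsstab_conj (C : Ctx J1 J2) (g : Matrix.GeneralLinearGroup (Fin a × Fin b) F)
    (hg : g ∈ SpV J1 J2) (u : Fin a → F) (μ : Matrix (Fin b) (Fin b) F)
    (hμ : ∀ y : Fin b → F,
      (g : Matrix (Fin a × Fin b) (Fin a × Fin b) F) *ᵥ ten u y = ten u (μ *ᵥ y))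
    (k : Matrix.GeneralLinearGroup (Fin a × Fin b) F) (η : Matrix (Fin b) (Fin b) F)
    (hk : (k : Matrix (Fin a × Fin b) (Fin a × Fin b) F) = XAm J1 u η) :
    ((g * k * g⁻¹ : Matrix.GeneralLinearGroup (Fin a × Fin b) F) :
      Matrix (Fin a × Fin b) (Fin a × Fin b) F) = XAm J1 u (μ * η * adjM J2 μ) := by
  rw [Matrix.ext_iff_mulVec]
  intro v
  have hgi : ∀ w, (g : Matrix (Fin a × Fin b) (Fin a × Fin b) F) *ᵥ
      (((g⁻¹ : Matrix.GeneralLinearGroup (Fin a × Fin b) F) :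
        Matrix (Fin a × Fin b) (Fin a × Fin b) F) *ᵥ w) = w := by
    intro w
    rw [Matrix.mulVec_mulVec, ← Units.val_mul, mul_inv_cancel, Units.val_one, Matrix.one_mulVec]
  rw [helper7.TO.tontsa_mul_mulVec, helper7.TO.tontsa_mul_mulVec, hk, tsnta_XAm_mulVec,
    Matrix.mulVec_add, hgi, hμ, tsstab_tsP_inv C g hg u μ hμ, tsnta_XAm_mulVec,
    Matrix.mulVec_mulVec, Matrix.mulVec_mulVec, Matrix.mul_assoc]

theorem tsstab_nu (C : Ctx J1 J2) (hb : 1 ≤ b)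
    (M : Subgroup (Matrix.GeneralLinearGroup (Fin a × Fin b) F)) (hT0 : T0 J1 J2 ≤ M)
    (hMS : M ≤ SpV J1 J2) (hL : LamF J1 M)
    (g : Matrix.GeneralLinearGroup (Fin a × Fin b) F) (hgM : g ∈ M)
    (u : Fin a → F) (hu : u ≠ 0) (μ : Matrix (Fin b) (Fin b) F)
    (hμ : ∀ y : Fin b → F,
      (g : Matrix (Fin a × Fin b) (Fin a × Fin b) F) *ᵥ ten u y = ten u (μ *ᵥ y)) :
    ∃ ν : F, ν ≠ 0 ∧ μ * adjM J2 μ = ν • (1 : Matrix (Fin b) (Fin b) F) ∧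
      adjM J2 μ * μ = ν • (1 : Matrix (Fin b) (Fin b) F) := by
  have huu : bf J1 u u = 0 := bf_self_alt C.alt C.two u
  have hkT : kronG (tvG J1 u huu 1) (1 : Matrix.GeneralLinearGroup (Fin b) F) ∈ T0 J1 J2 :=
    kronG_mem_T0 (tvG_mem_Iso C.alt _ huu _) (Iso J2).one_mem
  have hk : ((kronG (tvG J1 u huu 1) (1 : Matrix.GeneralLinearGroup (Fin b) F) :
      Matrix.GeneralLinearGroup (Fin a × Fin b) F) :
      Matrix (Fin a × Fin b) (Fin a × Fin b) F) = XAm J1 u ((1 : F) • 1) := by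
    rw [kronG_coe, tvG_coe, Units.val_one, XAm_scalar]
  have hmat := tsstab_conj C g (hMS hgM) u μ hμ _ _ hk
  have hin : InM M (XAm J1 u (μ * ((1 : F) • 1) * adjM J2 μ)) :=
    ⟨_, M.mul_mem (M.mul_mem hgM (hT0 hkT)) (M.inv_mem hgM), hmat⟩
  obtain ⟨ν, hν⟩ := hL u _ hu hin
  rw [one_smul, Matrix.mul_one] at hν
  have hν0 : ν ≠ 0 := by
    intro h0
    rw [h0, zero_smul] at hν
    have hadj0 : adjM J2 μ = 0 := by
      rw [Matrix.ext_iff_mulVec]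
      intro y
      rw [Matrix.zero_mulVec]
      apply tsstab_mu_inj g u hu μ hμ
      rw [Matrix.mulVec_mulVec, hν, Matrix.zero_mulVec]
    have hj : 0 < b := by omega
    let e₀ : Fin b → F := Pi.single ⟨0, hj⟩ 1
    have he₀ : e₀ ≠ 0 := by
      intro h
      have := congrFun h ⟨0, hj⟩
      simp [e₀] at this
    have hμe : μ *ᵥ e₀ ≠ 0 := fun h => he₀ (tsstab_mu_inj g u hu μ hμ e₀ h)
    obtain ⟨y, hy⟩ := bf_nondeg C.det2 hμe
    apply hy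
    rw [adjM_bf C.det2, hadj0, Matrix.zero_mulVec, bf_zero_right]
  refine ⟨ν, hν0, hν, ?_⟩
  have h1 : μ * (ν⁻¹ • adjM J2 μ) = 1 := by
    rw [Matrix.mul_smul, hν, smul_smul, inv_mul_cancel₀ hν0, one_smul]
  have h2 : (ν⁻¹ • adjM J2 μ) * μ = 1 := mul_eq_one_comm.mp h1
  rw [Matrix.smul_mul] at h2
  have h3 : ν • (ν⁻¹ • (adjM J2 μ * μ)) = ν • (1 : Matrix (Fin b) (Fin b) F) := by rw [h2]
  rw [smul_smul, mul_inv_cancel₀ hν0, one_smul] at h3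
  exact h3

end Cfsg.Agent.Lib.Helper21.TS
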