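import Cfsg.Agent.Lib.Helper1.TSSTAB2a

set_option autoImplicit false
set_option linter.unusedSectionVars false

namespace Cfsg.Agent.Lib.Helper21.TS

open Matrix
open scoped Kronecker
open Cfsg.Agent.Lib.helper7.TP

variable {b : ℕ} {F : Type*} [Field F]
  {J1 : Matrix (Fin 2) (Fin 2) F} {J2 : Matrix (Fin b) (Fin b) F}

theorem tsstab2_bf2 (hJ : J1ᵀ = -J1) (two : (2 : F) ≠ 0) (x y : Fin 2 → F) :
    bf J1 x y = J1 0 1 * (x 0 * y 1 - x 1 * y 0) := by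
  have hd : ∀ i : Fin 2, J1 i i = 0 := by
    intro i
    have h := congrFun (congrFun hJ i) i
    simp only [Matrix.transpose_apply, Matrix.neg_apply] at h
    have h2 : (2 : F) * J1 i i = 0 := by linear_combination h
    rcases mul_eq_zero.mp h2 with h3 | h3
    · exact (two h3).elim
    · exact h3
  have h10 : J1 1 0 = -J1 0 1 := by
    have h := congrFun (congrFun hJ 0) 1
    simpa using h
  simp only [bf, dotProduct, Matrix.mulVec, Fin.sum_univ_two, hd 0, hd 1, h10]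
  ring

theorem tsstab2_cramer (hJ : J1ᵀ = -J1) (two : (2 : F) ≠ 0) (u u₂ x : Fin 2 → F) :
    bf J1 u u₂ • x = bf J1 x u₂ • u - bf J1 x u • u₂ := by
  funext i
  fin_cases i
  · simp only [Fin.zero_eta, Pi.smul_apply, Pi.sub_apply, smul_eq_mul, tsstab2_bf2 hJ two]
    ring
  · simp only [Fin.mk_one, Pi.smul_apply, Pi.sub_apply, smul_eq_mul, tsstab2_bf2 hJ two]
    ring

theorem tsstab2_plucker (hJ : J1ᵀ = -J1) (two : (2 : F) ≠ 0) (u u₂ x y : Fin 2 → F) :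
    bf J1 x u * bf J1 y u₂ - bf J1 x u₂ * bf J1 y u = bf J1 x y * bf J1 u u₂ := by
  simp only [tsstab2_bf2 hJ two]
  ring

theorem tsstab2_perp (hJ : J1ᵀ = -J1) (two : (2 : F) ≠ 0) (u u₂ x : Fin 2 → F)
    (h12 : bf J1 u u₂ = 1) (hx : bf J1 x u = 0) : x = bf J1 x u₂ • u := by
  have h := tsstab2_cramer hJ two u u₂ x
  rw [h12, one_smul, hx, zero_smul, sub_zero] at h
  exact h

noncomputable def tsstab2_alphaM (J1 : Matrix (Fin 2) (Fin 2) F) (u u₂ : Fin 2 → F) (ν : F) :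
    Matrix (Fin 2) (Fin 2) F := 1 - (ν - 1) • opm J1 u u₂

theorem tsstab2_alphaM_mulVec (u u₂ : Fin 2 → F) (ν : F) (x : Fin 2 → F) :
    tsstab2_alphaM J1 u u₂ ν *ᵥ x = x - ((ν - 1) * bf J1 u₂ x) • u := by
  rw [tsstab2_alphaM, Matrix.sub_mulVec, Matrix.one_mulVec, Matrix.smul_mulVec, opm_mulVec,
    smul_smul]

theorem tsstab2_alphaM_mul (hJ : J1ᵀ = -J1) (u u₂ : Fin 2 → F) (h12 : bf J1 u u₂ = 1)
    (ν ν' : F) (hνν' : ν * ν' = 1) :
    tsstab2_alphaM J1 u u₂ ν * tsstab2_alphaM J1 u u₂ ν' = 1 := by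
  have h21 : bf J1 u₂ u = -1 := by rw [bf_alt hJ, h12]
  rw [Matrix.ext_iff_mulVec]
  intro x
  rw [← Matrix.mulVec_mulVec, tsstab2_alphaM_mulVec, tsstab2_alphaM_mulVec, Matrix.one_mulVec,
    bf_sub_right, bf_smul_right, h21]
  have : (ν - 1) * (bf J1 u₂ x - (ν' - 1) * bf J1 u₂ x * -1) = -((ν' - 1) * bf J1 u₂ x) := by
    linear_combination (bf J1 u₂ x) * hνν'
  rw [this, neg_smul]
  abel

noncomputable def tsstab2_alphaG (hJ : J1ᵀ = -J1) (u u₂ : Fin 2 → F) (h12 : bf J1 u u₂ = 1)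
    (ν : F) (hν : ν ≠ 0) : Matrix.GeneralLinearGroup (Fin 2) F :=
  ⟨tsstab2_alphaM J1 u u₂ ν, tsstab2_alphaM J1 u u₂ ν⁻¹,
    tsstab2_alphaM_mul hJ u u₂ h12 ν ν⁻¹ (mul_inv_cancel₀ hν),
    tsstab2_alphaM_mul hJ u u₂ h12 ν⁻¹ ν (inv_mul_cancel₀ hν)⟩

theorem tsstab2_alpha_sim (hJ : J1ᵀ = -J1) (two : (2 : F) ≠ 0) (u u₂ : Fin 2 → F)
    (h12 : bf J1 u u₂ = 1) (ν : F) :
    (tsstab2_alphaM J1 u u₂ ν)ᵀ * J1 * tsstab2_alphaM J1 u u₂ ν = ν • J1 := by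
  have h21 : bf J1 u₂ u = -1 := by rw [bf_alt hJ, h12]
  have huu : bf J1 u u = 0 := bf_self_alt hJ two u
  apply bf_ext
  intro x y
  have hp := tsstab2_plucker hJ two u u₂ x y
  rw [h12, mul_one] at hp
  rw [Matrix.mul_assoc, ← bf_mulVec_left, ← bf_mulVec_right, tsstab2_alphaM_mulVec,
    tsstab2_alphaM_mulVec, bf_sub_left, bf_sub_right, bf_sub_right, bf_smul_left, bf_smul_left,
    bf_smul_right, bf_smul_right, huu, bf_alt hJ u y, bf_alt hJ u₂ x, bf_alt hJ u₂ y]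
  have hs : bf (ν • J1) x y = ν * bf J1 x y := by
    simp only [bf, Matrix.smul_mulVec, dotProduct_smul, smul_eq_mul]
  rw [hs]
  linear_combination (ν - 1) * hp

theorem tsstab2_t0 (C : Ctx J1 J2) (u u₂ : Fin 2 → F) (h12 : bf J1 u u₂ = 1)
    (μ : Matrix (Fin b) (Fin b) F) (ν : F) (hν : ν ≠ 0)
    (h1 : μ * adjM J2 μ = ν • (1 : Matrix (Fin b) (Fin b) F))
    (h2 : adjM J2 μ * μ = ν • (1 : Matrix (Fin b) (Fin b) F)) :
    ∃ t : Matrix.GeneralLinearGroup (Fin 2 × Fin b) F, t ∈ T0 J1 J2 ∧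
      ∀ y : Fin b → F,
        (t : Matrix (Fin 2 × Fin b) (Fin 2 × Fin b) F) *ᵥ ten u y = ten u (μ *ᵥ y) := by
  have h21 : bf J1 u₂ u = -1 := by rw [bf_alt C.alt, h12]
  have hβ1 : (ν⁻¹ • μ) * adjM J2 μ = 1 := by
    rw [Matrix.smul_mul, h1, smul_smul, inv_mul_cancel₀ hν, one_smul]
  have hβ2 : adjM J2 μ * (ν⁻¹ • μ) = 1 := by
    rw [Matrix.mul_smul, h2, smul_smul, inv_mul_cancel₀ hν, one_smul]
  let β : Matrix.GeneralLinearGroup (Fin b) F := ⟨ν⁻¹ • μ, adjM J2 μ, hβ1, hβ2⟩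
  let α : Matrix.GeneralLinearGroup (Fin 2) F := tsstab2_alphaG C.alt u u₂ h12 ν hν
  have hαc : (α : Matrix (Fin 2) (Fin 2) F) = tsstab2_alphaM J1 u u₂ ν := rfl
  have hβc : (β : Matrix (Fin b) (Fin b) F) = ν⁻¹ • μ := rfl
  have hβsim : (β : Matrix (Fin b) (Fin b) F)ᵀ * J2 * (β : Matrix (Fin b) (Fin b) F) =
      ν⁻¹ • J2 := by
    apply bf_ext
    intro x y
    rw [Matrix.mul_assoc, ← bf_mulVec_left, ← bf_mulVec_right, hβc, Matrix.smul_mulVec,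
      Matrix.smul_mulVec, bf_smul_left, bf_smul_right, adjM_bf C.det2, Matrix.mulVec_mulVec, h2,
      Matrix.smul_mulVec, Matrix.one_mulVec, bf_smul_right]
    have hs : bf (ν⁻¹ • J2) x y = ν⁻¹ * bf J2 x y := by
      simp only [bf, Matrix.smul_mulVec, dotProduct_smul, smul_eq_mul]
    rw [hs]
    field_simp
  refine ⟨kronG α β, Subgroup.mem_inf.mpr ⟨kronG_mem_K0 α β, ?_⟩, ?_⟩
  · rw [SpV, mem_Iso, kronG_coe, JV, ← Matrix.kroneckerMap_transpose, ← Matrix.mul_kronecker_mul,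
      ← Matrix.mul_kronecker_mul, hβsim, hαc, tsstab2_alpha_sim C.alt C.two u u₂ h12 ν,
      Matrix.smul_kronecker, Matrix.kronecker_smul, smul_smul, mul_inv_cancel₀ hν, one_smul]
  · intro y
    rw [kronG_mulVec_ten, hαc, hβc, tsstab2_alphaM_mulVec, h21, Matrix.smul_mulVec,
      ten_smul_right]
    have : u - ((ν - 1) * -1) • u = ν • u := by
      funext i
      simp only [Pi.sub_apply, Pi.smul_apply, smul_eq_mul]
      ring
    rw [this, ten_smul_left, smul_smul, inv_mul_cancel₀ hν, one_smul]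

end Cfsg.Agent.Lib.Helper21.TS
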