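import Mathlib
import Cfsg.Prelude.Def_ChevStructure
import Cfsg.Agent.Lib.helper14.TWI.Defs
import Cfsg.Agent.Lib.helper14.INVLENb

set_option autoImplicit false
set_option linter.unusedVariables false

namespace Cfsg.Agent.Lib.helper14.TWI

open Cfsg.Lie Cfsg.Lie.ChevalleyDatum Cfsg.Agent.Lib.helper8 Cfsg.Agent.Lib.helper14
  Cfsg.Agent.Lib.helper14.INV

universe u

theorem twiorb3_isOrb_tail (D : ChevalleyDatum) (j : ℕ) (x : List ℕ) (hx : IsOrb D (j :: x)) :
    IsOrb D x := by
  obtain ⟨h1, h2, h3⟩ := hx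
  refine ⟨(List.nodup_cons.mp h1).2, fun k hk => h2 k (List.mem_cons_of_mem _ hk), ?_⟩
  intro a ha b hb hab
  exact h3 a (List.mem_cons_of_mem _ ha) b (List.mem_cons_of_mem _ hb) hab

theorem twiorb3_len_snoc (D : ChevalleyDatum) (hB0 : H8Base.{0} D) (hA : H8ReflAll D)
    (hBN : H8BN D) (hW : H8BN2 D) (hO2 : H8Ord2 D) (w : List ℕ) (hw : ValidW D w) (j : ℕ)
    (hj : j < D.rank) (hpos : D.IsPosRoot (h8sW D w (D.simple j))) :
    len D hA (w ++ [j]) = len D hA w + 1 := by
  unfold len
  rw [lenb_wPerm_append, h8wPerm_single]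
  apply lenb_right D hB0 hA hBN hW hO2 _ (lenb_wPerm_mem D hA w hw) ⟨j, hj⟩
  rw [h8wPerm_val D hA w hw]
  exact hpos

theorem len_append_orb (D : ChevalleyDatum) (hB0 : H8Base.{0} D) (hA : H8ReflAll D) (hBN : H8BN D)
    (hW : H8BN2 D) (hO2 : H8Ord2 D) (x : List ℕ) (hx : IsOrb D x) (w : List ℕ) (hw : ValidW D w)
    (hpos : ∀ j ∈ x, D.IsPosRoot (h8sW D w (D.simple j))) :
    len D hA (w ++ x) = len D hA w + x.length := by
  induction x generalizing w with
  | nil => simp
  | cons j x ih =>
    have hx' := twiorb3_isOrb_tail D j x hx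
    have hj : j < D.rank := hx.2.1 j List.mem_cons_self
    have hw' : ValidW D (w ++ [j]) := by
      intro k hk
      rcases List.mem_append.mp hk with hk | hk
      · exact hw k hk
      · rw [List.mem_singleton] at hk
        rw [hk]
        exact hj
    have hpos' : ∀ k ∈ x, D.IsPosRoot (h8sW D (w ++ [j]) (D.simple k)) := by
      intro k hk
      have hne : j ≠ k := by
        intro h
        rw [← h] at hk
        exact (List.nodup_cons.mp hx.1).1 hk
      have horth := hx.2.2 j List.mem_cons_self k (List.mem_cons_of_mem _ hk) hne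
      rw [h8sW_append]
      have e : h8sW D [j] (D.simple k) = D.reflectRoot j (D.simple k) := rfl
      rw [e, horth]
      exact hpos k (List.mem_cons_of_mem _ hk)
    have h1 := ih hx' (w ++ [j]) hw' hpos'
    have h2 := twiorb3_len_snoc D hB0 hA hBN hW hO2 w hw j hj (hpos j List.mem_cons_self)
    have e : w ++ j :: x = (w ++ [j]) ++ x := by simp
    rw [e, h1, h2, List.length_cons]
    omega

end Cfsg.Agent.Lib.helper14.TWI
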