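import Mathlib
import Cfsg.Prelude.Def_ChevStructure
import Cfsg.Agent.Lib.helper14.TWI.D4Defs
import Cfsg.Agent.Lib.Helper1.INVSTDA

set_option autoImplicit false
set_option linter.unusedVariables false

namespace Cfsg.Agent.Lib.helper14.TWI

open Cfsg.Lie Cfsg.Lie.ChevalleyDatum Cfsg.Agent.Lib.helper8 Cfsg.Agent.Lib.helper14
  Cfsg.Agent.Lib.helper14.INV

universe u

variable {K : Type u} [Field K]

def twistdaData : List (List (List ℕ × ℕ)) :=
  [[([], 3), ([], 2), ([], 0), ([1, 3, 2, 1], 0)],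
   [([3, 2], 1), ([3, 1], 0), ([2, 1], 0)],
   [([1, 3, 2, 1], 0)]]

theorem twistda_mem_list :
    chevD4 ∈ [chevG2, chevB2, chevD4, chevF4, chevE6, chevE7, chevE8] := by simp

theorem twistda_valid : ∀ k < 3, ∀ vj ∈ twistdaData.getD k [],
    (∀ i ∈ vj.1, i < chevD4.rank) ∧ vj.2 < chevD4.rank := by decide +kernel

theorem twistda_roots : ∀ k < 3,
    (twistdaData.getD k []).map (stdaRoot chevD4) = d4Std.getD k [] := by
  decide +kernel

theorem twistda_tab : ∀ k < 3, ∀ r < 24,
    h8sW chevD4 ((twistdaData.getD k []).flatMap stdaWord) r = (d4Tabs.getD k []).getD r 0 := by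
  decide +kernel

theorem d4_std_act (hB : H8Base.{u} chevD4) (k : ℕ) (hk : k < 3) (r : ℕ) (hr : r < 24) :
    H8Act chevD4 hB (n1 chevD4 hB (d4Std.getD k []) : GL chevD4.Idx K) r
      ((d4Tabs.getD k []).getD r 0) := by
  have hD := twistda_mem_list
  have hA := h8reflAll chevD4 hD
  have hBN := h8bn_all chevD4 hD
  have hW := h8bn2_all chevD4 hD
  obtain ⟨_, hO2⟩ := h8ord_all chevD4 hD
  have h1 := (stda_list_act (F := K) chevD4 hB hA hBN hW hO2 (twistdaData.getD k [])
    (twistda_valid k hk) r hr).1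
  rw [twistda_roots k hk, twistda_tab k hk r hr] at h1
  exact h1

end Cfsg.Agent.Lib.helper14.TWI
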