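import Mathlib
import Cfsg.Prelude.Def_ChevStructure
import Cfsg.Agent.Lib.helper14.TWI.Defs
import Cfsg.Agent.Lib.helper14.INVLENb
import Cfsg.Agent.Lib.helper23.INVSAMEPERM
import Cfsg.Agent.Lib.helper8.ChevTits2
import Cfsg.Agent.Lib.helper8.ChevTits3
import Cfsg.Agent.Lib.helper8.ChevCox2

set_option autoImplicit false
set_option linter.unusedVariables false

namespace Cfsg.Agent.Lib.helper14.TWI

open Cfsg.Lie Cfsg.Lie.ChevalleyDatum Cfsg.Agent.Lib.helper8 Cfsg.Agent.Lib.helper14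
  Cfsg.Agent.Lib.helper14.INV

universe u

variable {F : Type u} [Field F]

theorem cell_len_zero (D : ChevalleyDatum) (hB : H8Base.{u} D) (hB0 : H8Base.{0} D)
    (hA : H8ReflAll D) (hBN : H8BN D) (hW : H8BN2 D) (hO2 : H8Ord2 D) (w : List ℕ)
    (hw : ValidW D w) (hl : len D hA w = 0) (y : GL D.Idx F) (hy : InCell D hB y w) :
    y ∈ D.borelSubgroup F := by
  have h1 : h8wPerm D hA w = 1 :=
    h8W_inv_zero D hB0 hA hBN hW hO2 _ (lenb_wPerm_mem D hA w hw) hl
  have hid : ∀ r < D.nroots, h8sW D w r = r := by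
    intro r hr
    have := h8wPerm_val D hA w hw ⟨r, hr⟩
    rw [h1] at this
    exact this.symm
  have hnH : (h8nWU D hB w : GL D.Idx F) ∈ D.diagonalSubgroup F := by
    apply h23inv_N_triv_act D hB hA hBN hW hO2 _ (h8nWU_mem_N D hB hA w hw)
    intro r hr
    have := h8nWU_act (F := F) D hB hA w hw r hr
    rw [hid r hr] at this
    exact this
  obtain ⟨b1, hb1, b2, hb2, e⟩ := hy
  rw [e]
  exact Subgroup.mul_mem _ (Subgroup.mul_mem _ hb1 (h8H_le_B D hnH)) hb2

theorem len_of_id (D : ChevalleyDatum) (hA : H8ReflAll D) (w : List ℕ) (hw : ValidW D w)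
    (hid : ∀ r < D.nroots, h8sW D w r = r) : len D hA w = 0 := by
  have h1 : h8wPerm D hA w = 1 := by
    apply Equiv.ext
    intro r
    apply Fin.ext
    rw [h8wPerm_val D hA w hw r, hid r.val r.2]
    rfl
  unfold len
  rw [h1]
  exact h23inv_Ninv_one D

theorem exists_cell (D : ChevalleyDatum) (hB : H8Base.{u} D) (hA : H8ReflAll D)
    (hC : H8CommAll.{u} D) (hBN : H8BN D) (hW : H8BN2 D) (y : GL D.Idx F) (hy : y ∈ D.group F) :
    ∃ w : List ℕ, ValidW D w ∧ InCell D hB y w := by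
  obtain ⟨b, hb, n, hn, b', hb', e⟩ := h8bruhat D hB hA hC hBN hW y hy
  obtain ⟨h0, hh0, w, hw, en⟩ := h8N_word D hB hA hBN n hn
  refine ⟨w, hw, b * h0, Subgroup.mul_mem _ hb (h8H_le_B D hh0), b', hb', ?_⟩
  rw [e, en]
  group

end Cfsg.Agent.Lib.helper14.TWI
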