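import Mathlib
import Cfsg.Prelude.Def_Transfer
import Cfsg.Agent.Lib.Helper1.Residual
import Cfsg.Agent.Lib.Helper1.SplitResidual

set_option autoImplicit false

namespace Cfsg.Agent.Lib.Helper1.Tate

open scoped IsMulCommutative commutatorElement

theorem transfer_central {E : Type*} [Group E] {A : Type*} [CommGroup A] (H : Subgroup E)
    [H.FiniteIndex] (ρ : H →* A) (z : E) (hz : z ∈ Subgroup.center E) (hzH : z ∈ H) :
    MonoidHom.transfer ρ z = ρ ⟨z, hzH⟩ ^ H.index := by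
  have key : ∀ (k : ℕ) (g₀ : E), g₀⁻¹ * z ^ k * g₀ ∈ H → g₀⁻¹ * z ^ k * g₀ = z ^ k := by
    intro k g₀ _
    have h1 : z ^ k ∈ Subgroup.center E := Subgroup.pow_mem _ hz k
    rw [Subgroup.mem_center_iff] at h1
    rw [mul_assoc, ← h1 g₀, ← mul_assoc, inv_mul_cancel, one_mul]
  rw [MonoidHom.transfer_eq_pow ρ z key, ← map_pow]
  rfl

section
variable {G : Type*} [Group G] {p : ℕ} [Fact p.Prime] (P : Sylow p G) (O : Subgroup G) [O.Normal]

abbrev KK : Subgroup ↥(P : Subgroup G) := O.subgroupOf (P : Subgroup G)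

abbrev K1 : Subgroup ↥(P : Subgroup G) := ⁅KK P O, (⊤ : Subgroup ↥(P : Subgroup G))⁆

theorem K1_le_KK : K1 P O ≤ KK P O := Subgroup.commutator_le_left _ _

abbrev Q1 := ↥(P : Subgroup G) ⧸ K1 P O

def ZZ : Subgroup (Q1 P O) := (KK P O).map (QuotientGroup.mk' (K1 P O))

theorem mk_mem_ZZ (k : ↥(P : Subgroup G)) (hk : k ∈ KK P O) : (k : Q1 P O) ∈ ZZ P O :=
  ⟨k, hk, rfl⟩

theorem ZZ_le_center : ZZ P O ≤ Subgroup.center (Q1 P O) := by
  rintro _ ⟨k, hk, rfl⟩
  rw [Subgroup.mem_center_iff]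
  intro y
  obtain ⟨u, rfl⟩ := QuotientGroup.mk_surjective y
  change ((u * k : ↥(P : Subgroup G)) : Q1 P O) = ((k * u : ↥(P : Subgroup G)) : Q1 P O)
  rw [QuotientGroup.eq]
  have h1 : ⁅k, u⁆ ∈ K1 P O := Subgroup.commutator_mem_commutator hk (Subgroup.mem_top u)
  have h2 : (u * k)⁻¹ * (k * u) = ⁅k⁻¹, u⁻¹⁆ := by
    rw [commutatorElement_def]; group
  rw [h2]
  exact Subgroup.commutator_mem_commutator ((KK P O).inv_mem hk) (Subgroup.mem_top _)

def beta : Q1 P O →* G ⧸ O :=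
  QuotientGroup.lift (K1 P O) ((QuotientGroup.mk' O).comp (P : Subgroup G).subtype) (by
    intro x hx
    have hx' : x ∈ KK P O := K1_le_KK P O hx
    rw [MonoidHom.mem_ker]
    change ((x : G) : G ⧸ O) = 1
    rw [QuotientGroup.eq_one_iff]
    exact hx')

theorem beta_mk (u : ↥(P : Subgroup G)) : beta P O (u : Q1 P O) = ((u : G) : G ⧸ O) := rfl

def EE : Subgroup (G × Q1 P O) :=
  MonoidHom.eqLocus ((QuotientGroup.mk' O).comp (MonoidHom.fst G (Q1 P O)))
    ((beta P O).comp (MonoidHom.snd G (Q1 P O)))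

theorem mem_EE (x : G × Q1 P O) : x ∈ EE P O ↔ ((x.1 : G) : G ⧸ O) = beta P O x.2 := Iff.rfl

def fstE : ↥(EE P O) →* G := (MonoidHom.fst G (Q1 P O)).comp (EE P O).subtype

theorem fstE_apply (x : ↥(EE P O)) : fstE P O x = x.1.1 := rfl

def Ph : Subgroup ↥(EE P O) := (P : Subgroup G).comap (fstE P O)

theorem mem_Ph (x : ↥(EE P O)) : x ∈ Ph P O ↔ x.1.1 ∈ (P : Subgroup G) := Iff.rfl

theorem pi_mem (x : ↥(EE P O)) (hx : x.1.1 ∈ (P : Subgroup G)) :
    ((⟨x.1.1, hx⟩ : ↥(P : Subgroup G)) : Q1 P O)⁻¹ * x.1.2 ∈ ZZ P O := by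
  obtain ⟨v, hv⟩ := QuotientGroup.mk_surjective x.1.2
  have h1 := (mem_EE P O x.1).mp x.2
  rw [← hv, beta_mk, QuotientGroup.eq] at h1
  refine ⟨(⟨x.1.1, hx⟩ : ↥(P : Subgroup G))⁻¹ * v, ?_, ?_⟩
  · exact h1
  · rw [← hv]; rfl

instance ZZ_comm : IsMulCommutative ↥(ZZ P O) := ⟨⟨fun a b => Subtype.ext (by
  have := ZZ_le_center P O b.2
  rw [Subgroup.mem_center_iff] at this
  exact this a.1)⟩⟩

theorem aux_mul {M : Type*} [Group M] (a b s t : M)
    (hc : ∀ g : M, g * (a⁻¹ * s) = (a⁻¹ * s) * g) :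
    (a * b)⁻¹ * (s * t) = (a⁻¹ * s) * (b⁻¹ * t) := by
  calc (a * b)⁻¹ * (s * t) = (b⁻¹ * (a⁻¹ * s)) * t := by group
    _ = ((a⁻¹ * s) * b⁻¹) * t := by rw [hc]
    _ = (a⁻¹ * s) * (b⁻¹ * t) := by group

def toP (x : ↥(Ph P O)) : ↥(P : Subgroup G) := ⟨x.1.1.1, (mem_Ph P O x.1).mp x.2⟩

theorem toP_mul (x y : ↥(Ph P O)) : toP P O (x * y) = toP P O x * toP P O y := rfl

theorem toP_one : toP P O 1 = 1 := rfl

def piHom : ↥(Ph P O) →* ↥(ZZ P O) where
  toFun x := ⟨((toP P O x : ↥(P : Subgroup G)) : Q1 P O)⁻¹ * x.1.1.2,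
    pi_mem P O x.1 ((mem_Ph P O x.1).mp x.2)⟩
  map_one' := by
    apply Subtype.ext
    change ((toP P O 1 : ↥(P : Subgroup G)) : Q1 P O)⁻¹ * 1 = 1
    rw [toP_one]
    simp
  map_mul' x y := by
    apply Subtype.ext
    have hc := ZZ_le_center P O (pi_mem P O x.1 ((mem_Ph P O x.1).mp x.2))
    rw [Subgroup.mem_center_iff] at hc
    change ((toP P O (x * y) : ↥(P : Subgroup G)) : Q1 P O)⁻¹ * (x.1.1.2 * y.1.1.2) =
      (((toP P O x : ↥(P : Subgroup G)) : Q1 P O)⁻¹ * x.1.1.2) *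
      (((toP P O y : ↥(P : Subgroup G)) : Q1 P O)⁻¹ * y.1.1.2)
    rw [toP_mul, QuotientGroup.mk_mul]
    exact aux_mul _ _ _ _ hc

theorem piHom_apply (x : ↥(Ph P O)) :
    ((piHom P O x : ↥(ZZ P O)) : Q1 P O) =
      ((toP P O x : ↥(P : Subgroup G)) : Q1 P O)⁻¹ * x.1.1.2 := rfl

end

theorem eq_bot_of_le_commutator_top {M : Type*} [Group M] [hM : Group.IsNilpotent M]
    (K : Subgroup M) (h : K ≤ ⁅K, (⊤ : Subgroup M)⁆) : K = ⊥ := by
  have key : ∀ n : ℕ, K ≤ (⊤ : Subgroup M).lowerCentralSeries n := by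
    intro n
    induction n with
    | zero => exact le_top
    | succ n ih =>
      rw [Subgroup.lowerCentralSeries_succ]
      exact le_trans h (Subgroup.commutator_mono ih le_rfl)
  obtain ⟨n, hn⟩ := Subgroup.nilpotent_iff_lowerCentralSeries.mp hM
  rw [eq_bot_iff, ← hn]
  exact key n

theorem hom_eq_one_of_pResidual_top {X A : Type*} [Group X] [Group A] {p : ℕ} [Fact p.Prime]
    (hX : Cfsg.pResidual p X = ⊤) (hA : IsPGroup p A) (f : X →* A) (x : X) : f x = 1 := by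
  have h1 : Cfsg.pResidual p X ≤ f.ker := by
    unfold Cfsg.pResidual
    rw [Subgroup.closure_le]
    intro g hg
    change Nat.Coprime (orderOf g) p at hg
    obtain ⟨k, hk⟩ := hA (f g)
    have h2 : orderOf (f g) ∣ p ^ k := orderOf_dvd_of_pow_eq_one hk
    have h3 : orderOf (f g) ∣ orderOf g := orderOf_map_dvd f g
    have h4 : orderOf (f g) = 1 :=
      Nat.eq_one_of_dvd_coprimes (Nat.Coprime.pow_right k hg) h3 h2
    rw [orderOf_eq_one_iff] at h4
    exact h4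
  rw [hX] at h1
  exact h1 (Subgroup.mem_top x)

section
variable {G : Type*} [Group G] [Finite G] {p : ℕ} [Fact p.Prime] (P : Sylow p G)
  (O : Subgroup G) [O.Normal]

noncomputable def theta : ↥(EE P O) →* ↥(ZZ P O) := MonoidHom.transfer (piHom P O)

def zhat (z : Q1 P O) (hz : z ∈ ZZ P O) : ↥(EE P O) := ⟨(1, z), by
  obtain ⟨k, hk, rfl⟩ := hz
  rw [mem_EE]
  change ((1 : G) : G ⧸ O) = beta P O ((k : ↥(P : Subgroup G)) : Q1 P O)
  rw [beta_mk]
  exact ((QuotientGroup.eq_one_iff _).mpr (Subgroup.mem_subgroupOf.mp hk)).symm⟩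

theorem zhat_mem_center (z : Q1 P O) (hz : z ∈ ZZ P O) :
    zhat P O z hz ∈ Subgroup.center ↥(EE P O) := by
  rw [Subgroup.mem_center_iff]
  intro g
  have hc := ZZ_le_center P O hz
  rw [Subgroup.mem_center_iff] at hc
  apply Subtype.ext
  apply Prod.ext
  · change g.1.1 * 1 = 1 * g.1.1
    rw [mul_one, one_mul]
  · change g.1.2 * z = z * g.1.2
    exact hc g.1.2

theorem zhat_mem_Ph (z : Q1 P O) (hz : z ∈ ZZ P O) : zhat P O z hz ∈ Ph P O :=
  (mem_Ph P O _).mpr (Subgroup.one_mem _)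

theorem piHom_zhat (z : Q1 P O) (hz : z ∈ ZZ P O) :
    piHom P O ⟨zhat P O z hz, zhat_mem_Ph P O z hz⟩ = ⟨z, hz⟩ := by
  apply Subtype.ext
  rw [piHom_apply]
  change ((1 : ↥(P : Subgroup G)) : Q1 P O)⁻¹ * z = z
  simp

theorem theta_zhat (z : Q1 P O) (hz : z ∈ ZZ P O) :
    theta P O (zhat P O z hz) = (⟨z, hz⟩ : ↥(ZZ P O)) ^ (Ph P O).index := by
  unfold theta
  rw [transfer_central (Ph P O) (piHom P O) _ (zhat_mem_center P O z hz) (zhat_mem_Ph P O z hz),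
    piHom_zhat]

def jO : ↥O →* ↥(EE P O) where
  toFun o := ⟨((o : G), 1), by
    rw [mem_EE]
    change ((o : G) : G ⧸ O) = beta P O 1
    rw [map_one, QuotientGroup.eq_one_iff]
    exact o.2⟩
  map_one' := rfl
  map_mul' _ _ := by
    apply Subtype.ext
    apply Prod.ext
    · rfl
    · change (1 : Q1 P O) = 1 * 1
      rw [one_mul]

def sP : ↥(P : Subgroup G) →* ↥(EE P O) where
  toFun u := ⟨((u : G), (u : Q1 P O)), by
    rw [mem_EE]
    exact (beta_mk P O u).symm⟩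
  map_one' := rfl
  map_mul' _ _ := rfl

theorem sP_eq (k : ↥(P : Subgroup G)) (hk : k ∈ KK P O) :
    sP P O k = jO P O ⟨(k : G), Subgroup.mem_subgroupOf.mp hk⟩ *
      zhat P O (k : Q1 P O) (mk_mem_ZZ P O k hk) := by
  apply Subtype.ext
  apply Prod.ext
  · change (k : G) = (k : G) * 1
    rw [mul_one]
  · change (k : Q1 P O) = 1 * (k : Q1 P O)
    rw [one_mul]

theorem isPGroup_ZZ : IsPGroup p ↥(ZZ P O) :=
  (P.isPGroup'.to_quotient (K1 P O)).to_subgroup (ZZ P O)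

theorem index_coprime : Nat.Coprime (Ph P O).index p := by
  have h1 : (Ph P O).index = (P : Subgroup G).relIndex (fstE P O).range :=
    Subgroup.index_comap (P : Subgroup G) (fstE P O)
  have h2 : (P : Subgroup G) ≤ (fstE P O).range := by
    intro u hu
    exact ⟨sP P O ⟨u, hu⟩, rfl⟩
  have h3 : (Ph P O).index ∣ (P : Subgroup G).index := by
    rw [h1]; exact Subgroup.relIndex_dvd_index_of_le h2
  have h4 : Nat.Coprime (P : Subgroup G).index p :=
    ((Fact.out : p.Prime).coprime_iff_not_dvd.mpr P.not_dvd_index).symm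
  exact Nat.Coprime.coprime_dvd_left h3 h4

noncomputable def psi : ↥(P : Subgroup G) →* ↥(ZZ P O) := (theta P O).comp (sP P O)

theorem psi_apply_of_mem (hO : Cfsg.pResidual p ↥O = ⊤) (k : ↥(P : Subgroup G))
    (hk : k ∈ KK P O) :
    psi P O k = (⟨(k : Q1 P O), mk_mem_ZZ P O k hk⟩ : ↥(ZZ P O)) ^ (Ph P O).index := by
  unfold psi
  rw [MonoidHom.comp_apply, sP_eq P O k hk, map_mul, theta_zhat]
  have h1 : theta P O (jO P O ⟨(k : G), Subgroup.mem_subgroupOf.mp hk⟩) = 1 :=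
    hom_eq_one_of_pResidual_top hO (isPGroup_ZZ P O) ((theta P O).comp (jO P O)) _
  rw [h1, one_mul]

theorem tate_core (hO : Cfsg.pResidual p ↥O = ⊤)
    (h : O ⊓ (P : Subgroup G) ≤ (frattini ↥(P : Subgroup G)).map (P : Subgroup G).subtype) :
    O ⊓ (P : Subgroup G) = ⊥ := by
  have hKF : KK P O ≤ frattini ↥(P : Subgroup G) := by
    intro k hk
    have h1 : (k : G) ∈ O ⊓ (P : Subgroup G) := ⟨Subgroup.mem_subgroupOf.mp hk, k.2⟩
    obtain ⟨k', hk', hkk⟩ := h h1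
    have h2 : k' = k := Subtype.ext hkk
    rw [← h2]; exact hk'
  have hcop : Nat.Coprime (Ph P O).index p := index_coprime P O
  have hpre : ∀ z : ↥(ZZ P O), ∃ k ∈ KK P O, psi P O k = z := by
    rintro ⟨z, hz⟩
    obtain ⟨k, hk, rfl⟩ := hz
    obtain ⟨a, ha⟩ := (IsPGroup.iff_orderOf.mp (isPGroup_ZZ P O))
      (⟨(k : Q1 P O), mk_mem_ZZ P O k hk⟩ : ↥(ZZ P O))
    have hco : Nat.Coprime (Ph P O).index
        (orderOf (⟨(k : Q1 P O), mk_mem_ZZ P O k hk⟩ : ↥(ZZ P O))) := by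
      rw [ha]; exact Nat.Coprime.pow_right a hcop
    obtain ⟨m, hm⟩ := exists_pow_eq_self_of_coprime hco
    refine ⟨k ^ m, (KK P O).pow_mem hk m, ?_⟩
    rw [map_pow, psi_apply_of_mem P O hO k hk]
    exact hm
  have hsurj : Function.Surjective (psi P O) := fun z => by
    obtain ⟨k, _, hk⟩ := hpre z
    exact ⟨k, hk⟩
  have hF : frattini ↥(P : Subgroup G) ≤ (frattini ↥(ZZ P O)).comap (psi P O) :=
    frattini_le_comap_frattini_of_surjective hsurj
  have htop : frattini ↥(ZZ P O) = ⊤ := by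
    rw [eq_top_iff]
    intro z _
    obtain ⟨k, hk, rfl⟩ := hpre z
    exact hF (hKF hk)
  have hbot : (⊥ : Subgroup ↥(ZZ P O)) = ⊤ := by
    apply frattini_nongenerating
    rw [htop, bot_sup_eq]
  have hKK1 : KK P O ≤ K1 P O := by
    intro k hk
    have h1 : (⟨(k : Q1 P O), mk_mem_ZZ P O k hk⟩ : ↥(ZZ P O)) ∈ (⊥ : Subgroup ↥(ZZ P O)) := by
      rw [hbot]; exact Subgroup.mem_top _
    rw [Subgroup.mem_bot] at h1
    have h2 : (k : Q1 P O) = 1 := congrArg Subtype.val h1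
    exact (QuotientGroup.eq_one_iff k).mp h2
  haveI : Group.IsNilpotent ↥(P : Subgroup G) := P.isPGroup'.isNilpotent
  have hKbot : KK P O = ⊥ := eq_bot_of_le_commutator_top (KK P O) hKK1
  rw [eq_bot_iff]
  intro x hx
  have h1 : (⟨x, hx.2⟩ : ↥(P : Subgroup G)) ∈ KK P O := Subgroup.mem_subgroupOf.mpr hx.1
  rw [hKbot, Subgroup.mem_bot] at h1
  rw [Subgroup.mem_bot]
  exact congrArg Subtype.val h1

end

theorem pResidual_map_le {A B : Type*} [Group A] [Group B] (p : ℕ) (e : A ≃* B) :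
    (Cfsg.pResidual p A).map e.toMonoidHom ≤ Cfsg.pResidual p B := by
  unfold Cfsg.pResidual
  rw [MonoidHom.map_closure]
  apply Subgroup.closure_mono
  rintro _ ⟨a, ha, rfl⟩
  change Nat.Coprime (orderOf (e a)) p
  rw [MulEquiv.orderOf_eq]
  exact ha

instance pResidual_characteristic {A : Type*} [Group A] (p : ℕ) :
    (Cfsg.pResidual p A).Characteristic := by
  rw [Subgroup.characteristic_iff_map_le]
  intro ϕ
  exact pResidual_map_le p ϕ

theorem pResidual_eq_top_of_equiv {A B : Type*} [Group A] [Group B] (p : ℕ) (e : A ≃* B)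
    (h : Cfsg.pResidual p A = ⊤) : Cfsg.pResidual p B = ⊤ := by
  rw [eq_top_iff]
  have h1 := pResidual_map_le p e
  rw [h] at h1
  intro b _
  apply h1
  exact ⟨e.symm b, Subgroup.mem_top _, by simp⟩

theorem tate {G : Type*} [Group G] [Finite G] {p : ℕ} [Fact p.Prime] (P : Sylow p G)
    (N : Subgroup G) [N.Normal]
    (h : N ⊓ (P : Subgroup G) ≤ (frattini ↥(P : Subgroup G)).map (P : Subgroup G).subtype) :
    ¬ p ∣ Nat.card ↥(Cfsg.pResidual p ↥N) := by
  have hp : p.Prime := Fact.out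
  set R := Cfsg.pResidual p ↥N with hR
  set O : Subgroup G := R.map N.subtype with hOdef
  haveI hOn : O.Normal := ConjAct.normal_of_characteristic_of_normal
  have e : ↥R ≃* ↥O := R.equivMapOfInjective N.subtype N.subtype_injective
  have hRR : Cfsg.pResidual p ↥R = ⊤ := pResidual_pResidual p
  have hOO : Cfsg.pResidual p ↥O = ⊤ := pResidual_eq_top_of_equiv p e hRR
  have hON : O ≤ N := Subgroup.map_subtype_le R
  have hOP : O ⊓ (P : Subgroup G) = ⊥ :=
    tate_core P O hOO (le_trans (inf_le_inf_right _ hON) h)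
  intro hdvd
  have hcard : Nat.card ↥R = Nat.card ↥O := Nat.card_congr e.toEquiv
  rw [hcard] at hdvd
  obtain ⟨x, hx⟩ := exists_prime_orderOf_dvd_card' p hdvd
  have hxp : IsPGroup p (Subgroup.zpowers (x : G)) := by
    rw [IsPGroup.iff_card]
    refine ⟨1, ?_⟩
    rw [Nat.card_zpowers, Subgroup.orderOf_coe, hx, pow_one]
  obtain ⟨P', hP'⟩ := hxp.exists_le_sylow
  obtain ⟨g, hg⟩ := MulAction.exists_smul_eq G P' P
  have h1 : g * (x : G) * g⁻¹ ∈ (P : Subgroup G) := by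
    rw [← hg]
    rw [Sylow.coe_subgroup_smul, Subgroup.mem_pointwise_smul_iff_inv_smul_mem]
    rw [MulAut.smul_def, MulAut.conj_inv_apply]
    have : g⁻¹ * (g * (x : G) * g⁻¹) * g = (x : G) := by group
    rw [this]
    exact hP' (Subgroup.mem_zpowers _)
  have h2 : g * (x : G) * g⁻¹ ∈ O := hOn.conj_mem _ x.2 g
  have h3 : g * (x : G) * g⁻¹ ∈ O ⊓ (P : Subgroup G) := ⟨h2, h1⟩
  rw [hOP, Subgroup.mem_bot] at h3
  have h4 : (x : G) = 1 := by
    have : (x : G) = g⁻¹ * (g * (x : G) * g⁻¹) * g := by group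
    rw [this, h3]; group
  have h5 : x = 1 := Subtype.ext h4
  rw [h5, orderOf_one] at hx
  exact hp.one_lt.ne hx

end Cfsg.Agent.Lib.Helper1.Tate
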