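import Mathlib
import Cfsg.Prelude.Def_Classical

set_option autoImplicit false

namespace Cfsg.Agent.Lib.Helper1.U35

open Subgroup

noncomputable def quotCenterCongr {A B : Type*} [Group A] [Group B] (f : A ≃* B) :
    A ⧸ center A ≃* B ⧸ center B :=
  QuotientGroup.congr (center A) (center B) f (by
    ext y
    rw [Subgroup.mem_map]
    constructor
    · rintro ⟨x, hx, rfl⟩
      rw [Subgroup.mem_center_iff] at hx ⊢
      intro b
      obtain ⟨a, rfl⟩ := f.surjective b
      change f a * f x = f x * f a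
      rw [← map_mul, ← map_mul, hx a]
    · intro hy
      refine ⟨f.symm y, ?_, by simp⟩
      rw [Subgroup.mem_center_iff] at hy ⊢
      intro a
      apply f.injective
      rw [map_mul, map_mul]
      simpa using hy (f a))

noncomputable def slEquiv {F K : Type*} [Field F] [Field K] (φ : F ≃+* K) (n : ℕ) :
    Matrix.SpecialLinearGroup (Fin n) F ≃* Matrix.SpecialLinearGroup (Fin n) K where
  toFun := Matrix.SpecialLinearGroup.map (φ : F →+* K)
  invFun := Matrix.SpecialLinearGroup.map (φ.symm : K →+* F)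
  left_inv := by
    intro A
    ext i j
    change φ.symm (φ ((A : Matrix (Fin n) (Fin n) F) i j)) = _
    simp
  right_inv := by
    intro A
    ext i j
    change φ (φ.symm ((A : Matrix (Fin n) (Fin n) K) i j)) = _
    simp
  map_mul' := by
    intro A B
    exact map_mul _ A B

theorem slEquiv_coe {F K : Type*} [Field F] [Field K] (φ : F ≃+* K) (n : ℕ)
    (A : Matrix.SpecialLinearGroup (Fin n) F) (i j : Fin n) :
    ((slEquiv φ n A : Matrix.SpecialLinearGroup (Fin n) K) : Matrix (Fin n) (Fin n) K) i j =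
      φ ((A : Matrix (Fin n) (Fin n) F) i j) := rfl

theorem hermForm_map {F K : Type*} [Field F] [Field K] (φ : F ≃+* K) (n q : ℕ)
    (u v : Fin n → F) :
    Cfsg.hermForm n K q (fun i => φ (u i)) (fun i => φ (v i)) = φ (Cfsg.hermForm n F q u v) := by
  unfold Cfsg.hermForm
  rw [map_sum]
  apply Finset.sum_congr rfl
  intro i _
  rw [map_mul, map_pow]

theorem mulVec_map {F K : Type*} [Field F] [Field K] (φ : F ≃+* K) (n : ℕ)
    (A : Matrix.SpecialLinearGroup (Fin n) F) (u : Fin n → F) :
    (Cfsg.slToMat n K (slEquiv φ n A)).mulVec (fun i => φ (u i)) =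
      fun i => φ ((Cfsg.slToMat n F A).mulVec u i) := by
  funext i
  simp only [Matrix.mulVec, dotProduct]
  rw [map_sum]
  apply Finset.sum_congr rfl
  intro j _
  rw [map_mul]
  rfl

theorem mem_SU_map {F K : Type*} [Field F] [Field K] (φ : F ≃+* K) (n q : ℕ)
    (A : Matrix.SpecialLinearGroup (Fin n) F) (hA : A ∈ Cfsg.SU n F q) :
    slEquiv φ n A ∈ Cfsg.SU n K q := by
  intro u v
  have hu : u = fun i => φ (φ.symm (u i)) := by funext i; simp
  have hv : v = fun i => φ (φ.symm (v i)) := by funext i; simp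
  rw [hu, hv, mulVec_map, mulVec_map, hermForm_map, hermForm_map]
  congr 1
  exact hA _ _

theorem slEquiv_symm_apply {F K : Type*} [Field F] [Field K] (φ : F ≃+* K) (n : ℕ)
    (B : Matrix.SpecialLinearGroup (Fin n) K) :
    (slEquiv φ n).symm B = slEquiv φ.symm n B := rfl

noncomputable def suEquiv {F K : Type*} [Field F] [Field K] (φ : F ≃+* K) (n q : ℕ) :
    Cfsg.SU n F q ≃* Cfsg.SU n K q where
  toFun A := ⟨slEquiv φ n A.1, mem_SU_map φ n q A.1 A.2⟩
  invFun B := ⟨slEquiv φ.symm n B.1, mem_SU_map φ.symm n q B.1 B.2⟩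
  left_inv := by
    intro A
    apply Subtype.ext
    change (slEquiv φ n).symm (slEquiv φ n A.1) = A.1
    simp
  right_inv := by
    intro B
    apply Subtype.ext
    change slEquiv φ n ((slEquiv φ n).symm B.1) = B.1
    simp
  map_mul' := by
    intro A B
    apply Subtype.ext
    change slEquiv φ n (A.1 * B.1) = slEquiv φ n A.1 * slEquiv φ n B.1
    exact map_mul _ _ _

theorem psu_congr {F K : Type*} [Field F] [Field K] (φ : F ≃+* K) (n q : ℕ) :
    Nonempty (Cfsg.PSU n F q ≃* Cfsg.PSU n K q) :=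
  ⟨quotCenterCongr (suEquiv φ n q)⟩

end Cfsg.Agent.Lib.Helper1.U35
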