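import Mathlib
import Cfsg.Prelude.Def_Classical

set_option autoImplicit false

namespace Cfsg.Agent.Lib.Helper1.U35

open Subgroup

theorem index_transfer {G G' : Type*} [Group G] [Group G'] (e : G ≃* G') (m : ℕ)
    (h : (∀ H : Subgroup G, H ≠ ⊤ → m ≤ H.index) ∧ ∃ H : Subgroup G, H.index = m) :
    (∀ H : Subgroup G', H ≠ ⊤ → m ≤ H.index) ∧ ∃ H : Subgroup G', H.index = m := by
  obtain ⟨h1, H0, hH0⟩ := h
  constructor
  · intro H hH
    have hidx : (H.comap e.toMonoidHom).index = H.index :=
      Subgroup.index_comap_of_surjective H e.surjective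
    rw [← hidx]
    apply h1
    intro htop
    apply hH
    rw [eq_top_iff]
    intro x _
    have hx : e.symm x ∈ H.comap e.toMonoidHom := by
      rw [htop]
      exact Subgroup.mem_top _
    rw [Subgroup.mem_comap] at hx
    simpa using hx
  · refine ⟨H0.comap e.symm.toMonoidHom, ?_⟩
    rw [Subgroup.index_comap_of_surjective H0 e.symm.surjective]
    exact hH0

end Cfsg.Agent.Lib.Helper1.U35
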