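import Mathlib
import Cfsg.Prelude.Def_GeometricClasses
import Cfsg.Agent.Lib.Helper27.ASC.Defs
import Cfsg.Agent.Lib.Lead.ASCU.Defs
import Cfsg.Agent.Lib.Helper16.U3.Defs
import Cfsg.Agent.Lib.Helper28.Herm
import Cfsg.Agent.Lib.Helper10.U3FRSTD
import Cfsg.Agent.Lib.Helper27.ASCUUES6
import Cfsg.Agent.Lib.Helper1.ASCESK

set_option autoImplicit false
set_option linter.unusedVariables false
set_option linter.unusedSectionVars false
set_option linter.style.haveILetI false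

namespace Cfsg.Agent.Lib.Helper16.U3

open Cfsg Cfsg.Geo Cfsg.Agent.Lib.Helper27.ASC Cfsg.Agent.Lib.Lead.ASCU
open scoped MatrixGroups Matrix

variable {F : Type*} [Field F] [Fintype F]

theorem u3heisstd_gu_of_gram (q : ℕ) (hF : Fintype.card F = q ^ 2) (col : Fin 3 → (Fin 3 → F))
    (hgram : ∀ i j, hermForm 3 F q (col i) (col j) = if i = j then 1 else 0) :
    ∃ B : GL (Fin 3) F, B ∈ GU 3 F q ∧
      ∀ i, (B : Matrix (Fin 3) (Fin 3) F) *ᵥ (Pi.single i 1) = col i := by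
  classical
  let M : Matrix (Fin 3) (Fin 3) F := Matrix.of fun r i => col i r
  let Ms : Matrix (Fin 3) (Fin 3) F := Matrix.of fun i r => (col i r) ^ q
  have hleft : Ms * M = 1 := by
    ext i j
    rw [Matrix.mul_apply, Matrix.one_apply]
    have := hgram j i
    unfold hermForm at this
    simp only [M, Ms, Matrix.of_apply]
    rw [← (show (∑ r, col j r * col i r ^ q) = ∑ r, col i r ^ q * col j r from
      Finset.sum_congr rfl fun r _ => mul_comm _ _), this]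
    by_cases hij : i = j
    · subst hij; simp
    · rw [if_neg hij, if_neg (fun h => hij h.symm)]
  have hright : M * Ms = 1 := mul_eq_one_comm.mp hleft
  let B : GL (Fin 3) F := ⟨M, Ms, hright, hleft⟩
  have hBcol : ∀ i, (B : Matrix (Fin 3) (Fin 3) F) *ᵥ (Pi.single i 1) = col i := by
    intro i
    ext r
    simp [B, M, Matrix.mulVec, dotProduct, Pi.single_apply]
  have hBv : ∀ u : Fin 3 → F, (B : Matrix (Fin 3) (Fin 3) F) *ᵥ u = ∑ i, u i • col i := by
    intro u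
    ext r
    simp only [B, M, Matrix.mulVec, dotProduct, Matrix.of_apply, Finset.sum_apply, Pi.smul_apply,
      smul_eq_mul]
    exact Finset.sum_congr rfl fun i _ => mul_comm _ _
  refine ⟨B, ?_, hBcol⟩
  rw [mem_GU_iff]
  intro u v
  rw [hBv u, hBv v, Cfsg.Agent.Lib.Helper28.Herm.herm_sum_left]
  unfold hermForm
  apply Finset.sum_congr rfl
  intro i _
  change hermForm 3 F q (u i • col i) (∑ j, v j • col j) = _
  rw [Cfsg.Agent.Lib.Helper28.Herm.herm_sum_right hF, Finset.sum_eq_single i]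
  · rw [Cfsg.Agent.Lib.Helper28.Herm.herm_smul_left, Cfsg.Agent.Lib.Helper28.Herm.herm_smul_right,
      hgram, if_pos rfl, mul_one]
  · intro j _ hji
    rw [Cfsg.Agent.Lib.Helper28.Herm.herm_smul_left, Cfsg.Agent.Lib.Helper28.Herm.herm_smul_right,
      hgram, if_neg (fun h => hji h.symm), mul_zero, mul_zero]
  · intro h; exact absurd (Finset.mem_univ i) h

theorem u3heisstd_ext {A B : Matrix (Fin 3) (Fin 3) F}
    (h : ∀ i, A *ᵥ (Pi.single i 1) = B *ᵥ (Pi.single i 1)) : A = B := by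
  ext r i
  have := congrFun (h i) r
  simpa [Matrix.mulVec, dotProduct, Pi.single_apply] using this

theorem u3heisstd_core (q : ℕ) (hF : Fintype.card F = q ^ 2) {X Y : Matrix (Fin 3) (Fin 3) F} {ω : F}
    (hω1 : ω ≠ 1) (hω3 : ω ^ 3 = 1) (hωq : ω ^ (q + 1) = 1)
    (comm : X * Y = ω • (Y * X)) (hX3 : X ^ 3 = 1) (hY3 : Y ^ 3 = 1)
    (hXU : ∀ u v, hermForm 3 F q (X *ᵥ u) (X *ᵥ v) = hermForm 3 F q u v)
    (hYU : ∀ u v, hermForm 3 F q (Y *ᵥ u) (Y *ᵥ v) = hermForm 3 F q u v) :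
    ∃ B : GL (Fin 3) F, B ∈ GU 3 F q ∧ X * (B : Matrix (Fin 3) (Fin 3) F) = (B : Matrix (Fin 3) (Fin 3) F) * heisX ω ∧
      Y * (B : Matrix (Fin 3) (Fin 3) F) = (B : Matrix (Fin 3) (Fin 3) F) * heisY F := by
  classical
  have hr : Nat.Prime 3 := Nat.prime_three
  have hω : IsPrimitiveRoot ω 3 := ascesk_prim hr hω1 hω3
  have hq0 : q ≠ 0 := by
    rintro rfl
    have h1 : 1 < Fintype.card F := Fintype.one_lt_card
    rw [hF] at h1
    omega
  obtain ⟨i0, v₀, hv₀, hXv⟩ := ascesk_eigen hr hω hX3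
  let w₀ : Fin 3 → F := Y ^ (2 * i0) *ᵥ v₀
  have hYinv : ∀ (k : ℕ) (v : Fin 3 → F), Y ^ k *ᵥ v = 0 → v = 0 := by
    intro k v h0
    have h1 : Y ^ (k * 2) * Y ^ k = 1 := by
      rw [← pow_add, show k * 2 + k = 3 * k by ring, pow_mul, hY3, one_pow]
    have h2 := congrArg (fun w => Y ^ (k * 2) *ᵥ w) h0
    simp only [Matrix.mulVec_mulVec, h1, Matrix.one_mulVec, Matrix.mulVec_zero] at h2
    exact h2
  have hw₀ : w₀ ≠ 0 := fun h => hv₀ (hYinv _ _ h)
  have hXw : X *ᵥ w₀ = w₀ := by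
    change X *ᵥ (Y ^ (2 * i0) *ᵥ v₀) = Y ^ (2 * i0) *ᵥ v₀
    rw [Matrix.mulVec_mulVec, ascesk_comm_pow_right comm, Matrix.smul_mulVec, ← Matrix.mulVec_mulVec, hXv,
      Matrix.mulVec_smul, smul_smul, ← pow_add, show 2 * i0 + i0 = 3 * i0 by ring, pow_mul, hω3, one_pow,
      one_smul]
  let col : Fin 3 → (Fin 3 → F) := fun i => Y ^ (i : ℕ) *ᵥ w₀
  have hXcol : ∀ i : Fin 3, X *ᵥ col i = ω ^ (i : ℕ) • col i := by
    intro i
    change X *ᵥ (Y ^ (i : ℕ) *ᵥ w₀) = ω ^ (i : ℕ) • (Y ^ (i : ℕ) *ᵥ w₀)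
    rw [Matrix.mulVec_mulVec, ascesk_comm_pow_right comm, Matrix.smul_mulVec, ← Matrix.mulVec_mulVec, hXw]
  have hYpow : ∀ (k : ℕ) (u v : Fin 3 → F),
      hermForm 3 F q (Y ^ k *ᵥ u) (Y ^ k *ᵥ v) = hermForm 3 F q u v := by
    intro k
    induction k with
    | zero => intro u v; rw [pow_zero, Matrix.one_mulVec, Matrix.one_mulVec]
    | succ k ih =>
      intro u v
      rw [pow_succ', ← Matrix.mulVec_mulVec, ← Matrix.mulVec_mulVec, hYU, ih]
  have hωq' : ω ^ q * ω = 1 := by rw [← pow_succ]; exact hωq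
  have hω0 : ω ≠ 0 := hω.ne_zero (by norm_num)
  have hoff : ∀ i j : Fin 3, i ≠ j → hermForm 3 F q (col i) (col j) = 0 := by
    intro i j hij
    have h1 := hXU (col i) (col j)
    rw [hXcol i, hXcol j, Cfsg.Agent.Lib.Helper28.Herm.herm_smul_left,
      Cfsg.Agent.Lib.Helper28.Herm.herm_smul_right] at h1
    by_contra hne
    have h2 : ω ^ (i : ℕ) * (ω ^ (j : ℕ)) ^ q = 1 := by
      have h3 : (ω ^ (i : ℕ) * (ω ^ (j : ℕ)) ^ q) * hermForm 3 F q (col i) (col j) =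
          1 * hermForm 3 F q (col i) (col j) := by rw [one_mul, mul_assoc]; exact h1
      exact mul_right_cancel₀ hne h3
    have h4 : ω ^ (i : ℕ) = ω ^ (j : ℕ) := by
      have h5 : (ω ^ (j : ℕ)) ^ q * ω ^ (j : ℕ) = 1 := by
        rw [← pow_mul, mul_comm (j : ℕ) q, pow_mul, ← mul_pow, hωq', one_pow]
      calc ω ^ (i : ℕ) = ω ^ (i : ℕ) * ((ω ^ (j : ℕ)) ^ q * ω ^ (j : ℕ)) := by rw [h5, mul_one]
        _ = (ω ^ (i : ℕ) * (ω ^ (j : ℕ)) ^ q) * ω ^ (j : ℕ) := by ring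
        _ = ω ^ (j : ℕ) := by rw [h2, one_mul]
    exact hij (Fin.ext (hω.pow_inj i.2 j.2 h4))
  have hdiag : ∀ i : Fin 3, hermForm 3 F q (col i) (col i) = hermForm 3 F q w₀ w₀ := fun i => hYpow _ _ _
  have hcol0 : col 0 = w₀ := by
    change Y ^ ((0 : Fin 3) : ℕ) *ᵥ w₀ = w₀
    rw [Fin.val_zero, pow_zero, Matrix.one_mulVec]
  have hli : LinearIndependent F col := by
    apply Module.End.eigenvectors_linearIndependent' (Matrix.toLin' X) (fun i : Fin 3 => ω ^ (i : ℕ))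
    · intro i j hij
      exact Fin.ext (hω.pow_inj i.2 j.2 hij)
    · intro i
      refine ⟨?_, ?_⟩
      · rw [Module.End.mem_eigenspace_iff, Matrix.toLin'_apply]
        exact hXcol i
      · intro h0
        exact hw₀ (hYinv _ _ h0)
  have hspan : Submodule.span F (Set.range col) = ⊤ :=
    hli.span_eq_top_of_card_eq_finrank' (by simp)
  have hc0 : hermForm 3 F q w₀ w₀ ≠ 0 := by
    intro hc
    have hall : ∀ v : Fin 3 → F, hermForm 3 F q w₀ v = 0 := by
      intro v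
      have hv : v ∈ Submodule.span F (Set.range col) := by rw [hspan]; exact Submodule.mem_top
      induction hv using Submodule.span_induction with
      | mem x hx =>
        obtain ⟨j, rfl⟩ := hx
        by_cases hj : (0 : Fin 3) = j
        · rw [← hj, hcol0]; exact hc
        · rw [← hcol0]; exact hoff 0 j hj
      | zero => exact Cfsg.Agent.Lib.Helper28.Herm.herm_zero_right 3 q hq0 _
      | add x y _ _ hx hy => rw [Cfsg.Agent.Lib.Helper28.Herm.herm_add_right hF, hx, hy, add_zero]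
      | smul a x _ hx => rw [Cfsg.Agent.Lib.Helper28.Herm.herm_smul_right, hx, mul_zero]
    apply hw₀
    funext i
    have h1 := hall (Pi.single i 1)
    unfold hermForm at h1
    rw [Finset.sum_eq_single i] at h1
    · simpa using h1
    · intro b _ hb
      rw [Pi.single_eq_of_ne hb, zero_pow hq0, mul_zero]
    · intro h; exact absurd (Finset.mem_univ i) h
  have hcq : (hermForm 3 F q w₀ w₀) ^ q = hermForm 3 F q w₀ w₀ :=
    (Cfsg.Agent.Lib.Helper28.Herm.herm_symm hF 3 w₀ w₀).symm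
  obtain ⟨lam, hlam⟩ := u3frstd_norm q hF (hermForm 3 F q w₀ w₀)⁻¹ (by rw [inv_pow, hcq])
  let col' : Fin 3 → (Fin 3 → F) := fun i => lam • col i
  have hgram : ∀ i j, hermForm 3 F q (col' i) (col' j) = if i = j then 1 else 0 := by
    intro i j
    simp only [col']
    rw [Cfsg.Agent.Lib.Helper28.Herm.herm_smul_left, Cfsg.Agent.Lib.Helper28.Herm.herm_smul_right]
    by_cases hij : i = j
    · subst hij
      rw [if_pos rfl, hdiag, ← mul_assoc, ← pow_succ', hlam, inv_mul_cancel₀ hc0]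
    · rw [if_neg hij, hoff i j hij, mul_zero, mul_zero]
  obtain ⟨B, hBU, hBcol⟩ := u3heisstd_gu_of_gram q hF col' hgram
  refine ⟨B, hBU, ?_, ?_⟩
  · apply u3heisstd_ext
    intro i
    rw [← Matrix.mulVec_mulVec, ← Matrix.mulVec_mulVec]
    have hL : X *ᵥ ((B : Matrix (Fin 3) (Fin 3) F) *ᵥ Pi.single i 1) = (ω ^ (i : ℕ)) • col' i := by
      rw [hBcol]
      change X *ᵥ (lam • col i) = (ω ^ (i : ℕ)) • (lam • col i)
      rw [Matrix.mulVec_smul, hXcol, smul_comm]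
    have hR : (B : Matrix (Fin 3) (Fin 3) F) *ᵥ (heisX ω *ᵥ Pi.single i 1) = (![1, ω, ω ^ 2] i) • col' i := by
      unfold heisX
      rw [Matrix.diagonal_mulVec_single, mul_one]
      have h1 : (Pi.single i (![1, ω, ω ^ 2] i) : Fin 3 → F) = (![1, ω, ω ^ 2] i) • Pi.single i (1 : F) := by
        rw [← Pi.single_smul, smul_eq_mul, mul_one]
      rw [h1, Matrix.mulVec_smul, hBcol]
    rw [hL, hR]
    congr 1
    fin_cases i <;> simp
  · apply u3heisstd_ext
    intro i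
    rw [← Matrix.mulVec_mulVec, ← Matrix.mulVec_mulVec]
    have h1 : heisY F *ᵥ (Pi.single i (1 : F)) = Pi.single (i + 1) (1 : F) := by
      fin_cases i <;> (ext r; fin_cases r <;> simp [heisY, Matrix.mulVec, dotProduct, Fin.sum_univ_three])
    rw [h1, hBcol, hBcol]
    change Y *ᵥ (lam • (Y ^ (i : ℕ) *ᵥ w₀)) = lam • (Y ^ ((i + 1 : Fin 3) : ℕ) *ᵥ w₀)
    rw [Matrix.mulVec_smul, Matrix.mulVec_mulVec, ← pow_succ']
    congr 1
    fin_cases i
    · rfl
    · rfl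
    · change Y ^ (2 + 1) *ᵥ w₀ = Y ^ 0 *ᵥ w₀
      rw [hY3, pow_zero]

theorem u3heisstd_norm_conj {G : Type*} [Group G] (N N₀ : Subgroup G) (B : G)
    (h : ∀ g, g ∈ N ↔ B⁻¹ * g * B ∈ N₀) (g : G) :
    g ∈ Subgroup.normalizer (N : Set G) ↔ B⁻¹ * g * B ∈ Subgroup.normalizer (N₀ : Set G) := by
  rw [Subgroup.mem_normalizer_iff, Subgroup.mem_normalizer_iff]
  constructor
  · intro hg n'
    have h1 := h (B * n' * B⁻¹)
    have e1 : B⁻¹ * (B * n' * B⁻¹) * B = n' := by group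
    rw [e1] at h1
    have h2 := hg (B * n' * B⁻¹)
    have h3 := h (g * (B * n' * B⁻¹) * g⁻¹)
    have e2 : B⁻¹ * (g * (B * n' * B⁻¹) * g⁻¹) * B = B⁻¹ * g * B * n' * (B⁻¹ * g * B)⁻¹ := by group
    rw [e2] at h3
    rw [← h1, h2, h3]
  · intro hg n
    have h1 := h n
    have h2 := hg (B⁻¹ * n * B)
    have h3 := h (g * n * g⁻¹)
    have e2 : B⁻¹ * g * B * (B⁻¹ * n * B) * (B⁻¹ * g * B)⁻¹ = B⁻¹ * (g * n * g⁻¹) * B := by group
    rw [e2] at h2
    rw [h1, h2, h3]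

theorem heis_std (q : ℕ) (hF : Fintype.card F = q ^ 2) {N : Subgroup (GL (Fin 3) F)} {x y : GL (Fin 3) F} {ω : F}
    (hd : HeisData 3 N x y ω) (hNU : N ≤ GU 3 F q) :
    ∃ B : GL (Fin 3) F, B ∈ GU 3 F q ∧ ConjTo B (subgroupNormalizer N) (subgroupNormalizer (stdHeis ω)) := by
  classical
  have hr : Nat.Prime 3 := Nat.prime_three
  have hωq : ω ^ (q + 1) = 1 := ascuues6_norm_one hr q hd hNU
  have hX3 : (x : Matrix (Fin 3) (Fin 3) F) ^ 3 = 1 := by
    rw [← Units.val_pow_eq_pow_val, hd.xr, Units.val_one]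
  have hY3 : (y : Matrix (Fin 3) (Fin 3) F) ^ 3 = 1 := by
    rw [← Units.val_pow_eq_pow_val, hd.yr, Units.val_one]
  obtain ⟨B, hBU, hXB, hYB⟩ := u3heisstd_core q hF hd.hω1 hd.hωr hωq hd.comm hX3 hY3
    ((mem_GU_iff q x).mp (hNU hd.hx)) ((mem_GU_iff q y).mp (hNU hd.hy))
  refine ⟨B, hBU, ?_⟩
  have eB2 : ((B⁻¹ : GL (Fin 3) F) : Matrix (Fin 3) (Fin 3) F) * (B : Matrix (Fin 3) (Fin 3) F) = 1 := by
    rw [← Units.val_mul, inv_mul_cancel, Units.val_one]
  have eB1 : (B : Matrix (Fin 3) (Fin 3) F) * ((B⁻¹ : GL (Fin 3) F) : Matrix (Fin 3) (Fin 3) F) = 1 := by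
    rw [← Units.val_mul, mul_inv_cancel, Units.val_one]
  let x₀ : GL (Fin 3) F := B⁻¹ * x * B
  let y₀ : GL (Fin 3) F := B⁻¹ * y * B
  have hx₀ : (x₀ : Matrix (Fin 3) (Fin 3) F) = heisX ω := by
    change ((B⁻¹ * x * B : GL (Fin 3) F) : Matrix (Fin 3) (Fin 3) F) = _
    rw [Units.val_mul, Units.val_mul, Matrix.mul_assoc, hXB, ← Matrix.mul_assoc, eB2, Matrix.one_mul]
  have hy₀ : (y₀ : Matrix (Fin 3) (Fin 3) F) = heisY F := by
    change ((B⁻¹ * y * B : GL (Fin 3) F) : Matrix (Fin 3) (Fin 3) F) = _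
    rw [Units.val_mul, Units.val_mul, Matrix.mul_assoc, hYB, ← Matrix.mul_assoc, eB2, Matrix.one_mul]
  have hx₀S : x₀ ∈ stdHeis ω := Subgroup.subset_closure (Or.inl hx₀)
  have hy₀S : y₀ ∈ stdHeis ω := Subgroup.subset_closure (Or.inr hy₀)
  let z₀ : GL (Fin 3) F := x₀ * y₀ * (y₀ * x₀)⁻¹
  have hz₀S : z₀ ∈ stdHeis ω :=
    (stdHeis ω).mul_mem ((stdHeis ω).mul_mem hx₀S hy₀S) ((stdHeis ω).inv_mem ((stdHeis ω).mul_mem hy₀S hx₀S))
  have hz₀ : z₀ = B⁻¹ * (x * y * (y * x)⁻¹) * B := by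
    change B⁻¹ * x * B * (B⁻¹ * y * B) * (B⁻¹ * y * B * (B⁻¹ * x * B))⁻¹ = _
    group
  have hzval : ((x * y * (y * x)⁻¹ : GL (Fin 3) F) : Matrix (Fin 3) (Fin 3) F) =
      ω • (1 : Matrix (Fin 3) (Fin 3) F) := by
    have h1 : ((x * y : GL (Fin 3) F) : Matrix (Fin 3) (Fin 3) F) =
        ω • ((y * x : GL (Fin 3) F) : Matrix (Fin 3) (Fin 3) F) := by
      rw [Units.val_mul, Units.val_mul]; exact hd.comm
    rw [Units.val_mul, h1, Matrix.smul_mul, ← Units.val_mul, mul_inv_cancel, Units.val_one]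
  have hkey : ∀ g : GL (Fin 3) F, g ∈ N ↔ B⁻¹ * g * B ∈ stdHeis ω := by
    intro g
    constructor
    · intro hg
      obtain ⟨i, j, k, hgen⟩ := hd.gen g hg
      have hgeq : g = (x * y * (y * x)⁻¹) ^ k * x ^ i * y ^ j := by
        apply Units.ext
        rw [hgen, Units.val_mul, Units.val_mul, Units.val_pow_eq_pow_val, Units.val_pow_eq_pow_val,
          Units.val_pow_eq_pow_val, hzval, smul_pow, one_pow, Matrix.smul_mul, Matrix.smul_mul, Matrix.one_mul]
      have hconj : B⁻¹ * g * B = z₀ ^ k * x₀ ^ i * y₀ ^ j := by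
        rw [hgeq, hz₀]
        change _ = (B⁻¹ * (x * y * (y * x)⁻¹) * B) ^ k * (B⁻¹ * x * B) ^ i * (B⁻¹ * y * B) ^ j
        have hcp : ∀ (a : GL (Fin 3) F) (m : ℕ), (B⁻¹ * a * B) ^ m = B⁻¹ * a ^ m * B := by
          intro a m
          induction m with
          | zero => simp
          | succ m ih => rw [pow_succ, ih, pow_succ]; group
        rw [hcp, hcp, hcp]
        group
      rw [hconj]
      exact (stdHeis ω).mul_mem ((stdHeis ω).mul_mem ((stdHeis ω).pow_mem hz₀S k)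
        ((stdHeis ω).pow_mem hx₀S i)) ((stdHeis ω).pow_mem hy₀S j)
    · intro hg
      have hle : stdHeis ω ≤ N.comap (MulAut.conj B).toMonoidHom := by
        unfold stdHeis
        rw [Subgroup.closure_le]
        rintro s (hs | hs)
        · have : s = x₀ := Units.ext (hs.trans hx₀.symm)
          rw [this, SetLike.mem_coe, Subgroup.mem_comap]
          change B * (B⁻¹ * x * B) * B⁻¹ ∈ N
          have e : B * (B⁻¹ * x * B) * B⁻¹ = x := by group
          rw [e]; exact hd.hx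
        · have : s = y₀ := Units.ext (hs.trans hy₀.symm)
          rw [this, SetLike.mem_coe, Subgroup.mem_comap]
          change B * (B⁻¹ * y * B) * B⁻¹ ∈ N
          have e : B * (B⁻¹ * y * B) * B⁻¹ = y := by group
          rw [e]; exact hd.hy
      have := hle hg
      rw [Subgroup.mem_comap] at this
      change B * (B⁻¹ * g * B) * B⁻¹ ∈ N at this
      have e : B * (B⁻¹ * g * B) * B⁻¹ = g := by group
      rwa [e] at this
  intro g
  exact u3heisstd_norm_conj N (stdHeis ω) B hkey g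

end Cfsg.Agent.Lib.Helper16.U3
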