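import Cfsg.Agent.Lib.helper15.UD.Defs

set_option autoImplicit false
set_option linter.unusedVariables false
set_option linter.unusedSectionVars false

namespace Cfsg.Agent.Lib.helper15.UD

open Matrix Cfsg.Agent.Lib.Helper28 Cfsg.Agent.Lib.Helper29.ExtrL

variable {n q : ℕ} {F : Type*} [Field F] [Fintype F] {σ : F ≃+* F}

section blockB
variable {f : (Fin n → F) → (Fin n → F) → F}

theorem dilGL (hf : Cfsg.Geo.IsUnitaryForm σ f) (w u : Fin n → F) (h : 1 + f w u ≠ 0) :
    ∃ g : Matrix.GeneralLinearGroup (Fin n) F, (g : Matrix (Fin n) (Fin n) F).det = 1 + f w u ∧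
      ∀ x, (g : Matrix (Fin n) (Fin n) F) *ᵥ x = x + f x u • w := by
  have hdet : (1 + Matrix.vecMulVec w (UForm.rho f u)).det = 1 + f w u := by
    rw [Matrix.vecMulVec_eq Unit, Matrix.det_one_add_replicateCol_mul_replicateRow,
      ← UForm.f_eq_dot hf]
  refine ⟨Matrix.GeneralLinearGroup.mkOfDetNeZero (1 + Matrix.vecMulVec w (UForm.rho f u))
    (by rw [hdet]; exact h), ?_, ?_⟩
  · simpa [Matrix.GeneralLinearGroup.mkOfDetNeZero] using hdet
  · intro x
    have hx : f x u = UForm.rho f u ⬝ᵥ x := UForm.f_eq_dot hf x u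
    simp [Matrix.GeneralLinearGroup.mkOfDetNeZero, Matrix.add_mulVec, Matrix.vecMulVec_mulVec, hx]

end blockB

end Cfsg.Agent.Lib.helper15.UD
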