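import Cfsg.Agent.Lib.helper15.UD.Defs
import Cfsg.Agent.Lib.Lead.Unitary

set_option autoImplicit false
set_option linter.unusedVariables false
set_option linter.unusedSectionVars false

namespace Cfsg.Agent.Lib.helper15.UD

open Matrix Cfsg.Agent.Lib.Helper28 Cfsg.Agent.Lib.Helper29.ExtrL

variable {n q : ℕ} {F : Type*} [Field F] [Fintype F] {σ : F ≃+* F}

theorem gu_det (hc : Ctx n q F σ) (g : Matrix.GeneralLinearGroup (Fin n) F) (hg : g ∈ Cfsg.GU n F q) :
    (g : Matrix (Fin n) (Fin n) F).det * σ ((g : Matrix (Fin n) (Fin n) F).det) = 1 := by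
  have hσ : ∀ x, (σ : F →+* F) x = x ^ q := fun x => hc.frob x
  have h := (Cfsg.Agent.Lib.Lead.preserves_iff (σ : F →+* F) hσ
    (g : Matrix (Fin n) (Fin n) F)).mp hg
  have hdet := congrArg Matrix.det h
  rw [Matrix.det_mul, Matrix.det_transpose, Matrix.det_one] at hdet
  have h2 : ((g : Matrix (Fin n) (Fin n) F).map (σ : F →+* F)).det =
      (σ : F →+* F) (g : Matrix (Fin n) (Fin n) F).det := by
    rw [← RingHom.mapMatrix_apply, ← RingHom.map_det]
  rw [h2] at hdet
  exact hdet

end Cfsg.Agent.Lib.helper15.UD
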