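import Cfsg.Agent.Lib.Lead.UDK1Q2.Defs
import Cfsg.Agent.Lib.Lead.UDK1Q2FLD

set_option autoImplicit false
set_option linter.unusedSectionVars false

namespace Cfsg.Agent.Lib.Lead.UDK1Q2

open Matrix Cfsg.Agent.Lib.Helper29.ExtrL Cfsg.Agent.Lib.Helper28.UMax

variable {n : ℕ} {F : Type*} [Field F] [Fintype F] [DecidableEq F]

theorem q2bigh1_wt_sum (x : Fin n → F) : wt x = ∑ s, (if x s ≠ 0 then 1 else 0) := by
  unfold wt
  rw [Finset.card_filter]

theorem q2bigh1_omega (w : F) (hw0 : w ≠ 0) (hw1 : w ≠ 1) (hw : w ^ 2 + w + 1 = 0) :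
    w ^ 2 ≠ 1 ∧ w ^ 2 ≠ w := by
  have h3 : w ^ 3 = 1 := by
    have : w ^ 3 - 1 = (w - 1) * (w ^ 2 + w + 1) := by ring
    rw [hw, mul_zero] at this
    exact sub_eq_zero.mp this
  constructor
  · intro h
    apply hw1
    have : w ^ 3 = w ^ 2 * w := by ring
    rw [h3, h, one_mul] at this
    exact this.symm
  · intro h
    have : w * (w - 1) = 0 := by
      have : w * (w - 1) = w ^ 2 - w := by ring
      rw [this, h, sub_self]
    rcases mul_eq_zero.mp this with h | h
    · exact hw0 h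
    · exact hw1 (sub_eq_zero.mp h)

theorem q2bigh1_pt (w p q : F) (hw0 : w ≠ 0) (hw1 : w ≠ 1) (hw : w ^ 2 + w + 1 = 0) :
    2 * (if p ≠ 0 then 1 else 0) + 3 * (if p = 0 ∧ q ≠ 0 then 1 else 0) ≤
      (if p + 1 * q ≠ 0 then 1 else 0) + (if p + w * q ≠ 0 then 1 else 0) +
        (if p + w ^ 2 * q ≠ 0 then 1 else 0) := by
  obtain ⟨hw21, hw2w⟩ := q2bigh1_omega w hw0 hw1 hw
  by_cases hp : p = 0
  · subst hp
    by_cases hq : q = 0
    · simp [hq]
    · simp [hq, hw0]
  · have key : ∀ a b : F, a ≠ b → p + a * q = 0 → p + b * q = 0 → False := by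
      intro a b hab h1 h2
      have h3 : (a - b) * q = 0 := by
        have : (a - b) * q = (p + a * q) - (p + b * q) := by ring
        rw [this, h1, h2, sub_self]
      rcases mul_eq_zero.mp h3 with h | h
      · exact hab (sub_eq_zero.mp h)
      · apply hp
        rw [h, mul_zero, add_zero] at h1
        exact h1
    have k1 := key 1 w (Ne.symm hw1)
    have k2 := key 1 (w ^ 2) (Ne.symm hw21)
    have k3 := key w (w ^ 2) (Ne.symm hw2w)
    rw [one_mul] at k1 k2 ⊢
    by_cases c1 : p + q = 0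
    · by_cases c2 : p + w * q = 0
      · exact absurd (k1 c1 c2) id
      · by_cases c3 : p + w ^ 2 * q = 0
        · exact absurd (k2 c1 c3) id
        · simp [hp, c1, c2, c3]
    · by_cases c2 : p + w * q = 0
      · by_cases c3 : p + w ^ 2 * q = 0
        · exact absurd (k3 c2 c3) id
        · simp [hp, c1, c2, c3]
      · simp [hp, c1, c2]

theorem q2bigh1_count (w : F) (hw0 : w ≠ 0) (hw1 : w ≠ 1) (hw : w ^ 2 + w + 1 = 0)
    (u v : Fin n → F) :
    2 * wt u + 3 * (Finset.univ.filter fun s => u s = 0 ∧ v s ≠ 0).card ≤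
      wt (fun s => u s + 1 * v s) + wt (fun s => u s + w * v s) +
        wt (fun s => u s + w ^ 2 * v s) := by
  rw [q2bigh1_wt_sum, q2bigh1_wt_sum, q2bigh1_wt_sum, q2bigh1_wt_sum, Finset.card_filter,
    Finset.mul_sum, Finset.mul_sum, ← Finset.sum_add_distrib, ← Finset.sum_add_distrib,
    ← Finset.sum_add_distrib]
  exact Finset.sum_le_sum fun s _ => q2bigh1_pt w (u s) (v s) hw0 hw1 hw

theorem q2bigh1_core (C : Ctx n F) (hn : 5 ≤ n)
    (hw2 : ∀ {i j : Fin n}, i ≠ j → ∀ {a b : F}, a ≠ 0 → b ≠ 0 →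
      (Pi.single i a + Pi.single j b : Fin n → F) ∈ C.X)
    (g₀ : Matrix.GeneralLinearGroup (Fin n) F)
    (hg₀ : g₀ ∈ C.M) (hnm : ¬ IsMono (g₀ : Matrix (Fin n) (Fin n) F)) :
    ∃ y ∈ C.X, Even (wt y) ∧ 4 ≤ wt y := by
  by_contra hcon
  push Not at hcon
  have hF := C.hF
  have : CharP F 2 := CharTwo.of_one_ne_zero_of_two_eq_zero one_ne_zero (q2_two hF)
  have hiso : ∀ x y, Cfsg.hermForm n F 2 ((g₀ : Matrix (Fin n) (Fin n) F) *ᵥ x)
      ((g₀ : Matrix (Fin n) (Fin n) F) *ᵥ y) = Cfsg.hermForm n F 2 x y :=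
    (Subgroup.mem_inf.mp (C.hMG hg₀)).1
  obtain ⟨w, hw0, hw1, hw⟩ := q2_omega hF
  obtain ⟨hw21, hw2w⟩ := q2bigh1_omega w hw0 hw1 hw
  have hw20 : w ^ 2 ≠ 0 := pow_ne_zero 2 hw0
  unfold IsMono at hnm
  push Not at hnm
  obtain ⟨i, hi⟩ := hnm
  set u : Fin n → F := fun s => (g₀ : Matrix (Fin n) (Fin n) F) s i with hu
  have hle : ∀ j : Fin n, j ≠ i → ∀ a : F, a ≠ 0 →
      wt (fun s => u s + a * (g₀ : Matrix (Fin n) (Fin n) F) s j) ≤ 2 := by
    intro j hj a ha
    have hx : (Pi.single i 1 + Pi.single j a : Fin n → F) ∈ C.X := hw2 (Ne.symm hj) one_ne_zero ha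
    have hy := XS_conj C.M hg₀ hiso hx
    have hyeq : (g₀ : Matrix (Fin n) (Fin n) F) *ᵥ (Pi.single i 1 + Pi.single j a) =
        fun s => u s + a * (g₀ : Matrix (Fin n) (Fin n) F) s j := by
      ext s
      rw [Matrix.mulVec_add, Matrix.mulVec_single_one, Matrix.mulVec_single]
      simp [hu]
    rw [hyeq] at hy
    have hev : Even (wt fun s => u s + a * (g₀ : Matrix (Fin n) (Fin n) F) s j) :=
      (q2_iso_iff hF _).1 hy.1
    have hlt := hcon _ hy hev
    obtain ⟨k, hk⟩ := hev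
    omega
  have hwu3 : 3 ≤ wt u := by
    have hex : ∃ k, u k ≠ 0 := by
      by_contra hall
      push Not at hall
      exact hi ⟨0, by omega⟩ (fun s _ => hall s)
    obtain ⟨k, hk⟩ := hex
    have hk2 := hi k
    unfold ColAt at hk2
    push Not at hk2
    obtain ⟨r, hrk, hr⟩ := hk2
    have h2 : 2 ≤ wt u := by
      unfold wt
      have hsub : ({k, r} : Finset (Fin n)) ⊆ Finset.univ.filter fun s => u s ≠ 0 := by
        intro s hs
        rw [Finset.mem_insert, Finset.mem_singleton] at hs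
        rw [Finset.mem_filter]
        rcases hs with h | h
        · exact ⟨Finset.mem_univ _, by rw [h]; exact hk⟩
        · exact ⟨Finset.mem_univ _, by rw [h]; exact hr⟩
      have := Finset.card_le_card hsub
      rwa [Finset.card_pair (Ne.symm hrk)] at this
    have hodd : ¬ Even (wt u) := by
      intro he
      have h0 := (q2_iso_iff hF u).2 he
      have hue : u = (g₀ : Matrix (Fin n) (Fin n) F) *ᵥ (Pi.single i 1) := by
        rw [Matrix.mulVec_single_one]
        rfl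
      rw [hue, hiso] at h0
      have h1 : Cfsg.hermForm n F 2 (Pi.single i (1 : F)) (Pi.single i 1) = 1 := by
        unfold Cfsg.hermForm
        rw [Finset.sum_eq_single i]
        · simp
        · intro b _ hb
          simp [hb]
        · intro h
          exact absurd (Finset.mem_univ i) h
      rw [h1] at h0
      exact one_ne_zero h0
    rcases Nat.even_or_odd (wt u) with h | ⟨k', hk'⟩
    · exact absurd h hodd
    · omega
  have hZ : ∀ j : Fin n, j ≠ i →
      wt u ≤ 3 ∧ ∀ s, u s = 0 → (g₀ : Matrix (Fin n) (Fin n) F) s j = 0 := by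
    intro j hj
    have hc := q2bigh1_count w hw0 hw1 hw u (fun s => (g₀ : Matrix (Fin n) (Fin n) F) s j)
    have l1 := hle j hj 1 one_ne_zero
    have l2 := hle j hj w hw0
    have l3 := hle j hj (w ^ 2) hw20
    have hcard : (Finset.univ.filter fun s =>
        u s = 0 ∧ (g₀ : Matrix (Fin n) (Fin n) F) s j ≠ 0).card = 0 := by omega
    refine ⟨by omega, fun s hs => ?_⟩
    by_contra hne
    have : s ∈ Finset.univ.filter fun s =>
        u s = 0 ∧ (g₀ : Matrix (Fin n) (Fin n) F) s j ≠ 0 := by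
      rw [Finset.mem_filter]
      exact ⟨Finset.mem_univ _, hs, hne⟩
    rw [Finset.card_eq_zero] at hcard
    rw [hcard] at this
    exact absurd this (Finset.notMem_empty _)
  have hj0 : ∃ j : Fin n, j ≠ i := by
    by_cases h : i = ⟨0, by omega⟩
    · refine ⟨⟨1, by omega⟩, ?_⟩
      rw [h]
      intro h'
      have := congrArg Fin.val h'
      simp at this
    · exact ⟨⟨0, by omega⟩, fun h' => h h'.symm⟩
  obtain ⟨j0, hj0⟩ := hj0
  have hwu : wt u ≤ 3 := (hZ j0 hj0).1
  have hs0 : ∃ s₀, u s₀ = 0 := by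
    by_contra hall
    push Not at hall
    have : wt u = n := by
      unfold wt
      rw [Finset.filter_true_of_mem (fun s _ => hall s), Finset.card_univ, Fintype.card_fin]
    omega
  obtain ⟨s₀, hs₀⟩ := hs0
  have hrow : ∀ j, (g₀ : Matrix (Fin n) (Fin n) F) s₀ j = 0 := by
    intro j
    by_cases hj : j = i
    · rw [hj]
      exact hs₀
    · exact (hZ j hj).2 s₀ hs₀
  have hdet := Matrix.det_eq_zero_of_row_eq_zero s₀ hrow
  have hunit : IsUnit (g₀ : Matrix (Fin n) (Fin n) F).det :=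
    (Matrix.isUnit_iff_isUnit_det _).1 g₀.isUnit
  rw [hdet] at hunit
  exact not_isUnit_zero hunit

end Cfsg.Agent.Lib.Lead.UDK1Q2
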