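import Cfsg.Agent.Lib.Lead.UDK1Q2.Defs
import Cfsg.Agent.Lib.Helper1.UDK1Q2BIGcore
import Cfsg.Agent.Lib.helper4.UDK1Q2W2

set_option autoImplicit false

namespace Cfsg.Agent.Lib.Lead.UDK1Q2

open Matrix Cfsg.Agent.Lib.Helper29.ExtrL Cfsg.Agent.Lib.Helper28.UMax

variable {n : ℕ} {F : Type*} [Field F] [Fintype F] [DecidableEq F]

theorem q2_big (C : Ctx n F) (hn : 5 ≤ n) (g₀ : Matrix.GeneralLinearGroup (Fin n) F)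
    (hg₀ : g₀ ∈ C.M) (hnm : ¬ IsMono (g₀ : Matrix (Fin n) (Fin n) F)) :
    ∃ y ∈ C.X, Even (wt y) ∧ 4 ≤ wt y :=
  q2bigh1_core C hn (fun hij _ _ ha hb => q2_w2 C hij ha hb) g₀ hg₀ hnm

end Cfsg.Agent.Lib.Lead.UDK1Q2
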