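import Mathlib
import Cfsg.Agent.Lib.Helper5.UNI.Defs
import Cfsg.Agent.Lib.helper14.StVal

/-!
Project UNI, row A4A: helper14's `st_value` with an arbitrary finite index set.
-/

set_option autoImplicit false

namespace Cfsg.Agent.Lib.Helper5.UNI

open Cfsg.Agent.Lib.helper3 Cfsg.Agent.Lib.helper14

section Abstract

variable {G : Type*} [Group G]

/-- the enumeration of a finite set of naturals, extended by `0` -/
noncomputable def unia4a_enum (I : Finset ℕ) (i : ℕ) : ℕ :=
  if h : i < I.card then (I.orderEmbOfFin rfl ⟨i, h⟩ : ℕ) else 0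

theorem unia4a_enum_mem (I : Finset ℕ) {i : ℕ} (h : i < I.card) : unia4a_enum I i ∈ I := by
  unfold unia4a_enum
  rw [dif_pos h]
  exact Finset.orderEmbOfFin_mem I rfl ⟨i, h⟩

theorem unia4a_enum_injOn (I : Finset ℕ) :
    Set.InjOn (unia4a_enum I) (Finset.range I.card : Set ℕ) := by
  intro i hi j hj hij
  rw [Finset.coe_range, Set.mem_Iio] at hi hj
  unfold unia4a_enum at hij
  rw [dif_pos hi, dif_pos hj] at hij
  have := (I.orderEmbOfFin rfl).injective hij
  exact congrArg Fin.val this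

theorem unia4a_enum_surj (I : Finset ℕ) {a : ℕ} (ha : a ∈ I) :
    ∃ i < I.card, unia4a_enum I i = a := by
  have hr := Finset.range_orderEmbOfFin I (rfl : I.card = I.card)
  have : a ∈ Set.range (I.orderEmbOfFin rfl) := by
    rw [hr]
    exact ha
  obtain ⟨⟨i, hi⟩, rfl⟩ := this
  refine ⟨i, hi, ?_⟩
  unfold unia4a_enum
  rw [dif_pos hi]

theorem unia4a_image_range (I : Finset ℕ) :
    (Finset.range I.card).image (unia4a_enum I) = I := by
  ext a
  rw [Finset.mem_image]
  constructor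
  · rintro ⟨i, hi, rfl⟩
    exact unia4a_enum_mem I (Finset.mem_range.1 hi)
  · intro ha
    obtain ⟨i, hi, e⟩ := unia4a_enum_surj I ha
    exact ⟨i, Finset.mem_range.2 hi, e⟩

/-- A4a: helper14's `st_value` with an arbitrary finite index set -/
theorem st_value_finset [Finite G] (P : Cfsg.BNPair G) (I : Finset ℕ) (σ : ℕ → G)
    (hσ : ∀ i ∈ I, σ i ∈ P.S) (hσ' : ∀ s ∈ P.S, ∃ i ∈ I, σ i = s)
    {n₀ : G} (hn₀ : n₀ ∈ P.N)
    (h1 : ∀ s ∈ P.S, ¬ Pp P s n₀⁻¹)
    (h2 : ∀ m ∈ P.N, (∀ s ∈ P.S, ¬ Pp P s m) → LAsc P P.S (m * n₀))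
    (H : Subgroup G)
    (c1 : ∀ h ∈ H, h ∈ P.B → n₀⁻¹ * h * n₀ ∈ P.B)
    (c2 : ∀ β ∈ P.B, n₀⁻¹ * β * n₀ ∈ P.B → β ∈ H) (b : ↥P.B) :
    ∑ K ∈ I.powerset, (-1 : ℂ) ^ K.card *
        (Nat.card (MulAction.fixedBy (G ⧸ P.parabolic (σ '' (K : Set ℕ))) (b : G)) : ℂ) =
      (Nat.card (MulAction.fixedBy (↥P.B ⧸ H.subgroupOf P.B) b) : ℂ) := by
  classical
  set f := unia4a_enum I with hf
  set r := I.card with hr
  have hst := st_value P P.B rfl (fun K => P.parabolic ((σ ∘ f) '' (K : Set ℕ))) (σ ∘ f) r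
    (fun i hi => hσ (f i) (unia4a_enum_mem I hi))
    (fun s hs => by
      obtain ⟨a, ha, e⟩ := hσ' s hs
      obtain ⟨i, hi, e'⟩ := unia4a_enum_surj I ha
      exact ⟨i, hi, by rw [Function.comp_apply, hf, e', e]⟩)
    (fun K _ => rfl) hn₀ h1 h2 H c1 c2 b
  rw [← hst]
  have hpow : I.powerset = (Finset.range r).powerset.image (Finset.image f) := by
    ext K
    rw [Finset.mem_powerset, Finset.mem_image]
    constructor
    · intro hK
      refine ⟨(Finset.range r).filter (fun i => f i ∈ K), ?_, ?_⟩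
      · rw [Finset.mem_powerset]
        exact Finset.filter_subset _ _
      · ext a
        rw [Finset.mem_image]
        constructor
        · rintro ⟨i, hi, rfl⟩
          exact (Finset.mem_filter.1 hi).2
        · intro ha
          obtain ⟨i, hi, e⟩ := unia4a_enum_surj I (hK ha)
          exact ⟨i, Finset.mem_filter.2 ⟨Finset.mem_range.2 hi, by rw [hf, e]; exact ha⟩, e⟩
    · rintro ⟨K', hK', rfl⟩
      rw [Finset.mem_powerset] at hK'
      intro a ha
      obtain ⟨i, hi, rfl⟩ := Finset.mem_image.1 ha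
      exact unia4a_enum_mem I (Finset.mem_range.1 (hK' hi))
  have hinj : Set.InjOn (Finset.image f) ((Finset.range r).powerset : Set (Finset ℕ)) := by
    intro K₁ h₁ K₂ h₂ he
    rw [Finset.mem_coe, Finset.mem_powerset] at h₁ h₂
    ext i
    constructor
    · intro hi
      have : f i ∈ K₂.image f := by rw [← he]; exact Finset.mem_image_of_mem f hi
      obtain ⟨j, hj, e⟩ := Finset.mem_image.1 this
      have := unia4a_enum_injOn I (Finset.mem_coe.2 (h₂ hj)) (Finset.mem_coe.2 (h₁ hi)) e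
      rw [← this]
      exact hj
    · intro hi
      have : f i ∈ K₁.image f := by rw [he]; exact Finset.mem_image_of_mem f hi
      obtain ⟨j, hj, e⟩ := Finset.mem_image.1 this
      have := unia4a_enum_injOn I (Finset.mem_coe.2 (h₁ hj)) (Finset.mem_coe.2 (h₂ hi)) e
      rw [← this]
      exact hj
  rw [hpow, Finset.sum_image hinj]
  apply Finset.sum_congr rfl
  intro K hK
  rw [Finset.mem_powerset] at hK
  have hcard : (K.image f).card = K.card := by
    apply Finset.card_image_of_injOn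
    intro i hi j hj e
    exact unia4a_enum_injOn I (Finset.mem_coe.2 (hK hi)) (Finset.mem_coe.2 (hK hj)) e
  have himg : σ '' ((K.image f : Finset ℕ) : Set ℕ) = (σ ∘ f) '' (K : Set ℕ) := by
    rw [Finset.coe_image, Set.image_image]
    rfl
  rw [hcard, himg]

end Abstract

end Cfsg.Agent.Lib.Helper5.UNI
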