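import Mathlib
import Cfsg.Agent.Lib.Helper5.UNI.Defs
import Cfsg.Agent.Lib.helper14.StVal
import Cfsg.Agent.Lib.Helper1.UNIA4A

/-!
Project UNI, row A4 (core): the relative Steinberg function of `P_J` on `B`.
The statements of the rows A1 (`sub_bnpair`), A2 (`sub_parabolic`), A3 (`sub_Pp`) are hypotheses.
-/

set_option autoImplicit false

namespace Cfsg.Agent.Lib.Helper5.UNI

open Cfsg.Agent.Lib.helper3 Cfsg.Agent.Lib.helper14

section Abstract

variable {G : Type*} [Group G]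

/-- the natural map `Z ⧸ (Y ⊓ Z) → G ⧸ Y` -/
def unia4_qmap (Z Y : Subgroup G) : ↥Z ⧸ Y.subgroupOf Z → G ⧸ Y :=
  Quotient.map' (fun z : ↥Z => (z : G)) (by
    intro a b hab
    rw [QuotientGroup.leftRel_apply] at hab ⊢
    exact Subgroup.mem_subgroupOf.1 hab)

theorem unia4_qmap_mk (Z Y : Subgroup G) (z : ↥Z) :
    unia4_qmap Z Y ((z : ↥Z) : ↥Z ⧸ Y.subgroupOf Z) = (((z : G)) : G ⧸ Y) := rfl

theorem unia4_qmap_injective (Z Y : Subgroup G) : Function.Injective (unia4_qmap Z Y) := by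
  intro a b
  induction a using QuotientGroup.induction_on with
  | H a =>
    induction b using QuotientGroup.induction_on with
    | H b =>
      intro h
      rw [unia4_qmap_mk, unia4_qmap_mk, QuotientGroup.eq] at h
      rw [QuotientGroup.eq]
      exact Subgroup.mem_subgroupOf.2 h

theorem unia4_qmap_smul (Z Y : Subgroup G) (g : ↥Z) (c : ↥Z ⧸ Y.subgroupOf Z) :
    unia4_qmap Z Y (g • c) = (g : G) • unia4_qmap Z Y c := by
  induction c using QuotientGroup.induction_on with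
  | H a => rfl

/-- own copy of the statement of row A5a (no hypothesis `Y ≤ X` needed) -/
theorem unia4_relFix_eq (X Y : Subgroup G) (g : ↥X) :
    relFix X Y (g : G) = Nat.card (MulAction.fixedBy (↥X ⧸ Y.subgroupOf X) g) := by
  unfold relFix
  symm
  apply Nat.card_congr
  refine Equiv.ofBijective (fun c => ⟨unia4_qmap X Y c.1, ?_, ?_⟩) ⟨?_, ?_⟩
  · have hc : g • c.1 = c.1 := c.2
    rw [← unia4_qmap_smul, hc]
  · obtain ⟨c, hc⟩ := c
    induction c using QuotientGroup.induction_on with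
    | H a => exact ⟨a.1, a.2, rfl⟩
  · intro a b hab
    have := congrArg Subtype.val hab
    exact Subtype.ext (unia4_qmap_injective X Y this)
  · rintro ⟨c, hc, x, hx, rfl⟩
    refine ⟨⟨((⟨x, hx⟩ : ↥X) : ↥X ⧸ Y.subgroupOf X), ?_⟩, rfl⟩
    rw [MulAction.mem_fixedBy]
    apply unia4_qmap_injective X Y
    rw [unia4_qmap_smul]
    exact hc

/-- `relFix` inside a subgroup `Z ≥ X` -/
theorem unia4_relFix_subgroupOf (Z X Y : Subgroup G) (hXZ : X ≤ Z) (g : ↥Z) :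
    relFix (X.subgroupOf Z) (Y.subgroupOf Z) g = relFix X Y (g : G) := by
  unfold relFix
  apply Nat.card_congr
  refine Equiv.ofBijective (fun c => ⟨unia4_qmap Z Y c.1, ?_, ?_⟩) ⟨?_, ?_⟩
  · rw [← unia4_qmap_smul, c.2.1]
  · obtain ⟨x, hx, e⟩ := c.2.2
    exact ⟨(x : G), Subgroup.mem_subgroupOf.1 hx, by rw [e]; rfl⟩
  · intro a b hab
    have := congrArg Subtype.val hab
    exact Subtype.ext (unia4_qmap_injective Z Y this)
  · rintro ⟨c, hc, x, hx, rfl⟩
    refine ⟨⟨((⟨x, hXZ hx⟩ : ↥Z) : ↥Z ⧸ Y.subgroupOf Z), ?_, ⟨x, hXZ hx⟩, ?_, rfl⟩, rfl⟩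
    · apply unia4_qmap_injective Z Y
      rw [unia4_qmap_smul]
      exact hc
    · exact Subgroup.mem_subgroupOf.2 hx

theorem unia4_closure_le_parabolic (P : Cfsg.BNPair G) (J : Set G) :
    Subgroup.closure J ≤ P.parabolic J := by
  unfold Cfsg.BNPair.parabolic
  exact le_sup_right

theorem unia4_B_le_parabolic (P : Cfsg.BNPair G) (J : Set G) : P.B ≤ P.parabolic J := by
  unfold Cfsg.BNPair.parabolic
  exact le_sup_left

theorem unia4_subN_le_parabolic (P : Cfsg.BNPair G) (J : Set G) : subN P J ≤ P.parabolic J := by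
  unfold subN
  exact sup_le (unia4_closure_le_parabolic P J) (inf_le_left.trans (unia4_B_le_parabolic P J))

theorem unia4_parabolic_mono (P : Cfsg.BNPair G) {K J : Set G} (h : K ⊆ J) :
    P.parabolic K ≤ P.parabolic J := by
  unfold Cfsg.BNPair.parabolic
  exact sup_le_sup_left (Subgroup.closure_mono h) _

/-- A4 (core): the statements of A1, A2, A3 are hypotheses -/
theorem uni_a4_core [Finite G] (P : Cfsg.BNPair G) (J : Finset ℕ) (σ : ℕ → G)
    (hA1 : ∃ P' : Cfsg.BNPair ↥(P.parabolic (σ '' (J : Set ℕ))),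
      P'.B = P.B.subgroupOf (P.parabolic (σ '' (J : Set ℕ))) ∧
      P'.N = (subN P (σ '' (J : Set ℕ))).subgroupOf (P.parabolic (σ '' (J : Set ℕ))) ∧
      P'.S = {s : ↥(P.parabolic (σ '' (J : Set ℕ))) | (s : G) ∈ σ '' (J : Set ℕ)})
    (hA2 : ∀ K : Set G, K ⊆ σ '' (J : Set ℕ) →
      ∀ P' : Cfsg.BNPair ↥(P.parabolic (σ '' (J : Set ℕ))),
        P'.B = P.B.subgroupOf (P.parabolic (σ '' (J : Set ℕ))) →
        P'.parabolic {s : ↥(P.parabolic (σ '' (J : Set ℕ))) | (s : G) ∈ K} =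
          (P.parabolic K).subgroupOf (P.parabolic (σ '' (J : Set ℕ))))
    (hA3 : ∀ P' : Cfsg.BNPair ↥(P.parabolic (σ '' (J : Set ℕ))),
        P'.B = P.B.subgroupOf (P.parabolic (σ '' (J : Set ℕ))) →
        ∀ s m : ↥(P.parabolic (σ '' (J : Set ℕ))), Pp P' s m ↔ Pp P (s : G) (m : G))
    {n : G} (hn : n ∈ subN P (σ '' (J : Set ℕ)))
    (h1 : ∀ j ∈ J, ¬ Pp P (σ j) n⁻¹)
    (h2 : ∀ m ∈ subN P (σ '' (J : Set ℕ)), (∀ j ∈ J, ¬ Pp P (σ j) m) →
      ∀ j ∈ J, Pp P (σ j) (m * n))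
    (b : G) (hb : b ∈ P.B) :
    relSt (fun K => P.parabolic (σ '' (K : Set ℕ))) J b =
      (relFix P.B (P.B ⊓ P.B.map (MulAut.conj n).toMonoidHom) b : ℤ) := by
  classical
  set J' : Set G := σ '' (J : Set ℕ) with hJ'
  set Z : Subgroup G := P.parabolic J' with hZ
  set D : Subgroup G := P.B ⊓ P.B.map (MulAut.conj n).toMonoidHom with hD
  obtain ⟨P', hB', hN', hS'⟩ := hA1
  have hσZ : ∀ i ∈ J, σ i ∈ Z := fun i hi =>
    unia4_closure_le_parabolic P J' (Subgroup.subset_closure ⟨i, Finset.mem_coe.2 hi, rfl⟩)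
  have hnZ : n ∈ Z := unia4_subN_le_parabolic P J' hn
  have hbZ : b ∈ Z := unia4_B_le_parabolic P J' hb
  set σ' : ℕ → ↥Z := fun i => if h : σ i ∈ Z then ⟨σ i, h⟩ else 1 with hσ'
  have hσ'v : ∀ i ∈ J, ((σ' i : ↥Z) : G) = σ i := by
    intro i hi
    simp only [hσ', dif_pos (hσZ i hi)]
  set n₀ : ↥Z := ⟨n, hnZ⟩ with hn₀
  set b' : ↥Z := ⟨b, hbZ⟩ with hb'
  have hb'B : b' ∈ P'.B := by
    rw [hB']
    exact Subgroup.mem_subgroupOf.2 hb
  set H : Subgroup ↥Z := D.subgroupOf Z with hH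
  have hmemS : ∀ s : ↥Z, s ∈ P'.S ↔ ∃ j ∈ J, σ j = (s : G) := by
    intro s
    rw [hS']
    constructor
    · rintro ⟨j, hj, e⟩
      exact ⟨j, Finset.mem_coe.1 hj, e⟩
    · rintro ⟨j, hj, e⟩
      exact ⟨j, Finset.mem_coe.2 hj, e⟩
  have key := st_value_finset P' J σ'
    (fun i hi => (hmemS _).2 ⟨i, hi, (hσ'v i hi).symm⟩)
    (fun s hs => by
      obtain ⟨j, hj, e⟩ := (hmemS s).1 hs
      exact ⟨j, hj, Subtype.ext ((hσ'v j hj).trans e)⟩)
    (n₀ := n₀) (by rw [hN']; exact Subgroup.mem_subgroupOf.2 hn)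
    (fun s hs => by
      obtain ⟨j, hj, e⟩ := (hmemS s).1 hs
      rw [hA3 P' hB']
      have : ((n₀⁻¹ : ↥Z) : G) = n⁻¹ := rfl
      rw [this, ← e]
      exact h1 j hj)
    (fun m hm hmS => by
      rw [hN'] at hm
      have hm' : (m : G) ∈ subN P J' := Subgroup.mem_subgroupOf.1 hm
      have h3 : ∀ j ∈ J, ¬ Pp P (σ j) (m : G) := by
        intro j hj hp
        apply hmS (σ' j) ((hmemS _).2 ⟨j, hj, (hσ'v j hj).symm⟩)
        rw [hA3 P' hB', hσ'v j hj]
        exact hp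
      have h4 := h2 (m : G) hm' h3
      intro s hs
      obtain ⟨j, hj, e⟩ := (hmemS s).1 hs
      rw [hA3 P' hB']
      have : ((m * n₀ : ↥Z) : G) = (m : G) * n := rfl
      rw [this, ← e]
      exact h4 j hj)
    H
    (fun h hh _ => by
      rw [hB']
      apply Subgroup.mem_subgroupOf.2
      have hh' : (h : G) ∈ D := Subgroup.mem_subgroupOf.1 hh
      obtain ⟨β, hβ, e⟩ := Subgroup.mem_map.1 hh'.2
      have e' : (h : G) = n * β * n⁻¹ := by
        rw [← e]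
        rfl
      have : ((n₀⁻¹ * h * n₀ : ↥Z) : G) = n⁻¹ * (h : G) * n := rfl
      rw [this, e']
      have : n⁻¹ * (n * β * n⁻¹) * n = β := by group
      rw [this]
      exact hβ)
    (fun β hβ hβ' => by
      rw [hB'] at hβ hβ'
      have h5 : (β : G) ∈ P.B := Subgroup.mem_subgroupOf.1 hβ
      have h6 : n⁻¹ * (β : G) * n ∈ P.B := Subgroup.mem_subgroupOf.1 hβ'
      apply Subgroup.mem_subgroupOf.2
      refine ⟨h5, Subgroup.mem_map.2 ⟨n⁻¹ * (β : G) * n, h6, ?_⟩⟩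
      show n * (n⁻¹ * (β : G) * n) * n⁻¹ = (β : G)
      group)
    ⟨b', hb'B⟩
  -- the right hand side
  have hR : Nat.card (MulAction.fixedBy (↥P'.B ⧸ H.subgroupOf P'.B) (⟨b', hb'B⟩ : ↥P'.B)) =
      relFix P.B D b := by
    rw [← unia4_relFix_eq P'.B H ⟨b', hb'B⟩]
    show relFix P'.B H b' = relFix P.B D b
    rw [hB', hH, unia4_relFix_subgroupOf Z P.B D (unia4_B_le_parabolic P J') b']
  -- the left hand side
  have hL : ∀ K ∈ J.powerset,
      Nat.card (MulAction.fixedBy (↥Z ⧸ P'.parabolic (σ' '' (K : Set ℕ))) b') =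
        relFix (P.parabolic (σ '' (J : Set ℕ))) (P.parabolic (σ '' (K : Set ℕ))) b := by
    intro K hK
    rw [Finset.mem_powerset] at hK
    have hKJ : σ '' (K : Set ℕ) ⊆ J' := Set.image_mono (Finset.coe_subset.2 hK)
    have hset : σ' '' (K : Set ℕ) = {s : ↥Z | (s : G) ∈ σ '' (K : Set ℕ)} := by
      ext s
      constructor
      · rintro ⟨i, hi, rfl⟩
        exact ⟨i, hi, (hσ'v i (hK (Finset.mem_coe.1 hi))).symm⟩
      · rintro ⟨i, hi, e⟩
        exact ⟨i, hi, Subtype.ext ((hσ'v i (hK (Finset.mem_coe.1 hi))).trans e)⟩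
    rw [hset, hA2 _ hKJ P' hB', ← unia4_relFix_eq Z (P.parabolic (σ '' (K : Set ℕ))) b']
  have key' : ∑ K ∈ J.powerset, (-1 : ℂ) ^ K.card *
      ((relFix (P.parabolic (σ '' (J : Set ℕ))) (P.parabolic (σ '' (K : Set ℕ))) b : ℕ) : ℂ) =
      ((relFix P.B D b : ℕ) : ℂ) := by
    rw [← hR, ← key]
    apply Finset.sum_congr rfl
    intro K hK
    rw [← hL K hK]
  unfold relSt
  have : ((∑ K ∈ J.powerset, (-1 : ℤ) ^ K.card *
      ((relFix (P.parabolic (σ '' (J : Set ℕ))) (P.parabolic (σ '' (K : Set ℕ))) b : ℕ) : ℤ) : ℤ) : ℂ) =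
      (((relFix P.B D b : ℕ) : ℤ) : ℂ) := by
    push_cast
    exact key'
  exact_mod_cast this

end Abstract

end Cfsg.Agent.Lib.Helper5.UNI
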