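import Mathlib
import Cfsg.Agent.Lib.Helper5.UNI.Defs
import Cfsg.Agent.Lib.Helper1.UNIA4core
import Cfsg.Agent.Lib.helper3.UNIA1
import Cfsg.Agent.Lib.helper3.UNIA2
import Cfsg.Agent.Lib.helper3.UNIA3

/-!
Project UNI, row A4 (verbatim): the relative Steinberg function of `P_J` on `B`.
-/

set_option autoImplicit false

namespace Cfsg.Agent.Lib.Helper5.UNI

open Cfsg.Agent.Lib.helper3 Cfsg.Agent.Lib.helper14

section Abstract

variable {G : Type*} [Group G]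

/-- A4: the relative Steinberg function of `P_J` on `B` is the permutation character of `B` on
`B ⧸ (B ⊓ n B n⁻¹)`, `n` the longest element of `W_J` -/
theorem rel_st_value [Finite G] (P : Cfsg.BNPair G) (J : Finset ℕ) (σ : ℕ → G)
    (hσ : ∀ i ∈ J, σ i ∈ P.S)
    {n : G} (hn : n ∈ subN P (σ '' (J : Set ℕ)))
    (h1 : ∀ j ∈ J, ¬ Pp P (σ j) n⁻¹)
    (h2 : ∀ m ∈ subN P (σ '' (J : Set ℕ)), (∀ j ∈ J, ¬ Pp P (σ j) m) →
      ∀ j ∈ J, Pp P (σ j) (m * n))
    (b : G) (hb : b ∈ P.B) :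
    relSt (fun K => P.parabolic (σ '' (K : Set ℕ))) J b =
      (relFix P.B (P.B ⊓ P.B.map (MulAut.conj n).toMonoidHom) b : ℤ) := by
  have hJ' : σ '' (J : Set ℕ) ⊆ P.S := by
    rintro s ⟨i, hi, rfl⟩
    exact hσ i (Finset.mem_coe.1 hi)
  exact uni_a4_core P J σ (sub_bnpair P _ hJ')
    (fun K hK P' hB' => sub_parabolic P _ K hK P' hB')
    (fun P' hB' s m => sub_Pp P _ P' hB' s m) hn h1 h2 b hb

end Abstract

end Cfsg.Agent.Lib.Helper5.UNI
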