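import Cfsg.Agent.Lib.Helper9.UT.Defs

set_option autoImplicit false
set_option linter.unusedSectionVars false
set_option linter.unusedVariables false
set_option linter.unusedSimpArgs false

open Cfsg

namespace Cfsg.Agent.Lib.Helper9.UT

open Matrix Cfsg.Agent.Lib.Helper29.ExtrL Cfsg.Agent.Lib.Helper28.UMax Cfsg.Agent.Lib.Helper28.UForm

variable {n q : ℕ} {F : Type*} [Field F] [Fintype F] {σ : F ≃+* F}
  {M : Subgroup (Matrix.GeneralLinearGroup (Fin n) F)}

def utrcg_Act (n q : ℕ) {F : Type*} [Field F] (l k : Fin n) (y : Fin n → F)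
    (T : Matrix (Fin n) (Fin n) F) (x1 x2 y1 y2 t : F) : Prop :=
  ∀ v : Fin n → F, T *ᵥ v = v + (x1 * v l + x2 * Cfsg.hermForm n F q v y) • Pi.single l (1 : F) +
    (y1 * v l + y2 * Cfsg.hermForm n F q v y) • y + ((t - 1) * v k) • Pi.single k (1 : F)

theorem utrcg_comp (S : UF n q σ) {l k : Fin n} (hlk : l ≠ k) {y : Fin n → F} (hyk : y k = 0)
    (hyy : Cfsg.hermForm n F q y y = 1) {T T' : Matrix (Fin n) (Fin n) F}
    {x1 x2 y1 y2 t x1' x2' y1' y2' t' : F}
    (h : utrcg_Act n q l k y T x1 x2 y1 y2 t) (h' : utrcg_Act n q l k y T' x1' x2' y1' y2' t') :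
    utrcg_Act n q l k y (T * T')
      (x1' + x1 * (1 + x1' + y1' * y l) + x2 * (x1' * σ (y l) + y1'))
      (x2' + x1 * (x2' + y2' * y l) + x2 * (1 + x2' * σ (y l) + y2'))
      (y1' + y1 * (1 + x1' + y1' * y l) + y2 * (x1' * σ (y l) + y1'))
      (y2' + y1 * (x2' + y2' * y l) + y2 * (1 + x2' * σ (y l) + y2'))
      (t * t') := by
  have hf := S.hU
  intro v
  rw [← Matrix.mulVec_mulVec, h' v, h _]
  set f := Cfsg.hermForm n F q with hfdef
  set X' := x1' * v l + x2' * f v y with hX'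
  set Y' := y1' * v l + y2' * f v y with hY'
  set Z' := (t' - 1) * v k with hZ'
  have hξ : (v + X' • (Pi.single l (1 : F) : Fin n → F) + Y' • y +
      Z' • (Pi.single k (1 : F) : Fin n → F)) l =
      v l + X' + Y' * y l := by
    simp [hlk]
  have hκ : (v + X' • (Pi.single l (1 : F) : Fin n → F) + Y' • y +
      Z' • (Pi.single k (1 : F) : Fin n → F)) k =
      v k + Z' := by
    simp [hlk.symm, hyk]
  have hη : f (v + X' • (Pi.single l (1 : F) : Fin n → F) + Y' • y +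
      Z' • (Pi.single k (1 : F) : Fin n → F)) y =
      f v y + X' * σ (y l) + Y' := by
    rw [hf.add_left, hf.add_left, hf.add_left, hf.smul_left, hf.smul_left, hf.smul_left, hyy,
      hfdef, herm_single_left S, herm_single_left S, hyk, map_zero]
    ring
  rw [hξ, hκ, hη]
  simp only [hX', hY', hZ']
  module


theorem utrcg_tij_mulVec {i j : Fin n} (u : Fˣ) (v : Fin n → F) :
    ((Tij i j u : Matrix.GeneralLinearGroup (Fin n) F) : Matrix (Fin n) (Fin n) F) *ᵥ v =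
      fun l => (((if l = i then u else if l = j then u⁻¹ else 1 : Fˣ)) : F) * v l := by
  unfold Tij
  rw [dg_val]
  ext l
  rw [Matrix.mulVec_diagonal]

theorem utrcg_tij_mem (S : UF n q σ) {i j : Fin n} (hij : i ≠ j) (u : Fˣ)
    (hu : (u : F) * σ (u : F) = 1) : Tij i j u ∈ SUg n F q := by
  rw [mem_SUg_iff]
  refine ⟨fun x y => ?_, det_Tij hij u⟩
  rw [utrcg_tij_mulVec, utrcg_tij_mulVec, herm_apply S, herm_apply S]
  refine Finset.sum_congr rfl fun l _ => ?_
  have hu' : ((u⁻¹ : Fˣ) : F) * σ ((u⁻¹ : Fˣ) : F) = 1 := by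
    rw [Units.val_inv_eq_inv_val, map_inv₀, ← mul_inv, hu, inv_one]
  by_cases hli : l = i
  · simp only [hli, if_true, map_mul]
    linear_combination (x i * σ (y i)) * hu
  · by_cases hlj : l = j
    · simp only [hli, hlj, if_false, if_true, map_mul]
      have hji : ¬ j = i := fun h => hij h.symm
      simp only [hji, if_false]
      linear_combination (x j * σ (y j)) * hu'
    · simp only [hli, hlj, if_false, Units.val_one, one_mul]

theorem utrcg_tij_act (S : UF n q σ) {l k : Fin n} (hlk : l ≠ k) (y : Fin n → F) (u : Fˣ) :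
    utrcg_Act n q l k y ((Tij l k u : Matrix.GeneralLinearGroup (Fin n) F) :
      Matrix (Fin n) (Fin n) F) ((u : F) - 1) 0 0 0 ((u⁻¹ : Fˣ) : F) := by
  intro v
  rw [utrcg_tij_mulVec]
  ext i
  by_cases hil : i = l
  · subst hil
    simp [hlk]
    ring
  · by_cases hik : i = k
    · subst hik
      simp [hil, Ne.symm hlk]
      ring
    · simp [hil, hik]


theorem rc_g (S : UTS n q σ M) (h2 : (2 : F) ≠ 0) {k : Fin n} {y : Fin n → F}
    (hRC : RC n q σ M k y) (l : Fin n) (hl : y l ≠ 0) (hν1 : y l * σ (y l) ≠ 1) (lam mu : F)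
    (hlam : lam * σ lam = 1) (hmu : mu * σ mu = 1) (hl1 : lam ≠ 1) (hm1 : mu ≠ 1) (hm2 : mu ≠ -1)
    (htr : (2 - (lam + lam⁻¹)) * (2 - (mu + mu⁻¹)) * ((y l * σ (y l)) * (1 - y l * σ (y l))) = 4) :
    ∃ G ∈ M, ∃ C11 C12 C21 C22 : F,
      (G : Matrix (Fin n) (Fin n) F) *ᵥ Pi.single l (1 : F) = C11 • Pi.single l (1 : F) + C21 • y ∧
      (G : Matrix (Fin n) (Fin n) F) *ᵥ y = C12 • Pi.single l (1 : F) + C22 • y ∧
      C11 + C22 = -2 ∧ C11 * C22 - C12 * C21 = 1 ∧ C21 ≠ 0 ∧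
      (∀ x : Fin n → F, Cfsg.hermForm n F q x (Pi.single l (1 : F)) = 0 →
        Cfsg.hermForm n F q x y = 0 → (G : Matrix (Fin n) (Fin n) F) *ᵥ x = x) ∧
      (∀ x : Fin n → F, (G : Matrix (Fin n) (Fin n) F) *ᵥ x - x ∈
        Submodule.span F ({Pi.single l (1 : F), y} : Set (Fin n → F))) := by
  obtain ⟨hyy, hyk, hRCm⟩ := hRC
  have hlk : l ≠ k := fun h => hl (h ▸ hyk)
  have hlam0 : lam ≠ 0 := left_ne_zero_of_mul_eq_one hlam
  have hmu0 : mu ≠ 0 := left_ne_zero_of_mul_eq_one hmu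
  have hmu' : mu⁻¹ * σ mu⁻¹ = 1 := by
    rw [map_inv₀, ← mul_inv, hmu, inv_one]
  have hlam' : lam⁻¹ * σ lam⁻¹ = 1 := by
    rw [map_inv₀, ← mul_inv, hlam, inv_one]
  have hD : Tij l k (Units.mk0 lam hlam0) ∈ M :=
    S.hN _ (utrcg_tij_mem S.toUF hlk _ hlam) (isMono_dg _)
  have hD' : Tij l k (Units.mk0 lam hlam0)⁻¹ ∈ M :=
    S.hN _ (utrcg_tij_mem S.toUF hlk _ (by
      rw [Units.val_inv_eq_inv_val]
      exact hlam')) (isMono_dg _)
  obtain ⟨A, hA, hAact⟩ := hRCm mu hmu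
  obtain ⟨A', hA', hA'act⟩ := hRCm mu⁻¹ hmu'
  have aD : utrcg_Act n q l k y ((Tij l k (Units.mk0 lam hlam0) :
      Matrix.GeneralLinearGroup (Fin n) F) : Matrix (Fin n) (Fin n) F) (lam - 1) 0 0 0 lam⁻¹ := by
    have := utrcg_tij_act S.toUF hlk y (Units.mk0 lam hlam0)
    rwa [Units.val_inv_eq_inv_val, Units.val_mk0] at this
  have aD' : utrcg_Act n q l k y ((Tij l k (Units.mk0 lam hlam0)⁻¹ :
      Matrix.GeneralLinearGroup (Fin n) F) : Matrix (Fin n) (Fin n) F) (lam⁻¹ - 1) 0 0 0 lam := by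
    have := utrcg_tij_act S.toUF hlk y (Units.mk0 lam hlam0)⁻¹
    rwa [inv_inv, Units.val_inv_eq_inv_val, Units.val_mk0] at this
  have aA : utrcg_Act n q l k y (A : Matrix (Fin n) (Fin n) F) 0 0 0 (mu - 1) mu⁻¹ := by
    intro v
    rw [hAact v]
    module
  have aA' : utrcg_Act n q l k y (A' : Matrix (Fin n) (Fin n) F) 0 0 0 (mu⁻¹ - 1) mu := by
    intro v
    rw [hA'act v, inv_inv]
    module
  have a1 := utrcg_comp S.toUF hlk hyk hyy aD aA
  have a2 := utrcg_comp S.toUF hlk hyk hyy aD' aA'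
  have a3 := utrcg_comp S.toUF hlk hyk hyy a1 a2
  obtain ⟨X1, X2, Y1, Y2, T, hX1, hX2, hY1, hY2, hT, a4⟩ : ∃ X1 X2 Y1 Y2 T : F,
      X1 = _ ∧ X2 = _ ∧ Y1 = _ ∧ Y2 = _ ∧ T = _ ∧
      utrcg_Act n q l k y
        (((Tij l k (Units.mk0 lam hlam0) : Matrix.GeneralLinearGroup (Fin n) F) :
          Matrix (Fin n) (Fin n) F) * (A : Matrix (Fin n) (Fin n) F) *
        (((Tij l k (Units.mk0 lam hlam0)⁻¹ : Matrix.GeneralLinearGroup (Fin n) F) :
          Matrix (Fin n) (Fin n) F) * (A' : Matrix (Fin n) (Fin n) F))) X1 X2 Y1 Y2 T :=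
    ⟨_, _, _, _, _, rfl, rfl, rfl, rfl, rfl, a3⟩
  have hT1 : T = 1 := by
    rw [hT]
    field_simp
  have htrace : (1 + X1 + X2 * σ (y l)) + (1 + Y1 * y l + Y2) =
      2 - (2 - (lam + lam⁻¹)) * (2 - (mu + mu⁻¹)) * ((y l * σ (y l)) * (1 - y l * σ (y l))) := by
    rw [hX1, hX2, hY1, hY2]
    field_simp
    ring
  have hdet : (1 + X1 + X2 * σ (y l)) * (1 + Y1 * y l + Y2) -
      (X1 * y l + X2) * (Y1 + Y2 * σ (y l)) = 1 := by
    rw [hX1, hX2, hY1, hY2]
    field_simp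
    ring
  have hC21 : Y1 + Y2 * σ (y l) =
      (mu - 1) * (lam⁻¹ - 1) * σ (y l) * (1 + (mu⁻¹ - 1) * (y l * σ (y l))) := by
    rw [hY1, hY2]
    field_simp
    ring
  have hf := S.hU
  have hσα : σ (y l) ≠ 0 := fun h => hl ((map_eq_zero_iff σ σ.injective).mp h)
  have hνσ : σ (y l * σ (y l)) = y l * σ (y l) := by
    rw [map_mul, hf.involutive, mul_comm]
  have hσmu : σ mu⁻¹ = mu := by
    have h1 : σ mu = mu⁻¹ := eq_inv_of_mul_eq_one_right hmu
    rw [map_inv₀, h1, inv_inv]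
  have hlast : 1 + (mu⁻¹ - 1) * (y l * σ (y l)) ≠ 0 := by
    intro h
    have h' := congrArg σ h
    rw [map_add, map_one, map_mul, map_sub, map_one, hσmu, hνσ, map_zero] at h'
    have h3 : (mu⁻¹ - mu) * (y l * σ (y l)) = 0 := by linear_combination h - h'
    rcases mul_eq_zero.mp h3 with h4 | h4
    · have h5 : mu * mu = 1 := by
        have : mu⁻¹ = mu := sub_eq_zero.mp h4
        nth_rewrite 1 [← this]
        exact inv_mul_cancel₀ hmu0
      have h6 : (mu - 1) * (mu + 1) = 0 := by linear_combination h5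
      rcases mul_eq_zero.mp h6 with h7 | h7
      · exact hm1 (sub_eq_zero.mp h7)
      · exact hm2 (eq_neg_of_add_eq_zero_left h7)
    · rcases mul_eq_zero.mp h4 with h5 | h5
      · exact hl h5
      · exact hσα h5
  refine ⟨Tij l k (Units.mk0 lam hlam0) * A * (Tij l k (Units.mk0 lam hlam0)⁻¹ * A'),
    M.mul_mem (M.mul_mem hD hA) (M.mul_mem hD' hA'),
    1 + X1 + X2 * σ (y l), X1 * y l + X2, Y1 + Y2 * σ (y l), 1 + Y1 * y l + Y2, ?_, ?_, ?_, hdet,
    ?_, ?_, ?_⟩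
  · have h := a4 (Pi.single l (1 : F))
    rw [herm_single_left S.toUF, Pi.single_eq_same, Pi.single_eq_of_ne hlk.symm, hT1] at h
    rw [Units.val_mul, Units.val_mul, Units.val_mul, h]
    module
  · have h := a4 y
    rw [hyy, hyk, hT1] at h
    rw [Units.val_mul, Units.val_mul, Units.val_mul, h]
    module
  · rw [htrace, htr]
    ring
  · rw [hC21]
    refine mul_ne_zero (mul_ne_zero (mul_ne_zero (sub_ne_zero.mpr hm1) ?_) hσα) hlast
    intro h
    apply hl1
    have : lam⁻¹ = 1 := sub_eq_zero.mp h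
    rw [inv_eq_one] at this
    exact this
  · intro x hx1 hx2
    rw [herm_single_right S.toUF, map_one, mul_one] at hx1
    have h := a4 x
    rw [hx1, hx2, hT1] at h
    rw [Units.val_mul, Units.val_mul, Units.val_mul, h]
    simp
  · intro x
    have h := a4 x
    rw [hT1] at h
    rw [Units.val_mul, Units.val_mul, Units.val_mul, h]
    have hsub : x + (X1 * x l + X2 * Cfsg.hermForm n F q x y) • Pi.single l (1 : F) +
        (Y1 * x l + Y2 * Cfsg.hermForm n F q x y) • y + ((1 - 1) * x k) • Pi.single k (1 : F) - x =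
        (X1 * x l + X2 * Cfsg.hermForm n F q x y) • Pi.single l (1 : F) +
        (Y1 * x l + Y2 * Cfsg.hermForm n F q x y) • y := by
      module
    rw [hsub]
    exact Submodule.add_mem _
      (Submodule.smul_mem _ _ (Submodule.subset_span (by simp)))
      (Submodule.smul_mem _ _ (Submodule.subset_span (by simp)))

end Cfsg.Agent.Lib.Helper9.UT
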