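import Cfsg.Agent.Lib.Helper9.UT.Defs

set_option autoImplicit false
set_option linter.unusedSectionVars false

open Cfsg

namespace Cfsg.Agent.Lib.Helper9.UT

open Matrix Cfsg.Agent.Lib.Helper29.ExtrL Cfsg.Agent.Lib.Helper28.UMax Cfsg.Agent.Lib.Helper28.UForm

variable {n q : ℕ} {F : Type*} [Field F] [Fintype F] {σ : F ≃+* F}
  {M : Subgroup (Matrix.GeneralLinearGroup (Fin n) F)}

theorem utunip_line {f : (Fin n → F) → (Fin n → F) → F} (hf : Cfsg.Geo.IsUnitaryForm σ f)
    (p p' w v : Fin n → F)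
    (hgram : f p p * f p' p' - f p p' * f p' p ≠ 0)
    (hw : w ∈ Submodule.span F ({p, p'} : Set (Fin n → F)))
    (hv : v ∈ Submodule.span F ({p, p'} : Set (Fin n → F)))
    (hw0 : w ≠ 0) (hww : f w w = 0) (hvw : f v w = 0) (hwv : f w v = 0) (hvv : f v v = 0) :
    ∃ φ : F, v = φ • w := by
  obtain ⟨a, b, rfl⟩ := Submodule.mem_span_pair.mp hw
  obtain ⟨a', b', rfl⟩ := Submodule.mem_span_pair.mp hv
  have key : (a * b' - a' * b) * σ (a * b' - a' * b) * (f p p * f p' p' - f p p' * f p' p) =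
      f (a • p + b • p') (a • p + b • p') * f (a' • p + b' • p') (a' • p + b' • p') -
        f (a • p + b • p') (a' • p + b' • p') * f (a' • p + b' • p') (a • p + b • p') := by
    simp only [hf.add_left, f_add_right hf, hf.smul_left, f_smul_right hf, map_sub, map_mul]
    ring
  rw [hww, hvv, hvw, zero_mul, mul_zero, sub_zero] at key
  have hD : a * b' - a' * b = 0 := by
    rcases mul_eq_zero.mp key with h | h
    · rcases mul_eq_zero.mp h with h | h
      · exact h
      · exact (map_eq_zero_iff σ σ.injective).mp h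
    · exact absurd h hgram
  by_cases ha : a = 0
  · have hb : b ≠ 0 := by
      intro hb
      apply hw0
      rw [ha, hb, zero_smul, zero_smul, add_zero]
    have ha' : a' = 0 := by
      rw [ha, zero_mul, zero_sub, neg_eq_zero] at hD
      rcases mul_eq_zero.mp hD with h | h
      · exact h
      · exact absurd h hb
    refine ⟨b' / b, ?_⟩
    rw [ha, ha']
    simp only [zero_smul, zero_add, smul_smul]
    rw [div_mul_cancel₀ _ hb]
  · refine ⟨a' / a, ?_⟩
    have hb' : b' = a' / a * b := by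
      field_simp
      linear_combination hD
    rw [smul_add, smul_smul, smul_smul, div_mul_cancel₀ _ ha, ← hb']

theorem utunip_eq_one {t : Matrix.GeneralLinearGroup (Fin n) F}
    (ht : ∀ x, (t : Matrix (Fin n) (Fin n) F) *ᵥ x = x) : t = 1 := by
  apply Units.ext
  rw [Matrix.ext_iff_mulVec]
  intro x
  rw [ht x, Units.val_one, Matrix.one_mulVec]

theorem unip (S : UF n q σ) (m : Matrix.GeneralLinearGroup (Fin n) F) (hm : m ∈ SUg n F q)
    (p p' : Fin n → F)
    (hgram : Cfsg.hermForm n F q p p * Cfsg.hermForm n F q p' p' -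
      Cfsg.hermForm n F q p p' * Cfsg.hermForm n F q p' p ≠ 0)
    (hfix : ∀ x : Fin n → F, Cfsg.hermForm n F q x p = 0 → Cfsg.hermForm n F q x p' = 0 →
      (m : Matrix (Fin n) (Fin n) F) *ᵥ x = x)
    (hsq : ∀ x : Fin n → F, (m : Matrix (Fin n) (Fin n) F) *ᵥ ((m : Matrix (Fin n) (Fin n) F) *ᵥ x) -
      (m : Matrix (Fin n) (Fin n) F) *ᵥ x = (m : Matrix (Fin n) (Fin n) F) *ᵥ x - x)
    (hne : m ≠ 1) :
    ∃ (w : Fin n → F) (c : F), w ∈ Submodule.span F ({p, p'} : Set (Fin n → F)) ∧ w ≠ 0 ∧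
      Cfsg.hermForm n F q w w = 0 ∧ c ≠ 0 ∧ σ c = -c ∧ IsTv n q m w c := by
  have hf := S.hU
  have hiso := ((mem_SUg_iff m).1 hm).1
  set f := Cfsg.hermForm n F q with hfdef
  set A : (Fin n → F) → (Fin n → F) := fun x => (m : Matrix (Fin n) (Fin n) F) *ᵥ x - x with hA
  have hmA : ∀ x, (m : Matrix (Fin n) (Fin n) F) *ᵥ x = x + A x := by
    intro x
    simp only [hA]
    abel
  have hAA : ∀ x, A (A x) = 0 := by
    intro x
    simp only [hA]
    rw [Matrix.mulVec_sub, hsq x]
    abel
  have hAP : ∀ x, A x ∈ Submodule.span F ({p, p'} : Set (Fin n → F)) := by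
    intro x
    by_contra hnot
    obtain ⟨y, hy1, hy2⟩ := dperp hf _ _ hnot
    have hyp : f y p = 0 := f_swap_zero hf (hy1 p (Submodule.subset_span (by simp)))
    have hyp' : f y p' = 0 := f_swap_zero hf (hy1 p' (Submodule.subset_span (by simp)))
    have hmy := hfix y hyp hyp'
    apply hy2
    simp only [hA]
    rw [f_sub_left hf]
    nth_rewrite 1 [← hmy]
    rw [hiso, sub_self]
  have hstar : ∀ x y, f (A x) y + f x (A y) + f (A x) (A y) = 0 := by
    intro x y
    have h := hiso x y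
    rw [hmA x, hmA y, hf.add_left, f_add_right hf, f_add_right hf] at h
    linear_combination h
  have hAAf : ∀ x y, f (A x) (A y) = 0 := by
    intro x y
    have h := hstar x (A y)
    rw [hAA y, f_zero_right hf, f_zero_right hf] at h
    simpa using h
  have hskew : ∀ x y, f (A x) y = - f x (A y) := by
    intro x y
    have h := hstar x y
    rw [hAAf x y, add_zero] at h
    exact eq_neg_of_add_eq_zero_left h
  have hx0 : ∃ x0, A x0 ≠ 0 := by
    by_contra hall
    push Not at hall
    apply hne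
    apply utunip_eq_one
    intro x
    rw [hmA x, hall x, add_zero]
  obtain ⟨x0, hx0⟩ := hx0
  set w := A x0 with hw
  have hww : f w w = 0 := hAAf x0 x0
  obtain ⟨y1, hy1⟩ := (hf.nondegenerate w hx0).2
  set y0 : Fin n → F := σ ((f w y1)⁻¹) • y1 with hy0
  have hwy0 : f w y0 = 1 := by
    rw [hy0, f_smul_right hf, hf.involutive, inv_mul_cancel₀ hy1]
  have hline : ∀ x, ∃ φ : F, A x = φ • w := by
    intro x
    exact utunip_line hf p p' w (A x) hgram (hAP x0) (hAP x) hx0 hww (hAAf x x0) (hAAf x0 x)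
      (hAAf x x)
  obtain ⟨φ0, hφ0⟩ := hline y0
  have hform : ∀ x, A x = (- σ φ0 * f x w) • w := by
    intro x
    obtain ⟨φ, hφ⟩ := hline x
    have h1 : f (A x) y0 = φ := by
      rw [hφ, hf.smul_left, hwy0, mul_one]
    have h2 : f (A x) y0 = - σ φ0 * f x w := by
      rw [hskew x y0, hφ0, f_smul_right hf]
      ring
    rw [hφ, ← h1, h2]
  have hφ0' : φ0 = - σ φ0 := by
    have h1 : f (A y0) y0 = φ0 := by
      rw [hφ0, hf.smul_left, hwy0, mul_one]
    have h2 := hform y0
    rw [hφ0] at h2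
    have h3 : f y0 w = 1 := by
      rw [hf.herm, hwy0, map_one]
    rw [h3, mul_one] at h2
    have h4 := congrArg (fun z => f z y0) h2
    simp only [hf.smul_left, hwy0, mul_one] at h4
    exact h4
  refine ⟨w, -φ0, hAP x0, hx0, hww, ?_, ?_, ?_⟩
  · intro h
    have h0 : φ0 = 0 := neg_eq_zero.mp h
    have := hform x0
    rw [h0, map_zero, neg_zero, zero_mul, zero_smul] at this
    exact hx0 this
  · rw [map_neg, neg_neg]
    exact hφ0'.symm
  · intro x
    show (m : Matrix (Fin n) (Fin n) F) *ᵥ x = x + f x (-φ0 • w) • w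
    rw [hmA x, hform x, f_smul_right hf, map_neg]
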