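import Mathlib
import Cfsg.Agent.Lib.Lead.W2P.Defs

set_option autoImplicit false
set_option linter.unusedVariables false
set_option linter.unusedSectionVars false
open scoped ComplexConjugate
open Classical

namespace Cfsg.Agent.Lib.Lead.W2P

open MulAction Cfsg.Agent.Lib.helper6.PermChar Cfsg.Agent.Lib.Helper25

universe u v

variable {G : Type u} [Group G] [Fintype G] {Ω : Type v} [Fintype Ω] [DecidableEq Ω] [MulAction G Ω]
  {p : ℕ} [Fact p.Prime] {P : Sylow p G}

theorem w2pcen_order (S : Setting G Ω p P) {x : G} (hx : x ∈ (P : Subgroup G)) (hx1 : x ≠ 1) :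
    orderOf x = p := by
  have hp := (Fact.out : p.Prime)
  have h1 : orderOf (⟨x, hx⟩ : ↥(P : Subgroup G)) ∣ p := by
    have h0 : orderOf (⟨x, hx⟩ : ↥(P : Subgroup G)) ∣ Nat.card ↥(P : Subgroup G) :=
      orderOf_dvd_natCard _
    rwa [S.cardP] at h0
  rw [← Subgroup.orderOf_coe] at h1
  rcases (Nat.dvd_prime hp).mp h1 with h | h
  · exact absurd (orderOf_eq_one_iff.mp h) hx1
  · exact h

theorem w2pcen_stab_bot (S : Setting G Ω p P) (ω : Ω) :
    stabilizer ↥(P : Subgroup G) ω = ⊥ := by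
  rw [eq_bot_iff]
  intro x hx
  rw [Subgroup.mem_bot]
  by_contra hx1
  have hxG : (x : G) ≠ 1 := fun e => hx1 (Subtype.ext e)
  have hord := w2pcen_order S x.2 hxG
  exact S.fpf (x : G) hord ω hx

theorem w2pcen_orbit_card (S : Setting G Ω p P) (ω : Ω) :
    (orbit ↥(P : Subgroup G) ω).ncard = p := by
  rw [← index_stabilizer, w2pcen_stab_bot S ω, Subgroup.index_bot, S.cardP]

theorem w2pcen_comm (S : Setting G Ω p P) {x y : G} (hx : x ∈ (P : Subgroup G))
    (hy : y ∈ (P : Subgroup G)) : x * y = y * x := by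
  have hcyc : IsCyclic ↥(P : Subgroup G) := isCyclic_of_prime_card S.cardP
  obtain ⟨g, hg⟩ := hcyc.exists_generator
  obtain ⟨i, hi⟩ := Subgroup.mem_zpowers_iff.mp (hg ⟨x, hx⟩)
  obtain ⟨j, hj⟩ := Subgroup.mem_zpowers_iff.mp (hg ⟨y, hy⟩)
  have hx' : x = (g : G) ^ i := by
    have := congrArg Subtype.val hi
    simpa using this.symm
  have hy' : y = (g : G) ^ j := by
    have := congrArg Subtype.val hj
    simpa using this.symm
  rw [hx', hy']
  exact ((Commute.refl (g : G)).zpow_zpow i j).eq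

theorem w2pcen_exists_notMem (S : Setting G Ω p P) (a : Ω) :
    ∃ b : Ω, b ∉ orbit ↥(P : Subgroup G) a := by
  by_contra hcon
  push Not at hcon
  have huniv : orbit ↥(P : Subgroup G) a = Set.univ := Set.eq_univ_of_forall hcon
  have h1 := w2pcen_orbit_card S a
  rw [huniv, Set.ncard_univ, Nat.card_eq_fintype_card, S.card] at h1
  have := (Fact.out : p.Prime).pos
  omega

theorem w2pcen_cover (S : Setting G Ω p P) (a b : Ω) (hb : b ∉ orbit ↥(P : Subgroup G) a) (ω : Ω) :
    ω ∈ orbit ↥(P : Subgroup G) a ∨ ω ∈ orbit ↥(P : Subgroup G) b := by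
  have hdisj : Disjoint (orbit ↥(P : Subgroup G) a) (orbit ↥(P : Subgroup G) b) := by
    rw [Set.disjoint_left]
    intro z hza hzb
    apply hb
    have e1 : orbit ↥(P : Subgroup G) z = orbit ↥(P : Subgroup G) a := orbit_eq_iff.mpr hza
    have e2 : orbit ↥(P : Subgroup G) z = orbit ↥(P : Subgroup G) b := orbit_eq_iff.mpr hzb
    rw [← e1, e2]
    exact mem_orbit_self b
  have hcard : (orbit ↥(P : Subgroup G) a ∪ orbit ↥(P : Subgroup G) b).ncard = 2 * p := by
    rw [Set.ncard_union_eq hdisj (Set.toFinite _) (Set.toFinite _), w2pcen_orbit_card S a,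
      w2pcen_orbit_card S b]
    ring
  have huniv : orbit ↥(P : Subgroup G) a ∪ orbit ↥(P : Subgroup G) b = Set.univ := by
    apply Set.eq_of_subset_of_ncard_le (Set.subset_univ _) _ (Set.toFinite _)
    rw [hcard, Set.ncard_univ, Nat.card_eq_fintype_card, S.card]
  have : ω ∈ orbit ↥(P : Subgroup G) a ∪ orbit ↥(P : Subgroup G) b := by
    rw [huniv]
    exact Set.mem_univ ω
  exact this

theorem w2pcen_key (S : Setting G Ω p P) (a : Ω) (c : G)
    (hc : c ∈ Subgroup.centralizer ((P : Subgroup G) : Set G)) (hca : c • a = a) : c = 1 := by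
  have hp := (Fact.out : p.Prime)
  have hcx : ∀ x ∈ (P : Subgroup G), c * x = x * c := by
    intro x hx
    exact ((Subgroup.mem_centralizer_iff.mp hc) x hx).symm
  have hcinv : ∀ x ∈ (P : Subgroup G), c⁻¹ * x = x * c⁻¹ := by
    intro x hx
    have := hcx x hx
    calc c⁻¹ * x = c⁻¹ * (x * c) * c⁻¹ := by group
      _ = c⁻¹ * (c * x) * c⁻¹ := by rw [this]
      _ = x * c⁻¹ := by group
  have hfixA : ∀ ω ∈ orbit ↥(P : Subgroup G) a, c • ω = ω := by
    rintro ω ⟨x, rfl⟩
    show c • ((x : G) • a) = (x : G) • a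
    rw [← mul_smul, hcx (x : G) x.2, mul_smul, hca]
  obtain ⟨b, hb⟩ := w2pcen_exists_notMem S a
  have hcb : c • b ∈ orbit ↥(P : Subgroup G) b := by
    rcases w2pcen_cover S a b hb (c • b) with h | h
    · exfalso
      apply hb
      obtain ⟨x, hx⟩ := h
      have hx' : (x : G) • a = c • b := hx
      refine ⟨x, ?_⟩
      show (x : G) • a = b
      have hca' : c⁻¹ • a = a := by
        rw [inv_smul_eq_iff, hca]
      calc (x : G) • a = (x : G) • (c⁻¹ • a) := by rw [hca']
        _ = ((x : G) * c⁻¹) • a := by rw [mul_smul]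
        _ = (c⁻¹ * (x : G)) • a := by rw [hcinv (x : G) x.2]
        _ = c⁻¹ • ((x : G) • a) := by rw [mul_smul]
        _ = c⁻¹ • (c • b) := by rw [hx']
        _ = b := inv_smul_smul c b
    · exact h
  obtain ⟨x₁, hx₁⟩ := hcb
  have hx₁' : (x₁ : G) • b = c • b := hx₁
  have hact : ∀ ω ∈ orbit ↥(P : Subgroup G) b, c • ω = (x₁ : G) • ω := by
    rintro ω ⟨x, rfl⟩
    show c • ((x : G) • b) = (x₁ : G) • ((x : G) • b)
    rw [← mul_smul, hcx (x : G) x.2, mul_smul, ← hx₁', ← mul_smul, ← mul_smul,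
      w2pcen_comm S x.2 x₁.2]
  have hmemB : ∀ ω ∈ orbit ↥(P : Subgroup G) b, (x₁ : G) • ω ∈ orbit ↥(P : Subgroup G) b := by
    rintro ω ⟨x, rfl⟩
    refine ⟨x₁ * x, ?_⟩
    show ((x₁ * x : ↥(P : Subgroup G)) : G) • b = (x₁ : G) • ((x : G) • b)
    rw [Subgroup.coe_mul, mul_smul]
  have hpow : ∀ k : ℕ, ∀ ω ∈ orbit ↥(P : Subgroup G) b, c ^ k • ω = (x₁ : G) ^ k • ω := by
    intro k
    induction k with
    | zero => intro ω _; simp
    | succ k ih =>
      intro ω hω
      rw [pow_succ, mul_smul, hact ω hω, ih _ (hmemB ω hω), pow_succ, mul_smul]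
  have hx₁p : (x₁ : G) ^ p = 1 := by
    have : x₁ ^ Nat.card ↥(P : Subgroup G) = 1 := pow_card_eq_one'
    rw [S.cardP] at this
    have := congrArg Subtype.val this
    simpa using this
  have hcp : c ^ p = 1 := by
    apply S.faithful.eq_of_smul_eq_smul
    intro ω
    rw [one_smul]
    rcases w2pcen_cover S a b hb ω with h | h
    · have hmem : c ∈ stabilizer G ω := hfixA ω h
      exact (stabilizer G ω).pow_mem hmem p
    · rw [hpow p ω h, hx₁p, one_smul]
  have hdvd : orderOf c ∣ p := orderOf_dvd_of_pow_eq_one hcp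
  rcases (Nat.dvd_prime hp).mp hdvd with h | h
  · exact orderOf_eq_one_iff.mp h
  · exact absurd hca (S.fpf c h a)

theorem cen_facts (S : Setting G Ω p P) (a : Ω) :
    stabilizer G a ⊓ Subgroup.centralizer ((P : Subgroup G) : Set G) = ⊥ ∧
    (Nat.card (Subgroup.centralizer ((P : Subgroup G) : Set G)) = p ∨
      (Nat.card (Subgroup.centralizer ((P : Subgroup G) : Set G)) = 2 * p ∧
        ∃ c ∈ Subgroup.centralizer ((P : Subgroup G) : Set G), c • a ∉ orbit ↥(P : Subgroup G) a)) := by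
  have hp := (Fact.out : p.Prime)
  have hbot : stabilizer G a ⊓ Subgroup.centralizer ((P : Subgroup G) : Set G) = ⊥ := by
    rw [eq_bot_iff]
    intro c hc
    rw [Subgroup.mem_bot]
    exact w2pcen_key S a c hc.2 hc.1
  refine ⟨hbot, ?_⟩
  set C := Subgroup.centralizer ((P : Subgroup G) : Set G) with hC
  have hPC : (P : Subgroup G) ≤ C := by
    intro x hx
    rw [hC, Subgroup.mem_centralizer_iff]
    intro y hy
    exact w2pcen_comm S hy hx
  have hstab : stabilizer ↥C a = ⊥ := by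
    rw [eq_bot_iff]
    intro c hc
    rw [Subgroup.mem_bot]
    apply Subtype.ext
    exact w2pcen_key S a (c : G) c.2 hc
  have hcardC : Nat.card ↥C = (orbit ↥C a).ncard := by
    rw [← index_stabilizer, hstab, Subgroup.index_bot]
  have hle : Nat.card ↥C ≤ 2 * p := by
    rw [hcardC, ← S.card, ← Nat.card_eq_fintype_card, ← Set.ncard_univ]
    exact Set.ncard_le_ncard (Set.subset_univ _) (Set.toFinite _)
  have hdvd : p ∣ Nat.card ↥C := by
    rw [← S.cardP]
    exact Subgroup.card_dvd_of_le hPC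
  obtain ⟨k, hk⟩ := hdvd
  have hpos : 0 < Nat.card ↥C := Nat.card_pos
  have hk12 : k = 1 ∨ k = 2 := by
    have hk0 : k ≠ 0 := by
      intro e
      rw [e, mul_zero] at hk
      omega
    have hk2 : k ≤ 2 := by
      by_contra hcon
      have : p * 3 ≤ p * k := Nat.mul_le_mul_left p (by omega)
      omega
    omega
  rcases hk12 with rfl | rfl
  · left
    rw [hk, mul_one]
  · right
    refine ⟨by rw [hk, mul_comm], ?_⟩
    have huniv : orbit ↥C a = Set.univ := by
      apply Set.eq_of_subset_of_ncard_le (Set.subset_univ _) _ (Set.toFinite _)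
      rw [← hcardC, hk, Set.ncard_univ, Nat.card_eq_fintype_card, S.card, mul_comm]
    obtain ⟨b, hb⟩ := w2pcen_exists_notMem S a
    have hbmem : b ∈ orbit ↥C a := by
      rw [huniv]
      exact Set.mem_univ b
    obtain ⟨c, hcb⟩ := hbmem
    refine ⟨(c : G), c.2, ?_⟩
    have : (c : G) • a = b := hcb
    rw [this]
    exact hb

end Cfsg.Agent.Lib.Lead.W2P
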