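import Mathlib
import Cfsg.Agent.Lib.Lead.W2P.Defs

set_option autoImplicit false
set_option linter.unusedVariables false
set_option linter.unusedSectionVars false
open scoped ComplexConjugate
open Classical

namespace Cfsg.Agent.Lib.Lead.W2P

open MulAction Cfsg.Agent.Lib.helper6.PermChar Cfsg.Agent.Lib.Helper25

universe u v

variable {G : Type u} [Group G] [Fintype G] {Ω : Type v} [Fintype Ω] [DecidableEq Ω] [MulAction G Ω]
  {p : ℕ} [Fact p.Prime]

variable {P : Sylow p G}

theorem w2pnormal_trans (S : Setting G Ω p P) (K : Subgroup G) (hK : K.Normal) (hK1 : K ≠ ⊥) :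
    IsPretransitive ↥K Ω := by
  have hprim := S.prim
  have hfaith := S.faithful
  apply IsQuasiPreprimitive.isPretransitive_of_normal (G := G)
  intro hfix
  apply hK1
  rw [eq_bot_iff]
  intro k hk
  rw [Subgroup.mem_bot]
  apply hfaith.eq_of_smul_eq_smul
  intro ω
  rw [one_smul]
  have : ω ∈ fixedPoints ↥K Ω := by
    rw [hfix]
    exact Set.mem_univ ω
  exact this ⟨k, hk⟩

theorem w2pnormal_dvd (S : Setting G Ω p P) (K : Subgroup G) (hK : K.Normal) (hK1 : K ≠ ⊥) :
    2 * p ∣ Nat.card ↥K := by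
  have htr := w2pnormal_trans S K hK hK1
  have hpos : 0 < Fintype.card Ω := by
    rw [S.card]
    have := (Fact.out : p.Prime).pos
    omega
  obtain ⟨ω⟩ : Nonempty Ω := Fintype.card_pos_iff.mp hpos
  have h1 : (stabilizer ↥K ω).index = Nat.card Ω := index_stabilizer_of_transitive ↥K ω
  have h2 : (stabilizer ↥K ω).index ∣ Nat.card ↥K := Subgroup.index_dvd_card _
  rw [h1, Nat.card_eq_fintype_card, S.card] at h2
  exact h2

theorem le_of_normal (S : Setting G Ω p P) (K : Subgroup G) (hK : K.Normal) (hK1 : K ≠ ⊥) :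
    (P : Subgroup G) ≤ K := by
  have hdvd := w2pnormal_dvd S K hK hK1
  have hp : p ∣ Nat.card ↥K := Dvd.dvd.trans (Dvd.intro_left 2 rfl) hdvd
  obtain ⟨k, hk⟩ := exists_prime_orderOf_dvd_card' p hp
  have hkG : orderOf (k : G) = p := by rw [Subgroup.orderOf_coe]; exact hk
  have hpg : IsPGroup p ↥(Subgroup.zpowers (k : G)) :=
    IsPGroup.of_card (n := 1) (by rw [Nat.card_zpowers, hkG, pow_one])
  obtain ⟨Q, hQ⟩ := hpg.exists_le_sylow
  have hcardQ : Nat.card ↥(Q : Subgroup G) = p := by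
    rw [Sylow.card_eq_multiplicity, ← Sylow.card_eq_multiplicity P, S.cardP]
  have hQeq : Subgroup.zpowers (k : G) = (Q : Subgroup G) := by
    apply Subgroup.eq_of_le_of_card_ge hQ
    rw [hcardQ, Nat.card_zpowers, hkG]
  have hQK : (Q : Subgroup G) ≤ K := by
    rw [← hQeq, Subgroup.zpowers_le]
    exact k.2
  obtain ⟨g, hg⟩ := MulAction.exists_smul_eq G Q P
  intro x hx
  have hx' : x ∈ ((g • Q : Sylow p G) : Subgroup G) := by rw [hg]; exact hx
  rw [Sylow.coe_subgroup_smul, Subgroup.mem_pointwise_smul_iff_inv_smul_mem] at hx'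
  have h1 : (MulAut.conj g)⁻¹ • x ∈ K := hQK hx'
  have h2 : (MulAut.conj g)⁻¹ • x = g⁻¹ * x * g := by
    rw [← map_inv, MulAut.smul_def, MulAut.conj_apply, inv_inv]
  rw [h2] at h1
  have := hK.conj_mem _ h1 g
  have e : g * (g⁻¹ * x * g) * g⁻¹ = x := by group
  rwa [e] at this

end Cfsg.Agent.Lib.Lead.W2P
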