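import Mathlib
import Cfsg.Agent.Lib.Lead.W2P.Defs
import Cfsg.Agent.Lib.Helper1.W2PNORMAL

set_option autoImplicit false
set_option linter.unusedVariables false
set_option linter.unusedSectionVars false
open scoped ComplexConjugate
open Classical

namespace Cfsg.Agent.Lib.Lead.W2P

open MulAction Cfsg.Agent.Lib.helper6.PermChar Cfsg.Agent.Lib.Helper25

universe u v

variable {G : Type u} [Group G] [Fintype G] {Ω : Type v} [Fintype Ω] [DecidableEq Ω] [MulAction G Ω]
  {p : ℕ} [Fact p.Prime]

variable {P : Sylow p G}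

theorem no_normal_p (S : Setting G Ω p P) (H : Subgroup G) (hH : H.Normal) : Nat.card H ≠ p := by
  intro hcard
  have hp := (Fact.out : p.Prime)
  have hH1 : H ≠ ⊥ := by
    intro e
    rw [e, Subgroup.card_bot] at hcard
    have := hp.one_lt
    omega
  have hdvd := w2pnormal_dvd S H hH hH1
  rw [hcard] at hdvd
  have := Nat.le_of_dvd hp.pos hdvd
  have := hp.pos
  omega

end Cfsg.Agent.Lib.Lead.W2P
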