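import Cfsg.Agent.Lib.Helper1.WBHx

set_option autoImplicit false

namespace Cfsg.Agent.Lib.Helper1.WBHa

open Matrix Cfsg.Agent.Lib.helper15.SUn Cfsg.Agent.Lib.helper15.WB Cfsg.Agent.Lib.Helper1.WBH

variable {F : Type*} [Field F] [Fintype F] [DecidableEq F] {q : ℕ} {σ : F ≃+* F}

theorem diag_to_zero (hF : Fintype.card F = q ^ 2) (hσ : ∀ x, σ x = x ^ q) (m : ℕ)
    (T : Finset (Matrix (Fin (m + 2)) (Fin (m + 2)) F)) (hT : ∀ X ∈ T, IsHerm σ X)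
    (hinv : ∀ X ∈ T, ∀ A : Matrix (Fin (m + 2)) (Fin (m + 2)) F, A.det = 1 → cg σ A X ∈ T)
    (Y : Matrix (Fin (m + 2)) (Fin (m + 2)) F) (hY : Y ∈ T) (i : Fin (m + 2)) (hi : Y i i ≠ 0) :
    ∃ Z ∈ T, Z 0 0 ≠ 0 := by
  obtain ⟨hσσ, -, -⟩ := sigma_facts hF hσ
  by_cases hi0 : i = 0
  · subst hi0
    exact ⟨Y, hY, hi⟩
  by_cases h00 : Y 0 0 ≠ 0
  · exact ⟨Y, hY, h00⟩
  rw [not_not] at h00
  have h0i : (0 : Fin (m + 2)) ≠ i := fun h => hi0 h.symm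
  have hsym : Y 0 i = σ (Y i 0) := (hT Y hY i 0).symm
  have hfix : σ (Y i i) = Y i i := hT Y hY i i
  by_cases hb : Y i 0 = 0
  · refine ⟨cg σ (1 + Matrix.single 0 i 1) Y, hinv Y hY _ (tr_det 0 i h0i 1), ?_⟩
    rw [cg_tr_ii σ Y 0 i h0i, h00, hsym, hb, map_zero, map_one]
    simpa using hi
  · refine ⟨cg σ (1 + Matrix.single 0 i (-(σ (Y i 0)) / Y i i)) Y,
      hinv Y hY _ (tr_det 0 i h0i _), ?_⟩
    rw [cg_tr_ii σ Y 0 i h0i, h00, hsym, map_div₀, map_neg, hσσ, hfix]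
    have hσb : σ (Y i 0) ≠ 0 := by
      intro h
      apply hb
      have := congrArg σ h
      rwa [hσσ, map_zero] at this
    have : 0 + -σ (Y i 0) / Y i i * Y i 0 + -Y i 0 / Y i i * σ (Y i 0) +
        -σ (Y i 0) / Y i i * (-Y i 0 / Y i i) * Y i i = -(σ (Y i 0) * Y i 0) / Y i i := by
      field_simp
      ring
    rw [this]
    exact div_ne_zero (neg_ne_zero.mpr (mul_ne_zero hσb hb)) hi

theorem exists_diag_ne (hF : Fintype.card F = q ^ 2) (hσ : ∀ x, σ x = x ^ q) (m : ℕ)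
    (T : Finset (Matrix (Fin (m + 2)) (Fin (m + 2)) F)) (hT : ∀ X ∈ T, IsHerm σ X)
    (hinv : ∀ X ∈ T, ∀ A : Matrix (Fin (m + 2)) (Fin (m + 2)) F, A.det = 1 → cg σ A X ∈ T)
    (hne : ∃ X ∈ T, X ≠ 0) : ∃ Y ∈ T, Y 0 0 ≠ 0 := by
  obtain ⟨hσσ, htr, -⟩ := sigma_facts hF hσ
  obtain ⟨X, hXT, hX0⟩ := hne
  by_cases hdiag : ∃ i, X i i ≠ 0
  · obtain ⟨i, hi⟩ := hdiag
    exact diag_to_zero hF hσ m T hT hinv X hXT i hi
  push Not at hdiag
  have hex : ∃ i j, X i j ≠ 0 := by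
    by_contra hcon
    push Not at hcon
    apply hX0
    ext i j
    exact hcon i j
  obtain ⟨i, j, hij⟩ := hex
  have hne : i ≠ j := by
    intro h
    subst h
    exact hij (hdiag i)
  have hsym : X i j = σ (X j i) := (hT X hXT j i).symm
  have hji : X j i ≠ 0 := by
    intro h
    apply hij
    rw [hsym, h, map_zero]
  obtain ⟨s, hs⟩ := htr 1 (map_one σ)
  have hZ : cg σ (1 + Matrix.single i j (s / X j i)) X ∈ T := hinv X hXT _ (tr_det i j hne _)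
  apply diag_to_zero hF hσ m T hT hinv _ hZ i
  rw [cg_tr_ii σ X i j hne, hdiag i, hdiag j, hsym, map_div₀]
  have : 0 + s / X j i * X j i + σ s / σ (X j i) * σ (X j i) +
      s / X j i * (σ s / σ (X j i)) * 0 = s + σ s := by
    have hσji : σ (X j i) ≠ 0 := by
      rw [← hsym]
      exact hij
    field_simp
    ring
  rw [this, hs]
  exact one_ne_zero

end Cfsg.Agent.Lib.Helper1.WBHa
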