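import Cfsg.Agent.Lib.Helper1.WBHx

set_option autoImplicit false
set_option linter.unusedSectionVars false

namespace Cfsg.Agent.Lib.Helper1.WBHc

open Matrix Cfsg.Agent.Lib.helper15.SUn Cfsg.Agent.Lib.helper15.WB Cfsg.Agent.Lib.Helper1.WBH

variable {F : Type*} [Field F] [Fintype F] [DecidableEq F] {q : ℕ} {σ : F ≃+* F}

theorem complete_sq (hσσ : ∀ x, σ (σ x) = x) (a b d t : F) (ha : a ≠ 0) (hfa : σ a = a) :
    d + t * b + σ t * σ b + t * σ t * a =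
      d + a * ((t + σ b / a) * σ (t + σ b / a)) - a * ((σ b / a) * σ (σ b / a)) := by
  rw [map_add, map_div₀, hσσ, hfa]
  field_simp
  ring

theorem solve (hF : Fintype.card F = q ^ 2) (hσ : ∀ x, σ x = x ^ q) (a b d r : F) (ha : a ≠ 0)
    (hfa : σ a = a) (hfd : σ d = d) (hfr : σ r = r) :
    ∃ t : F, d + t * b + σ t * σ b + t * σ t * a = r := by
  obtain ⟨hσσ, -, hnorm⟩ := sigma_facts hF hσ
  have hfix : σ ((r - d) / a + (σ b / a) * σ (σ b / a)) =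
      (r - d) / a + (σ b / a) * σ (σ b / a) := by
    rw [map_add, map_div₀, map_sub, hfr, hfd, hfa, map_mul, hσσ, mul_comm]
  obtain ⟨w, hw⟩ := hnorm _ hfix
  refine ⟨w - σ b / a, ?_⟩
  rw [complete_sq hσσ a b d _ ha hfa, sub_add_cancel, hw]
  field_simp
  ring

theorem exists_block (hF : Fintype.card F = q ^ 2) (hσ : ∀ x, σ x = x ^ q) (m : ℕ)
    (T : Finset (Matrix (Fin (m + 2)) (Fin (m + 2)) F)) (hT : ∀ X ∈ T, IsHerm σ X)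
    (hinv : ∀ X ∈ T, ∀ A : Matrix (Fin (m + 2)) (Fin (m + 2)) F, A.det = 1 → cg σ A X ∈ T)
    (Y : Matrix (Fin (m + 2)) (Fin (m + 2)) F) (hY : Y ∈ T) (hY0 : Y 0 0 ≠ 0) :
    ∃ Z ∈ T, Z 0 0 = 0 ∧ Z 1 1 ≠ 0 := by
  have h10 : (1 : Fin (m + 2)) ≠ 0 := by
    intro h
    have := congrArg Fin.val h
    simp at this
  have h01 : (0 : Fin (m + 2)) ≠ 1 := fun h => h10 h.symm
  obtain ⟨s, hs⟩ := solve hF hσ (Y 0 0) (Y 0 1) (Y 1 1) (Y 0 0) hY0 (hT Y hY 0 0) (hT Y hY 1 1)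
    (hT Y hY 0 0)
  rw [hT Y hY 0 1] at hs
  have hY' : cg σ (1 + Matrix.single 1 0 s) Y ∈ T := hinv Y hY _ (tr_det 1 0 h10 s)
  set Y' := cg σ (1 + Matrix.single 1 0 s) Y with hY'def
  have hY'11 : Y' 1 1 = Y 0 0 := by
    rw [hY'def, cg_tr_ii σ Y 1 0 h10]
    exact hs
  have hY'11ne : Y' 1 1 ≠ 0 := by
    rw [hY'11]
    exact hY0
  obtain ⟨x, hx⟩ := solve hF hσ (Y' 1 1) (Y' 1 0) (Y' 0 0) 0 hY'11ne (hT Y' hY' 1 1)
    (hT Y' hY' 0 0) (map_zero σ)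
  rw [hT Y' hY' 1 0] at hx
  refine ⟨cg σ (1 + Matrix.single 0 1 x) Y', hinv Y' hY' _ (tr_det 0 1 h01 x), ?_, ?_⟩
  · rw [cg_tr_ii σ Y' 0 1 h01]
    exact hx
  · rw [cg_tr_kl σ Y' 0 1 1 1 h10 h10]
    exact hY'11ne

end Cfsg.Agent.Lib.Helper1.WBHc
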