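import Cfsg.Agent.Lib.helper15.WB.Defs
import Cfsg.Agent.Lib.Helper28.UHerm

set_option autoImplicit false

namespace Cfsg.Agent.Lib.Helper1.WBH

open Matrix Cfsg.Agent.Lib.helper15.WB

variable {F : Type*} [Field F]

def sg (σ : F ≃+* F) {m : ℕ} (v : Fin m → F) : Fin m → F := fun l => σ (v l)

theorem sg_add (σ : F ≃+* F) {m : ℕ} (u v : Fin m → F) : sg σ (u + v) = sg σ u + sg σ v := by
  funext l
  simp [sg]

theorem sg_smul (σ : F ≃+* F) {m : ℕ} (c : F) (v : Fin m → F) :
    sg σ (c • v) = σ c • sg σ v := by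
  funext l
  simp [sg]

theorem sg_neg (σ : F ≃+* F) {m : ℕ} (v : Fin m → F) : sg σ (-v) = -sg σ v := by
  funext l
  simp [sg]

theorem sg_single (σ : F ≃+* F) {m : ℕ} (b : Fin m) :
    sg σ (Pi.single b (1 : F)) = Pi.single b 1 := by
  funext l
  simp only [sg, Pi.single_apply]
  split_ifs <;> simp

def hform (σ : F ≃+* F) {m : ℕ} (X : Matrix (Fin m) (Fin m) F) (u v : Fin m → F) : F :=
  (u ᵥ* X) ⬝ᵥ sg σ v

theorem cg_apply (σ : F ≃+* F) {m : ℕ} (A X : Matrix (Fin m) (Fin m) F) (a b : Fin m) :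
    cg σ A X a b = hform σ X (A a) (A b) := by
  unfold cg hform
  rw [Matrix.mul_apply]
  unfold dotProduct
  apply Finset.sum_congr rfl
  intro l _
  rw [Matrix.transpose_apply, Matrix.map_apply]
  rfl

theorem hform_add_left (σ : F ≃+* F) {m : ℕ} (X : Matrix (Fin m) (Fin m) F) (u u' v : Fin m → F) :
    hform σ X (u + u') v = hform σ X u v + hform σ X u' v := by
  unfold hform
  rw [Matrix.add_vecMul, add_dotProduct]

theorem hform_add_right (σ : F ≃+* F) {m : ℕ} (X : Matrix (Fin m) (Fin m) F) (u v v' : Fin m → F) :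
    hform σ X u (v + v') = hform σ X u v + hform σ X u v' := by
  unfold hform
  rw [sg_add, dotProduct_add]

theorem hform_smul_left (σ : F ≃+* F) {m : ℕ} (X : Matrix (Fin m) (Fin m) F) (c : F)
    (u v : Fin m → F) : hform σ X (c • u) v = c * hform σ X u v := by
  unfold hform
  rw [Matrix.smul_vecMul, smul_dotProduct, smul_eq_mul]

theorem hform_smul_right (σ : F ≃+* F) {m : ℕ} (X : Matrix (Fin m) (Fin m) F) (c : F)
    (u v : Fin m → F) : hform σ X u (c • v) = σ c * hform σ X u v := by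
  unfold hform
  rw [sg_smul, dotProduct_smul, smul_eq_mul]

theorem hform_single (σ : F ≃+* F) {m : ℕ} (X : Matrix (Fin m) (Fin m) F) (a b : Fin m) :
    hform σ X (Pi.single a 1) (Pi.single b 1) = X a b := by
  unfold hform
  rw [sg_single, Matrix.single_one_vecMul, dotProduct_single_one]
  rfl

theorem tr_row_same {m : ℕ} (i j : Fin m) (hij : i ≠ j) (t : F) :
    (1 + Matrix.single i j t : Matrix (Fin m) (Fin m) F) i =
      Pi.single i 1 + t • Pi.single j 1 := by
  funext k
  simp only [Matrix.add_apply, Matrix.one_apply, Matrix.single_apply, Pi.add_apply,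
    Pi.smul_apply, Pi.single_apply, smul_eq_mul]
  by_cases h1 : i = k
  · subst h1
    have : ¬ j = i := fun h => hij h.symm
    simp [this, hij]
  · by_cases h2 : j = k
    · subst h2
      simp [h1, eq_comm]
    · have h1' : ¬ k = i := fun h => h1 h.symm
      have h2' : ¬ k = j := fun h => h2 h.symm
      simp [h1, h2, h1', h2']

theorem tr_row_ne {m : ℕ} (i j k : Fin m) (hk : k ≠ i) (t : F) :
    (1 + Matrix.single i j t : Matrix (Fin m) (Fin m) F) k = Pi.single k 1 := by
  funext l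
  simp only [Matrix.add_apply, Matrix.one_apply, Matrix.single_apply, Pi.single_apply]
  have : ¬ i = k := fun h => hk h.symm
  simp [this, eq_comm]

theorem tr_det {m : ℕ} (i j : Fin m) (hij : i ≠ j) (t : F) :
    (1 + Matrix.single i j t : Matrix (Fin m) (Fin m) F).det = 1 :=
  Matrix.det_transvection_of_ne i j hij t

theorem cg_tr_ii (σ : F ≃+* F) {m : ℕ} (X : Matrix (Fin m) (Fin m) F) (i j : Fin m) (hij : i ≠ j)
    (t : F) : cg σ (1 + Matrix.single i j t) X i i =
      X i i + t * X j i + σ t * X i j + t * σ t * X j j := by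
  rw [cg_apply, tr_row_same i j hij]
  simp only [hform_add_left, hform_add_right, hform_smul_left, hform_smul_right, hform_single]
  ring

theorem cg_tr_ik (σ : F ≃+* F) {m : ℕ} (X : Matrix (Fin m) (Fin m) F) (i j k : Fin m) (hij : i ≠ j)
    (hk : k ≠ i) (t : F) : cg σ (1 + Matrix.single i j t) X i k = X i k + t * X j k := by
  rw [cg_apply, tr_row_same i j hij, tr_row_ne i j k hk]
  simp only [hform_add_left, hform_smul_left, hform_single]

theorem cg_tr_ki (σ : F ≃+* F) {m : ℕ} (X : Matrix (Fin m) (Fin m) F) (i j k : Fin m) (hij : i ≠ j)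
    (hk : k ≠ i) (t : F) : cg σ (1 + Matrix.single i j t) X k i = X k i + σ t * X k j := by
  rw [cg_apply, tr_row_same i j hij, tr_row_ne i j k hk]
  simp only [hform_add_right, hform_smul_right, hform_single]

theorem cg_tr_kl (σ : F ≃+* F) {m : ℕ} (X : Matrix (Fin m) (Fin m) F) (i j k l : Fin m)
    (hk : k ≠ i) (hl : l ≠ i) (t : F) : cg σ (1 + Matrix.single i j t) X k l = X k l := by
  rw [cg_apply, tr_row_ne i j k hk, tr_row_ne i j l hl, hform_single]

section fin

variable [Fintype F] {q : ℕ} {σ : F ≃+* F}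

theorem sigma_facts (hF : Fintype.card F = q ^ 2) (hσ : ∀ x, σ x = x ^ q) :
    (∀ x, σ (σ x) = x) ∧ (∀ b : F, σ b = b → ∃ a : F, a + σ a = b) ∧
      (∀ c : F, σ c = c → ∃ a : F, a * σ a = c) := by
  obtain ⟨σ', hσ', hf⟩ := Cfsg.Agent.Lib.Helper28.UHerm.herm_unitary hF 1
  have : σ = σ' := by
    apply RingEquiv.ext
    intro x
    rw [hσ, hσ']
  subst this
  exact ⟨hf.involutive, fun b hb => Cfsg.Agent.Lib.Helper28.UForm.trace_surj hf b hb,
    fun c hc => Cfsg.Agent.Lib.Helper28.UForm.norm_surj hf c hc⟩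

end fin

end Cfsg.Agent.Lib.Helper1.WBH
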