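import Mathlib
import Cfsg.Agent.Lib.Helper20.Wielandt
import Cfsg.Agent.S0001
import Cfsg.Agent.Lib.Helper1.Fusion

set_option autoImplicit false

namespace Cfsg.Agent.Lib.Helper1

open scoped Pointwise commutatorElement

universe u

variable {G : Type*} [Group G]

theorem exists_conj_ne_le_normalizer_aux (K : Subgroup G) (hK : K.IsSubnormal) :
    ∀ H : Subgroup G, H ≤ K → K ≤ Subgroup.normalizer (H : Set G) → ¬ H.Normal →
      ∃ x : G, MulAut.conj x • H ≠ H ∧ MulAut.conj x • H ≤ Subgroup.normalizer (H : Set G) := by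
  induction hK with
  | top =>
    intro H _ hn hnot
    exact absurd (Subgroup.normalizer_eq_top_iff.mp (top_le_iff.mp hn)) hnot
  | step K L hKL _ hKn ih =>
    intro H hHK hn hnot
    by_cases hL : L ≤ Subgroup.normalizer (H : Set G)
    · exact ih H (hHK.trans hKL) hL hnot
    · obtain ⟨x, hxL, hxn⟩ := SetLike.not_le_iff_exists.mp hL
      refine ⟨x, ?_, ?_⟩
      · intro heq
        apply hxn
        rw [Subgroup.mem_normalizer_iff]
        intro y
        have h1 : x * y * x⁻¹ ∈ MulAut.conj x • H ↔ y ∈ H := by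
          rw [mem_conj_smul_iff]
          have : x⁻¹ * (x * y * x⁻¹) * x = y := by group
          rw [this]
        rw [heq] at h1
        exact h1.symm
      · have hKnorm : L ≤ Subgroup.normalizer (K : Set G) :=
          (Subgroup.normal_subgroupOf_iff_le_normalizer hKL).mp hKn
        have h1 : MulAut.conj x • H ≤ K := by
          intro y hy
          rw [mem_conj_smul_iff] at hy
          have h2 : x⁻¹ * y * x ∈ K := hHK hy
          have h3 := (Subgroup.mem_normalizer_iff.mp (hKnorm hxL) (x⁻¹ * y * x)).mp h2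
          have : x * (x⁻¹ * y * x) * x⁻¹ = y := by group
          rwa [this] at h3
        exact h1.trans hn

theorem exists_conj_ne_le_normalizer (H : Subgroup G) (hH : H.IsSubnormal) (hnot : ¬ H.Normal) :
    ∃ x : G, MulAut.conj x • H ≠ H ∧ MulAut.conj x • H ≤ Subgroup.normalizer (H : Set G) := by
  cases hH with
  | top => exact absurd (inferInstance : (⊤ : Subgroup G).Normal) hnot
  | step _ K hHK hK hn =>
    exact exists_conj_ne_le_normalizer_aux K hK H hHK
      ((Subgroup.normal_subgroupOf_iff_le_normalizer hHK).mp hn) hnot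

theorem exists_conj_ne_le_normalizer_rel (S K : Subgroup G) (hSK : S ≤ K)
    (hsub : (S.subgroupOf K).IsSubnormal) (hnot : ¬ K ≤ Subgroup.normalizer (S : Set G)) :
    ∃ x ∈ K, MulAut.conj x • S ≠ S ∧ MulAut.conj x • S ≤ Subgroup.normalizer (S : Set G) ∧
      MulAut.conj x • S ≤ K := by
  have hnn : ¬ (S.subgroupOf K).Normal := fun h =>
    hnot ((Subgroup.normal_subgroupOf_iff_le_normalizer hSK).mp h)
  obtain ⟨x, hx1, hx2⟩ := exists_conj_ne_le_normalizer (S.subgroupOf K) hsub hnn
  have hmem : ∀ y : K, y ∈ MulAut.conj x • S.subgroupOf K ↔ (y : G) ∈ MulAut.conj (x : G) • S := by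
    intro y
    rw [mem_conj_smul_iff, mem_conj_smul_iff, Subgroup.mem_subgroupOf]
    rfl
  refine ⟨x, x.2, ?_, ?_, ?_⟩
  · intro heq
    apply hx1
    ext y
    rw [hmem, heq, Subgroup.mem_subgroupOf]
  · intro y hy
    have hyK : y ∈ K := by
      rw [mem_conj_smul_iff] at hy
      have h1 : (x : G)⁻¹ * y * x ∈ K := hSK hy
      have : y = (x : G) * ((x : G)⁻¹ * y * x) * (x : G)⁻¹ := by group
      rw [this]
      exact K.mul_mem (K.mul_mem x.2 h1) (K.inv_mem x.2)
    have h2 : (⟨y, hyK⟩ : K) ∈ MulAut.conj x • S.subgroupOf K := (hmem ⟨y, hyK⟩).mpr hy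
    have h3 := hx2 h2
    rw [Subgroup.mem_normalizer_iff] at h3 ⊢
    intro z
    constructor
    · intro hz
      have := (h3 ⟨z, hSK hz⟩).mp (Subgroup.mem_subgroupOf.mpr hz)
      exact Subgroup.mem_subgroupOf.mp this
    · intro hz
      have hzK : z ∈ K := by
        have h4 : y * z * y⁻¹ ∈ K := hSK hz
        have : z = y⁻¹ * (y * z * y⁻¹) * y := by group
        rw [this]
        exact K.mul_mem (K.mul_mem (K.inv_mem hyK) h4) hyK
      have := (h3 ⟨z, hzK⟩).mpr (Subgroup.mem_subgroupOf.mpr hz)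
      exact Subgroup.mem_subgroupOf.mp this
  · intro y hy
    rw [mem_conj_smul_iff] at hy
    have h1 : (x : G)⁻¹ * y * x ∈ K := hSK hy
    have : y = (x : G) * ((x : G)⁻¹ * y * x) * (x : G)⁻¹ := by group
    rw [this]
    exact K.mul_mem (K.mul_mem x.2 h1) (K.inv_mem x.2)

theorem isSubnormal_subgroupOf_conj (S H : Subgroup G) (x : G)
    (h : (S.subgroupOf (MulAut.conj x⁻¹ • H)).IsSubnormal) :
    ((MulAut.conj x • S).subgroupOf H).IsSubnormal := by
  have hmem : ∀ y : H, x⁻¹ * (y : G) * x ∈ MulAut.conj x⁻¹ • H := by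
    intro y
    rw [mem_conj_smul_iff]
    have : x⁻¹⁻¹ * (x⁻¹ * (y : G) * x) * x⁻¹ = y := by group
    rw [this]; exact y.2
  let φ : H →* (MulAut.conj x⁻¹ • H : Subgroup G) :=
    MonoidHom.mk' (fun y => ⟨x⁻¹ * (y : G) * x, hmem y⟩) (by
      intro a b
      apply Subtype.ext
      simp only [Subgroup.coe_mul]
      group)
  have h1 := h.comap φ
  have h2 : (S.subgroupOf (MulAut.conj x⁻¹ • H)).comap φ = (MulAut.conj x • S).subgroupOf H := by
    ext y
    rw [Subgroup.mem_comap, Subgroup.mem_subgroupOf, Subgroup.mem_subgroupOf, mem_conj_smul_iff]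
    rfl
  rwa [h2] at h1

theorem isSubnormal_subgroupOf_sup [Finite G] (A B H : Subgroup G) (hA : A ≤ H) (hB : B ≤ H)
    (hAs : (A.subgroupOf H).IsSubnormal) (hBs : (B.subgroupOf H).IsSubnormal) :
    ((A ⊔ B).subgroupOf H).IsSubnormal := by
  rw [Subgroup.subgroupOf_sup hA hB]
  exact Cfsg.Agent.Lib.Helper20.isSubnormal_sup hAs hBs

theorem zipper_aux [Finite G] : ∀ (n : ℕ) (S : Subgroup G), Nat.card G - Nat.card S = n →
    ¬ S.IsSubnormal →
    (∀ H : Subgroup G, S ≤ H → H ≠ ⊤ → (S.subgroupOf H).IsSubnormal) →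
    ∃ M : Subgroup G, IsCoatom M ∧ S ≤ M ∧ ∀ K : Subgroup G, IsCoatom K → S ≤ K → K = M := by
  intro n
  induction n using Nat.strong_induction_on with
  | _ n ih =>
    intro S hn hS hprop
    have hNtop : Subgroup.normalizer (S : Set G) ≠ ⊤ := by
      intro h
      exact hS (Subgroup.normalizer_eq_top_iff.mp h).isSubnormal
    rcases eq_top_or_exists_le_coatom (Subgroup.normalizer (S : Set G)) with h | ⟨M, hM, hNM⟩
    · exact absurd h hNtop
    refine ⟨M, hM, Subgroup.le_normalizer.trans hNM, ?_⟩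
    intro K hK hSK
    by_contra hKM
    have hnot : ¬ K ≤ Subgroup.normalizer (S : Set G) := by
      intro h
      exact hKM ((hK.le_iff_eq hM.1).mp (h.trans hNM)).symm
    obtain ⟨x, hxK, hx1, hx2, hx3⟩ :=
      exists_conj_ne_le_normalizer_rel S K hSK (hprop K hSK hK.1) hnot
    set T := S ⊔ MulAut.conj x • S with hT
    have hST : S ≤ T := le_sup_left
    have hTN : T ≤ Subgroup.normalizer (S : Set G) := sup_le Subgroup.le_normalizer hx2
    have hTK : T ≤ K := sup_le hSK hx3
    have hTM : T ≤ M := hTN.trans hNM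
    have hcard : Nat.card S < Nat.card T := by
      by_contra hle
      push Not at hle
      have heq : S = T := Subgroup.eq_of_le_of_card_ge hST hle
      apply hx1
      have h0 : MulAut.conj x • S ≤ T := le_sup_right
      have h1 : MulAut.conj x • S ≤ S := h0.trans (le_of_eq heq.symm)
      exact Subgroup.eq_of_le_of_card_ge h1 (by rw [Cfsg.Agent.S0001.card_conj])
    have hTsub : ¬ T.IsSubnormal := by
      intro h
      exact hS (Subgroup.IsSubnormal.step S T hST h
        ((Subgroup.normal_subgroupOf_iff_le_normalizer hST).mpr hTN))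
    have hTprop : ∀ H : Subgroup G, T ≤ H → H ≠ ⊤ → (T.subgroupOf H).IsSubnormal := by
      intro H hTH hH
      have hSH : S ≤ H := hST.trans hTH
      have hxSH : MulAut.conj x • S ≤ H := le_sup_right.trans hTH
      apply isSubnormal_subgroupOf_sup S (MulAut.conj x • S) H hSH hxSH (hprop H hSH hH)
      apply isSubnormal_subgroupOf_conj
      apply hprop
      · intro s hs
        rw [mem_conj_smul_iff, inv_inv]
        apply hxSH
        rw [mem_conj_smul_iff]
        have : x⁻¹ * (x * s * x⁻¹) * x = s := by group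
        rw [this]; exact hs
      · intro htop
        apply hH
        have := congrArg (fun L => MulAut.conj x • L) htop
        simp only [smul_smul, ← map_mul, mul_inv_cancel, map_one, one_smul] at this
        rw [this]
        ext y
        simp [mem_conj_smul_iff]
    have hTG : Nat.card T ≤ Nat.card G := Subgroup.card_le_card_group T
    obtain ⟨M', _, _, hM'uniq⟩ := ih (Nat.card G - Nat.card T) (by omega) T rfl hTsub hTprop
    have e1 := hM'uniq M hM hTM
    have e2 := hM'uniq K hK hTK
    exact hKM (e2.trans e1.symm)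

theorem zipper [Finite G] (S : Subgroup G) (hS : ¬ S.IsSubnormal)
    (hprop : ∀ H : Subgroup G, S ≤ H → H ≠ ⊤ → (S.subgroupOf H).IsSubnormal) :
    ∃ M : Subgroup G, IsCoatom M ∧ S ≤ M ∧ ∀ K : Subgroup G, IsCoatom K → S ≤ K → K = M :=
  zipper_aux _ S rfl hS hprop

end Cfsg.Agent.Lib.Helper1
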