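import Mathlib
import Cfsg.Agent.Lib.Helper1.WielandtCrit
import Cfsg.Agent.Lib.Helper9.GenFitting

set_option autoImplicit false

namespace Cfsg.Agent.Lib.Helper1

open scoped Pointwise commutatorElement

universe u

theorem wielandt_transport {G : Type*} [Group G] (A H : Subgroup G) (k : H)
    (h : (A.subgroupOf (A ⊔ MulAut.conj (k : G) • A)).IsSubnormal) :
    ((A.subgroupOf H).subgroupOf (A.subgroupOf H ⊔ MulAut.conj k • A.subgroupOf H)).IsSubnormal := by
  set J' := A.subgroupOf H ⊔ MulAut.conj k • A.subgroupOf H with hJ'
  set J := A ⊔ MulAut.conj (k : G) • A with hJ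
  have hle : J' ≤ J.subgroupOf H := by
    apply sup_le
    · intro y hy
      exact Subgroup.mem_subgroupOf.mpr (Subgroup.mem_sup_left (Subgroup.mem_subgroupOf.mp hy))
    · intro y hy
      rw [mem_conj_smul_iff, Subgroup.mem_subgroupOf] at hy
      apply Subgroup.mem_subgroupOf.mpr
      apply Subgroup.mem_sup_right
      rw [mem_conj_smul_iff]
      exact hy
  let φ : J' →* J := (H.subtype.comp J'.subtype).codRestrict J (fun y => hle y.2)
  have h1 := h.comap φ
  have h2 : (A.subgroupOf J).comap φ = (A.subgroupOf H).subgroupOf J' := by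
    ext y
    rfl
  rwa [h2] at h1

theorem wielandt_criterion_aux : ∀ (n : ℕ) (G : Type u) [Group G] [Finite G], Nat.card G = n →
    ∀ A : Subgroup G, (∀ g : G, (A.subgroupOf (A ⊔ MulAut.conj g • A)).IsSubnormal) →
      A.IsSubnormal := by
  intro n
  induction n using Nat.strong_induction_on with
  | _ n ih =>
    intro G _ _ hn A h
    by_contra hA
    have hprop : ∀ H : Subgroup G, A ≤ H → H ≠ ⊤ → (A.subgroupOf H).IsSubnormal := by
      intro H _ hH
      have hc : Nat.card H < n := by
        rw [← hn]; exact Cfsg.Agent.S0001.card_lt_of_ne_top H hH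
      apply ih _ hc H rfl
      intro k
      exact wielandt_transport A H k (h k)
    obtain ⟨M, hM, hAM, hMuniq⟩ := zipper A hA hprop
    have hconj : ∀ x : G, MulAut.conj x • A ≤ M := by
      intro x
      rcases eq_top_or_exists_le_coatom (A ⊔ MulAut.conj x • A) with htop | ⟨K, hK, hJK⟩
      · exfalso
        apply hA
        have h1 := h x
        exact Subgroup.IsSubnormal.trans le_sup_left h1 (htop ▸ Subgroup.IsSubnormal.top)
      · have hKM := hMuniq K hK (le_sup_left.trans hJK)
        rw [← hKM]
        exact le_sup_right.trans hJK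
    have hNM : Subgroup.normalClosure (A : Set G) ≤ M := by
      unfold Subgroup.normalClosure
      rw [Subgroup.closure_le]
      intro y hy
      rw [Group.mem_conjugatesOfSet_iff] at hy
      obtain ⟨a, ha, hay⟩ := hy
      rw [isConj_iff] at hay
      obtain ⟨c, rfl⟩ := hay
      apply hconj c
      rw [mem_conj_smul_iff]
      have : c⁻¹ * (c * a * c⁻¹) * c = a := by group
      rw [this]; exact ha
    have hNtop : Subgroup.normalClosure (A : Set G) ≠ ⊤ := by
      intro htop
      rw [htop] at hNM
      exact hM.1 (top_le_iff.mp hNM)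
    have h1 := hprop _ Subgroup.le_normalClosure hNtop
    exact hA (Subgroup.IsSubnormal.trans Subgroup.le_normalClosure h1
      (Subgroup.normalClosure_normal.isSubnormal))

theorem wielandt_criterion {G : Type*} [Group G] [Finite G] (A : Subgroup G)
    (h : ∀ g : G, (A.subgroupOf (A ⊔ MulAut.conj g • A)).IsSubnormal) : A.IsSubnormal :=
  wielandt_criterion_aux _ G rfl A h

theorem isSubnormal_of_nilpotent_aux {K : Type*} [Group K] [Finite K] [Group.IsNilpotent K] :
    ∀ (n : ℕ) (H : Subgroup K), Nat.card K - Nat.card H = n → H.IsSubnormal := by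
  intro n
  induction n using Nat.strong_induction_on with
  | _ n ih =>
    intro H hn
    by_cases hH : H = ⊤
    · rw [hH]; exact Subgroup.IsSubnormal.top
    · have hlt : H < Subgroup.normalizer (H : Set K) :=
        Group.normalizerCondition_of_isNilpotent H (lt_top_iff_ne_top.mpr hH)
      have hcard : Nat.card H < Nat.card (Subgroup.normalizer (H : Set K)) := by
        by_contra hle
        push Not at hle
        exact hlt.ne (Subgroup.eq_of_le_of_card_ge hlt.le hle)
      have hle : Nat.card (Subgroup.normalizer (H : Set K)) ≤ Nat.card K :=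
        Subgroup.card_le_card_group _
      have hN := ih (Nat.card K - Nat.card (Subgroup.normalizer (H : Set K))) (by omega)
        (Subgroup.normalizer (H : Set K)) rfl
      exact Subgroup.IsSubnormal.step H _ Subgroup.le_normalizer hN
        ((Subgroup.normal_subgroupOf_iff_le_normalizer Subgroup.le_normalizer).mpr le_rfl)

theorem isSubnormal_of_nilpotent {K : Type*} [Group K] [Finite K] [Group.IsNilpotent K]
    (H : Subgroup K) : H.IsSubnormal :=
  isSubnormal_of_nilpotent_aux _ H rfl

theorem baer_nilpotent_join {G : Type*} [Group G] [Finite G] (A : Subgroup G)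
    (h : ∀ g : G, Group.IsNilpotent (A ⊔ MulAut.conj g • A : Subgroup G)) :
    A.IsSubnormal ∧ A ≤ Cfsg.fittingSubgroup G := by
  have hsub : A.IsSubnormal := by
    apply wielandt_criterion
    intro g
    have := h g
    exact isSubnormal_of_nilpotent _
  refine ⟨hsub, ?_⟩
  have hA : Group.IsNilpotent A := by
    have h1 := h 1
    have h2 : A ⊔ MulAut.conj (1 : G) • A = A := by
      rw [map_one, one_smul, sup_idem]
    rw [h2] at h1
    exact h1
  have h3 := Cfsg.Agent.Lib.Helper9.fitting_map_le_of_subnormal A hsub
  have h4 : Cfsg.fittingSubgroup A = ⊤ := by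
    rw [eq_top_iff]
    exact le_fittingSubgroup inferInstance
      (Group.nilpotent_of_surjective (Subgroup.topEquiv (G := A)).symm.toMonoidHom
        (Subgroup.topEquiv (G := A)).symm.surjective)
  rw [h4, ← MonoidHom.range_eq_map, Subgroup.range_subtype] at h3
  exact h3

end Cfsg.Agent.Lib.Helper1
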