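import Mathlib
import Cfsg.Agent.Lib.Helper1.WielandtCrit2
import Cfsg.Agent.Lib.Helper1.Schmidt

set_option autoImplicit false

namespace Cfsg.Agent.Lib.Helper1

open scoped Pointwise

universe u

theorem wielandt_refined_aux : ∀ (n : ℕ) (G : Type u) [Group G] [Finite G], Nat.card G = n →
    ∀ A : Subgroup G,
      (∀ a ∈ A, ∀ g : G, (A.subgroupOf (A ⊔ MulAut.conj (g⁻¹ * a * g) • A)).IsSubnormal) →
      A.IsSubnormal := by
  intro n
  induction n using Nat.strong_induction_on with
  | _ n ih =>
    intro G _ _ hn A h
    by_contra hA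
    have hprop : ∀ H : Subgroup G, A ≤ H → H ≠ ⊤ → (A.subgroupOf H).IsSubnormal := by
      intro H _ hH
      have hc : Nat.card H < n := by
        rw [← hn]; exact Cfsg.Agent.S0001.card_lt_of_ne_top H hH
      apply ih _ hc H rfl
      intro a ha g
      exact wielandt_transport A H (g⁻¹ * a * g) (h (a : G) (Subgroup.mem_subgroupOf.mp ha) (g : G))
    obtain ⟨M, hM, hAM, hMuniq⟩ := zipper A hA hprop
    have hMnn : ¬ M.Normal := by
      intro hMn
      exact hA (Subgroup.IsSubnormal.trans hAM (hprop M hAM hM.1) hMn.isSubnormal)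
    have hNM : Subgroup.normalizer (M : Set G) = M := by
      rcases hM.le_iff.mp (Subgroup.le_normalizer (H := M)) with h1 | h1
      · exact absurd (Subgroup.normalizer_eq_top_iff.mp h1) hMnn
      · exact h1
    have hconj : ∀ a ∈ A, ∀ g : G, g⁻¹ * a * g ∈ M := by
      intro a ha g
      set x := g⁻¹ * a * g with hx
      have hxA : MulAut.conj x • A ≤ M := by
        rcases eq_top_or_exists_le_coatom (A ⊔ MulAut.conj x • A) with htop | ⟨K, hK, hJK⟩
        · exfalso
          apply hA
          have h1 := h a ha g
          exact Subgroup.IsSubnormal.trans le_sup_left h1 (htop ▸ Subgroup.IsSubnormal.top)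
        · have hKM := hMuniq K hK (le_sup_left.trans hJK)
          rw [← hKM]
          exact le_sup_right.trans hJK
      have hA2 : A ≤ MulAut.conj x⁻¹ • M := by
        intro b hb
        rw [mem_conj_smul_iff]
        apply hxA
        rw [mem_conj_smul_iff]
        have : x⁻¹ * (x⁻¹⁻¹ * b * x⁻¹) * x = b := by group
        rw [this]; exact hb
      have hco := isCoatom_conj_smul hM x⁻¹
      have heq := hMuniq _ hco hA2
      have hxn : x⁻¹ ∈ Subgroup.normalizer (M : Set G) := by
        rw [Subgroup.mem_normalizer_iff]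
        intro y
        constructor
        · intro hy
          have : x⁻¹ * y * x⁻¹⁻¹ ∈ MulAut.conj x⁻¹ • M := by
            rw [mem_conj_smul_iff]
            have : x⁻¹⁻¹ * (x⁻¹ * y * x⁻¹⁻¹) * x⁻¹ = y := by group
            rw [this]; exact hy
          rw [heq] at this
          exact this
        · intro hy
          rw [← heq, mem_conj_smul_iff] at hy
          have h2 : x⁻¹⁻¹ * (x⁻¹ * y * x⁻¹⁻¹) * x⁻¹ = y := by group
          rw [h2] at hy
          exact hy
      rw [hNM] at hxn
      have := M.inv_mem hxn
      rwa [inv_inv] at this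
    have hNC : Subgroup.normalClosure (A : Set G) ≤ M := by
      unfold Subgroup.normalClosure
      rw [Subgroup.closure_le]
      intro y hy
      rw [Group.mem_conjugatesOfSet_iff] at hy
      obtain ⟨a, ha, hay⟩ := hy
      rw [isConj_iff] at hay
      obtain ⟨c, rfl⟩ := hay
      have := hconj a ha c⁻¹
      rwa [inv_inv] at this
    have hNtop : Subgroup.normalClosure (A : Set G) ≠ ⊤ := by
      intro htop
      rw [htop] at hNC
      exact hM.1 (top_le_iff.mp hNC)
    have h1 := hprop _ Subgroup.le_normalClosure hNtop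
    exact hA (Subgroup.IsSubnormal.trans Subgroup.le_normalClosure h1
      (Subgroup.normalClosure_normal.isSubnormal))

theorem wielandt_refined {G : Type*} [Group G] [Finite G] (A : Subgroup G)
    (h : ∀ a ∈ A, ∀ g : G, (A.subgroupOf (A ⊔ MulAut.conj (g⁻¹ * a * g) • A)).IsSubnormal) :
    A.IsSubnormal :=
  wielandt_refined_aux _ G rfl A h

end Cfsg.Agent.Lib.Helper1
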